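import Cfsg.Agent.HSType.MFacts

set_option autoImplicit false

/-!
Closed computations with affine maps over `ℤ/4`: uniqueness of the matrix of `r` over its reduction modulo 2,
the existence of a suitable element of `⟨k, t⟩`, and the eight possible gluings.
-/

namespace Cfsg.Agent.HSType.AffData

open Cfsg.Agent.HSType.Letters Cfsg.Agent.HSType.Affine Cfsg.Agent.HSType.MFacts
open Cfsg.Agent.SporadicA.PermTab (allB allB_iff)

/-- the affine maps of `k` and `t` -/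
def LP (n : ℕ) : Af := Nat.rec ⟨⟨0, 0, 0⟩, mK⟩ (fun _ _ => ⟨⟨0, 0, 0⟩, mT⟩) n

/-- the matrices of the elements of `⟨k, t⟩` -/
def pm (n : ℕ) : M := (evA LP (pw n)).m

/-! ### Lifts of the matrix of `r` -/

/-- a lift of the residue of `r` -/
def en (r : ℕ) (d : Bool) : ℕ := cond d (Nat.mod (Nat.add r 2) 4) r

theorem exists_en {m r : ℕ} (hm : m < 4) (hr : r < 4) (h : m % 2 = r % 2) : ∃ d, m = en r d := by
  by_cases h1 : m = r
  · exact ⟨false, h1⟩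
  · refine ⟨true, ?_⟩
    change m = (r + 2) % 4
    omega

/-- a matrix over the reduction of `mR` -/
def lift (d1 d2 d3 d4 d5 d6 d7 d8 d9 : Bool) : M :=
  ⟨⟨en 0 d1, en 1 d2, en 0 d3⟩, ⟨en 0 d4, en 0 d5, en 1 d6⟩, ⟨en 1 d7, en 3 d8, en 2 d9⟩⟩

/-- the left side `k t r k` -/
def lhs (m : M) : M := M.mul mK (M.mul mT (M.mul m mK))
/-- the right side `r t r` -/
def rhs (m : M) : M := M.mul m (M.mul mT m)

/-- the same action on involutions -/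
def same2 (m n : M) : Bool :=
  band (V.beq (m.app ⟨2, 0, 0⟩) (n.app ⟨2, 0, 0⟩)) (band (V.beq (m.app ⟨0, 2, 0⟩) (n.app ⟨0, 2, 0⟩))
    (V.beq (m.app ⟨0, 0, 2⟩) (n.app ⟨0, 0, 2⟩)))

/-- the test for a lift -/
def liftTest (m : M) : Bool := band (same2 (lhs m) (rhs m)) (cond (M.beq (lhs m) (rhs m)) (M.beq m mR) true)

/-- quantification over Booleans -/
def allBool (p : Bool → Bool) : Bool := band (p true) (p false)

theorem allBool_iff {p : Bool → Bool} (h : allBool p = true) (b : Bool) : p b = true := by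
  rw [allBool, Affine.band_iff] at h
  cases b
  · exact h.2
  · exact h.1

theorem lift_ok : (allBool fun d1 => allBool fun d2 => allBool fun d3 => allBool fun d4 => allBool fun d5 =>
    allBool fun d6 => allBool fun d7 => allBool fun d8 => allBool fun d9 =>
    liftTest (lift d1 d2 d3 d4 d5 d6 d7 d8 d9)) = true := by decide +kernel

theorem lift_spec (d1 d2 d3 d4 d5 d6 d7 d8 d9 : Bool) : liftTest (lift d1 d2 d3 d4 d5 d6 d7 d8 d9) = true :=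
  allBool_iff (allBool_iff (allBool_iff (allBool_iff (allBool_iff (allBool_iff (allBool_iff (allBool_iff
    (allBool_iff lift_ok d1) d2) d3) d4) d5) d6) d7) d8) d9

/-- reduced vectors -/
def V.lt (v : V) : Prop := v.x < 4 ∧ v.y < 4 ∧ v.z < 4

theorem exists_lift {m : M} (ha : V.lt m.a) (hb : V.lt m.b) (hc : V.lt m.c)
    (ea : m.a.x % 2 = 0 ∧ m.a.y % 2 = 1 ∧ m.a.z % 2 = 0) (eb : m.b.x % 2 = 0 ∧ m.b.y % 2 = 0 ∧ m.b.z % 2 = 1)
    (ec : m.c.x % 2 = 1 ∧ m.c.y % 2 = 1 ∧ m.c.z % 2 = 0) :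
    ∃ d1 d2 d3 d4 d5 d6 d7 d8 d9, m = lift d1 d2 d3 d4 d5 d6 d7 d8 d9 := by
  obtain ⟨⟨a1, a2, a3⟩, ⟨b1, b2, b3⟩, ⟨c1, c2, c3⟩⟩ := m
  obtain ⟨ha1, ha2, ha3⟩ := ha
  obtain ⟨hb1, hb2, hb3⟩ := hb
  obtain ⟨hc1, hc2, hc3⟩ := hc
  obtain ⟨ea1, ea2, ea3⟩ := ea
  obtain ⟨eb1, eb2, eb3⟩ := eb
  obtain ⟨ec1, ec2, ec3⟩ := ec
  obtain ⟨d1, rfl⟩ := exists_en (r := 0) ha1 (by norm_num) ea1
  obtain ⟨d2, rfl⟩ := exists_en (r := 1) ha2 (by norm_num) ea2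
  obtain ⟨d3, rfl⟩ := exists_en (r := 0) ha3 (by norm_num) ea3
  obtain ⟨d4, rfl⟩ := exists_en (r := 0) hb1 (by norm_num) eb1
  obtain ⟨d5, rfl⟩ := exists_en (r := 0) hb2 (by norm_num) eb2
  obtain ⟨d6, rfl⟩ := exists_en (r := 1) hb3 (by norm_num) eb3
  obtain ⟨d7, rfl⟩ := exists_en (r := 1) hc1 (by norm_num) ec1
  obtain ⟨d8, rfl⟩ := exists_en (r := 3) hc2 (by norm_num) ec2
  obtain ⟨d9, rfl⟩ := exists_en (r := 2) hc3 (by norm_num) ec3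
  exact ⟨d1, d2, d3, d4, d5, d6, d7, d8, d9, rfl⟩

/-! ### An element of `⟨k, t⟩` with given action -/

/-- Boolean to exponent -/
def bx (b : Bool) (n : ℕ) : ℕ := cond b n 0

/-- a matrix over the residue field with second column `e₁` -/
def m2 (d1 d2 d3 d4 d5 d6 : Bool) : M := ⟨⟨bx d1 1, bx d2 1, bx d3 1⟩, ⟨1, 0, 0⟩, ⟨bx d4 1, bx d5 1, bx d6 1⟩⟩

/-- some non-zero vector `2 v` is killed -/
def sing (m : M) : Bool := Bool.not (allBool fun a => allBool fun b => allBool fun c =>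
  cond (V.beq (m.app ⟨bx a 2, bx b 2, bx c 2⟩) ⟨0, 0, 0⟩) (Bool.not (Bool.or a (Bool.or b c))) true)

/-- the n-th element of `⟨k, t⟩` has the right action -/
def good (m : M) (n : ℕ) : Bool := band (V.beq ((pm n).app ⟨0, 2, 0⟩) (m.app ⟨0, 0, 2⟩))
  (V.beq ((pm n).app ⟨0, 0, 2⟩) (m.app ⟨2, 2, 0⟩))

theorem good_ok : (allBool fun d1 => allBool fun d2 => allBool fun d3 => allBool fun d4 => allBool fun d5 =>
    allBool fun d6 => Bool.or (sing (m2 d1 d2 d3 d4 d5 d6))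
      (Bool.not (allB (fun n => Bool.not (good (m2 d1 d2 d3 d4 d5 d6) n)) 24))) = true := by decide +kernel

theorem exists_good (d1 d2 d3 d4 d5 d6 : Bool) (h : sing (m2 d1 d2 d3 d4 d5 d6) = false) :
    ∃ n < 24, good (m2 d1 d2 d3 d4 d5 d6) n = true := by
  have h1 := allBool_iff (allBool_iff (allBool_iff (allBool_iff (allBool_iff (allBool_iff good_ok d1) d2) d3)
    d4) d5) d6
  rw [h, Bool.false_or, Bool.not_eq_true'] at h1
  by_contra hc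
  push Not at hc
  have h2 : allB (fun n => Bool.not (good (m2 d1 d2 d3 d4 d5 d6) n)) 24 = true := by
    refine (allB_iff _ _).2 fun n hn => ?_
    have := hc n hn
    simpa using this
  rw [h2] at h1
  exact absurd h1 (by decide)

/-! ### The gluings -/

/-- the affine maps of the letters, for `t = i^τ t'`, `r = i^y r'` -/
def LA (tau y : V) (n : ℕ) : Af :=
  Nat.rec ⟨⟨0, 0, 0⟩, mK⟩ (fun n _ => Nat.rec ⟨⟨0, 0, 0⟩, M.mul mK mK⟩ (fun n _ =>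
  Nat.rec ⟨tau, mT⟩ (fun n _ => Nat.rec ⟨⟨1, 0, 0⟩, M.one⟩ (fun n _ => Nat.rec ⟨⟨3, 0, 0⟩, M.one⟩ (fun n _ =>
  Nat.rec ⟨⟨0, 1, 0⟩, M.one⟩ (fun n _ => Nat.rec ⟨⟨0, 3, 0⟩, M.one⟩ (fun n _ =>
  Nat.rec ⟨⟨0, 0, 1⟩, M.one⟩ (fun n _ => Nat.rec ⟨⟨0, 0, 3⟩, M.one⟩ (fun n _ =>
  Nat.rec Af.one (fun n _ => Nat.rec ⟨y, mR⟩ (fun n _ =>
  Nat.rec (Af.mul ⟨⟨0, 0, 0⟩, mRi⟩ ⟨⟨Nat.mul 3 y.x, Nat.mul 3 y.y, Nat.mul 3 y.z⟩, M.one⟩) (fun n _ =>
  Nat.rec (Af.mul ⟨y, mR⟩ ⟨⟨0, 0, 0⟩, mK⟩) (fun _ _ =>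
    Af.mul ⟨⟨0, 0, 0⟩, M.mul mK mK⟩
      (Af.mul ⟨⟨0, 0, 0⟩, mRi⟩ ⟨⟨Nat.mul 3 y.x, Nat.mul 3 y.y, Nat.mul 3 y.z⟩, M.one⟩))
    n) n) n) n) n) n) n) n) n) n) n) n) n

/-- the action of `u` on the group `⟨t, a², i², k t k⁻¹ t k⟩` -/
def relN2 : List (List ℕ) := [[12, 2, 13, 1, 2, 0, 2, 1], [12, 5, 5, 13, 4, 4, 6, 6], [12, 3, 3, 13, 6, 6],
  [12, 0, 2, 1, 2, 0, 13, 1, 2, 0, 2, 1, 2]]

/-- all relations of the normaliser that are used -/
def relNN : List (List ℕ) := relN ++ relN2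

/-- the orders of `t` and `k t` are 2 and 4 -/
def tauOk (tau : V) : Bool :=
  band (Af.beq (evA (LA tau ⟨0, 0, 0⟩) [2, 2]) Af.one)
    (Af.beq (evA (LA tau ⟨0, 0, 0⟩) [0, 2, 0, 2, 0, 2, 0, 2]) Af.one)

/-- one of the two choices of `y` works -/
def someY (tau : V) : Bool := Bool.or (allOne (LA tau ⟨0, 0, 0⟩) relNN) (allOne (LA tau ⟨1, 3, 0⟩) relNN)

theorem tau_ok : (allB (fun x => allB (fun y => allB (fun z =>
    cond (tauOk ⟨x, y, z⟩) (Bool.or (someY ⟨x, y, z⟩) (someY (V.add ⟨x, y, z⟩ (mT.app ⟨1, 0, 0⟩)))) true)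
      4) 4) 4) = true := by decide +kernel

theorem exists_y {tau : V} (hlt : V.lt tau) (h : tauOk tau = true) :
    (∃ y, allOne (LA tau y) relNN = true) ∨
      ∃ y, allOne (LA (V.add tau (mT.app ⟨1, 0, 0⟩)) y) relNN = true := by
  obtain ⟨x, y, z⟩ := tau
  obtain ⟨hx, hy, hz⟩ := hlt
  have h1 := (allB_iff _ _).1 ((allB_iff _ _).1 ((allB_iff _ _).1 tau_ok x hx) y hy) z hz
  rw [h, cond_true, Bool.or_eq_true] at h1
  have key : ∀ tau : V, someY tau = true → ∃ y, allOne (LA tau y) relNN = true := by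
    intro tau h
    rw [someY, Bool.or_eq_true] at h
    rcases h with h | h
    · exact ⟨_, h⟩
    · exact ⟨_, h⟩
  rcases h1 with h1 | h1
  · exact Or.inl (key _ h1)
  · exact Or.inr (key _ h1)

theorem relNN_lt : ∀ w ∈ relNN, ∀ l ∈ w, l < 14 ∧ l ≠ 9 := by decide

end Cfsg.Agent.HSType.AffData
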