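import Cfsg.Agent.HSType.AffData

set_option autoImplicit false

/-!
Generic lemmas on the representation of a group by exponents and matrices modulo 4.
-/

namespace Cfsg.Agent.HSType.AffLemmas

open Cfsg.Agent.HSType.Affine Cfsg.Agent.HSType.AffData

section group

variable {G : Type*} [Group G] {i a b : G}

theorem e_congr (h : Ab i a b) {v w : V} (hx : v.x % 4 = w.x % 4) (hy : v.y % 4 = w.y % 4)
    (hz : v.z % 4 = w.z % 4) : e i a b v = e i a b w := by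
  obtain ⟨x, y, z⟩ := v
  obtain ⟨x', y', z'⟩ := w
  rw [← e_mod h x y z, ← e_mod h x' y' z']
  dsimp only at hx hy hz
  rw [hx, hy, hz]

theorem e_inv (h : Ab i a b) (v : V) : (e i a b v)⁻¹ = e i a b ⟨3 * v.x, 3 * v.y, 3 * v.z⟩ := by
  obtain ⟨x, y, z⟩ := v
  rw [inv_eq_iff_mul_eq_one, e_mk_mul h, ← e_mod h]
  have h1 : ∀ n : ℕ, (n + 3 * n) % 4 = 0 := by intro n; omega
  rw [h1, h1, h1, e_zero]

/-- the group `⟨i, a, b⟩` -/
def sub (h : Ab i a b) : Subgroup G where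
  carrier := {g | ∃ v, g = e i a b v}
  mul_mem' := by
    rintro _ _ ⟨v, rfl⟩ ⟨w, rfl⟩
    exact ⟨V.add v w, (e_add h v w).symm⟩
  one_mem' := ⟨⟨0, 0, 0⟩, e_zero.symm⟩
  inv_mem' := by
    rintro _ ⟨v, rfl⟩
    exact ⟨_, e_inv h v⟩

theorem mem_sub {h : Ab i a b} {g : G} : g ∈ sub h ↔ ∃ v, g = e i a b v := Iff.rfl

theorem e_mem (h : Ab i a b) (v : V) : e i a b v ∈ sub h := ⟨v, rfl⟩

theorem e100 : e i a b ⟨1, 0, 0⟩ = i := by simp [e]
theorem e010 : e i a b ⟨0, 1, 0⟩ = a := by simp [e]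
theorem e001 : e i a b ⟨0, 0, 1⟩ = b := by simp [e]

theorem i_mem (h : Ab i a b) : i ∈ sub h := ⟨_, e100.symm⟩
theorem a_mem (h : Ab i a b) : a ∈ sub h := ⟨_, e010.symm⟩
theorem b_mem (h : Ab i a b) : b ∈ sub h := ⟨_, e001.symm⟩

theorem e_comm (h : Ab i a b) (v w : V) : e i a b v * e i a b w = e i a b w * e i a b v := by
  obtain ⟨x, y, z⟩ := v
  obtain ⟨x', y', z'⟩ := w
  rw [e_mk_mul h, e_mk_mul h]
  congr 2 <;> ring

theorem sub_comm (h : Ab i a b) {x y : G} (hx : x ∈ sub h) (hy : y ∈ sub h) : x * y = y * x := by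
  obtain ⟨v, rfl⟩ := hx
  obtain ⟨w, rfl⟩ := hy
  exact e_comm h v w

theorem sub_eq_closure (h : Ab i a b) : sub h = Subgroup.closure {i, a, b} := by
  apply le_antisymm
  · rintro _ ⟨v, rfl⟩
    have hi : i ∈ Subgroup.closure ({i, a, b} : Set G) := Subgroup.subset_closure (by simp)
    have ha : a ∈ Subgroup.closure ({i, a, b} : Set G) := Subgroup.subset_closure (by simp)
    have hb : b ∈ Subgroup.closure ({i, a, b} : Set G) := Subgroup.subset_closure (by simp)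
    exact Subgroup.mul_mem _ (Subgroup.mul_mem _ (Subgroup.pow_mem _ hi _) (Subgroup.pow_mem _ ha _))
      (Subgroup.pow_mem _ hb _)
  · rw [Subgroup.closure_le]
    rintro x (rfl | rfl | rfl)
    · exact i_mem h
    · exact a_mem h
    · exact b_mem h

/-- the exponents modulo 4 are determined -/
def Inj (i a b : G) : Prop := ∀ v : V, e i a b v = 1 → v.x % 4 = 0 ∧ v.y % 4 = 0 ∧ v.z % 4 = 0

theorem Inj.eq (h : Ab i a b) (hj : Inj i a b) {v w : V} (hvw : e i a b v = e i a b w) :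
    v.x % 4 = w.x % 4 ∧ v.y % 4 = w.y % 4 ∧ v.z % 4 = w.z % 4 := by
  have h1 : e i a b (V.add v ⟨3 * w.x, 3 * w.y, 3 * w.z⟩) = 1 := by
    rw [e_add h, ← e_inv h, hvw, mul_inv_cancel]
  obtain ⟨h2, h3, h4⟩ := hj _ h1
  change ((v.x + 3 * w.x) % 4) % 4 = 0 at h2
  change ((v.y + 3 * w.y) % 4) % 4 = 0 at h3
  change ((v.z + 3 * w.z) % 4) % 4 = 0 at h4
  omega

/-- reduction of a vector -/
def red (v : V) : V := ⟨v.x % 4, v.y % 4, v.z % 4⟩

theorem e_red (h : Ab i a b) (v : V) : e i a b (red v) = e i a b v := by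
  obtain ⟨x, y, z⟩ := v
  exact e_mod h x y z

theorem red_lt (v : V) : AffData.V.lt (red v) :=
  ⟨Nat.mod_lt _ (by norm_num), Nat.mod_lt _ (by norm_num), Nat.mod_lt _ (by norm_num)⟩

theorem app_lt (m : M) (v : V) : AffData.V.lt (m.app v) :=
  ⟨Nat.mod_lt _ (by norm_num), Nat.mod_lt _ (by norm_num), Nat.mod_lt _ (by norm_num)⟩

theorem V.ext_of_lt {v w : V} (hv : AffData.V.lt v) (hw : AffData.V.lt w)
    (h : v.x % 4 = w.x % 4 ∧ v.y % 4 = w.y % 4 ∧ v.z % 4 = w.z % 4) : v = w := by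
  obtain ⟨x, y, z⟩ := v
  obtain ⟨x', y', z'⟩ := w
  obtain ⟨h1, h2, h3⟩ := hv
  obtain ⟨h4, h5, h6⟩ := hw
  obtain ⟨h7, h8, h9⟩ := h
  dsimp only at h1 h2 h3 h4 h5 h6 h7 h8 h9
  rw [Nat.mod_eq_of_lt h1, Nat.mod_eq_of_lt h4] at h7
  rw [Nat.mod_eq_of_lt h2, Nat.mod_eq_of_lt h5] at h8
  rw [Nat.mod_eq_of_lt h3, Nat.mod_eq_of_lt h6] at h9
  rw [h7, h8, h9]

/-- equality of reduced vectors -/
theorem Inj.eq_of_lt (h : Ab i a b) (hj : Inj i a b) {v w : V} (hv : AffData.V.lt v) (hw : AffData.V.lt w)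
    (hvw : e i a b v = e i a b w) : v = w := V.ext_of_lt hv hw (hj.eq h hvw)

/-- reduced matrices -/
structure MLt (m : M) : Prop where
  a : AffData.V.lt m.a
  b : AffData.V.lt m.b
  c : AffData.V.lt m.c

theorem mul_lt (m n : M) : MLt (m.mul n) := ⟨app_lt _ _, app_lt _ _, app_lt _ _⟩

theorem Act.unique (h : Ab i a b) (hj : Inj i a b) {n : G} {m m' : M} (hm : MLt m) (hm' : MLt m')
    (h1 : Act i a b n m) (h2 : Act i a b n m') : m = m' := by
  obtain ⟨c1, c2, c3⟩ := m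
  obtain ⟨d1, d2, d3⟩ := m'
  have e1 : c1 = d1 := hj.eq_of_lt h hm.a hm'.a (h1.hi.symm.trans h2.hi)
  have e2 : c2 = d2 := hj.eq_of_lt h hm.b hm'.b (h1.ha.symm.trans h2.ha)
  have e3 : c3 = d3 := hj.eq_of_lt h hm.c hm'.c (h1.hb.symm.trans h2.hb)
  rw [e1, e2, e3]

theorem exists_act (h : Ab i a b) {n : G} (hn : ∀ x ∈ sub h, n * x * n⁻¹ ∈ sub h) :
    ∃ m, MLt m ∧ Act i a b n m := by
  obtain ⟨v1, h1⟩ := hn i (i_mem h)
  obtain ⟨v2, h2⟩ := hn a (a_mem h)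
  obtain ⟨v3, h3⟩ := hn b (b_mem h)
  exact ⟨⟨red v1, red v2, red v3⟩, ⟨red_lt _, red_lt _, red_lt _⟩,
    ⟨by rw [h1, e_red h], by rw [h2, e_red h], by rw [h3, e_red h]⟩⟩

theorem Act.norm (h : Ab i a b) {n : G} {m : M} (hn : Act i a b n m) : ∀ x ∈ sub h, n * x * n⁻¹ ∈ sub h := by
  rintro _ ⟨v, rfl⟩
  exact ⟨_, hn.app h v⟩

theorem act_ev (h : Ab i a b) {g : ℕ → G} {L : ℕ → Af} (w : List ℕ)
    (hw : ∀ l ∈ w, Act i a b (g l) (L l).m) : Act i a b (w.map g).prod (evA L w).m := by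
  induction w with
  | nil => exact Act.one
  | cons l w ih =>
    rw [List.map_cons, List.prod_cons, evA_cons]
    exact (hw l List.mem_cons_self).mul h (ih fun y hy => hw y (List.mem_cons_of_mem _ hy))

/-- inverse representation -/
theorem Rep.inv (h : Ab i a b) {K : Subgroup G} {g : G} {p q : Af} (hg : Rep i a b K g p)
    (hpq : Af.mul p q = Af.one) : Rep i a b K g⁻¹ q := by
  obtain ⟨k, hk, rfl, hp⟩ := hg
  have hm : M.mul p.m q.m = M.one := congrArg Af.m hpq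
  have hv : V.add p.v (p.m.app q.v) = ⟨0, 0, 0⟩ := congrArg Af.v hpq
  have h1 : e i a b p.v * (k * e i a b q.v * k⁻¹) = 1 := by
    rw [hp.app h, ← e_add h, hv, e_zero]
  refine ⟨k⁻¹, K.inv_mem hk, ?_, ?_⟩
  · have h2 : e i a b p.v = (k * e i a b q.v * k⁻¹)⁻¹ := eq_inv_of_mul_eq_one_left h1
    rw [h2]; group
  · have ha : p.m.app q.m.a = ⟨1, 0, 0⟩ := congrArg M.a hm
    have hb : p.m.app q.m.b = ⟨0, 1, 0⟩ := congrArg M.b hm
    have hc : p.m.app q.m.c = ⟨0, 0, 1⟩ := congrArg M.c hm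
    refine ⟨?_, ?_, ?_⟩
    · have := hp.app h q.m.a
      rw [ha, e100] at this
      have h3 : k⁻¹ * (k * e i a b q.m.a * k⁻¹) * k⁻¹⁻¹ = e i a b q.m.a := by group
      rwa [this] at h3
    · have := hp.app h q.m.b
      rw [hb, e010] at this
      have h3 : k⁻¹ * (k * e i a b q.m.b * k⁻¹) * k⁻¹⁻¹ = e i a b q.m.b := by group
      rwa [this] at h3
    · have := hp.app h q.m.c
      rw [hc, e001] at this
      have h3 : k⁻¹ * (k * e i a b q.m.c * k⁻¹) * k⁻¹⁻¹ = e i a b q.m.c := by group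
      rwa [this] at h3

theorem Ab.map {H : Type*} [Group H] (φ : G →* H) (h : Ab i a b) : Ab (φ i) (φ a) (φ b) where
  ia := by rw [← map_mul, h.ia, map_mul]
  ib := by rw [← map_mul, h.ib, map_mul]
  ab := by rw [← map_mul, h.ab, map_mul]
  i4 := by rw [← map_pow, h.i4, map_one]
  a4 := by rw [← map_pow, h.a4, map_one]
  b4 := by rw [← map_pow, h.b4, map_one]

theorem map_e {H : Type*} [Group H] (φ : G →* H) (v : V) : φ (e i a b v) = e (φ i) (φ a) (φ b) v := by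
  simp [e]

theorem Act.map {H : Type*} [Group H] (φ : G →* H) {n : G} {m : M} (h : Act i a b n m) :
    Act (φ i) (φ a) (φ b) (φ n) m where
  hi := by rw [← map_e, ← h.hi]; simp
  ha := by rw [← map_e, ← h.ha]; simp
  hb := by rw [← map_e, ← h.hb]; simp

theorem Inj.map {H : Type*} [Group H] (φ : G →* H) (hφ : Function.Injective φ) (h : Inj i a b) :
    Inj (φ i) (φ a) (φ b) := by
  intro v hv
  rw [← map_e] at hv
  exact h v (hφ (by rw [hv, map_one]))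

end group

end Cfsg.Agent.HSType.AffLemmas
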