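import Mathlib

set_option autoImplicit false

/-!
Affine arithmetic over `ℤ/4` in dimension 3, for a group containing an abelian subgroup `⟨i, a, b⟩` of
exponent 4 and a subgroup `K` acting on it: an element `i^x a^y b^z κ` (`κ ∈ K`) is represented by the vector
`(x, y, z)` and the matrix of `κ`.  All checks are closed computations with natural numbers.
-/

namespace Cfsg.Agent.HSType.Affine

/-- exponent vectors -/
structure V where
  x : ℕ
  y : ℕ
  z : ℕ

/-- matrices, given by their columns -/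
structure M where
  a : V
  b : V
  c : V

/-- affine maps -/
structure Af where
  v : V
  m : M

/-- sum modulo 4 -/
def V.add (v w : V) : V :=
  ⟨Nat.mod (Nat.add v.x w.x) 4, Nat.mod (Nat.add v.y w.y) 4, Nat.mod (Nat.add v.z w.z) 4⟩

/-- the image of a vector -/
def M.app (m : M) (v : V) : V :=
  ⟨Nat.mod (Nat.add (Nat.add (Nat.mul v.x m.a.x) (Nat.mul v.y m.b.x)) (Nat.mul v.z m.c.x)) 4,
   Nat.mod (Nat.add (Nat.add (Nat.mul v.x m.a.y) (Nat.mul v.y m.b.y)) (Nat.mul v.z m.c.y)) 4,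
   Nat.mod (Nat.add (Nat.add (Nat.mul v.x m.a.z) (Nat.mul v.y m.b.z)) (Nat.mul v.z m.c.z)) 4⟩

/-- matrix product -/
def M.mul (m n : M) : M := ⟨m.app n.a, m.app n.b, m.app n.c⟩

/-- affine product -/
def Af.mul (p q : Af) : Af := ⟨V.add p.v (p.m.app q.v), M.mul p.m q.m⟩

/-- the unit matrix -/
def M.one : M := ⟨⟨1, 0, 0⟩, ⟨0, 1, 0⟩, ⟨0, 0, 1⟩⟩

/-- the identity -/
def Af.one : Af := ⟨⟨0, 0, 0⟩, M.one⟩

/-- conjunction as a recursor -/
def band (p q : Bool) : Bool := Bool.rec false q p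

theorem band_iff (p q : Bool) : band p q = true ↔ p = true ∧ q = true := by
  cases p <;> cases q <;> simp [band]

def V.beq (v w : V) : Bool := band (Nat.beq v.x w.x) (band (Nat.beq v.y w.y) (Nat.beq v.z w.z))
def M.beq (m n : M) : Bool := band (V.beq m.a n.a) (band (V.beq m.b n.b) (V.beq m.c n.c))
def Af.beq (p q : Af) : Bool := band (V.beq p.v q.v) (M.beq p.m q.m)

theorem V.eq_of_beq {v w : V} (h : V.beq v w = true) : v = w := by
  rw [V.beq, band_iff, band_iff] at h
  obtain ⟨h1, h2, h3⟩ := h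
  cases v; cases w
  have h1 := Nat.eq_of_beq_eq_true h1
  have h2 := Nat.eq_of_beq_eq_true h2
  have h3 := Nat.eq_of_beq_eq_true h3
  simp_all

theorem M.eq_of_beq {m n : M} (h : M.beq m n = true) : m = n := by
  rw [M.beq, band_iff, band_iff] at h
  obtain ⟨h1, h2, h3⟩ := h
  cases m; cases n
  have h1 := V.eq_of_beq h1
  have h2 := V.eq_of_beq h2
  have h3 := V.eq_of_beq h3
  simp_all

theorem Af.eq_of_beq {p q : Af} (h : Af.beq p q = true) : p = q := by
  rw [Af.beq, band_iff] at h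
  obtain ⟨h1, h2⟩ := h
  cases p; cases q
  have h1 := V.eq_of_beq h1
  have h2 := M.eq_of_beq h2
  simp_all

/-- the value of a word -/
def evA (L : ℕ → Af) (w : List ℕ) : Af := List.rec Af.one (fun l _ p => Af.mul (L l) p) w

theorem evA_nil (L : ℕ → Af) : evA L [] = Af.one := rfl
theorem evA_cons (L : ℕ → Af) (l : ℕ) (w : List ℕ) : evA L (l :: w) = Af.mul (L l) (evA L w) := rfl

/-- all words have value one -/
def allOne (L : ℕ → Af) (W : List (List ℕ)) : Bool :=
  List.rec true (fun w _ ih => band (Af.beq (evA L w) Af.one) ih) W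

theorem allOne_iff {L : ℕ → Af} {W : List (List ℕ)} (h : allOne L W = true) : ∀ w ∈ W, evA L w = Af.one := by
  induction W with
  | nil => intro w hw; exact absurd hw List.not_mem_nil
  | cons v W ih =>
    have h' : band (Af.beq (evA L v) Af.one) (allOne L W) = true := h
    rw [band_iff] at h'
    intro w hw
    rcases List.mem_cons.1 hw with rfl | hw
    · exact Af.eq_of_beq h'.1
    · exact ih h'.2 w hw

section group

variable {G : Type*} [Group G] (i a b : G)

/-- the element with given exponents -/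
def e (v : V) : G := i ^ v.x * a ^ v.y * b ^ v.z

/-- `i, a, b` commute and have order dividing 4 -/
structure Ab : Prop where
  ia : i * a = a * i
  ib : i * b = b * i
  ab : a * b = b * a
  i4 : i ^ 4 = 1
  a4 : a ^ 4 = 1
  b4 : b ^ 4 = 1

variable {i a b}

theorem e_mk_mul (h : Ab i a b) (x y z x' y' z' : ℕ) :
    e i a b ⟨x, y, z⟩ * e i a b ⟨x', y', z'⟩ = e i a b ⟨x + x', y + y', z + z'⟩ := by
  have h1 : Commute (a ^ y) (i ^ x') := (Commute.symm h.ia).pow_pow _ _
  have h2 : Commute (b ^ z) (i ^ x') := (Commute.symm h.ib).pow_pow _ _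
  have h3 : Commute (b ^ z) (a ^ y') := (Commute.symm h.ab).pow_pow _ _
  simp only [e, pow_add]
  calc i ^ x * a ^ y * b ^ z * (i ^ x' * a ^ y' * b ^ z')
      = i ^ x * a ^ y * (b ^ z * i ^ x') * a ^ y' * b ^ z' := by group
    _ = i ^ x * (a ^ y * i ^ x') * (b ^ z * a ^ y') * b ^ z' := by rw [h2.eq]; group
    _ = i ^ x * i ^ x' * (a ^ y * a ^ y') * (b ^ z * b ^ z') := by rw [h1.eq, h3.eq]; group

theorem e_mod (h : Ab i a b) (x y z : ℕ) : e i a b ⟨x % 4, y % 4, z % 4⟩ = e i a b ⟨x, y, z⟩ := by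
  simp only [e]
  rw [← pow_eq_pow_mod x h.i4, ← pow_eq_pow_mod y h.a4, ← pow_eq_pow_mod z h.b4]

theorem e_mk_pow (h : Ab i a b) (x y z k : ℕ) :
    (e i a b ⟨x, y, z⟩) ^ k = e i a b ⟨k * x, k * y, k * z⟩ := by
  induction k with
  | zero => simp [e]
  | succ k ih =>
    rw [pow_succ, ih, e_mk_mul h]
    congr 2 <;> ring

theorem e_add (h : Ab i a b) (v w : V) : e i a b (V.add v w) = e i a b v * e i a b w := by
  obtain ⟨x, y, z⟩ := v
  obtain ⟨x', y', z'⟩ := w
  rw [e_mk_mul h, ← e_mod h (x + x')]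
  rfl

theorem e_zero : e i a b ⟨0, 0, 0⟩ = 1 := by simp [e]

/-- conjugation by `n` acts as the matrix `m` -/
structure Act (i a b n : G) (m : M) : Prop where
  hi : n * i * n⁻¹ = e i a b m.a
  ha : n * a * n⁻¹ = e i a b m.b
  hb : n * b * n⁻¹ = e i a b m.c

theorem Act.app (h : Ab i a b) {n : G} {m : M} (hn : Act i a b n m) (v : V) :
    n * e i a b v * n⁻¹ = e i a b (m.app v) := by
  obtain ⟨x, y, z⟩ := v
  have h1 : n * e i a b ⟨x, y, z⟩ * n⁻¹ =
      (n * i * n⁻¹) ^ x * (n * a * n⁻¹) ^ y * (n * b * n⁻¹) ^ z := by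
    simp only [e, conj_pow]; group
  rw [h1, hn.hi, hn.ha, hn.hb]
  obtain ⟨⟨a1, a2, a3⟩, ⟨b1, b2, b3⟩, ⟨c1, c2, c3⟩⟩ := m
  rw [e_mk_pow h, e_mk_pow h, e_mk_pow h, e_mk_mul h, e_mk_mul h, ← e_mod h (x * a1 + y * b1 + z * c1)]
  rfl

theorem Act.mul (h : Ab i a b) {n n' : G} {m m' : M} (hn : Act i a b n m) (hn' : Act i a b n' m') :
    Act i a b (n * n') (m.mul m') := by
  have key : ∀ x : G, n * n' * x * (n * n')⁻¹ = n * (n' * x * n'⁻¹) * n⁻¹ := by intro x; group
  refine ⟨?_, ?_, ?_⟩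
  · rw [key, hn'.hi, hn.app h]; rfl
  · rw [key, hn'.ha, hn.app h]; rfl
  · rw [key, hn'.hb, hn.app h]; rfl

theorem Act.one : Act i a b 1 M.one := by
  constructor <;> simp [e, M.one]

theorem Act.of_commute {n : G} (h1 : n * i = i * n) (h2 : n * a = a * n) (h3 : n * b = b * n) :
    Act i a b n M.one := by
  constructor
  · rw [h1]; simp [e, M.one]
  · rw [h2]; simp [e, M.one]
  · rw [h3]; simp [e, M.one]

/-- elements of the abelian group act trivially -/
theorem act_e (h : Ab i a b) (v : V) : Act i a b (e i a b v) M.one := by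
  have key : ∀ w : V, e i a b v * e i a b w = e i a b w * e i a b v := by
    intro w
    obtain ⟨x, y, z⟩ := v
    obtain ⟨x', y', z'⟩ := w
    rw [e_mk_mul h, e_mk_mul h]
    congr 2 <;> ring
  have hi : e i a b ⟨1, 0, 0⟩ = i := by simp [e]
  have ha : e i a b ⟨0, 1, 0⟩ = a := by simp [e]
  have hb : e i a b ⟨0, 0, 1⟩ = b := by simp [e]
  refine Act.of_commute ?_ ?_ ?_
  · have := key ⟨1, 0, 0⟩; rwa [hi] at this
  · have := key ⟨0, 1, 0⟩; rwa [ha] at this
  · have := key ⟨0, 0, 1⟩; rwa [hb] at this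

/-- `g` is represented by the affine map `p` -/
def Rep (i a b : G) (K : Subgroup G) (g : G) (p : Af) : Prop :=
  ∃ k ∈ K, g = e i a b p.v * k ∧ Act i a b k p.m

theorem Rep.mul (h : Ab i a b) {K : Subgroup G} {g g' : G} {p p' : Af} (hg : Rep i a b K g p)
    (hg' : Rep i a b K g' p') : Rep i a b K (g * g') (p.mul p') := by
  obtain ⟨k, hk, rfl, hp⟩ := hg
  obtain ⟨k', hk', rfl, hp'⟩ := hg'
  refine ⟨k * k', K.mul_mem hk hk', ?_, hp.mul h hp'⟩
  have h1 : e i a b (Af.mul p p').v = e i a b p.v * e i a b (p.m.app p'.v) := e_add h _ _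
  rw [h1, ← hp.app h]
  group

theorem Rep.one {K : Subgroup G} : Rep i a b K 1 Af.one :=
  ⟨1, K.one_mem, by simp [Af.one, e], Act.one⟩

theorem Rep.eq_one {K : Subgroup G} (hK : ∀ k ∈ K, k * i = i * k → k * a = a * k → k * b = b * k → k = 1)
    {g : G} (hg : Rep i a b K g Af.one) : g = 1 := by
  obtain ⟨k, hk, rfl, hp⟩ := hg
  have h1 : k = 1 := by
    refine hK k hk ?_ ?_ ?_
    · have := hp.hi
      simp only [Af.one, M.one, e, pow_one, pow_zero, mul_one] at this
      rw [mul_inv_eq_iff_eq_mul] at this; exact this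
    · have := hp.ha
      simp only [Af.one, M.one, e, pow_one, pow_zero, mul_one, one_mul] at this
      rw [mul_inv_eq_iff_eq_mul] at this; exact this
    · have := hp.hb
      simp only [Af.one, M.one, e, pow_one, pow_zero, mul_one, one_mul] at this
      rw [mul_inv_eq_iff_eq_mul] at this; exact this
  rw [h1]
  simp [Af.one, e]

theorem Rep.ev (h : Ab i a b) {K : Subgroup G} {g : ℕ → G} {L : ℕ → Af} (w : List ℕ)
    (hw : ∀ l ∈ w, Rep i a b K (g l) (L l)) : Rep i a b K (w.map g).prod (evA L w) := by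
  induction w with
  | nil => exact Rep.one
  | cons l w ih =>
    rw [List.map_cons, List.prod_cons, evA_cons]
    exact (hw l List.mem_cons_self).mul h (ih fun y hy => hw y (List.mem_cons_of_mem _ hy))

/-- words with value one are relations -/
theorem relations (h : Ab i a b) {K : Subgroup G}
    (hK : ∀ k ∈ K, k * i = i * k → k * a = a * k → k * b = b * k → k = 1) {g : ℕ → G} {L : ℕ → Af}
    (hL : ∀ l, l < 14 → l ≠ 9 → Rep i a b K (g l) (L l)) {W : List (List ℕ)} (hW : allOne L W = true)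
    (hlt : ∀ w ∈ W, ∀ l ∈ w, l < 14 ∧ l ≠ 9) : ∀ w ∈ W, (w.map g).prod = 1 := by
  intro w hw
  have h1 := Rep.ev h w (fun l hl => hL l (hlt w hw l hl).1 (hlt w hw l hl).2)
  rw [allOne_iff hW w hw] at h1
  exact h1.eq_one hK

end group

end Cfsg.Agent.HSType.Affine
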