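import Mathlib

/-!
# A 512-element model of a Sylow 2-subgroup of the Higman–Sims group

`SM` is the semidirect product of `(Z/4)^3` (codes `0..63`, `x₁ + 4 x₂ + 16 x₃`) by the dihedral group
of order 8 (codes `64 * d`, `d = i + 4 j` for `r^i s^j`), with
`r b₁ r⁻¹ = b₂⁻¹, r b₂ r⁻¹ = b₁, r b₃ r⁻¹ = b₃ b₁⁻¹, s b₁ s = b₂, s b₃ s = b₃⁻¹`.
All functions are written with raw `Nat` operations so that the kernel evaluates them quickly.
-/

set_option autoImplicit false

namespace Cfsg.Agent.HSType.Model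

def actTab : Nat := nat_lit 0x4524d075e7dc65a6d85565d49669e48628e0b6ebeca6aae8e7aef8d76df4c72cf0f7effc34e3cc24a2c81461c40420c061c41465d45569e4966df4d7be39ebb20928b61969ba29aacb6ebecf7effc34e3cc75e7d14934118a3821cb3c310830059551769961b79d71f4914139649e6a68aeab6cbee8608e2d37db5e3beb9f3ffbdc33cb11c61442ca2483ce34c0c20407db5d379a592759551718510beb9e3baa9a2b69961b28920ffbdf3fbadb2f79d71f38d303cb1c338a182349141308100e75c7deb6cbeef7cffe34c3c961b699a2baa9e3beb920b2845d65549e6964df6d741c61434914138a1823cb1c3308100cb3c31db7d35ebbe39fbff3dbecb6e8e08629e4966ae8a6a61969b71d79f4114935155971461c424a2c834e3cc0420c0d38f30dfbff3dbafb2d79f71969b61928b209ebbe39aaba259a7925597515187105db7d31cb3c318a382149341108300ffef7cefae78df6d74cf2c70beeb6caeaa689e69648e28607de75c6da6585d65544d24503ce34c2ca2481c61440c2040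
def dTab : Nat := nat_lit 0x5397760af2e4c1de5298bbcd67443b3e21a9f50d1fac688
def invTab : Nat := nat_lit 0xf9fcbe3f0fbfdbebf4fdfebf3f8ffffbfbfcf7fbbdbecf1f8bc3e0f3f9bcbe4f5fabd3e8edf6bb3d8eff7bbbdce9f4ba3d0ebf5babd4e3f1b8bc4e5f2b93c8e7f3b9bcce1f0b83c0dc6d361bcddedf67bfdd6db65bedced763bdd2e875ba9d268359a8d3e8f5fabd368b5daac967b3596c8e773395c86733194c9e7f3797c7e2f0f83c762b0d82c6e270b81c66230980bf5fef97dbd5eef179bb5dee975b95cee171b7db2db6eb5da2d36ab3d92cb66b1d82c362ae576bd5fac566b55baa556ad57a8546a553a6d3a9f4ca4d2a9748a2d1a8f44a0d0a87409ace67b319b4ea7d329bcee7f339a4e2793092ca65b21934aa5d2293cae5f23924a259208ac663b118b46a3d128bc6e3f138a462391082c261b018342a1d0283c2e1f038242219002e160a8502e964aa512f168ac522f96cae53379acce63361a0c860369a4ca61371a8cc623f1e8ec723f9ecee733e1e0e8703e9e4ea71269248a41271288c422792c8e432612088404924520934f275389f4d265309b4b255289752a914ea650a8146a256ab15eae54aa156aa5c2ed74b95a2dd6cb5582cd64b15e2fd7cbd47a391a8c45a29128843a190a8441a0902806db7da6d76d379a4d66cb75a2d56c371a0d477b8dceeb77389ccea76b85cae976381c8e879bddf6ff793d9f4fe78bd5f2fd783d1f0fc63b2d9ec3633299cc262b259ac16232198c00a8582e140c86836180e8783e1c088482610128984e24148a85628168b85e2c1088846201a8d86e341c8e876381e8f87e3c188c86630028180e04048281608068381e0c008080600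

/-- addition in `(Z/4)^3`, three packed 2-bit fields -/
def addV (a b : Nat) : Nat :=
  Nat.xor (Nat.add (Nat.land a (nat_lit 21)) (Nat.land b (nat_lit 21)))
    (Nat.land (Nat.xor a b) (nat_lit 42))
def act (d v : Nat) : Nat :=
  Nat.land (Nat.shiftRight actTab (Nat.mul (Nat.add (Nat.mul (nat_lit 64) d) v) (nat_lit 6)))
    (nat_lit 63)
def dmul (d e : Nat) : Nat :=
  Nat.land (Nat.shiftRight dTab (Nat.mul (Nat.add (Nat.mul (nat_lit 8) d) e) (nat_lit 3)))
    (nat_lit 7)
def mulN (a b : Nat) : Nat :=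
  Nat.add (addV (Nat.land a (nat_lit 63))
      (act (Nat.shiftRight a (nat_lit 6)) (Nat.land b (nat_lit 63))))
    (Nat.mul (nat_lit 64) (dmul (Nat.shiftRight a (nat_lit 6)) (Nat.shiftRight b (nat_lit 6))))
def invN (a : Nat) : Nat := Nat.land (Nat.shiftRight invTab (Nat.mul (nat_lit 9) a)) (nat_lit 511)

/-- bounded check, structurally recursive -/
def allLT (n : Nat) (p : Nat → Bool) : Bool :=
  Nat.rec (motive := fun _ => Bool) true (fun k ih => Bool.rec false ih (p k)) n

theorem allLT_spec {n : Nat} {p : Nat → Bool} (h : allLT n p = true) : ∀ k < n, p k = true := by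
  induction n with
  | zero => intro k hk; omega
  | succ n ih =>
    have h' : (Bool.rec false (allLT n p) (p n) : Bool) = true := h
    intro k hk
    cases hp : p n with
    | false => rw [hp] at h'; exact (Bool.false_ne_true h').elim
    | true =>
      rw [hp] at h'
      rcases Nat.lt_succ_iff_lt_or_eq.mp hk with h1 | h1
      · exact ih h' k h1
      · rw [h1]; exact hp

theorem eq_of_beq {a b : Nat} (h : Nat.beq a b = true) : a = b := Nat.eq_of_beq_eq_true h

theorem xor_and_lt (a b : Nat) : addV (Nat.land a 63) (Nat.land b 63) < 64 := by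
  have h : allLT 64 (fun a => allLT 64 (fun b => Nat.blt (addV a b) (nat_lit 64))) = true := by
    decide +kernel
  have ha : Nat.land a 63 < 64 := Nat.lt_of_le_of_lt Nat.and_le_right (by norm_num)
  have hb : Nat.land b 63 < 64 := Nat.lt_of_le_of_lt Nat.and_le_right (by norm_num)
  exact Nat.le_of_ble_eq_true (allLT_spec (allLT_spec h _ ha) _ hb)

theorem addV_lt : ∀ a < 64, ∀ b < 64, addV a b < 64 := by
  have h : allLT 64 (fun a => allLT 64 (fun b => Nat.blt (addV a b) (nat_lit 64))) = true := by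
    decide +kernel
  intro a ha b hb
  exact Nat.le_of_ble_eq_true (allLT_spec (allLT_spec h a ha) b hb)

theorem addV_zero : ∀ a < 64, addV a 0 = a := by
  have h : allLT 64 (fun a => Nat.beq (addV a (nat_lit 0)) a) = true := by decide +kernel
  intro a ha
  exact eq_of_beq (allLT_spec h a ha)

/-- a generator `1, 4, 16` of `(Z/4)^3` to peel off a nonzero code -/
def gen (c : Nat) : Nat :=
  bif Nat.beq (Nat.land c 3) 0 then (bif Nat.beq (Nat.land c 12) 0 then 16 else 4) else 1

theorem gen_mem (c : Nat) : gen c = 1 ∨ gen c = 4 ∨ gen c = 16 := by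
  unfold gen
  cases Nat.beq (Nat.land c 3) 0 <;> cases Nat.beq (Nat.land c 12) 0 <;> simp

theorem peel : ∀ c < 64, 0 < c → c - gen c < c ∧ addV (c - gen c) (gen c) = c := by
  have h : allLT 64 (fun c => bif Nat.beq c 0 then true else
    (Nat.blt (c - gen c) c && Nat.beq (addV (c - gen c) (gen c)) c)) = true := by decide +kernel
  intro c hc h0
  have h1 := allLT_spec h c hc
  have h2 : Nat.beq c 0 = false := by
    cases hb : Nat.beq c 0 with
    | false => rfl
    | true => have := eq_of_beq hb; omega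
  simp only [h2, cond_false, Bool.and_eq_true] at h1
  exact ⟨Nat.le_of_ble_eq_true h1.1, eq_of_beq h1.2⟩

theorem addV_assoc_gen : ∀ a < 64, ∀ b < 64, ∀ c, (c = 1 ∨ c = 4 ∨ c = 16) →
    addV (addV a b) c = addV a (addV b c) := by
  have h : allLT 64 (fun a => allLT 64 (fun b =>
      (Nat.beq (addV (addV a b) 1) (addV a (addV b 1)) &&
      Nat.beq (addV (addV a b) 4) (addV a (addV b 4)) &&
      Nat.beq (addV (addV a b) 16) (addV a (addV b 16))))) = true := by decide +kernel
  intro a ha b hb c hc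
  have h1 := allLT_spec (allLT_spec h a ha) b hb
  simp only [Bool.and_eq_true] at h1
  rcases hc with rfl | rfl | rfl
  · exact eq_of_beq h1.1.1
  · exact eq_of_beq h1.1.2
  · exact eq_of_beq h1.2

theorem addV_assoc (a : Nat) (ha : a < 64) (b : Nat) (hb : b < 64) (c : Nat) (hc : c < 64) :
    addV (addV a b) c = addV a (addV b c) := by
  induction c using Nat.strong_induction_on with
  | _ c ih =>
    rcases Nat.eq_zero_or_pos c with rfl | h0
    · rw [addV_zero b hb, addV_zero _ (addV_lt a ha b hb)]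
    · obtain ⟨h1, h2⟩ := peel c hc h0
      have h3 : c - gen c < 64 := by omega
      have h4 := ih _ h1 h3
      conv_lhs => rw [← h2]
      conv_rhs => rw [← h2]
      rw [← addV_assoc_gen _ (addV_lt a ha b hb) _ h3 _ (gen_mem c), h4,
        addV_assoc_gen a ha _ (addV_lt b hb _ h3) _ (gen_mem c),
        addV_assoc_gen b hb _ h3 _ (gen_mem c)]

theorem act_lt (d v : Nat) : act d v < 64 := by
  unfold act
  exact Nat.lt_of_le_of_lt Nat.and_le_right (by norm_num)

theorem dmul_lt (d e : Nat) : dmul d e < 8 := by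
  unfold dmul
  exact Nat.lt_of_le_of_lt Nat.and_le_right (by norm_num)

theorem act_zero : ∀ d < 8, act d 0 = 0 := by
  have h : allLT 8 (fun d => Nat.beq (act d 0) 0) = true := by decide +kernel
  intro d hd
  exact eq_of_beq (allLT_spec h d hd)

theorem act_add_gen : ∀ d < 8, ∀ v < 64, ∀ c, (c = 1 ∨ c = 4 ∨ c = 16) →
    act d (addV v c) = addV (act d v) (act d c) := by
  have h : allLT 8 (fun d => allLT 64 (fun v =>
      (Nat.beq (act d (addV v 1)) (addV (act d v) (act d 1)) &&
      Nat.beq (act d (addV v 4)) (addV (act d v) (act d 4)) &&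
      Nat.beq (act d (addV v 16)) (addV (act d v) (act d 16))))) = true := by decide +kernel
  intro a ha b hb c hc
  have h1 := allLT_spec (allLT_spec h a ha) b hb
  simp only [Bool.and_eq_true] at h1
  rcases hc with rfl | rfl | rfl
  · exact eq_of_beq h1.1.1
  · exact eq_of_beq h1.1.2
  · exact eq_of_beq h1.2

theorem gen_lt (c : Nat) : gen c < 64 := by
  rcases gen_mem c with h | h | h <;> rw [h] <;> norm_num

theorem act_add (d : Nat) (hd : d < 8) (v : Nat) (hv : v < 64) (c : Nat) (hc : c < 64) :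
    act d (addV v c) = addV (act d v) (act d c) := by
  induction c using Nat.strong_induction_on with
  | _ c ih =>
    rcases Nat.eq_zero_or_pos c with rfl | h0
    · rw [addV_zero v hv, act_zero d hd, addV_zero _ (act_lt d v)]
    · obtain ⟨h1, h2⟩ := peel c hc h0
      have h3 : c - gen c < 64 := by omega
      have h4 := ih _ h1 h3
      conv_lhs => rw [← h2]
      conv_rhs => rw [← h2]
      rw [← addV_assoc v hv _ h3 _ (gen_lt c),
        act_add_gen d hd _ (addV_lt v hv _ h3) _ (gen_mem c), h4,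
        act_add_gen d hd _ h3 _ (gen_mem c),
        addV_assoc _ (act_lt _ _) _ (act_lt _ _) _ (act_lt _ _)]

theorem act_dmul : ∀ d < 8, ∀ e < 8, ∀ v < 64, act (dmul d e) v = act d (act e v) := by
  have h : allLT 8 (fun d => allLT 8 (fun e => allLT 64 (fun v =>
      Nat.beq (act (dmul d e) v) (act d (act e v))))) = true := by decide +kernel
  intro a ha b hb c hc
  exact eq_of_beq (allLT_spec (allLT_spec (allLT_spec h a ha) b hb) c hc)

theorem dmul_assoc : ∀ d < 8, ∀ e < 8, ∀ f < 8, dmul (dmul d e) f = dmul d (dmul e f) := by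
  have h : allLT 8 (fun d => allLT 8 (fun e => allLT 8 (fun f =>
      Nat.beq (dmul (dmul d e) f) (dmul d (dmul e f))))) = true := by decide +kernel
  intro a ha b hb c hc
  exact eq_of_beq (allLT_spec (allLT_spec (allLT_spec h a ha) b hb) c hc)

theorem split_lt {x y : Nat} (hx : x < 64) :
    Nat.land (Nat.add x (Nat.mul 64 y)) 63 = x ∧ Nat.shiftRight (Nat.add x (Nat.mul 64 y)) 6 = y := by
  have h1 : (x + 64 * y) &&& 63 = (x + 64 * y) % 64 := Nat.and_two_pow_sub_one_eq_mod _ 6
  constructor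
  · show (x + 64 * y) &&& 63 = x
    rw [h1]; omega
  · show (x + 64 * y) >>> 6 = y
    rw [Nat.shiftRight_eq_div_pow]; omega

theorem and63_lt (a : Nat) : Nat.land a 63 < 64 := Nat.lt_of_le_of_lt Nat.and_le_right (by norm_num)

theorem shift_lt {a : Nat} (h : a < 512) : Nat.shiftRight a 6 < 8 := by
  show a >>> 6 < 8
  rw [Nat.shiftRight_eq_div_pow]; omega

theorem mulN_lt {a b : Nat} (_ha : a < 512) (_hb : b < 512) : mulN a b < 512 := by
  have h1 := addV_lt (Nat.land a 63) (and63_lt a) (act (Nat.shiftRight a 6) (Nat.land b 63)) (act_lt _ _)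
  have h2 := dmul_lt (Nat.shiftRight a 6) (Nat.shiftRight b 6)
  have h3 : mulN a b = addV (Nat.land a 63) (act (Nat.shiftRight a 6) (Nat.land b 63))
    + 64 * dmul (Nat.shiftRight a 6) (Nat.shiftRight b 6) := rfl
  omega

theorem mulN_assoc {a b c : Nat} (ha : a < 512) (hb : b < 512) (hc : c < 512) :
    mulN (mulN a b) c = mulN a (mulN b c) := by
  have e1 := split_lt (y := dmul (Nat.shiftRight a 6) (Nat.shiftRight b 6))
    (addV_lt (Nat.land a 63) (and63_lt a) (act (Nat.shiftRight a 6) (Nat.land b 63)) (act_lt _ _))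
  have e2 := split_lt (y := dmul (Nat.shiftRight b 6) (Nat.shiftRight c 6))
    (addV_lt (Nat.land b 63) (and63_lt b) (act (Nat.shiftRight b 6) (Nat.land c 63)) (act_lt _ _))
  have h1 : mulN (mulN a b) c = Nat.add (addV (Nat.land (mulN a b) 63)
      (act (Nat.shiftRight (mulN a b) 6) (Nat.land c 63)))
      (Nat.mul 64 (dmul (Nat.shiftRight (mulN a b) 6) (Nat.shiftRight c 6))) := rfl
  have h2 : mulN a (mulN b c) = Nat.add (addV (Nat.land a 63)
      (act (Nat.shiftRight a 6) (Nat.land (mulN b c) 63)))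
      (Nat.mul 64 (dmul (Nat.shiftRight a 6) (Nat.shiftRight (mulN b c) 6))) := rfl
  have e1a : Nat.land (mulN a b) 63 = addV (Nat.land a 63) (act (Nat.shiftRight a 6) (Nat.land b 63)) := e1.1
  have e1b : Nat.shiftRight (mulN a b) 6 = dmul (Nat.shiftRight a 6) (Nat.shiftRight b 6) := e1.2
  have e2a : Nat.land (mulN b c) 63 = addV (Nat.land b 63) (act (Nat.shiftRight b 6) (Nat.land c 63)) := e2.1
  have e2b : Nat.shiftRight (mulN b c) 6 = dmul (Nat.shiftRight b 6) (Nat.shiftRight c 6) := e2.2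
  rw [h1, h2, e1a, e1b, e2a, e2b, dmul_assoc _ (shift_lt ha) _ (shift_lt hb) _ (shift_lt hc),
    act_dmul _ (shift_lt ha) _ (shift_lt hb) _ (and63_lt c),
    act_add _ (shift_lt ha) _ (and63_lt b) _ (act_lt _ _),
    addV_assoc _ (and63_lt a) _ (act_lt _ _) _ (act_lt _ _)]

theorem zero_mulN : ∀ a < 512, mulN 0 a = a := by
  have h : allLT 512 (fun a => Nat.beq (mulN 0 a) a) = true := by decide +kernel
  intro a ha
  exact eq_of_beq (allLT_spec h a ha)

theorem inv_mulN : ∀ a < 512, mulN (invN a) a = 0 := by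
  have h : allLT 512 (fun a => Nat.beq (mulN (invN a) a) 0) = true := by decide +kernel
  intro a ha
  exact eq_of_beq (allLT_spec h a ha)

theorem invN_lt (a : Nat) : invN a < 512 := by
  unfold invN
  exact Nat.lt_of_le_of_lt Nat.and_le_right (by norm_num)

/-- the model -/
@[ext] structure SM : Type where
  val : Nat
  lt : val < 512
deriving DecidableEq

instance : Mul SM := ⟨fun a b => ⟨mulN a.1 b.1, mulN_lt a.2 b.2⟩⟩
instance : One SM := ⟨⟨0, by norm_num⟩⟩
instance : Inv SM := ⟨fun a => ⟨invN a.1, invN_lt a.1⟩⟩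

theorem mul_val (a b : SM) : (a * b).1 = mulN a.1 b.1 := rfl
theorem one_val : (1 : SM).1 = 0 := rfl
theorem inv_val (a : SM) : (a⁻¹).1 = invN a.1 := rfl

instance : Group SM := Group.ofLeftAxioms
  (fun a b c => SM.ext (mulN_assoc a.2 b.2 c.2))
  (fun a => SM.ext (zero_mulN a.1 a.2))
  (fun a => SM.ext (inv_mulN a.1 a.2))

/-- element with a given code -/
def el (n : Nat) (h : n < 512 := by decide) : SM := ⟨n, h⟩

def equivFin : SM ≃ Fin 512 where
  toFun a := ⟨a.1, a.2⟩
  invFun a := ⟨a.1, a.2⟩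
  left_inv _ := rfl
  right_inv _ := rfl

instance : Fintype SM := Fintype.ofEquiv _ equivFin.symm

theorem card_SM : Nat.card SM = 512 := by
  rw [Nat.card_congr equivFin]; simp

theorem forall_SM {p : SM → Prop} (q : Nat → Bool) (h : allLT 512 q = true)
    (hq : ∀ x : SM, q x.1 = true → p x) : ∀ x, p x :=
  fun x => hq x (allLT_spec h x.1 x.2)

end Cfsg.Agent.HSType.Model
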