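import Mathlib
import Cfsg.Agent.HSType.Model

/-!
# Sylow tools for the analysis of groups with a Sylow 2-subgroup of HS type
-/

set_option autoImplicit false

namespace Cfsg.Agent.HSType.Basic

open Cfsg.Agent.HSType.Model

section General

variable {G : Type*} [Group G]

theorem mem_normalizer_of_forall [Finite G] {H : Subgroup G} {g : G}
    (h : ∀ x ∈ H, g * x * g⁻¹ ∈ H) : g ∈ Subgroup.normalizer (H : Set G) := by
  haveI : Finite (H : Set G) := inferInstanceAs (Finite H)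
  exact Subgroup.mem_normalizer_fintype h

theorem conj_mem_of_mem_normalizer {H : Subgroup G} {g : G}
    (h : g ∈ Subgroup.normalizer (H : Set G)) {x : G} (hx : x ∈ H) : g * x * g⁻¹ ∈ H :=
  (Subgroup.mem_normalizer_iff.mp h x).mp hx

/-- relative Sylow theorem -/
theorem rel_sylow [Finite G] {K R0 : Subgroup G} (hRK : R0 ≤ K) (hp : IsPGroup 2 R0)
    (hidx : ¬ 2 ∣ R0.relIndex K) {P : Subgroup G} (hPK : P ≤ K) (hP : IsPGroup 2 P) :
    ∃ k ∈ K, ∀ x ∈ P, k * x * k⁻¹ ∈ R0 := by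
  haveI : Fact (Nat.Prime 2) := ⟨Nat.prime_two⟩
  have hp' : IsPGroup 2 (R0.subgroupOf K) := hp.comap_of_injective K.subtype K.subtype_injective
  let T : Sylow 2 K := hp'.toSylow hidx
  have hP' : IsPGroup 2 (P.subgroupOf K) := hP.comap_of_injective K.subtype K.subtype_injective
  obtain ⟨Q, hQ⟩ := hP'.exists_le_sylow
  obtain ⟨k, hk⟩ := MulAction.exists_smul_eq K Q T
  refine ⟨k, k.2, fun x hx => ?_⟩
  have hxQ : (⟨x, hPK hx⟩ : K) ∈ (Q : Subgroup K) := hQ (by
    rw [Subgroup.mem_subgroupOf]; exact hx)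
  have h1 : k * ⟨x, hPK hx⟩ * k⁻¹ ∈ (T : Subgroup K) := by
    rw [← hk]
    show k * ⟨x, hPK hx⟩ * k⁻¹ ∈ ((k • Q : Sylow 2 K) : Subgroup K)
    rw [Sylow.coe_subgroup_smul]
    exact Subgroup.smul_mem_pointwise_smul _ (MulAut.conj k) _ hxQ
  have h2 : k * ⟨x, hPK hx⟩ * k⁻¹ ∈ R0.subgroupOf K := h1
  rw [Subgroup.mem_subgroupOf] at h2
  exact h2

/-- a 2-element centralizing a Sylow 2-subgroup lies in it -/
theorem mem_sylow_of_centralizes [Finite G] {P : Subgroup G} (hP : IsPGroup 2 P)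
    (hcard : ∀ Q : Subgroup G, IsPGroup 2 Q → Nat.card Q ≤ Nat.card P) {x : G}
    (hx : IsPGroup 2 (Subgroup.zpowers x)) (hc : ∀ y ∈ P, x * y = y * x) : x ∈ P := by
  have hle : Subgroup.zpowers x ≤ Subgroup.normalizer (P : Set G) := by
    rw [Subgroup.zpowers_le]
    apply mem_normalizer_of_forall
    intro y hy
    rw [hc y hy, mul_inv_cancel_right]; exact hy
  have h1 : IsPGroup 2 (Subgroup.zpowers x ⊔ P : Subgroup G) := hx.to_sup_of_normal_right' hP hle
  have h2 := hcard _ h1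
  have h3 : P = Subgroup.zpowers x ⊔ P := Subgroup.eq_of_le_of_card_ge le_sup_right h2
  rw [h3]
  exact Subgroup.mem_sup_left (Subgroup.mem_zpowers x)

end General

/-- A group with a Sylow 2-subgroup identified with the model. -/
structure Ctx (G : Type*) [Group G] where
  ι : SM →* G
  inj : Function.Injective ι
  S : Sylow 2 G
  range : (S : Subgroup G) = ι.range

variable {G : Type*} [Group G]

namespace Ctx

variable (c : Ctx G)

theorem card_S : Nat.card (c.S : Subgroup G) = 512 := by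
  rw [c.range, ← card_SM]
  exact (Nat.card_congr (MonoidHom.ofInjective c.inj).toEquiv).symm

theorem isPGroup_SM : IsPGroup 2 SM := IsPGroup.of_card (n := 9) (by rw [card_SM]; norm_num)

theorem isPGroup_map (R : Subgroup SM) : IsPGroup 2 (R.map c.ι) :=
  (isPGroup_SM.to_subgroup R).map c.ι

theorem card_map (R : Subgroup SM) : Nat.card (R.map c.ι) = Nat.card R :=
  Nat.card_congr (R.equivMapOfInjective c.ι c.inj).symm.toEquiv

include c in
theorem card_le [Finite G] (Q : Subgroup G) (hQ : IsPGroup 2 Q) : Nat.card Q ≤ 512 := by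
  haveI : Fact (Nat.Prime 2) := ⟨Nat.prime_two⟩
  obtain ⟨T, hT⟩ := hQ.exists_le_sylow
  have h1 : Nat.card Q ≤ Nat.card (T : Subgroup G) := Subgroup.card_le_of_le hT
  have h2 : Nat.card (T : Subgroup G) = Nat.card (c.S : Subgroup G) :=
    Nat.card_congr (T.equiv c.S).toEquiv
  rw [h2, c.card_S] at h1
  exact h1

/-- every 2-subgroup is conjugate into the image of the model -/
theorem exists_conj [Finite G] {P : Subgroup G} (hP : IsPGroup 2 P) :
    ∃ g : G, ∀ x ∈ P, ∃ s : SM, c.ι s = g * x * g⁻¹ := by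
  haveI : Fact (Nat.Prime 2) := ⟨Nat.prime_two⟩
  obtain ⟨Q, hQ⟩ := hP.exists_le_sylow
  obtain ⟨k, hk⟩ := MulAction.exists_smul_eq G Q c.S
  refine ⟨k, fun x hx => ?_⟩
  have h1 : k * x * k⁻¹ ∈ (c.S : Subgroup G) := by
    rw [← hk, Sylow.coe_subgroup_smul]
    exact Subgroup.smul_mem_pointwise_smul _ (MulAut.conj k) _ (hQ hx)
  rw [c.range] at h1
  obtain ⟨s, hs⟩ := h1
  exact ⟨s, hs⟩

/-- the same inside a subgroup containing the Sylow subgroup -/
theorem exists_conj_in [Finite G] {K : Subgroup G} (hK : c.ι.range ≤ K) {P : Subgroup G}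
    (hPK : P ≤ K) (hP : IsPGroup 2 P) :
    ∃ k ∈ K, ∀ x ∈ P, ∃ s : SM, c.ι s = k * x * k⁻¹ := by
  haveI : Fact (Nat.Prime 2) := ⟨Nat.prime_two⟩
  have h1 : IsPGroup 2 c.ι.range := by rw [← c.range]; exact c.S.2
  have h2 : ¬ 2 ∣ (c.ι.range).relIndex K := by
    rw [← c.range] at hK ⊢
    intro h
    have h3 : (c.S : Subgroup G).relIndex K ∣ (c.S : Subgroup G).index :=
      Subgroup.relIndex_dvd_index_of_le hK
    exact c.S.not_dvd_index (h.trans h3)
  obtain ⟨k, hk, h⟩ := rel_sylow hK h1 h2 hPK hP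
  exact ⟨k, hk, fun x hx => h x hx⟩

end Ctx

end Cfsg.Agent.HSType.Basic
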