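import Mathlib
import Cfsg.Agent.HSType.Model

/-!
# Kernel-checked facts on the model group `SM` (I): subgroups, centre, `J`
-/

set_option autoImplicit false

namespace Cfsg.Agent.HSType.Facts

open Cfsg.Agent.HSType.Model

/-- lazy implication -/
def imp (a b : Bool) : Bool := Bool.rec true b a
/-- lazy disjunction -/
def orB (a b : Bool) : Bool := Bool.rec b true a
/-- lazy conjunction -/
def andB (a b : Bool) : Bool := Bool.rec false b a

theorem imp_spec {a b : Bool} (h : imp a b = true) (ha : a = true) : b = true := by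
  subst ha; exact h
theorem orB_spec {a b : Bool} (h : orB a b = true) : a = true ∨ b = true := by
  cases a with
  | true => exact Or.inl rfl
  | false => exact Or.inr h
theorem andB_spec {a b : Bool} (h : andB a b = true) : a = true ∧ b = true := by
  cases a with
  | true => exact ⟨rfl, h⟩
  | false => exact absurd h (by exact Bool.false_ne_true)
theorem andB_intro {a b : Bool} (ha : a = true) (hb : b = true) : andB a b = true := by
  subst ha; exact hb

/-- bounded existence, structurally recursive -/
def exLT (n : Nat) (p : Nat → Bool) : Bool :=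
  Nat.rec (motive := fun _ => Bool) false (fun k ih => Bool.rec ih true (p k)) n

theorem exLT_spec {n : Nat} {p : Nat → Bool} (h : exLT n p = true) : ∃ k, k < n ∧ p k = true := by
  induction n with
  | zero => exact (Bool.false_ne_true h).elim
  | succ n ih =>
    have h' : (Bool.rec (exLT n p) true (p n) : Bool) = true := h
    cases hp : p n with
    | false =>
      rw [hp] at h'
      obtain ⟨k, hk, hk'⟩ := ih h'
      exact ⟨k, Nat.lt_succ_of_lt hk, hk'⟩
    | true => exact ⟨n, Nat.lt_succ_self n, hp⟩

/-- commuting test -/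
def com (a b : Nat) : Bool := Nat.beq (mulN a b) (mulN b a)
def inJ (a : Nat) : Bool := Nat.blt a (nat_lit 64)
def inR1 (a : Nat) : Bool := Nat.beq (Nat.land a (nat_lit 64)) (nat_lit 0)
def inR2 (a : Nat) : Bool :=
  Nat.beq (Nat.mul (Nat.land a (nat_lit 64)) (nat_lit 4)) (Nat.land a (nat_lit 256))
def bit (i a : Nat) : Nat := Nat.land (Nat.shiftRight a i) (nat_lit 1)
def inQ (a : Nat) : Bool :=
  andB (Nat.beq (bit 0 a) (bit 2 a)) (Nat.beq (Nat.land a (nat_lit 80)) (nat_lit 0))
def inQ' (a : Nat) : Bool :=
  andB (Nat.beq (Nat.land a (nat_lit 64)) (nat_lit 0))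
    (andB (Nat.beq (bit 4 a) (bit 8 a)) (Nat.beq (Nat.xor (bit 0 a) (bit 2 a)) (bit 7 a)))

theorem ext_beq {x y : SM} (h : Nat.beq x.1 y.1 = true) : x = y := SM.ext (eq_of_beq h)
theorem beq_of_eq {x y : SM} (h : x = y) : Nat.beq x.1 y.1 = true := by
  subst h; exact Nat.beq_refl _
theorem com_of {x y : SM} (h : x * y = y * x) : com x.1 y.1 = true := beq_of_eq h
theorem of_com {x y : SM} (h : com x.1 y.1 = true) : x * y = y * x := ext_beq h

def z0 : SM := el 10
def u0 : SM := el 37
def a0 : SM := el 2
def a1 : SM := el 8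

theorem z0_ne_one : z0 ≠ 1 := by
  intro h; have := congrArg SM.val h; exact absurd this (by decide)

theorem u0_sq : u0 * u0 = z0 := SM.ext (by decide +kernel)
theorem z0_sq : z0 * z0 = 1 := SM.ext (by decide +kernel)
theorem u0_inv : u0⁻¹ = u0 * z0 := by
  rw [inv_eq_iff_mul_eq_one, ← mul_assoc, u0_sq, z0_sq]

/-- the centre of the model -/
theorem z0_central (x : SM) : x * z0 = z0 * x := by
  have h : allLT 512 (fun a => com a 10) = true := by decide +kernel
  exact of_com (y := z0) (allLT_spec h x.1 x.2)

theorem mem_center_of_forall (x : SM) (h : ∀ y : SM, x * y = y * x) : x = 1 ∨ x = z0 := by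
  have hd : allLT 512 (fun a => imp (andB (com a 1) (andB (com a 4) (andB (com a 16)
      (andB (com a 64) (com a 256))))) (orB (Nat.beq a 0) (Nat.beq a 10))) = true := by
    decide +kernel
  have h1 := imp_spec (allLT_spec hd x.1 x.2) (andB_intro (com_of (h (el 1)))
    (andB_intro (com_of (h (el 4))) (andB_intro (com_of (h (el 16)))
      (andB_intro (com_of (h (el 64))) (com_of (h (el 256)))))))
  rcases orB_spec h1 with h2 | h2
  · exact Or.inl (ext_beq (y := 1) h2)
  · exact Or.inr (ext_beq (y := z0) h2)

/-- subgroup of the model from a Boolean predicate -/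
def mkSub (p : Nat → Bool) (h1 : p 0 = true)
    (hm : allLT 512 (fun a => imp (p a) (allLT 512 (fun b => imp (p b) (p (mulN a b))))) = true)
    (hi : allLT 512 (fun a => imp (p a) (p (invN a))) = true) : Subgroup SM where
  carrier := {x | p x.1 = true}
  one_mem' := h1
  mul_mem' {x y} hx hy := imp_spec (allLT_spec (imp_spec (allLT_spec hm x.1 x.2) hx) y.1 y.2) hy
  inv_mem' {x} hx := imp_spec (allLT_spec hi x.1 x.2) hx

/-- the homocyclic subgroup `(Z/4)^3` -/
def J : Subgroup SM := mkSub inJ (by decide +kernel) (by decide +kernel) (by decide +kernel)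
/-- `4 ∘ 2^{1+4}`, the subgroup `O₂(C(z))` -/
def Q : Subgroup SM := mkSub inQ (by decide +kernel) (by decide +kernel) (by decide +kernel)
/-- the second subgroup of type `4 ∘ 2^{1+4}` -/
def Q' : Subgroup SM := mkSub inQ' (by decide +kernel) (by decide +kernel) (by decide +kernel)
/-- `C_S(u)` -/
def R1 : Subgroup SM := Subgroup.centralizer {u0}
/-- `C_S(a)` -/
def R2 : Subgroup SM := Subgroup.centralizer {a0}

theorem mem_J {x : SM} : x ∈ J ↔ inJ x.1 = true := Iff.rfl
theorem mem_Q {x : SM} : x ∈ Q ↔ inQ x.1 = true := Iff.rfl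
theorem mem_Q' {x : SM} : x ∈ Q' ↔ inQ' x.1 = true := Iff.rfl

/-- Boolean equality test -/
def beqB (a b : Bool) : Bool := Bool.rec (Bool.rec true false b) b a
theorem beqB_spec {a b : Bool} (h : beqB a b = true) : a = b := by
  cases a <;> cases b <;> first | rfl | exact (Bool.false_ne_true h).elim

theorem mem_R1 {x : SM} : x ∈ R1 ↔ inR1 x.1 = true := by
  have hd : allLT 512 (fun a => beqB (com a 37) (inR1 a)) = true := by decide +kernel
  have h1 := beqB_spec (allLT_spec hd x.1 x.2)
  rw [← h1]
  unfold R1
  rw [Subgroup.mem_centralizer_singleton_iff]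
  exact ⟨fun h => com_of (y := u0) h, fun h => of_com (y := u0) h⟩

theorem mem_R2 {x : SM} : x ∈ R2 ↔ inR2 x.1 = true := by
  have hd : allLT 512 (fun a => beqB (com a 2) (inR2 a)) = true := by decide +kernel
  have h1 := beqB_spec (allLT_spec hd x.1 x.2)
  rw [← h1]
  unfold R2
  rw [Subgroup.mem_centralizer_singleton_iff]
  exact ⟨fun h => com_of (y := a0) h, fun h => of_com (y := a0) h⟩

/-- counting -/
def cnt (n : Nat) (p : Nat → Bool) : Nat :=
  Nat.rec (motive := fun _ => Nat) 0 (fun k ih => Bool.rec ih (Nat.succ ih) (p k)) n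

theorem cnt_eq (n : Nat) (p : Nat → Bool) :
    cnt n p = ((Finset.range n).filter (fun k => p k = true)).card := by
  induction n with
  | zero => rfl
  | succ n ih =>
    have h : cnt (n + 1) p = (Bool.rec (cnt n p) (Nat.succ (cnt n p)) (p n) : Nat) := rfl
    rw [h, Finset.range_add_one, Finset.filter_insert]
    cases hp : p n with
    | false => simp [ih]
    | true =>
      rw [if_pos rfl, Finset.card_insert_of_notMem (by simp), ih]

theorem card_eq_cnt (p : Nat → Bool) : Nat.card {x : SM // p x.1 = true} = cnt 512 p := by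
  rw [cnt_eq]
  have e : {x : SM // p x.1 = true} ≃ ((Finset.range 512).filter (fun k => p k = true)) :=
    { toFun := fun x => ⟨x.1.1, by
        rw [Finset.mem_filter, Finset.mem_range]; exact ⟨x.1.2, x.2⟩⟩
      invFun := fun k => ⟨⟨k.1, by
        have := k.2; rw [Finset.mem_filter, Finset.mem_range] at this; exact this.1⟩, by
        have := k.2; rw [Finset.mem_filter, Finset.mem_range] at this; exact this.2⟩
      left_inv := fun x => rfl
      right_inv := fun k => rfl }
  rw [Nat.card_congr e, Nat.card_eq_fintype_card, Fintype.card_coe]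

theorem card_sub (R : Subgroup SM) (p : Nat → Bool) (h : ∀ x : SM, x ∈ R ↔ p x.1 = true) :
    Nat.card R = cnt 512 p := by
  rw [← card_eq_cnt]
  exact Nat.card_congr (Equiv.subtypeEquivRight h)

theorem card_J : Nat.card J = 64 := by
  rw [card_sub J inJ (fun _ => Iff.rfl)]; decide +kernel
theorem card_Q : Nat.card Q = 64 := by
  rw [card_sub Q inQ (fun _ => Iff.rfl)]; decide +kernel
theorem card_Q' : Nat.card Q' = 64 := by
  rw [card_sub Q' inQ' (fun _ => Iff.rfl)]; decide +kernel
theorem card_R1 : Nat.card R1 = 256 := by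
  rw [card_sub R1 inR1 (fun _ => mem_R1)]; decide +kernel
theorem card_R2 : Nat.card R2 = 256 := by
  rw [card_sub R2 inR2 (fun _ => mem_R2)]; decide +kernel

end Cfsg.Agent.HSType.Facts
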