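import Mathlib
import Cfsg.Agent.HSType.Facts

/-!
# Kernel-checked facts on the model group `SM` (II): square roots of `z`
-/

set_option autoImplicit false

namespace Cfsg.Agent.HSType.FactsU

open Cfsg.Agent.HSType.Model Cfsg.Agent.HSType.Facts

/-- square test `a² = b` -/
def sqIs (a b : Nat) : Bool := Nat.beq (mulN a a) b

theorem sqIs_of {x y : SM} (h : x * x = y) : sqIs x.1 y.1 = true := beq_of_eq h
theorem of_sqIs {x y : SM} (h : sqIs x.1 y.1 = true) : x * x = y := ext_beq h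

/-- `u` has no square root -/
theorem no_sqrt_u0 (x : SM) : x * x ≠ u0 := by
  have hd : allLT 512 (fun a => imp (sqIs a 37) false) = true := by decide +kernel
  intro h
  exact Bool.false_ne_true (imp_spec (allLT_spec hd x.1 x.2) (sqIs_of (y := u0) h))

/-- type 43: square roots of `z` in `Q - J` over the centre of `D₈` -/
def t43 (a : Nat) : Bool :=
  andB (sqIs a 10) (andB (Nat.beq (Nat.land a (nat_lit 448)) (nat_lit 128)) (inQ a))
/-- type 40: square roots of `z` in `(Q ∪ Q') - R2` -/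
def t40 (a : Nat) : Bool :=
  andB (sqIs a 10) (andB (inR1 a) (Nat.beq (Nat.land a (nat_lit 256)) (nat_lit 256)))

theorem sq_z0_cases (v : SM) (h : v * v = z0) :
    v = u0 ∨ v = u0 * z0 ∨ (∃ x : SM, x * x = v) ∨ t43 v.1 = true ∨ t40 v.1 = true := by
  have hd : allLT 512 (fun a => imp (sqIs a 10) (orB (Nat.beq a 37) (orB (Nat.beq a 47)
      (orB (t43 a) (orB (t40 a) (exLT 512 (fun b => sqIs b a))))))) = true := by decide +kernel
  have h1 := imp_spec (allLT_spec hd v.1 v.2) (sqIs_of (y := z0) h)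
  rcases orB_spec h1 with h2 | h2
  · exact Or.inl (ext_beq (y := u0) h2)
  rcases orB_spec h2 with h3 | h3
  · refine Or.inr (Or.inl ?_)
    have e : u0 * z0 = el 47 := SM.ext (by decide +kernel)
    rw [e]; exact ext_beq (y := el 47) h3
  rcases orB_spec h3 with h4 | h4
  · exact Or.inr (Or.inr (Or.inr (Or.inl h4)))
  rcases orB_spec h4 with h5 | h5
  · exact Or.inr (Or.inr (Or.inr (Or.inr h5)))
  · obtain ⟨k, hk, hk'⟩ := exLT_spec h5
    exact Or.inr (Or.inr (Or.inl ⟨⟨k, hk⟩, of_sqIs hk'⟩))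

/-- squares `1` or `z` -/
def sq1z (a : Nat) : Bool := orB (sqIs a 0) (sqIs a 10)

theorem sq1z_of {x : SM} (h : x * x = 1 ∨ x * x = z0) : sq1z x.1 = true := by
  unfold sq1z
  rcases h with h | h
  · have := sqIs_of (y := 1) h
    have h1 : sqIs x.1 0 = true := this
    rw [h1]; rfl
  · have h1 : sqIs x.1 10 = true := sqIs_of (y := z0) h
    rw [h1]; cases sqIs x.1 0 <;> rfl

theorem of_sq1z {x : SM} (h : sq1z x.1 = true) : x * x = 1 ∨ x * x = z0 := by
  rcases orB_spec h with h | h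
  · exact Or.inl (of_sqIs (y := 1) h)
  · exact Or.inr (of_sqIs (y := z0) h)

theorem sq_Q {x : SM} (h : x ∈ Q) : x * x = 1 ∨ x * x = z0 := by
  have hd : allLT 512 (fun a => imp (inQ a) (sq1z a)) = true := by decide +kernel
  exact of_sq1z (imp_spec (allLT_spec hd x.1 x.2) h)
theorem sq_Q' {x : SM} (h : x ∈ Q') : x * x = 1 ∨ x * x = z0 := by
  have hd : allLT 512 (fun a => imp (inQ' a) (sq1z a)) = true := by decide +kernel
  exact of_sq1z (imp_spec (allLT_spec hd x.1 x.2) h)

theorem Q_le_R1 : Q ≤ R1 := by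
  intro x hx
  have hd : allLT 512 (fun a => imp (inQ a) (inR1 a)) = true := by decide +kernel
  exact mem_R1.mpr (imp_spec (allLT_spec hd x.1 x.2) hx)
theorem Q'_le_R1 : Q' ≤ R1 := by
  intro x hx
  have hd : allLT 512 (fun a => imp (inQ' a) (inR1 a)) = true := by decide +kernel
  exact mem_R1.mpr (imp_spec (allLT_spec hd x.1 x.2) hx)

/-- elements of `R1` with square in `⟨u⟩` lie in `Q ∪ Q'` -/
theorem mem_Q_or_Q' {x : SM} (hR : x ∈ R1)
    (h : x * x = 1 ∨ x * x = z0 ∨ x * x = u0 ∨ x * x = u0 * z0) : x ∈ Q ∨ x ∈ Q' := by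
  have hd : allLT 512 (fun a => imp (andB (inR1 a) (orB (sqIs a 0) (orB (sqIs a 10)
    (orB (sqIs a 37) (sqIs a 47))))) (orB (inQ a) (inQ' a))) = true := by decide +kernel
  have e : u0 * z0 = el 47 := SM.ext (by decide +kernel)
  rw [e] at h
  apply orB_spec (a := inQ x.1) (b := inQ' x.1)
  refine imp_spec (allLT_spec hd x.1 x.2) (andB_intro (mem_R1.mp hR) ?_)
  rcases h with h | h | h | h
  · have h1 : sqIs x.1 0 = true := sqIs_of (y := 1) h
    rw [h1]; rfl
  · have h1 : sqIs x.1 10 = true := sqIs_of (y := z0) h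
    rw [h1]; cases sqIs x.1 0 <;> rfl
  · have h1 : sqIs x.1 37 = true := sqIs_of (y := u0) h
    rw [h1]; cases sqIs x.1 0 <;> cases sqIs x.1 10 <;> rfl
  · have h1 : sqIs x.1 47 = true := sqIs_of (y := el 47) h
    rw [h1]; cases sqIs x.1 0 <;> cases sqIs x.1 10 <;> cases sqIs x.1 37 <;> rfl

/-- membership in `⟨u⟩` -/
def inU (a : Nat) : Bool := orB (Nat.beq a 0) (orB (Nat.beq a 37) (orB (Nat.beq a 10) (Nat.beq a 47)))

theorem inU_spec {x : SM} (h : inU x.1 = true) : x = 1 ∨ x = u0 ∨ x = z0 ∨ x = u0 * z0 := by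
  have e : u0 * z0 = el 47 := SM.ext (by decide +kernel)
  rw [e]
  rcases orB_spec h with h | h
  · exact Or.inl (ext_beq (y := 1) h)
  rcases orB_spec h with h | h
  · exact Or.inr (Or.inl (ext_beq (y := u0) h))
  rcases orB_spec h with h | h
  · exact Or.inr (Or.inr (Or.inl (ext_beq (y := z0) h)))
  · exact Or.inr (Or.inr (Or.inr (ext_beq (y := el 47) h)))

/-- if `w ∈ Q - J` then `C_{R1}(w) ≤ Q` -/
theorem cent_Q {w x : SM} (hw : w ∈ Q) (hwU : inJ w.1 = false) (hx : x ∈ R1) (h : w * x = x * w) :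
    x ∈ Q := by
  have hd : allLT 512 (fun a => imp (inQ a) (orB (inJ a) (allLT 512 (fun b =>
    imp (inR1 b) (imp (com a b) (inQ b)))))) = true := by decide +kernel
  rcases orB_spec (imp_spec (allLT_spec hd w.1 w.2) hw) with h1 | h1
  · rw [hwU] at h1; exact (Bool.false_ne_true h1).elim
  · exact imp_spec (imp_spec (allLT_spec h1 x.1 x.2) (mem_R1.mp hx)) (com_of h)

/-- if `w ∈ Q' - J` then `C_{R1}(w) ≤ Q'` -/
theorem cent_Q' {w x : SM} (hw : w ∈ Q') (hwU : inJ w.1 = false) (hx : x ∈ R1)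
    (h : w * x = x * w) : x ∈ Q' := by
  have hd : allLT 512 (fun a => imp (inQ' a) (orB (inJ a) (allLT 512 (fun b =>
    imp (inR1 b) (imp (com a b) (inQ' b)))))) = true := by decide +kernel
  rcases orB_spec (imp_spec (allLT_spec hd w.1 w.2) hw) with h1 | h1
  · rw [hwU] at h1; exact (Bool.false_ne_true h1).elim
  · exact imp_spec (imp_spec (allLT_spec h1 x.1 x.2) (mem_R1.mp hx)) (com_of h)

/-- noncentral elements of `Q` are inverted mod `z` -/
theorem moved_Q {w : SM} (hw : w ∈ Q) (hwU : inU w.1 = false) :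
    ∃ q ∈ Q, q * w = w * z0 * q := by
  have hd : allLT 512 (fun a => imp (inQ a) (orB (inU a) (exLT 512 (fun b =>
    andB (inQ b) (Nat.beq (mulN b a) (mulN (mulN a 10) b)))))) = true := by decide +kernel
  rcases orB_spec (imp_spec (allLT_spec hd w.1 w.2) hw) with h1 | h1
  · rw [hwU] at h1; exact (Bool.false_ne_true h1).elim
  · obtain ⟨k, hk, hk'⟩ := exLT_spec h1
    obtain ⟨h2, h3⟩ := andB_spec hk'
    exact ⟨⟨k, hk⟩, h2, SM.ext (eq_of_beq h3)⟩

theorem moved_Q' {w : SM} (hw : w ∈ Q') (hwU : inU w.1 = false) :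
    ∃ q ∈ Q', q * w = w * z0 * q := by
  have hd : allLT 512 (fun a => imp (inQ' a) (orB (inU a) (exLT 512 (fun b =>
    andB (inQ' b) (Nat.beq (mulN b a) (mulN (mulN a 10) b)))))) = true := by decide +kernel
  rcases orB_spec (imp_spec (allLT_spec hd w.1 w.2) hw) with h1 | h1
  · rw [hwU] at h1; exact (Bool.false_ne_true h1).elim
  · obtain ⟨k, hk, hk'⟩ := exLT_spec h1
    obtain ⟨h2, h3⟩ := andB_spec hk'
    exact ⟨⟨k, hk⟩, h2, SM.ext (eq_of_beq h3)⟩

/-- commutators of `Q` -/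
theorem comm_Q {x y : SM} (hx : x ∈ Q) (hy : y ∈ Q) : x * y = y * x ∨ x * y = y * x * z0 := by
  have hd : allLT 512 (fun a => imp (inQ a) (allLT 512 (fun b => imp (inQ b)
    (orB (com a b) (Nat.beq (mulN a b) (mulN (mulN b a) 10)))))) = true := by decide +kernel
  rcases orB_spec (imp_spec (allLT_spec (imp_spec (allLT_spec hd x.1 x.2) hx) y.1 y.2) hy)
    with h | h
  · exact Or.inl (of_com h)
  · exact Or.inr (SM.ext (eq_of_beq h))

theorem comm_Q' {x y : SM} (hx : x ∈ Q') (hy : y ∈ Q') :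
    x * y = y * x ∨ x * y = y * x * z0 := by
  have hd : allLT 512 (fun a => imp (inQ' a) (allLT 512 (fun b => imp (inQ' b)
    (orB (com a b) (Nat.beq (mulN a b) (mulN (mulN b a) 10)))))) = true := by decide +kernel
  rcases orB_spec (imp_spec (allLT_spec (imp_spec (allLT_spec hd x.1 x.2) hx) y.1 y.2) hy)
    with h | h
  · exact Or.inl (of_com h)
  · exact Or.inr (SM.ext (eq_of_beq h))

theorem U_le : (∀ x : SM, inU x.1 = true → x ∈ Q) ∧ (∀ x : SM, inU x.1 = true → x ∈ Q') := by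
  constructor
  · have hd : allLT 512 (fun a => imp (inU a) (inQ a)) = true := by decide +kernel
    intro x hx
    exact imp_spec (allLT_spec hd x.1 x.2) hx
  · have hd : allLT 512 (fun a => imp (inU a) (inQ' a)) = true := by decide +kernel
    intro x hx
    exact imp_spec (allLT_spec hd x.1 x.2) hx

/-- elements outside `R1` invert `u` -/
theorem inverts {x : SM} (h : x ∉ R1) : x * u0 = u0 * z0 * x := by
  have hd : allLT 512 (fun a => orB (inR1 a) (Nat.beq (mulN a 37) (mulN 47 a))) = true := by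
    decide +kernel
  have e : u0 * z0 = el 47 := SM.ext (by decide +kernel)
  rw [e]
  rcases orB_spec (allLT_spec hd x.1 x.2) with h1 | h1
  · exact absurd (mem_R1.mpr h1) h
  · exact SM.ext (eq_of_beq h1)

theorem t43_Q {v : SM} (h : t43 v.1 = true) : v ∈ Q := (andB_spec (andB_spec h).2).2
theorem t43_sq {v : SM} (h : t43 v.1 = true) : v * v = z0 := of_sqIs (y := z0) (andB_spec h).1
theorem t43_notU {v : SM} (h : t43 v.1 = true) : inU v.1 = false := by
  have hd : allLT 512 (fun a => imp (t43 a) (beqB (inU a) false)) = true := by decide +kernel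
  exact beqB_spec (imp_spec (allLT_spec hd v.1 v.2) h)
theorem t43_notJ {v : SM} (h : t43 v.1 = true) : inJ v.1 = false := by
  have hd : allLT 512 (fun a => imp (t43 a) (beqB (inJ a) false)) = true := by decide +kernel
  exact beqB_spec (imp_spec (allLT_spec hd v.1 v.2) h)
theorem t40_notJ {v : SM} (h : t40 v.1 = true) : inJ v.1 = false := by
  have hd : allLT 512 (fun a => imp (t40 a) (beqB (inJ a) false)) = true := by decide +kernel
  exact beqB_spec (imp_spec (allLT_spec hd v.1 v.2) h)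
theorem t43_a {v : SM} (h : t43 v.1 = true) : ∃ x : SM, v * x = x * v ∧ x ∉ R1 := by
  have hd : allLT 512 (fun a => imp (t43 a) (exLT 512 (fun b =>
    andB (beqB (inR1 b) false) (com a b)))) = true := by decide +kernel
  obtain ⟨k, hk, hk'⟩ := exLT_spec (imp_spec (allLT_spec hd v.1 v.2) h)
  obtain ⟨h2, h3⟩ := andB_spec hk'
  refine ⟨⟨k, hk⟩, of_com h3, fun hR => ?_⟩
  have := mem_R1.mp hR
  rw [beqB_spec h2] at this
  exact Bool.false_ne_true this
theorem t43_b {v : SM} (h : t43 v.1 = true) :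
    ∃ y : SM, v * y = y * v ∧ y * y ≠ 1 ∧ y * y ≠ z0 := by
  have hd : allLT 512 (fun a => imp (t43 a) (exLT 512 (fun b =>
    andB (beqB (sq1z b) false) (com a b)))) = true := by decide +kernel
  obtain ⟨k, hk, hk'⟩ := exLT_spec (imp_spec (allLT_spec hd v.1 v.2) h)
  obtain ⟨h2, h3⟩ := andB_spec hk'
  refine ⟨⟨k, hk⟩, of_com h3, fun h4 => ?_, fun h4 => ?_⟩
  · have := sq1z_of (x := ⟨k, hk⟩) (Or.inl h4)
    rw [beqB_spec h2] at this; exact Bool.false_ne_true this
  · have := sq1z_of (x := ⟨k, hk⟩) (Or.inr h4)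
    rw [beqB_spec h2] at this; exact Bool.false_ne_true this

theorem t40_sq {v : SM} (h : t40 v.1 = true) : v * v = z0 := of_sqIs (y := z0) (andB_spec h).1
theorem t40_notU {v : SM} (h : t40 v.1 = true) : inU v.1 = false := by
  have hd : allLT 512 (fun a => imp (t40 a) (beqB (inU a) false)) = true := by decide +kernel
  exact beqB_spec (imp_spec (allLT_spec hd v.1 v.2) h)
theorem t40_R1 {v : SM} (h : t40 v.1 = true) : v ∈ R1 := mem_R1.mpr (andB_spec (andB_spec h).2).1

theorem t40_cent {v : SM} (h : t40 v.1 = true) :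
    (v ∈ Q ∧ ∀ x : SM, v * x = x * v → x ∈ Q) ∨ (v ∈ Q' ∧ ∀ x : SM, v * x = x * v → x ∈ Q') := by
  have hd : allLT 512 (fun a => imp (t40 a) (orB
    (andB (inQ a) (allLT 512 (fun b => imp (com a b) (inQ b))))
    (andB (inQ' a) (allLT 512 (fun b => imp (com a b) (inQ' b)))))) = true := by decide +kernel
  rcases orB_spec (imp_spec (allLT_spec hd v.1 v.2) h) with h1 | h1
  · obtain ⟨h2, h3⟩ := andB_spec h1
    exact Or.inl ⟨h2, fun x hx => imp_spec (allLT_spec h3 x.1 x.2) (com_of hx)⟩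
  · obtain ⟨h2, h3⟩ := andB_spec h1
    exact Or.inr ⟨h2, fun x hx => imp_spec (allLT_spec h3 x.1 x.2) (com_of hx)⟩

theorem t40_norm {v g : SM} (h : t40 v.1 = true) (hg : g * v = v * z0 * g) :
    (v ∈ Q → g ∈ Q) ∧ (v ∈ Q' → g ∈ Q') := by
  have hd : allLT 512 (fun a => imp (t40 a) (allLT 512 (fun b =>
    imp (Nat.beq (mulN b a) (mulN (mulN a 10) b))
      (andB (imp (inQ a) (inQ b)) (imp (inQ' a) (inQ' b)))))) = true := by decide +kernel
  have h1 := imp_spec (allLT_spec (imp_spec (allLT_spec hd v.1 v.2) h) g.1 g.2) (beq_of_eq hg)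
  exact ⟨fun hv => imp_spec (andB_spec h1).1 hv, fun hv => imp_spec (andB_spec h1).2 hv⟩

theorem t40_bicent {v x : SM} (h : t40 v.1 = true) (hx2 : x * x = z0)
    (hx : ∀ y : SM, v * y = y * v → x * y = y * x) :
    x = u0 ∨ x = u0 * z0 ∨ x = v ∨ x = v * z0 := by
  have hd : allLT 512 (fun a => imp (t40 a) (allLT 512 (fun b => imp (sqIs b 10) (orB
    (Nat.beq b 37) (orB (Nat.beq b 47) (orB (Nat.beq b a) (orB (Nat.beq b (mulN a 10))
      (exLT 512 (fun e => andB (com a e) (beqB (com b e) false)))))))))) = true := by decide +kernel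
  have e : u0 * z0 = el 47 := SM.ext (by decide +kernel)
  rw [e]
  have h1 := imp_spec (allLT_spec (imp_spec (allLT_spec hd v.1 v.2) h) x.1 x.2)
    (sqIs_of (y := z0) hx2)
  rcases orB_spec h1 with h2 | h2
  · exact Or.inl (ext_beq (y := u0) h2)
  rcases orB_spec h2 with h3 | h3
  · exact Or.inr (Or.inl (ext_beq (y := el 47) h3))
  rcases orB_spec h3 with h4 | h4
  · exact Or.inr (Or.inr (Or.inl (ext_beq h4)))
  rcases orB_spec h4 with h5 | h5
  · exact Or.inr (Or.inr (Or.inr (SM.ext (eq_of_beq h5))))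
  · obtain ⟨k, hk, hk'⟩ := exLT_spec h5
    obtain ⟨h6, h7⟩ := andB_spec hk'
    have h8 := com_of (hx ⟨k, hk⟩ (of_com (y := ⟨k, hk⟩) h6))
    rw [show com x.1 (SM.mk k hk).1 = com x.1 k from rfl, beqB_spec h7] at h8
    exact (Bool.false_ne_true h8).elim

theorem t40_card {v : SM} (h : t40 v.1 = true) :
    Nat.card (Subgroup.centralizer ({v} : Set SM)) = 32 := by
  have hd : allLT 512 (fun a => imp (t40 a) (Nat.beq (cnt 512 (fun b => com b a)) 32)) = true := by
    decide +kernel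
  have h1 := imp_spec (allLT_spec hd v.1 v.2) h
  rw [card_sub _ (fun b => com b v.1) (fun x => by
    rw [Subgroup.mem_centralizer_singleton_iff]
    exact ⟨fun h => com_of h, fun h => of_com h⟩)]
  exact eq_of_beq h1

end Cfsg.Agent.HSType.FactsU
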