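import Mathlib
import Cfsg.Agent.HSType.Basic
import Cfsg.Agent.HSType.FactsU

/-!
# Transport of subgroups of the model, large 2-subgroups centralizing an element
-/

set_option autoImplicit false
set_option linter.style.haveILetI false

namespace Cfsg.Agent.HSType.Trans

open Cfsg.Agent.HSType.Model Cfsg.Agent.HSType.Facts Cfsg.Agent.HSType.FactsU
  Cfsg.Agent.HSType.Basic

variable {G : Type*} [Group G] (c : Ctx G)

/-- `C_G(z)` -/
def Cz : Subgroup G := Subgroup.centralizer {c.ι z0}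

theorem mem_Cz {g : G} : g ∈ Cz c ↔ g * c.ι z0 * g⁻¹ = c.ι z0 := by
  unfold Cz
  rw [Subgroup.mem_centralizer_singleton_iff, mul_inv_eq_iff_eq_mul]

theorem range_le_Cz : c.ι.range ≤ Cz c := by
  rintro _ ⟨s, rfl⟩
  rw [mem_Cz, mul_inv_eq_iff_eq_mul, ← map_mul, z0_central, map_mul]

/-- transport by conjugation -/
def tr (g : G) (X : Subgroup SM) : Subgroup SM :=
  ((X.map c.ι).map (MulAut.conj g).toMonoidHom).comap c.ι

theorem mem_tr {g : G} {X : Subgroup SM} {y : SM} :
    y ∈ tr c g X ↔ ∃ x ∈ X, g * c.ι x * g⁻¹ = c.ι y := by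
  unfold tr
  rw [Subgroup.mem_comap, Subgroup.mem_map]
  constructor
  · rintro ⟨w, hw, h⟩
    rw [Subgroup.mem_map] at hw
    obtain ⟨x, hx, rfl⟩ := hw
    exact ⟨x, hx, h⟩
  · rintro ⟨x, hx, h⟩
    exact ⟨c.ι x, Subgroup.mem_map_of_mem _ hx, h⟩

theorem conj_map_mul (g : G) (a b : G) : g * (a * b) * g⁻¹ = g * a * g⁻¹ * (g * b * g⁻¹) := by
  group

theorem conj_inj {g a b : G} (h : g * a * g⁻¹ = g * b * g⁻¹) : a = b :=
  mul_left_cancel (mul_right_cancel h)

theorem card_tr [Finite G] {g : G} {X : Subgroup SM}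
    (h : ∀ x ∈ X, ∃ y, g * c.ι x * g⁻¹ = c.ι y) : Nat.card (tr c g X) = Nat.card X := by
  have h1 : ((X.map c.ι).map (MulAut.conj g).toMonoidHom) ≤ c.ι.range := by
    intro w hw
    rw [Subgroup.mem_map] at hw
    obtain ⟨v, hv, rfl⟩ := hw
    rw [Subgroup.mem_map] at hv
    obtain ⟨x, hx, rfl⟩ := hv
    obtain ⟨y, hy⟩ := h x hx
    exact ⟨y, hy.symm⟩
  have h2 : (tr c g X).map c.ι = (X.map c.ι).map (MulAut.conj g).toMonoidHom := by
    unfold tr
    rw [Subgroup.map_comap_eq, inf_eq_right.mpr h1]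
  rw [← c.card_map, h2, Subgroup.card_map_of_injective (MulAut.conj g).injective, c.card_map]

/-- a 2-subgroup of order 512 centralizing an element of the model -/
theorem central_of_big [Finite G] {P : Subgroup G} (hP : IsPGroup 2 P)
    (hcard : Nat.card P = 512) :
    ∃ g : G, ∀ x : SM, (∀ p ∈ P, c.ι x * p = p * c.ι x) →
      (g * c.ι x * g⁻¹ = 1 ∨ g * c.ι x * g⁻¹ = c.ι z0) := by
  obtain ⟨g, hg⟩ := c.exists_conj hP
  refine ⟨g, fun x hx => ?_⟩
  -- `x ∈ P`
  have hxP : c.ι x ∈ P := by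
    apply mem_sylow_of_centralizes hP (fun Q hQ => by rw [hcard]; exact c.card_le Q hQ) _ hx
    have h1 : IsPGroup 2 (Subgroup.zpowers x) := Ctx.isPGroup_SM.to_subgroup _
    have h2 := h1.map c.ι
    rwa [MonoidHom.map_zpowers] at h2
  obtain ⟨s, hs⟩ := hg _ hxP
  -- image of `P` is everything
  have hmap : P.map (MulAut.conj g).toMonoidHom = c.ι.range := by
    apply Subgroup.eq_of_le_of_card_ge
    · intro w hw
      rw [Subgroup.mem_map] at hw
      obtain ⟨p, hp, rfl⟩ := hw
      obtain ⟨t, ht⟩ := hg p hp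
      exact ⟨t, ht⟩
    · rw [Subgroup.card_map_of_injective (MulAut.conj g).injective, hcard, ← c.range, c.card_S]
  have hsc : ∀ t : SM, s * t = t * s := by
    intro t
    have ht : c.ι t ∈ P.map (MulAut.conj g).toMonoidHom := by rw [hmap]; exact ⟨t, rfl⟩
    rw [Subgroup.mem_map] at ht
    obtain ⟨p, hp, hpt⟩ := ht
    have hpt' : g * p * g⁻¹ = c.ι t := hpt
    apply c.inj
    rw [map_mul, map_mul, hs, ← hpt', ← conj_map_mul, hx p hp, conj_map_mul]
  rcases mem_center_of_forall s hsc with h | h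
  · left; rw [← hs, h, map_one]
  · right; rw [← hs, h]

/-- criterion for a subgroup of order 256 of the model to be Sylow in a subgroup -/
theorem not_dvd_relIndex [Finite G] (K : Subgroup G) (R : Subgroup SM) (hR : Nat.card R = 256)
    (hRK : R.map c.ι ≤ K)
    (hno : ∀ P : Subgroup G, P ≤ K → IsPGroup 2 P → Nat.card P ≠ 512) :
    ¬ 2 ∣ (R.map c.ι).relIndex K := by
  haveI : Fact (Nat.Prime 2) := ⟨Nat.prime_two⟩
  have hp : IsPGroup 2 ((R.map c.ι).subgroupOf K) :=
    (c.isPGroup_map R).comap_of_injective K.subtype K.subtype_injective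
  obtain ⟨Q, hQ⟩ := hp.exists_le_sylow
  have hQp : IsPGroup 2 ((Q : Subgroup K).map K.subtype) := Q.2.map _
  have hQc : Nat.card ((Q : Subgroup K).map K.subtype) = Nat.card (Q : Subgroup K) :=
    Subgroup.card_map_of_injective K.subtype_injective
  have hle : (Q : Subgroup K).map K.subtype ≤ K := Subgroup.map_subtype_le _
  have h512 := c.card_le _ hQp
  have hne := hno _ hle hQp
  have hR' : Nat.card ((R.map c.ι).subgroupOf K) = 256 := by
    rw [← hR, ← c.card_map R]
    exact Nat.card_congr (Subgroup.subgroupOfEquivOfLe hRK).toEquiv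
  have hge : 256 ≤ Nat.card (Q : Subgroup K) := by
    rw [← hR']; exact Subgroup.card_le_of_le hQ
  obtain ⟨n, hn⟩ := IsPGroup.iff_card.mp Q.2
  rw [hQc] at h512 hne
  have hn8 : n = 8 := by
    rw [hn] at h512 hne hge
    have h1 : n ≤ 9 := by
      by_contra hcon
      have : 2 ^ 10 ≤ 2 ^ n := Nat.pow_le_pow_right (by norm_num) (by omega)
      norm_num at this; omega
    have h2 : 8 ≤ n := by
      by_contra hcon
      have : 2 ^ n ≤ 2 ^ 7 := Nat.pow_le_pow_right (by norm_num) (by omega)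
      norm_num at this; omega
    have h3 : n ≠ 9 := by rintro rfl; norm_num at hne
    omega
  have heq : (R.map c.ι).subgroupOf K = (Q : Subgroup K) := by
    apply Subgroup.eq_of_le_of_card_ge hQ
    rw [hR', hn, hn8]; norm_num
  unfold Subgroup.relIndex
  rw [heq]
  exact Q.not_dvd_index

end Cfsg.Agent.HSType.Trans
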