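import Mathlib
import Cfsg.Agent.HSType.Trans

/-!
# Conjugates of `u` in `S` under `C_G(z)`

`u ∈ S` is the element of order 4 generating `Z(C_S(u))`, `u² = z`.  Result `u_isolated`: a
`C_G(z)`-conjugate of `u` lying in `S` is `u` or `u⁻¹`.
-/

set_option autoImplicit false
set_option linter.style.haveILetI false

namespace Cfsg.Agent.HSType.UFusion

open Cfsg.Agent.HSType.Model Cfsg.Agent.HSType.Facts Cfsg.Agent.HSType.FactsU
  Cfsg.Agent.HSType.Basic Cfsg.Agent.HSType.Trans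

variable {G : Type*} [Group G] (c : Ctx G)

theorem u_sylow [Finite G] :
    ¬ 2 ∣ (R1.map c.ι).relIndex (Subgroup.centralizer {c.ι u0}) := by
  apply not_dvd_relIndex c _ R1 card_R1
  · rintro _ ⟨x, hx, rfl⟩
    rw [Subgroup.mem_centralizer_singleton_iff, ← map_mul, ← map_mul]
    have h := Subgroup.mem_centralizer_singleton_iff.mp hx
    rw [h]
  · intro P hPK hP h512
    obtain ⟨g, hg⟩ := central_of_big c hP h512
    have h1 := hg u0 (fun p hp => by
      have h := Subgroup.mem_centralizer_singleton_iff.mp (hPK hp)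
      exact h.symm)
    have h2 : (g * c.ι u0 * g⁻¹) * (g * c.ι u0 * g⁻¹) = 1 := by
      rcases h1 with h | h
      · rw [h, mul_one]
      · rw [h, ← map_mul, z0_sq, map_one]
    rw [← conj_map_mul, ← map_mul, u0_sq] at h2
    have h3 : c.ι z0 = c.ι 1 := by
      rw [map_one]; apply conj_inj (g := g); rw [h2]; group
    exact z0_ne_one (c.inj h3)

/-- fusion of `v` back to `u`, carrying `C_S(v)` into `R1` -/
theorem back [Finite G] {g : G} {v : SM} (hg : g * c.ι u0 * g⁻¹ = c.ι v) (hgz : g ∈ Cz c) :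
    ∃ h ∈ Cz c, h * c.ι v * h⁻¹ = c.ι u0 ∧
      ∀ x : SM, v * x = x * v → ∃ y ∈ R1, h * c.ι x * h⁻¹ = c.ι y := by
  set P : Subgroup G :=
    ((Subgroup.centralizer ({v} : Set SM)).map c.ι).map (MulAut.conj g⁻¹).toMonoidHom with hPdef
  have hP : IsPGroup 2 P := (c.isPGroup_map _).map _
  have hgv : g⁻¹ * c.ι v * g = c.ι u0 := by rw [← hg]; group
  have hPK : P ≤ Subgroup.centralizer {c.ι u0} := by
    rintro _ ⟨_, ⟨x, hx, rfl⟩, rfl⟩
    have hx' := Subgroup.mem_centralizer_singleton_iff.mp hx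
    rw [Subgroup.mem_centralizer_singleton_iff]
    show g⁻¹ * c.ι x * g⁻¹⁻¹ * c.ι u0 = c.ι u0 * (g⁻¹ * c.ι x * g⁻¹⁻¹)
    rw [← hgv, inv_inv]
    have h1 : c.ι x * c.ι v = c.ι v * c.ι x := by rw [← map_mul, ← map_mul, hx']
    calc g⁻¹ * c.ι x * g * (g⁻¹ * c.ι v * g) = g⁻¹ * (c.ι x * c.ι v) * g := by group
      _ = g⁻¹ * c.ι v * g * (g⁻¹ * c.ι x * g) := by rw [h1]; group
  have hR1K : R1.map c.ι ≤ Subgroup.centralizer {c.ι u0} := by
    rintro _ ⟨x, hx, rfl⟩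
    rw [Subgroup.mem_centralizer_singleton_iff, ← map_mul, ← map_mul]
    have h := Subgroup.mem_centralizer_singleton_iff.mp hx
    rw [h]
  obtain ⟨k, hk, hkP⟩ := rel_sylow hR1K (c.isPGroup_map R1) (u_sylow c) hPK hP
  have hku : k * c.ι u0 * k⁻¹ = c.ι u0 := by
    have h := Subgroup.mem_centralizer_singleton_iff.mp hk
    rw [h, mul_inv_cancel_right]
  have hkz : k ∈ Cz c := by
    rw [mem_Cz, ← u0_sq, map_mul, conj_map_mul, hku]
  refine ⟨k * g⁻¹, (Cz c).mul_mem hkz ((Cz c).inv_mem hgz), ?_, ?_⟩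
  · rw [mul_inv_rev, inv_inv]
    calc k * g⁻¹ * c.ι v * (g * k⁻¹) = k * (g⁻¹ * c.ι v * g) * k⁻¹ := by group
      _ = c.ι u0 := by rw [hgv, hku]
  · intro x hx
    have h1 : g⁻¹ * c.ι x * g⁻¹⁻¹ ∈ P :=
      ⟨c.ι x, ⟨x, Subgroup.mem_centralizer_singleton_iff.mpr hx.symm, rfl⟩, rfl⟩
    obtain ⟨y, hy, hy'⟩ := hkP _ h1
    refine ⟨y, hy, ?_⟩
    rw [hy', mul_inv_rev]
    group

/-- the square root of a `C_G(z)`-conjugate of `u` -/
theorem no_sqrt [Finite G] {g : G} {v : SM} (hg : g * c.ι u0 * g⁻¹ = c.ι v) (hgz : g ∈ Cz c)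
    (x : SM) : x * x ≠ v := by
  intro hx
  obtain ⟨h, -, hv, hC⟩ := back c hg hgz
  obtain ⟨y, -, hy⟩ := hC x (by rw [← hx, mul_assoc])
  apply no_sqrt_u0 y
  apply c.inj
  rw [map_mul, ← hy, ← conj_map_mul, ← map_mul, hx, hv]

theorem sq_of_conj {g : G} {v : SM} (hg : g * c.ι u0 * g⁻¹ = c.ι v) (hgz : g ∈ Cz c) :
    v * v = z0 := by
  apply c.inj
  rw [map_mul, ← hg, ← conj_map_mul, ← map_mul, u0_sq]
  exact (mem_Cz c).mp hgz

theorem u0_mul_z0_notmem : inU (u0 * z0).1 = true := by decide +kernel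
theorem u0_inU : inU u0.1 = true := by decide +kernel

theorem u0_ne (w : SM) (hw : inU w.1 = false) : w ≠ u0 ∧ w ≠ u0 * z0 ∧ w ≠ 1 ∧ w ≠ z0 := by
  refine ⟨?_, ?_, ?_, ?_⟩ <;> rintro rfl
  · exact absurd hw (by decide +kernel)
  · exact absurd hw (by decide +kernel)
  · exact absurd hw (by decide +kernel)
  · exact absurd hw (by decide +kernel)

/-- squares of the transported group -/
theorem tr_le_Q_or [Finite G] {h : G} (hz : h ∈ Cz c) {X : Subgroup SM}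
    (hR : ∀ x ∈ X, ∃ y ∈ R1, h * c.ι x * h⁻¹ = c.ι y)
    (hsq : ∀ x ∈ X, x * x = 1 ∨ x * x = z0) : tr c h X ≤ Q ∨ tr c h X ≤ Q' := by
  rw [← SubgroupClass.subset_union]
  intro y hy
  obtain ⟨x, hx, hxy⟩ := (mem_tr c).mp hy
  obtain ⟨y', hy', hxy'⟩ := hR x hx
  have e : y = y' := c.inj (by rw [← hxy, hxy'])
  subst e
  have hy2 : y * y = 1 ∨ y * y = z0 := by
    rcases hsq x hx with h1 | h1
    · left; apply c.inj
      rw [map_mul, ← hxy, ← conj_map_mul, ← map_mul, h1, map_one]; group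
    · right; apply c.inj
      rw [map_mul, ← hxy, ← conj_map_mul, ← map_mul, h1]
      exact (mem_Cz c).mp hz
  exact mem_Q_or_Q' hy' (by rcases hy2 with h | h <;> simp [h])

/-- abstract package for `B ∈ {Q, Q'}` -/
structure QLike (B : Subgroup SM) : Prop where
  le : B ≤ R1
  sq : ∀ x ∈ B, x * x = 1 ∨ x * x = z0
  cent : ∀ w ∈ B, inJ w.1 = false → ∀ x ∈ R1, w * x = x * w → x ∈ B
  moved : ∀ w ∈ B, inU w.1 = false → ∃ q ∈ B, q * w = w * z0 * q
  comm : ∀ x ∈ B, ∀ y ∈ B, x * y = y * x ∨ x * y = y * x * z0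
  U : ∀ x : SM, inU x.1 = true → x ∈ B
  card : Nat.card B = 64

theorem qlike_Q : QLike Q :=
  ⟨Q_le_R1, fun _ h => sq_Q h, fun _ h1 h2 _ h3 h4 => cent_Q h1 h2 h3 h4,
    fun _ h1 h2 => moved_Q h1 h2, fun _ h1 _ h2 => comm_Q h1 h2, U_le.1, card_Q⟩
theorem qlike_Q' : QLike Q' :=
  ⟨Q'_le_R1, fun _ h => sq_Q' h, fun _ h1 h2 _ h3 h4 => cent_Q' h1 h2 h3 h4,
    fun _ h1 h2 => moved_Q' h1 h2, fun _ h1 _ h2 => comm_Q' h1 h2, U_le.2, card_Q'⟩

theorem tr_le_qlike [Finite G] {h : G} (hz : h ∈ Cz c) {X : Subgroup SM}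
    (hR : ∀ x ∈ X, ∃ y ∈ R1, h * c.ι x * h⁻¹ = c.ι y)
    (hsq : ∀ x ∈ X, x * x = 1 ∨ x * x = z0) : ∃ B, QLike B ∧ tr c h X ≤ B := by
  rcases tr_le_Q_or c hz hR hsq with h1 | h1
  · exact ⟨Q, qlike_Q, h1⟩
  · exact ⟨Q', qlike_Q', h1⟩

/-- exclusion of type 43 -/
theorem not_t43 [Finite G] {g : G} {v : SM} (hg : g * c.ι u0 * g⁻¹ = c.ι v) (hgz : g ∈ Cz c) :
    t43 v.1 ≠ true := by
  intro ht
  obtain ⟨h, hz, hv, hC⟩ := back c hg hgz
  have hzz := (mem_Cz c).mp hz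
  have hvQ := t43_Q ht
  have hvR : v ∈ R1 := Q_le_R1 hvQ
  have hvu : v * u0 = u0 * v := Subgroup.mem_centralizer_singleton_iff.mp hvR
  -- the subgroup `C(v) ∩ R1`
  set X : Subgroup SM := Subgroup.centralizer {v} ⊓ R1 with hX
  have hXv : ∀ x ∈ X, v * x = x * v := fun x hx =>
    (Subgroup.mem_centralizer_singleton_iff.mp hx.1).symm
  obtain ⟨B, hB, hle⟩ := tr_le_qlike c hz (X := X) (fun x hx => hC x (hXv x hx))
    (fun x hx => sq_Q (cent_Q hvQ (t43_notJ ht) hx.2 (hXv x hx)))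
  -- `w = φ(u)`
  obtain ⟨w, hw, hwu⟩ := hC u0 hvu
  have hwB : w ∈ B := hle ((mem_tr c).mpr ⟨u0, ⟨Subgroup.mem_centralizer_singleton_iff.mpr hvu.symm,
    mem_R1.mpr (by decide +kernel)⟩, hwu⟩)
  have hwsq := sq_of_conj c hwu hz
  have hwU : inU w.1 = false := by
    cases hc : inU w.1 with
    | false => rfl
    | true =>
      exfalso
      have hne := u0_ne v (t43_notU ht)
      rcases inU_spec hc with h1 | h1 | h1 | h1
      · rw [h1, mul_one] at hwsq; exact z0_ne_one hwsq.symm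
      · apply hne.1; apply c.inj
        apply conj_inj (g := h); rw [hv, hwu, h1]
      · rw [h1, z0_sq] at hwsq; exact z0_ne_one hwsq.symm
      · apply hne.2.1
        apply c.inj; apply conj_inj (g := h)
        rw [hv, map_mul, conj_map_mul, hwu, hzz, ← map_mul, h1, mul_assoc, z0_sq, mul_one]
  have hwJ : inJ w.1 = false := by
    rcases sq_z0_cases w hwsq with h1 | h1 | ⟨x, hx⟩ | h1 | h1
    · rw [h1] at hwU; exact absurd hwU (by decide +kernel)
    · rw [h1] at hwU; exact absurd hwU (by decide +kernel)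
    · exact absurd hx (no_sqrt c hwu hz x)
    · exact t43_notJ h1
    · exact t40_notJ h1
  obtain ⟨q, hq, hqw⟩ := hB.moved w hwB hwU
  -- everything goes into `B`
  have hall : ∀ y : SM, v * y = y * v → ∃ y' ∈ B, h * c.ι y * h⁻¹ = c.ι y' := by
    intro y hy
    obtain ⟨y', hy', hyy⟩ := hC y hy
    refine ⟨y', ?_, hyy⟩
    by_cases hyR : y ∈ R1
    · exact hle ((mem_tr c).mpr ⟨y, ⟨Subgroup.mem_centralizer_singleton_iff.mpr hy.symm, hyR⟩, hyy⟩)
    · have h1 := inverts hyR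
      have h2 : y' * w = w * z0 * y' := by
        apply c.inj
        rw [map_mul, map_mul, map_mul, ← hyy, ← hwu, ← conj_map_mul, ← map_mul, h1, map_mul,
          map_mul, conj_map_mul, conj_map_mul, hzz]
      have h3 : w * (q⁻¹ * y') = (q⁻¹ * y') * w := by
        rw [mul_assoc, h2]
        have h4 : q⁻¹ * (w * z0) = w * q⁻¹ := by
          rw [inv_mul_eq_iff_eq_mul, ← mul_assoc, eq_mul_inv_iff_mul_eq, ← hqw]
        rw [← mul_assoc q⁻¹, h4, mul_assoc]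
      have h5 : q⁻¹ * y' ∈ B := hB.cent w hwB hwJ _
        (R1.mul_mem (R1.inv_mem (hB.le hq)) hy') h3
      have h6 : y' = q * (q⁻¹ * y') := by group
      rw [h6]; exact B.mul_mem hq h5
  obtain ⟨y, hy, hy1, hyz⟩ := t43_b ht
  obtain ⟨y', hy', hyy⟩ := hall y hy
  rcases hB.sq y' hy' with h1 | h1
  · apply hy1; apply c.inj
    apply conj_inj (g := h)
    rw [map_mul, conj_map_mul, hyy, ← map_mul, h1, map_one]; group
  · apply hyz; apply c.inj
    apply conj_inj (g := h)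
    rw [map_mul, conj_map_mul, hyy, ← map_mul, h1, hzz]

/-- remaining possibilities -/
theorem cases_of_conj [Finite G] {g : G} {v : SM} (hg : g * c.ι u0 * g⁻¹ = c.ι v)
    (hgz : g ∈ Cz c) : v = u0 ∨ v = u0 * z0 ∨ t40 v.1 = true := by
  rcases sq_z0_cases v (sq_of_conj c hg hgz) with h | h | ⟨x, hx⟩ | h | h
  · exact Or.inl h
  · exact Or.inr (Or.inl h)
  · exact absurd hx (no_sqrt c hg hgz x)
  · exact absurd h (not_t43 c hg hgz)
  · exact Or.inr (Or.inr h)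

end Cfsg.Agent.HSType.UFusion
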