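import Mathlib
import Cfsg.Agent.HSType.UFusion

/-!
# Interface definitions for the pieces of the HS-type analysis

Everything is phrased through a context `c : Ctx G` (`c.ι : SM →* G` injective with image a Sylow
2-subgroup).  `z0, u0, a0, a1 : SM`, subgroups `J, Q, Q', R1, R2` of `SM` (module `Facts`).
-/

set_option autoImplicit false

namespace Cfsg.Agent.HSType.Spec

open Cfsg.Agent.HSType.Model Cfsg.Agent.HSType.Facts Cfsg.Agent.HSType.FactsU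
  Cfsg.Agent.HSType.Basic Cfsg.Agent.HSType.Trans

/-- `Ω₁(J)`, order 8: codes `0,2,8,10,32,34,40,42` -/
def inOm (a : Nat) : Bool := Nat.beq (Nat.land a (nat_lit 469)) (nat_lit 0)
def Om : Subgroup SM := mkSub inOm (by decide +kernel) (by decide +kernel) (by decide +kernel)
/-- `V = Z(R2) = {1, a, a z, z}`: codes `0,2,8,10` -/
def inV (a : Nat) : Bool := Nat.beq (Nat.land a (nat_lit 501)) (nat_lit 0)
def V : Subgroup SM := mkSub inV (by decide +kernel) (by decide +kernel) (by decide +kernel)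
/-- `⟨u⟩` -/
def U : Subgroup SM := mkSub inU (by decide +kernel) (by decide +kernel) (by decide +kernel)
/-- `Q ∩ Q' = Q ∩ J = Ω₁(J)⟨u⟩`, order 16 -/
def OmU : Subgroup SM := Q ⊓ Q'

variable {G : Type*} [Group G] (c : Ctx G)

/-- the only `C_G(z)`-conjugates of `u` in `S` are `u, u⁻¹ = u z` -/
def IsolU : Prop := ∀ g ∈ Cz c, ∀ v : SM, g * c.ι u0 * g⁻¹ = c.ι v → v = u0 ∨ v = u0 * z0

/-- `N` is a normal subgroup of `C_G(z)` of odd order with `⟨u⟩N` normal in `C_G(z)` -/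
structure ZN (N : Subgroup G) : Prop where
  le : N ≤ Cz c
  odd : Odd (Nat.card N)
  norm : ∀ g ∈ Cz c, ∀ n ∈ N, g * n * g⁻¹ ∈ N
  mv : ∀ g ∈ Cz c, ∃ n ∈ N, g * c.ι u0 * g⁻¹ = n * c.ι u0 ∨ g * c.ι u0 * g⁻¹ = n * c.ι (u0 * z0)

/-- `J` is weakly closed -/
def WJ : Prop := ∀ g : G, (∀ x ∈ J, ∃ y : SM, g * c.ι x * g⁻¹ = c.ι y) →
  ∀ x ∈ J, ∃ y ∈ J, g * c.ι x * g⁻¹ = c.ι y

/-- `g` normalizes the image of `X` -/
def Nm (X : Subgroup SM) (g : G) : Prop := ∀ x ∈ X, ∃ y ∈ X, g * c.ι x * g⁻¹ = c.ι y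

/-- `N_G(R2) ∩ N_G(J)` contains elements moving `a` and `a z` to `z` and swapping `a`, `z` -/
structure SwapV : Prop where
  toz : ∀ w ∈ V, w ≠ 1 → ∃ n : G, Nm c J n ∧ Nm c R2 n ∧ Nm c V n ∧ n * c.ι w * n⁻¹ = c.ι z0
  swap : ∃ n : G, Nm c J n ∧ Nm c R2 n ∧ Nm c V n ∧ n * c.ι a0 * n⁻¹ = c.ι z0 ∧
    n * c.ι z0 * n⁻¹ = c.ι a0

/-- `K = C_G(V)` -/
def KV : Subgroup G := Subgroup.centralizer {c.ι z0, c.ι a0}

/-- `C_G(V)` is 2-nilpotent with normal 2-complement `N` and Sylow 2-subgroup `R2` -/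
structure KN (N : Subgroup G) : Prop where
  le : N ≤ KV c
  odd : Odd (Nat.card N)
  norm : ∀ g ∈ KV c, ∀ n ∈ N, g * n * g⁻¹ ∈ N
  prod : ∀ g ∈ KV c, ∃ n ∈ N, ∃ r ∈ R2, g = n * c.ι r

/-- `N` normal of odd order in `C_G(z)` and `B N` normal in `C_G(z)` -/
structure BN (B : Subgroup SM) (N : Subgroup G) : Prop where
  le : N ≤ Cz c
  odd : Odd (Nat.card N)
  norm : ∀ g ∈ Cz c, ∀ n ∈ N, g * n * g⁻¹ ∈ N
  mv : ∀ g ∈ Cz c, ∀ x ∈ B, ∃ n ∈ N, ∃ y ∈ B, g * c.ι x * g⁻¹ = n * c.ι y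

/-- `x` is conjugate to `z` in `G` -/
def Dz (x : SM) : Prop := ∃ g : G, g * c.ι x * g⁻¹ = c.ι z0

/-- `x` and `y` are conjugate in `C_G(z)` -/
def CC (x y : SM) : Prop := ∃ g ∈ Cz c, g * c.ι x * g⁻¹ = c.ι y

end Cfsg.Agent.HSType.Spec
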