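import Mathlib
import Cfsg.Agent.HSType.Spec

/-!
# Kernel-checked facts on the model group `SM` (III): `J`, `Ω₁(J)`, involutions
-/

set_option autoImplicit false

namespace Cfsg.Agent.HSType.FactsJ

open Cfsg.Agent.HSType.Model Cfsg.Agent.HSType.Facts Cfsg.Agent.HSType.FactsU
  Cfsg.Agent.HSType.Spec

theorem comm_J {x y : SM} (hx : x ∈ J) (hy : y ∈ J) : x * y = y * x := by
  have hd : allLT 64 (fun a => allLT 64 (fun b => com a b)) = true := by decide +kernel
  have h1 : x.1 < 64 := by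
    have := hx; exact Nat.le_of_ble_eq_true this
  have h2 : y.1 < 64 := by
    have := hy; exact Nat.le_of_ble_eq_true this
  exact of_com (allLT_spec (allLT_spec hd x.1 h1) y.1 h2)

/-- `|C_J(s)| ≤ 8` outside `J` -/
theorem cnt_CJ {s : SM} (hs : s ∉ J) : cnt 64 (fun b => com s.1 b) ≤ 8 := by
  have hd : allLT 512 (fun a => orB (inJ a) (Nat.ble (cnt 64 (fun b => com a b)) 8)) = true := by
    decide +kernel
  rcases orB_spec (allLT_spec hd s.1 s.2) with h | h
  · exact absurd h hs
  · exact Nat.le_of_ble_eq_true h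

theorem cnt_le_card {n : Nat} (_hn : n ≤ 512) (p : Nat → Bool) (T : Set SM)
    (hT : ∀ x ∈ T, x.1 < n ∧ p x.1 = true) : Nat.card T ≤ cnt n p := by
  rw [cnt_eq]
  have hf : Set.Finite T := Set.toFinite T
  have h1 : Nat.card T ≤ Nat.card ((Finset.range n).filter (fun k => p k = true)) := by
    apply Nat.card_le_card_of_injective
      (fun x : T => (⟨x.1.1, by
        rw [Finset.mem_filter, Finset.mem_range]; exact hT x.1 x.2⟩ :
        ((Finset.range n).filter (fun k => p k = true))))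
    intro x y hxy
    have := congrArg Subtype.val hxy
    exact Subtype.ext (SM.ext this)
  rwa [Nat.card_eq_fintype_card (α := ((Finset.range n).filter (fun k => p k = true))),
    Fintype.card_coe] at h1

theorem J_normal : J.Normal := by
  refine ⟨fun x hx g => ?_⟩
  have hd : allLT 512 (fun g => allLT 64 (fun a => inJ (mulN (mulN g a) (invN g)))) = true := by
    decide +kernel
  have h1 : x.1 < 64 := by
    have := hx; exact Nat.le_of_ble_eq_true this
  exact allLT_spec (allLT_spec hd g.1 g.2) x.1 h1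

theorem V_normal {g x : SM} (hx : x ∈ V) : g * x * g⁻¹ ∈ V := by
  have hd : allLT 512 (fun g => allLT 64 (fun a => imp (inV a)
    (inV (mulN (mulN g a) (invN g))))) = true := by decide +kernel
  have h1 : x.1 < 64 := by
    have hd' : allLT 512 (fun a => imp (inV a) (inJ a)) = true := by decide +kernel
    exact Nat.le_of_ble_eq_true (imp_spec (allLT_spec hd' x.1 x.2) hx)
  exact imp_spec (allLT_spec (allLT_spec hd g.1 g.2) x.1 h1) hx

theorem V_le_J : V ≤ J := by
  intro x hx
  have hd' : allLT 512 (fun a => imp (inV a) (inJ a)) = true := by decide +kernel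
  exact imp_spec (allLT_spec hd' x.1 x.2) hx

theorem V_cases {x : SM} (hx : x ∈ V) : x = 1 ∨ x = a0 ∨ x = a1 ∨ x = z0 := by
  have hd : allLT 512 (fun a => imp (inV a) (orB (Nat.beq a 0) (orB (Nat.beq a 2)
    (orB (Nat.beq a 8) (Nat.beq a 10))))) = true := by decide +kernel
  rcases orB_spec (imp_spec (allLT_spec hd x.1 x.2) hx) with h | h
  · exact Or.inl (ext_beq (y := 1) h)
  rcases orB_spec h with h | h
  · exact Or.inr (Or.inl (ext_beq (y := a0) h))
  rcases orB_spec h with h | h
  · exact Or.inr (Or.inr (Or.inl (ext_beq (y := a1) h)))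
  · exact Or.inr (Or.inr (Or.inr (ext_beq (y := z0) h)))

theorem a0_mem_V : a0 ∈ V := (by decide +kernel : inV 2 = true)
theorem a1_mem_V : a1 ∈ V := (by decide +kernel : inV 8 = true)
theorem z0_mem_V : z0 ∈ V := (by decide +kernel : inV 10 = true)
theorem a0_mul_z0 : a0 * z0 = a1 := SM.ext (by decide +kernel)
theorem a1_mul_z0 : a1 * z0 = a0 := SM.ext (by decide +kernel)
theorem a0_mul_a1 : a0 * a1 = z0 := SM.ext (by decide +kernel)
theorem a0_ne_one : a0 ≠ 1 := by
  intro h; have := congrArg SM.val h; exact absurd this (by decide)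
theorem a1_ne_one : a1 ≠ 1 := by
  intro h; have := congrArg SM.val h; exact absurd this (by decide)
theorem a0_ne_z0 : a0 ≠ z0 := by
  intro h; have := congrArg SM.val h; exact absurd this (by decide)
theorem a1_ne_z0 : a1 ≠ z0 := by
  intro h; have := congrArg SM.val h; exact absurd this (by decide)
theorem a0_ne_a1 : a0 ≠ a1 := by
  intro h; have := congrArg SM.val h; exact absurd this (by decide)
theorem a0_sq : a0 * a0 = 1 := SM.ext (by decide +kernel)
theorem a1_sq : a1 * a1 = 1 := SM.ext (by decide +kernel)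

/-- the generator `r` of `S/J` swaps `a` and `a z` -/
def s0 : SM := el 64
theorem s0_swap : s0 * a0 * s0⁻¹ = a1 ∧ s0 * a1 * s0⁻¹ = a0 :=
  ⟨SM.ext (by decide +kernel), SM.ext (by decide +kernel)⟩

theorem J_le_R2 : J ≤ R2 := by
  intro x hx
  have hd' : allLT 512 (fun a => imp (inJ a) (inR2 a)) = true := by decide +kernel
  exact mem_R2.mpr (imp_spec (allLT_spec hd' x.1 x.2) hx)
theorem J_le_R1 : J ≤ R1 := by
  intro x hx
  have hd' : allLT 512 (fun a => imp (inJ a) (inR1 a)) = true := by decide +kernel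
  exact mem_R1.mpr (imp_spec (allLT_spec hd' x.1 x.2) hx)

/-- `R2` centralizes `V` -/
theorem R2_cent {x v : SM} (hx : x ∈ R2) (hv : v ∈ V) : x * v = v * x := by
  have h1 : x * a0 = a0 * x := Subgroup.mem_centralizer_singleton_iff.mp hx
  rcases V_cases hv with h | h | h | h <;> rw [h]
  · rw [mul_one, one_mul]
  · exact h1
  · rw [← a0_mul_z0, ← mul_assoc, h1, mul_assoc, z0_central, ← mul_assoc]
  · exact z0_central x

theorem mem_Om {x : SM} : x ∈ Om ↔ inOm x.1 = true := Iff.rfl
theorem mem_V {x : SM} : x ∈ V ↔ inV x.1 = true := Iff.rfl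

/-- involutions of `J` -/
theorem mem_Om_iff {x : SM} : x ∈ Om ↔ (x ∈ J ∧ x * x = 1) := by
  have hd : allLT 512 (fun a => beqB (inOm a) (andB (inJ a) (sqIs a 0))) = true := by
    decide +kernel
  rw [mem_Om, beqB_spec (allLT_spec hd x.1 x.2)]
  constructor
  · intro h
    exact ⟨(andB_spec h).1, of_sqIs (y := 1) (andB_spec h).2⟩
  · rintro ⟨h1, h2⟩
    exact andB_intro h1 (sqIs_of (y := 1) h2)

theorem V_le_Om : V ≤ Om := by
  intro x hx
  have hd' : allLT 512 (fun a => imp (inV a) (inOm a)) = true := by decide +kernel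
  exact imp_spec (allLT_spec hd' x.1 x.2) hx

/-- centralizers of elements of `Ω - V` have order at most 128 -/
theorem card_cent_Om {w : SM} (hw : w ∈ Om) (hV : w ∉ V) :
    Nat.card (Subgroup.centralizer ({w} : Set SM)) ≤ 128 := by
  have hd : allLT 512 (fun a => imp (inOm a) (orB (inV a)
    (Nat.ble (cnt 512 (fun b => com b a)) 128))) = true := by decide +kernel
  rcases orB_spec (imp_spec (allLT_spec hd w.1 w.2) hw) with h | h
  · exact absurd h hV
  · rw [card_sub _ (fun b => com b w.1) (fun x => by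
      rw [Subgroup.mem_centralizer_singleton_iff]
      exact ⟨fun h => com_of h, fun h => of_com h⟩)]
    exact Nat.le_of_ble_eq_true h

/-- elements of `Ω - V` are all conjugate -/
theorem conj_b {x y : SM} (hx : x ∈ Om) (hxV : x ∉ V) (hy : y ∈ Om) (hyV : y ∉ V) :
    ∃ s : SM, s * x * s⁻¹ = y := by
  have hd : allLT 64 (fun a => imp (andB (inOm a) (beqB (inV a) false)) (allLT 64 (fun b =>
    imp (andB (inOm b) (beqB (inV b) false)) (exLT 512 (fun s =>
      Nat.beq (mulN s a) (mulN b s)))))) = true := by decide +kernel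
  have hlt : ∀ w : SM, w ∈ Om → w.1 < 64 := fun w hw => Nat.le_of_ble_eq_true (mem_Om_iff.mp hw).1
  have hf : ∀ w : SM, w ∉ V → beqB (inV w.1) false = true := by
    intro w hw
    cases h : inV w.1 with
    | true => exact absurd h hw
    | false => rfl
  obtain ⟨k, hk, h⟩ := exLT_spec (imp_spec (allLT_spec (imp_spec (allLT_spec hd x.1 (hlt x hx))
    (andB_intro hx (hf x hxV))) y.1 (hlt y hy)) (andB_intro hy (hf y hyV)))
  refine ⟨⟨k, hk⟩, ?_⟩
  rw [mul_inv_eq_iff_eq_mul]
  exact SM.ext (eq_of_beq h)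

/-- the generator part `r^{±1}` -/
def inD13 (a : Nat) : Bool := Nat.beq (Nat.land a (nat_lit 320)) (nat_lit 64)

theorem fZ {x : SM} (h1 : x * x ≠ 1) (h2 : x * x * (x * x) = 1) (h3 : x * x ∉ V) :
    (x ∈ J ∧ ∀ y : SM, x * y = y * x → y ∈ J) ∨ inD13 x.1 = true := by
  have hd : allLT 512 (fun a => imp (beqB (sqIs a 0) false) (imp (sqIs (mulN a a) 0)
    (imp (beqB (inV (mulN a a)) false) (orB (inD13 a)
      (andB (inJ a) (allLT 512 (fun b => imp (com a b) (inJ b)))))))) = true := by decide +kernel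
  have e1 : beqB (sqIs x.1 0) false = true := by
    cases h : sqIs x.1 0 with
    | true => exact absurd (of_sqIs (y := 1) h) h1
    | false => rfl
  have e2 : sqIs (mulN x.1 x.1) 0 = true := sqIs_of (x := x * x) (y := 1) h2
  have e3 : beqB (inV (mulN x.1 x.1)) false = true := by
    cases h : inV (mulN x.1 x.1) with
    | true => exact absurd h h3
    | false => rfl
  rcases orB_spec (imp_spec (imp_spec (imp_spec (allLT_spec hd x.1 x.2) e1) e2) e3) with h | h
  · exact Or.inr h
  · exact Or.inl ⟨(andB_spec h).1, fun y hy => imp_spec (allLT_spec (andB_spec h).2 y.1 y.2)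
      (com_of hy)⟩

theorem fR {x y : SM} (hx : inD13 x.1 = true) (hx4 : x * x * (x * x) = 1) (hy : y * y = 1)
    (hc : x * y = y * x) :
    y = 1 ∨ y = z0 ∨ y = x * x ∨ y = x * x * z0 := by
  have hd : allLT 512 (fun b => imp (sqIs b 0) (allLT 256 (fun a => imp (inD13 a)
    (imp (sqIs (mulN a a) 0) (imp (com a b) (orB (Nat.beq b 0) (orB (Nat.beq b 10) (orB (Nat.beq b (mulN a a))
      (Nat.beq b (mulN (mulN a a) 10)))))))))) = true := by decide +kernel
  have hlt : x.1 < 256 := by
    have hd' : allLT 512 (fun a => imp (inD13 a) (Nat.blt a 256)) = true := by decide +kernel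
    exact Nat.le_of_ble_eq_true (imp_spec (allLT_spec hd' x.1 x.2) hx)
  rcases orB_spec (imp_spec (imp_spec (imp_spec (allLT_spec (imp_spec (allLT_spec hd y.1 y.2)
    (sqIs_of (y := 1) hy)) x.1 hlt) hx) (sqIs_of (x := x * x) (y := 1) hx4)) (com_of hc))
    with h | h
  · exact Or.inl (ext_beq (y := 1) h)
  rcases orB_spec h with h | h
  · exact Or.inr (Or.inl (ext_beq (y := z0) h))
  rcases orB_spec h with h | h
  · exact Or.inr (Or.inr (Or.inl (SM.ext (eq_of_beq h))))
  · exact Or.inr (Or.inr (Or.inr (SM.ext (eq_of_beq h))))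

/-- involutions of `R1 - J`: an `E₈` and a noncommuting pair in `C(t) ∩ R1` -/
theorem f2a {t : SM} (h1 : t * t = 1) (hR : t ∈ R1) (hJ : t ∉ J) :
    (∃ w : SM, w ∈ R1 ∧ t * w = w * t ∧ w * w = 1 ∧ w ≠ 1 ∧ w ≠ z0 ∧ w ≠ t ∧ w ≠ t * z0) ∧
    (∃ a b : SM, a ∈ R1 ∧ b ∈ R1 ∧ t * a = a * t ∧ t * b = b * t ∧ a * b ≠ b * a) := by
  have hd : allLT 512 (fun a => imp (sqIs a 0) (imp (inR1 a) (orB (inJ a) (andB
    (exLT 512 (fun w => andB (inR1 w) (andB (com a w) (andB (sqIs w 0) (beqB false
      (orB (Nat.beq w 0) (orB (Nat.beq w 10) (orB (Nat.beq w a) (Nat.beq w (mulN a 10)))))))))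
      )
    (exLT 512 (fun b => andB (inR1 b) (andB (com a b) (exLT 512 (fun e => andB (inR1 e)
      (andB (com a e) (beqB false (com b e)))))))))))) = true := by decide +kernel
  rcases orB_spec (imp_spec (imp_spec (allLT_spec hd t.1 t.2) (sqIs_of (y := 1) h1))
    (mem_R1.mp hR)) with h | h
  · exact absurd h hJ
  · obtain ⟨h2, h3⟩ := andB_spec h
    constructor
    · obtain ⟨k, hk, h4⟩ := exLT_spec h2
      obtain ⟨h5, h6⟩ := andB_spec h4
      obtain ⟨h7, h8⟩ := andB_spec h6
      obtain ⟨h9, h10⟩ := andB_spec h8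
      have h11 := beqB_spec h10
      refine ⟨⟨k, hk⟩, mem_R1.mpr h5, of_com h7, of_sqIs (y := 1) h9, ?_, ?_, ?_, ?_⟩
      · intro e
        have e' : Nat.beq k 0 = true := beq_of_eq (x := ⟨k, hk⟩) (y := 1) e
        rw [e'] at h11; exact Bool.false_ne_true h11
      · intro e
        have e' : Nat.beq k 10 = true := beq_of_eq (x := ⟨k, hk⟩) (y := z0) e
        rw [e'] at h11; revert h11; cases Nat.beq k 0 <;> intro h11 <;> exact Bool.false_ne_true h11
      · intro e
        have e' : Nat.beq k t.1 = true := beq_of_eq (x := ⟨k, hk⟩) (y := t) e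
        rw [e'] at h11; revert h11
        cases Nat.beq k 0 <;> cases Nat.beq k 10 <;> intro h11 <;> exact Bool.false_ne_true h11
      · intro e
        have e' : Nat.beq k (mulN t.1 10) = true := beq_of_eq (x := ⟨k, hk⟩) (y := t * z0) e
        rw [e'] at h11; revert h11
        cases Nat.beq k 0 <;> cases Nat.beq k 10 <;> cases Nat.beq k t.1 <;> intro h11 <;>
          exact Bool.false_ne_true h11
    · obtain ⟨k, hk, h4⟩ := exLT_spec h3
      obtain ⟨h5, h6⟩ := andB_spec h4
      obtain ⟨h7, h8⟩ := andB_spec h6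
      obtain ⟨l, hl, h9⟩ := exLT_spec h8
      obtain ⟨h10, h11⟩ := andB_spec h9
      obtain ⟨h12, h13⟩ := andB_spec h11
      refine ⟨⟨k, hk⟩, ⟨l, hl⟩, mem_R1.mpr h5, mem_R1.mpr h10, of_com h7, of_com h12, ?_⟩
      intro e
      have e' : com k l = true := com_of e
      rw [e'] at h13
      exact Bool.false_ne_true h13

/-- involutions outside `J` lie in `R1 ∪ R2` -/
theorem inv_cases {t : SM} (h1 : t * t = 1) : t ∈ R1 ∨ t ∈ R2 := by
  have hd : allLT 512 (fun a => imp (sqIs a 0) (orB (inR1 a) (inR2 a))) = true := by decide +kernel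
  rcases orB_spec (imp_spec (allLT_spec hd t.1 t.2) (sqIs_of (y := 1) h1)) with h | h
  · exact Or.inl (mem_R1.mpr h)
  · exact Or.inr (mem_R2.mpr h)

/-- involutions of `R2 - R1` -/
theorem f2b {t : SM} (h1 : t * t = 1) (hR : t ∈ R2) (hR1 : t ∉ R1) :
    (∃ f : SM, f ∈ J ∧ t * f = f * t ∧ f * f ≠ 1 ∧ f * f ∈ V) ∧
    (∀ v ∈ V, ∃ s : SM, s * t * s⁻¹ = t * v) := by
  have hd : allLT 512 (fun a => imp (sqIs a 0) (imp (inR2 a) (orB (inR1 a) (andB
    (exLT 64 (fun f => andB (com a f) (andB (beqB false (sqIs f 0)) (inV (mulN f f)))))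
    (allLT 512 (fun v => imp (inV v) (exLT 512 (fun s =>
      Nat.beq (mulN s a) (mulN (mulN a v) s))))))))) = true := by decide +kernel
  rcases orB_spec (imp_spec (imp_spec (allLT_spec hd t.1 t.2) (sqIs_of (y := 1) h1))
    (mem_R2.mp hR)) with h | h
  · exact absurd (mem_R1.mpr h) hR1
  · obtain ⟨h2, h3⟩ := andB_spec h
    constructor
    · obtain ⟨k, hk, h4⟩ := exLT_spec h2
      obtain ⟨h5, h6⟩ := andB_spec h4
      obtain ⟨h7, h8⟩ := andB_spec h6
      refine ⟨⟨k, by omega⟩, ?_, of_com h5, ?_, h8⟩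
      · show inJ k = true
        exact Nat.ble_eq_true_of_le hk
      · intro e
        have e' : sqIs k 0 = true := sqIs_of (x := ⟨k, by omega⟩) (y := 1) e
        rw [e'] at h7; exact Bool.false_ne_true (beqB_spec h7)
    · intro v hv
      obtain ⟨k, hk, h4⟩ := exLT_spec (imp_spec (allLT_spec h3 v.1 v.2) hv)
      refine ⟨⟨k, hk⟩, ?_⟩
      rw [mul_inv_eq_iff_eq_mul]
      exact SM.ext (eq_of_beq h4)

end Cfsg.Agent.HSType.FactsJ
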