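import Mathlib
import Cfsg.Agent.HSType.FactsJ

/-!
# Kernel-checked facts on the model group `SM` (IV): classes of involutions
-/

set_option autoImplicit false

namespace Cfsg.Agent.HSType.FactsI

open Cfsg.Agent.HSType.Model Cfsg.Agent.HSType.Facts Cfsg.Agent.HSType.FactsU
  Cfsg.Agent.HSType.Spec Cfsg.Agent.HSType.FactsJ

def b0 : SM := el 32
def e0 : SM := el 128
def f0 : SM := el 129
def g0 : SM := el 256
def h0 : SM := el 272

/-- negation -/
def notB (a : Bool) : Bool := Bool.rec true false a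
theorem notB_spec {a : Bool} (h : notB a = true) : a = false := by
  cases a with
  | true => exact (Bool.false_ne_true h).elim
  | false => rfl
theorem notB_of {a : Bool} (h : ¬ a = true) : notB a = true := by
  cases a with
  | true => exact absurd rfl h
  | false => rfl

theorem orB_intro {a b : Bool} (h : a = true ∨ b = true) : orB a b = true := by
  cases a with
  | true => rfl
  | false => rcases h with h | h; exact (Bool.false_ne_true h).elim; exact h

def clA (a : Nat) : Bool := orB (Nat.beq a 2) (Nat.beq a 8)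
def clB (a : Nat) : Bool := andB (inOm a) (notB (inV a))
def clE (a : Nat) : Bool := andB (notB (inJ a)) (andB (sqIs a 0) (andB (inR2 a) (inQ a)))
def clF (a : Nat) : Bool := andB (notB (inJ a)) (andB (sqIs a 0) (andB (inR2 a) (inQ' a)))
def clG (a : Nat) : Bool := andB (notB (inR2 a)) (andB (sqIs a 0) (inQ a))
def clH (a : Nat) : Bool := andB (notB (inR2 a)) (andB (sqIs a 0) (inQ' a))

/-- every involution other than `z` is conjugate to its product with `z` -/
theorem smul_z {d : SM} (h : d * d = 1) (h1 : d ≠ 1) (hz : d ≠ z0) :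
    ∃ s : SM, s * d * s⁻¹ = d * z0 := by
  have hd : allLT 512 (fun a => imp (sqIs a 0) (orB (Nat.beq a 0) (orB (Nat.beq a 10)
    (exLT 512 (fun s => Nat.beq (mulN s a) (mulN (mulN a 10) s)))))) = true := by decide +kernel
  rcases orB_spec (imp_spec (allLT_spec hd d.1 d.2) (sqIs_of (y := 1) h)) with h2 | h2
  · exact absurd (ext_beq (y := 1) h2) h1
  rcases orB_spec h2 with h2 | h2
  · exact absurd (ext_beq (y := z0) h2) hz
  · obtain ⟨k, hk, h4⟩ := exLT_spec h2
    refine ⟨⟨k, hk⟩, ?_⟩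
    rw [mul_inv_eq_iff_eq_mul]
    exact SM.ext (eq_of_beq h4)

/-- conjugacy checker -/
def repB (p : Nat → Bool) (r : Nat) : Bool :=
  allLT 512 (fun t => imp (p t) (exLT 512 (fun s => Nat.beq (mulN s t) (mulN r s))))

theorem repB_spec {p : Nat → Bool} {r : Nat} {hr : r < 512} (h : repB p r = true) {t : SM}
    (ht : p t.1 = true) : ∃ s : SM, s * t * s⁻¹ = ⟨r, hr⟩ := by
  obtain ⟨k, hk, h4⟩ := exLT_spec (imp_spec (allLT_spec h t.1 t.2) ht)
  refine ⟨⟨k, hk⟩, ?_⟩
  rw [mul_inv_eq_iff_eq_mul]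
  exact SM.ext (eq_of_beq h4)

theorem repA {t : SM} (h : clA t.1 = true) : ∃ s : SM, s * t * s⁻¹ = a0 :=
  repB_spec (r := 2) (hr := by norm_num) (p := clA) (by decide +kernel) h
theorem repB' {t : SM} (h : clB t.1 = true) : ∃ s : SM, s * t * s⁻¹ = b0 :=
  repB_spec (r := 32) (hr := by norm_num) (p := clB) (by decide +kernel) h
theorem repE {t : SM} (h : clE t.1 = true) : ∃ s : SM, s * t * s⁻¹ = e0 :=
  repB_spec (r := 128) (hr := by norm_num) (p := clE) (by decide +kernel) h
theorem repF {t : SM} (h : clF t.1 = true) : ∃ s : SM, s * t * s⁻¹ = f0 :=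
  repB_spec (r := 129) (hr := by norm_num) (p := clF) (by decide +kernel) h
theorem repG {t : SM} (h : clG t.1 = true) : ∃ s : SM, s * t * s⁻¹ = g0 :=
  repB_spec (r := 256) (hr := by norm_num) (p := clG) (by decide +kernel) h
theorem repH {t : SM} (h : clH t.1 = true) : ∃ s : SM, s * t * s⁻¹ = h0 :=
  repB_spec (r := 272) (hr := by norm_num) (p := clH) (by decide +kernel) h

/-- involutions of `Q` -/
theorem inv_Q {t : SM} (h : t * t = 1) (hQ : t ∈ Q) :
    t = 1 ∨ t = z0 ∨ clA t.1 = true ∨ clB t.1 = true ∨ clE t.1 = true ∨ clG t.1 = true := by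
  have hd : allLT 512 (fun a => imp (inQ a) (imp (sqIs a 0) (orB (Nat.beq a 0) (orB (Nat.beq a 10)
    (orB (clA a) (orB (clB a) (orB (clE a) (clG a)))))))) = true := by decide +kernel
  rcases orB_spec (imp_spec (imp_spec (allLT_spec hd t.1 t.2) hQ) (sqIs_of (y := 1) h)) with h | h
  · exact Or.inl (ext_beq (y := 1) h)
  rcases orB_spec h with h | h
  · exact Or.inr (Or.inl (ext_beq (y := z0) h))
  rcases orB_spec h with h | h
  · exact Or.inr (Or.inr (Or.inl h))
  rcases orB_spec h with h | h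
  · exact Or.inr (Or.inr (Or.inr (Or.inl h)))
  rcases orB_spec h with h | h
  · exact Or.inr (Or.inr (Or.inr (Or.inr (Or.inl h))))
  · exact Or.inr (Or.inr (Or.inr (Or.inr (Or.inr h))))

/-- involutions of `Q'` -/
theorem inv_Q' {t : SM} (h : t * t = 1) (hQ : t ∈ Q') :
    t = 1 ∨ t = z0 ∨ clA t.1 = true ∨ clB t.1 = true ∨ clF t.1 = true ∨ clH t.1 = true := by
  have hd : allLT 512 (fun a => imp (inQ' a) (imp (sqIs a 0) (orB (Nat.beq a 0) (orB (Nat.beq a 10)
    (orB (clA a) (orB (clB a) (orB (clF a) (clH a)))))))) = true := by decide +kernel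
  rcases orB_spec (imp_spec (imp_spec (allLT_spec hd t.1 t.2) hQ) (sqIs_of (y := 1) h)) with h | h
  · exact Or.inl (ext_beq (y := 1) h)
  rcases orB_spec h with h | h
  · exact Or.inr (Or.inl (ext_beq (y := z0) h))
  rcases orB_spec h with h | h
  · exact Or.inr (Or.inr (Or.inl h))
  rcases orB_spec h with h | h
  · exact Or.inr (Or.inr (Or.inr (Or.inl h)))
  rcases orB_spec h with h | h
  · exact Or.inr (Or.inr (Or.inr (Or.inr (Or.inl h))))
  · exact Or.inr (Or.inr (Or.inr (Or.inr (Or.inr h))))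

theorem clA_Om {t : SM} (h : clA t.1 = true) : t ∈ V ∧ t ≠ 1 ∧ t ≠ z0 := by
  rcases orB_spec h with h | h
  · have e : t = a0 := ext_beq (y := a0) h
    rw [e]; exact ⟨a0_mem_V, a0_ne_one, a0_ne_z0⟩
  · have e : t = a1 := ext_beq (y := a1) h
    rw [e]; exact ⟨a1_mem_V, a1_ne_one, a1_ne_z0⟩

/-- step 4 facts -/
theorem f0_root : ∃ x : SM, x * f0 = f0 * x ∧ x ∉ R1 ∧ x * x * (x * x) = z0 := by
  refine ⟨el 84, SM.ext (by decide +kernel), ?_, SM.ext (by decide +kernel)⟩
  intro h
  exact absurd (mem_R1.mp h) (by decide +kernel)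

theorem R2_root {x : SM} (hx : x ∈ R2) (h : x * x * (x * x) = z0) : x ∈ R1 := by
  have hd : allLT 512 (fun a => imp (inR2 a) (orB (inR1 a) (notB (sqIs (mulN a a) 10)))) = true := by
    decide +kernel
  rcases orB_spec (imp_spec (allLT_spec hd x.1 x.2) (mem_R2.mp hx)) with h1 | h1
  · exact mem_R1.mpr h1
  · have := notB_spec h1
    have h2 : sqIs (mulN x.1 x.1) 10 = true := sqIs_of (x := x * x) (y := z0) h
    rw [this] at h2; exact (Bool.false_ne_true h2).elim

theorem f0_inv : f0 * f0 = 1 := SM.ext (by decide +kernel)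
theorem f0_R1 : f0 ∈ R1 := mem_R1.mpr (by decide +kernel)
theorem f0_J : f0 ∉ J := by intro h; exact absurd (mem_J.mp h) (by decide +kernel)

theorem allLT_of {n : Nat} {p : Nat → Bool} (h : ∀ k < n, p k = true) : allLT n p = true := by
  induction n with
  | zero => rfl
  | succ n ih =>
    show (Bool.rec false (allLT n p) (p n) : Bool) = true
    rw [h n (Nat.lt_succ_self n)]
    exact ih (fun k hk => h k (Nat.lt_succ_of_lt hk))

/-- the three square-root systems in `R2` -/
theorem R2_cover {t x y : SM} (ht : t ∈ R2) (hx : x ∈ J) (hy : y ∈ J)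
    (hx2 : x * x = a0) (hy2 : y * y = a1)
    (hxs : ∀ s ∈ R2, s * x * s⁻¹ = x ∨ s * x * s⁻¹ = x * a0)
    (hys : ∀ s ∈ R2, s * y * s⁻¹ = y ∨ s * y * s⁻¹ = y * a1) :
    t ∈ R1 ∨ t * x = x * t ∨ t * y = y * t := by
  have hd : allLT 64 (fun x => imp (sqIs x 2) (imp (allLT 512 (fun s => imp (inR2 s)
      (orB (com s x) (Nat.beq (mulN s x) (mulN (mulN x 2) s))))) (allLT 64 (fun y => imp (sqIs y 8)
      (imp (allLT 512 (fun s => imp (inR2 s)
      (orB (com s y) (Nat.beq (mulN s y) (mulN (mulN y 8) s))))) (allLT 512 (fun t => imp (inR2 t)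
      (orB (inR1 t) (orB (com t x) (com t y)))))))))) = true := by decide +kernel
  have hlt : ∀ w : SM, w ∈ J → w.1 < 64 := fun w hw => Nat.le_of_ble_eq_true hw
  have hall : ∀ (w d : SM), (∀ s ∈ R2, s * w * s⁻¹ = w ∨ s * w * s⁻¹ = w * d) →
      ∀ s : SM, imp (inR2 s.1) (orB (com s.1 w.1) (Nat.beq (mulN s.1 w.1)
        (mulN (mulN w.1 d.1) s.1))) = true := by
    intro w d h s
    cases hs : inR2 s.1 with
    | false => rfl
    | true =>
      apply orB_intro
      rcases h s (mem_R2.mpr hs) with h1 | h1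
      · left; rw [mul_inv_eq_iff_eq_mul] at h1; exact com_of h1
      · right; rw [mul_inv_eq_iff_eq_mul] at h1; exact beq_of_eq h1
  have hx' : allLT 512 (fun s => imp (inR2 s)
      (orB (com s x.1) (Nat.beq (mulN s x.1) (mulN (mulN x.1 2) s)))) = true := by
    apply allLT_of
    intro k hk
    exact hall x a0 hxs ⟨k, hk⟩
  have hy' : allLT 512 (fun s => imp (inR2 s)
      (orB (com s y.1) (Nat.beq (mulN s y.1) (mulN (mulN y.1 8) s)))) = true := by
    apply allLT_of
    intro k hk
    exact hall y a1 hys ⟨k, hk⟩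
  rcases orB_spec (imp_spec (allLT_spec (imp_spec (imp_spec (allLT_spec (imp_spec (imp_spec
    (allLT_spec hd x.1 (hlt x hx)) (sqIs_of (y := a0) hx2)) hx') y.1 (hlt y hy))
    (sqIs_of (y := a1) hy2)) hy') t.1 t.2) (mem_R2.mp ht)) with h | h
  · exact Or.inl (mem_R1.mpr h)
  rcases orB_spec h with h | h
  · exact Or.inr (Or.inl (of_com h))
  · exact Or.inr (Or.inr (of_com h))

end Cfsg.Agent.HSType.FactsI
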