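import Mathlib
import Cfsg.Agent.HSType.Spec

/-!
# `u` is isolated: the last case (`C_S(v)` of order 32)
-/

set_option autoImplicit false
set_option linter.style.haveILetI false

namespace Cfsg.Agent.HSType.UIsol

open Cfsg.Agent.HSType.Model Cfsg.Agent.HSType.Facts Cfsg.Agent.HSType.FactsU
  Cfsg.Agent.HSType.Basic Cfsg.Agent.HSType.Trans Cfsg.Agent.HSType.UFusion

variable {G : Type*} [Group G] (c : Ctx G)

/-- `C_S(v)` -/
abbrev Cv (v : SM) : Subgroup SM := Subgroup.centralizer ({v} : Set SM)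

theorem mem_Cv {v x : SM} : x ∈ Cv v ↔ v * x = x * v := by
  rw [Subgroup.mem_centralizer_singleton_iff]; exact eq_comm

/-- `N = N_{C_G(z)}(C_S(v))` -/
def NN (v : SM) : Subgroup G := Cz c ⊓ Subgroup.normalizer (((Cv v).map c.ι : Subgroup G) : Set G)

theorem mem_NN_conj {v : SM} {n : G} (hn : n ∈ NN c v) {x : SM} (hx : x ∈ Cv v) :
    ∃ y ∈ Cv v, n * c.ι x * n⁻¹ = c.ι y := by
  have h := conj_mem_of_mem_normalizer hn.2 (Subgroup.mem_map_of_mem c.ι hx)
  obtain ⟨y, hy, hy'⟩ := h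
  exact ⟨y, hy, hy'.symm⟩

theorem t40_qlike {v : SM} (h : t40 v.1 = true) :
    ∃ A, QLike A ∧ v ∈ A ∧ (∀ x : SM, v * x = x * v → x ∈ A) ∧
      (∀ g : SM, g * v = v * z0 * g → g ∈ A) := by
  rcases t40_cent h with ⟨h1, h2⟩ | ⟨h1, h2⟩
  · exact ⟨Q, qlike_Q, h1, h2, fun g hg => (t40_norm h hg).1 h1⟩
  · exact ⟨Q', qlike_Q', h1, h2, fun g hg => (t40_norm h hg).2 h1⟩

theorem sq_z0_conj {n : G} (hn : n ∈ Cz c) {x y : SM} (hx : x * x = z0)
    (h : n * c.ι x * n⁻¹ = c.ι y) : y * y = z0 := by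
  apply c.inj
  rw [map_mul, ← h, ← conj_map_mul, ← map_mul, hx, (mem_Cz c).mp hn]

theorem smul_u0 (s : SM) : s * u0 * s⁻¹ = u0 ∨ s * u0 * s⁻¹ = u0 * z0 := by
  by_cases h : s ∈ R1
  · left
    have h1 := Subgroup.mem_centralizer_singleton_iff.mp h
    rw [h1, mul_inv_cancel_right]
  · right
    rw [inverts h, mul_inv_cancel_right]

/-- 2-subgroups of `N` containing `C_S(v)` have order at most 64 -/
theorem card_le_64 [Finite G] {v : SM} (ht : t40 v.1 = true) {g : G}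
    (hg : g * c.ι u0 * g⁻¹ = c.ι v) (hgz : g ∈ Cz c) {P : Subgroup G} (hPN : P ≤ NN c v)
    (hP : IsPGroup 2 P) (hle : (Cv v).map c.ι ≤ P) : Nat.card P ≤ 64 := by
  obtain ⟨k, hk, hkP⟩ := c.exists_conj_in (range_le_Cz c) (hPN.trans inf_le_left) hP
  obtain ⟨A, hA, hvA, hAc, -⟩ := t40_qlike ht
  have hvR : v ∈ R1 := hA.le hvA
  have hvu : v * u0 = u0 * v := Subgroup.mem_centralizer_singleton_iff.mp hvR
  have hu_cent : ∀ x ∈ Cv v, u0 * x = x * u0 := fun x hx => by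
    have h1 := hA.le (hAc x (mem_Cv.mp hx))
    exact (Subgroup.mem_centralizer_singleton_iff.mp h1).symm
  obtain ⟨u', hu'⟩ := hkP _ (hle (Subgroup.mem_map_of_mem _ (mem_Cv.mpr hvu)))
  obtain ⟨v', hv'⟩ := hkP _ (hle (Subgroup.mem_map_of_mem _ (mem_Cv.mpr (rfl : v * v = v * v))))
  have hTv : ∀ x ∈ Cv v, ∃ y, k * c.ι x * k⁻¹ = c.ι y := fun x hx => by
    obtain ⟨y, hy⟩ := hkP _ (hle (Subgroup.mem_map_of_mem _ hx))
    exact ⟨y, hy.symm⟩
  -- both are conjugates of `u`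
  have hcu := cases_of_conj c hu'.symm hk
  have hcv := cases_of_conj c (g := k * g) (v := v') (by
    rw [hv', ← hg]; group) ((Cz c).mul_mem hk hgz)
  -- one of them is of type 40
  obtain ⟨w, w0, hw0, hww, hwt, hwc⟩ : ∃ w w0 : SM, w0 ∈ Cv v ∧ k * c.ι w0 * k⁻¹ = c.ι w ∧
      t40 w.1 = true ∧ (∀ x ∈ Cv v, w0 * x = x * w0) := by
    by_cases h1 : t40 u'.1 = true
    · exact ⟨u', u0, mem_Cv.mpr hvu, hu'.symm, h1, hu_cent⟩
    by_cases h2 : t40 v'.1 = true
    · exact ⟨v', v, mem_Cv.mpr rfl, hv'.symm, h2, fun x hx => mem_Cv.mp hx⟩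
    exfalso
    have hne := u0_ne v (t40_notU ht)
    have hkz := (mem_Cz c).mp hk
    have e1 : u' = u0 ∨ u' = u0 * z0 := by
      rcases hcu with h | h | h
      · exact Or.inl h
      · exact Or.inr h
      · exact absurd h h1
    have e2 : v' = u0 ∨ v' = u0 * z0 := by
      rcases hcv with h | h | h
      · exact Or.inl h
      · exact Or.inr h
      · exact absurd h h2
    have e3 : v' = u' ∨ v' = u' * z0 := by
      rcases e1 with h | h <;> rcases e2 with h' | h'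
      · left; rw [h, h']
      · right; rw [h, h']
      · right; rw [h, h', mul_assoc, z0_sq, mul_one]
      · left; rw [h, h']
    rcases e3 with h | h
    · apply hne.1
      apply c.inj; apply conj_inj (g := k)
      rw [← hv', ← hu', h]
    · apply hne.2.1
      apply c.inj; apply conj_inj (g := k)
      rw [← hv', h, map_mul, map_mul, conj_map_mul, hkz, hu']
  -- `T₁ = C(w)`
  have hT1 : tr c k (Cv v) ≤ Cv w := by
    intro y hy
    obtain ⟨x, hx, hxy⟩ := (mem_tr c).mp hy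
    rw [mem_Cv]
    apply c.inj
    rw [map_mul, map_mul, ← hww, ← hxy, ← conj_map_mul, ← map_mul, hwc x hx, map_mul, conj_map_mul]
  have hT1' : tr c k (Cv v) = Cv w := by
    apply Subgroup.eq_of_le_of_card_ge hT1
    rw [card_tr c hTv, t40_card ht, t40_card hwt]
  obtain ⟨A', hA', hwA', hcA', hnorm⟩ := t40_qlike hwt
  -- image of `P` in `A'`
  have himg : P.map (MulAut.conj k).toMonoidHom ≤ A'.map c.ι := by
    rintro _ ⟨p, hp, rfl⟩
    obtain ⟨s, hs⟩ := hkP p hp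
    refine ⟨s, ?_, hs⟩
    -- `s` normalizes `C(w)`
    have hsN : ∀ y ∈ Cv w, s * y * s⁻¹ ∈ Cv w := by
      intro y hy
      rw [← hT1'] at hy ⊢
      obtain ⟨x, hx, hxy⟩ := (mem_tr c).mp hy
      obtain ⟨x', hx', hxx'⟩ := mem_NN_conj c (hPN hp) hx
      refine (mem_tr c).mpr ⟨x', hx', ?_⟩
      rw [map_mul, map_mul, map_inv, hs, ← hxy, ← hxx']; group
    have hsinv : ∀ y ∈ Cv w, s⁻¹ * y * s ∈ Cv w := by
      intro y hy
      have h1 : s ∈ Subgroup.normalizer ((Cv w : Subgroup SM) : Set SM) :=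
        mem_normalizer_of_forall hsN
      have h2 := conj_mem_of_mem_normalizer (Subgroup.inv_mem _ h1) hy
      rwa [inv_inv] at h2
    have hb : ∀ y : SM, w * y = y * w → (s * w * s⁻¹) * y = y * (s * w * s⁻¹) := by
      intro y hy
      have h1 := mem_Cv.mp (hsinv y (mem_Cv.mpr hy))
      calc s * w * s⁻¹ * y = s * (w * (s⁻¹ * y * s)) * s⁻¹ := by group
        _ = s * (s⁻¹ * y * s * w) * s⁻¹ := by rw [h1]
        _ = y * (s * w * s⁻¹) := by group
    have hw2 : w * w = z0 := t40_sq hwt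
    have hsw2 : (s * w * s⁻¹) * (s * w * s⁻¹) = z0 := by
      rw [← conj_map_mul, hw2, z0_central, mul_inv_cancel_right]
    have hne := u0_ne w (t40_notU hwt)
    have hbad : ∀ t : SM, (t = u0 ∨ t = u0 * z0) → s * w * s⁻¹ ≠ t := by
      intro t ht' hst
      have h1 : w = s⁻¹ * t * s⁻¹⁻¹ := by rw [← hst]; group
      have h2 := smul_u0 s⁻¹
      rcases ht' with h | h
      · rw [h] at h1
        rcases h2 with h3 | h3
        · exact hne.1 (by rw [h1, h3])
        · exact hne.2.1 (by rw [h1, h3])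
      · rw [h, conj_map_mul, z0_central s⁻¹, mul_inv_cancel_right] at h1
        rcases h2 with h3 | h3
        · exact hne.2.1 (by rw [h1, h3])
        · exact hne.1 (by rw [h1, h3, mul_assoc, z0_sq, mul_one])
    rcases t40_bicent hwt hsw2 hb with h | h | h | h
    · exact absurd h (hbad _ (Or.inl rfl))
    · exact absurd h (hbad _ (Or.inr rfl))
    · -- commutes with `w`
      apply hcA'
      rw [mul_inv_eq_iff_eq_mul] at h; exact h.symm
    · exact hnorm s (by rw [mul_inv_eq_iff_eq_mul] at h; exact h)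
  calc Nat.card P = Nat.card (P.map (MulAut.conj k).toMonoidHom) :=
        (Subgroup.card_map_of_injective (MulAut.conj k).injective).symm
    _ ≤ Nat.card (A'.map c.ι) := Subgroup.card_le_of_le himg
    _ = 64 := by rw [c.card_map, hA'.card]

/-- a 2-subgroup of maximal order among those containing it is Sylow -/
theorem not_dvd_of_max [Finite G] {K R0 : Subgroup G} (hRK : R0 ≤ K) (hp : IsPGroup 2 R0)
    (hmax : ∀ P : Subgroup G, P ≤ K → IsPGroup 2 P → R0 ≤ P → Nat.card P ≤ Nat.card R0) :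
    ¬ 2 ∣ R0.relIndex K := by
  haveI : Fact (Nat.Prime 2) := ⟨Nat.prime_two⟩
  have hp' : IsPGroup 2 (R0.subgroupOf K) := hp.comap_of_injective K.subtype K.subtype_injective
  obtain ⟨T, hT⟩ := hp'.exists_le_sylow
  have hTc : Nat.card ((T : Subgroup K).map K.subtype) = Nat.card (T : Subgroup K) :=
    Subgroup.card_map_of_injective K.subtype_injective
  have h1 : R0 ≤ (T : Subgroup K).map K.subtype := by
    intro x hx
    exact ⟨⟨x, hRK hx⟩, hT (by rw [Subgroup.mem_subgroupOf]; exact hx), rfl⟩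
  have h2 := hmax _ (Subgroup.map_subtype_le _) (T.2.map _) h1
  have h3 : Nat.card (R0.subgroupOf K) = Nat.card R0 :=
    Nat.card_congr (Subgroup.subgroupOfEquivOfLe hRK).toEquiv
  have h4 : R0.subgroupOf K = (T : Subgroup K) := by
    apply Subgroup.eq_of_le_of_card_ge hT
    rw [h3, ← hTc]; exact h2
  unfold Subgroup.relIndex
  rw [h4]
  exact T.not_dvd_index

theorem smul_u0_map (s : SM) : c.ι s * c.ι u0 * (c.ι s)⁻¹ = c.ι u0 ∨
    c.ι s * c.ι u0 * (c.ι s)⁻¹ = c.ι (u0 * z0) := by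
  rw [← map_mul, ← map_inv, ← map_mul]
  rcases smul_u0 s with h | h <;> rw [h]
  · exact Or.inl rfl
  · exact Or.inr rfl

theorem not_t40 [Finite G] {g : G} {v : SM} (hg : g * c.ι u0 * g⁻¹ = c.ι v) (hgz : g ∈ Cz c) :
    t40 v.1 ≠ true := by
  intro ht
  obtain ⟨h, hz, hv, hC⟩ := back c hg hgz
  have hzz := (mem_Cz c).mp hz
  obtain ⟨A, hA, hvA, hAc, -⟩ := t40_qlike ht
  have hvR : v ∈ R1 := hA.le hvA
  have hvu : v * u0 = u0 * v := Subgroup.mem_centralizer_singleton_iff.mp hvR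
  have hne := u0_ne v (t40_notU ht)
  have hCA : ∀ x ∈ Cv v, x ∈ A := fun x hx => hAc x (mem_Cv.mp hx)
  have hzC : z0 ∈ Cv v := mem_Cv.mpr (z0_central v)
  obtain ⟨B, hB, hle⟩ := tr_le_qlike c hz (X := Cv v) (fun x hx => hC x (mem_Cv.mp hx))
    (fun x hx => hA.sq x (hCA x hx))
  -- (i) `A ≤ N`
  have hAN : A.map c.ι ≤ NN c v := by
    rintro _ ⟨a, ha, rfl⟩
    refine ⟨range_le_Cz c ⟨a, rfl⟩, mem_normalizer_of_forall ?_⟩
    rintro _ ⟨x, hx, rfl⟩
    rw [← map_mul, ← map_inv, ← map_mul]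
    apply Subgroup.mem_map_of_mem
    rcases hA.comm a ha x (hCA x hx) with h1 | h1
    · rw [h1, mul_inv_cancel_right]; exact hx
    · rw [h1, mul_assoc x, z0_central a, ← mul_assoc, mul_inv_cancel_right]
      exact Subgroup.mul_mem _ hx hzC
  have hCle : (Cv v).map c.ι ≤ A.map c.ι := Subgroup.map_mono (fun x hx => hCA x hx)
  -- (ii) `A` is Sylow in `N`
  have hAodd : ¬ 2 ∣ (A.map c.ι).relIndex (NN c v) := by
    apply not_dvd_of_max hAN (c.isPGroup_map A)
    intro P hPN hP hAP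
    rw [c.card_map, hA.card]
    exact card_le_64 c ht hg hgz hPN hP (hCle.trans hAP)
  -- (iii) conjugate of `B`
  set P : Subgroup G := (B.map c.ι).map (MulAut.conj h⁻¹).toMonoidHom with hPdef
  have hPp : IsPGroup 2 P := (c.isPGroup_map B).map _
  have hPN : P ≤ NN c v := by
    rintro _ ⟨_, ⟨b, hb, rfl⟩, rfl⟩
    show h⁻¹ * c.ι b * h⁻¹⁻¹ ∈ NN c v
    rw [inv_inv]
    refine ⟨(Cz c).mul_mem ((Cz c).mul_mem ((Cz c).inv_mem hz) (range_le_Cz c ⟨b, rfl⟩)) hz,
      mem_normalizer_of_forall ?_⟩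
    rintro _ ⟨x, hx, rfl⟩
    obtain ⟨y, hy, hyy⟩ := hC x (mem_Cv.mp hx)
    have hyB : y ∈ B := hle ((mem_tr c).mpr ⟨x, hx, hyy⟩)
    have e1 : h⁻¹ * c.ι b * h * c.ι x * (h⁻¹ * c.ι b * h)⁻¹ =
        h⁻¹ * (c.ι b * c.ι y * (c.ι b)⁻¹) * h := by rw [← hyy]; group
    have e2 : h⁻¹ * c.ι y * h = c.ι x := by rw [← hyy]; group
    have e3 : h⁻¹ * c.ι z0 * h = c.ι z0 := by
      have := (mem_Cz c).mp ((Cz c).inv_mem hz)
      rwa [inv_inv] at this
    rw [e1]
    rcases hB.comm b hb y hyB with h1 | h1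
    · have e4 : c.ι b * c.ι y * (c.ι b)⁻¹ = c.ι y := by
        rw [← map_mul, h1, map_mul, mul_inv_cancel_right]
      rw [e4, e2]; exact Subgroup.mem_map_of_mem _ hx
    · have e4 : c.ι b * c.ι y * (c.ι b)⁻¹ = c.ι y * c.ι z0 := by
        rw [← map_mul, h1, mul_assoc y, z0_central b, ← mul_assoc, map_mul, map_mul,
          mul_inv_cancel_right]
      rw [e4, show h⁻¹ * (c.ι y * c.ι z0) * h = (h⁻¹ * c.ι y * h) * (h⁻¹ * c.ι z0 * h) by group,
        e2, e3, ← map_mul]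
      exact Subgroup.mem_map_of_mem _ (Subgroup.mul_mem _ hx hzC)
  -- (iv)
  obtain ⟨n, hn, hnP⟩ := rel_sylow hAN (c.isPGroup_map A) hAodd hPN hPp
  have hcardP : Nat.card P = 64 := by
    rw [hPdef, Subgroup.card_map_of_injective (MulAut.conj h⁻¹).injective, c.card_map, hB.card]
  have hPA : P.map (MulAut.conj n).toMonoidHom = A.map c.ι := by
    apply Subgroup.eq_of_le_of_card_ge
    · rintro _ ⟨p, hp, rfl⟩
      exact hnP p hp
    · have h1 : Nat.card (P.map (MulAut.conj n).toMonoidHom) = Nat.card P :=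
        Subgroup.card_map_of_injective (MulAut.conj n).injective
      rw [h1, hcardP, c.card_map, hA.card]
  -- (v)
  have hgu : h⁻¹ * c.ι u0 * h⁻¹⁻¹ = c.ι v := by rw [← hv]; group
  have huP : c.ι v ∈ P := ⟨c.ι u0, ⟨u0, hB.U u0 u0_inU, rfl⟩, hgu⟩
  obtain ⟨t, htA, htv⟩ := hnP _ huP
  have ht2 : t * t = z0 := sq_z0_conj c hn.1 (t40_sq ht) htv.symm
  have htc : ∀ a ∈ A, t * a = a * t := by
    intro a ha
    have h1 : c.ι a ∈ P.map (MulAut.conj n).toMonoidHom := by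
      rw [hPA]; exact Subgroup.mem_map_of_mem _ ha
    obtain ⟨_, ⟨_, ⟨b, hb, rfl⟩, rfl⟩, hba⟩ := h1
    have hba' : n * (h⁻¹ * c.ι b * h⁻¹⁻¹) * n⁻¹ = c.ι a := hba
    have hub : u0 * b = b * u0 :=
      (Subgroup.mem_centralizer_singleton_iff.mp (hB.le hb)).symm
    have key : c.ι u0 * c.ι b = c.ι b * c.ι u0 := by rw [← map_mul, hub, map_mul]
    apply c.inj
    rw [map_mul, map_mul, htv, ← hba', ← hgu]
    calc n * (h⁻¹ * c.ι u0 * h⁻¹⁻¹) * n⁻¹ * (n * (h⁻¹ * c.ι b * h⁻¹⁻¹) * n⁻¹)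
        = n * (h⁻¹ * (c.ι u0 * c.ι b) * h⁻¹⁻¹) * n⁻¹ := by group
      _ = n * (h⁻¹ * c.ι b * h⁻¹⁻¹) * n⁻¹ * (n * (h⁻¹ * c.ι u0 * h⁻¹⁻¹) * n⁻¹) := by
        rw [key]; group
  have htU : inU t.1 = true := by
    cases hcc : inU t.1 with
    | true => rfl
    | false =>
      exfalso
      obtain ⟨q, hq, hqt⟩ := hA.moved t htA hcc
      rw [← htc q hq] at hqt
      have h1 : t * q * 1 = t * q * z0 := by
        rw [mul_one, mul_assoc t q z0, z0_central q, ← mul_assoc, ← hqt]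
      exact z0_ne_one (mul_left_cancel h1).symm
  have htu : t = u0 ∨ t = u0 * z0 := by
    rcases inU_spec htU with h1 | h1 | h1 | h1
    · rw [h1, mul_one] at ht2; exact absurd ht2.symm z0_ne_one
    · exact Or.inl h1
    · rw [h1, z0_sq] at ht2; exact absurd ht2.symm z0_ne_one
    · exact Or.inr h1
  -- behaviour of elements of `N` on `u, v`
  have hnz : ∀ m ∈ NN c v, m * c.ι z0 * m⁻¹ = c.ι z0 := fun m hm => (mem_Cz c).mp hm.1
  have huC : u0 ∈ Cv v := mem_Cv.mpr hvu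
  have hvC : v ∈ Cv v := mem_Cv.mpr rfl
  have hucent : ∀ x ∈ Cv v, u0 * x = x * u0 := fun x hx =>
    (Subgroup.mem_centralizer_singleton_iff.mp (hA.le (hCA x hx))).symm
  have hperm : ∀ m ∈ NN c v, ∀ w0 : SM, w0 ∈ Cv v → w0 * w0 = z0 →
      (∀ x ∈ Cv v, w0 * x = x * w0) →
      ∃ w, m * c.ι w0 * m⁻¹ = c.ι w ∧ (w = u0 ∨ w = u0 * z0 ∨ w = v ∨ w = v * z0) := by
    intro m hm w0 hw0 hw02 hw0c
    obtain ⟨w, hw, hww⟩ := mem_NN_conj c hm hw0
    refine ⟨w, hww, t40_bicent ht (sq_z0_conj c hm.1 hw02 hww) ?_⟩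
    intro y hy
    obtain ⟨x, hx, hxy⟩ := mem_NN_conj c ((NN c v).inv_mem hm) (mem_Cv.mpr hy)
    have h1 : m * c.ι x * m⁻¹ = c.ι y := by rw [← hxy]; group
    apply c.inj
    rw [map_mul, map_mul, ← hww, ← h1, ← conj_map_mul, ← map_mul, hw0c x hx, map_mul,
      conj_map_mul]
  -- `N₀`
  set N0 : Subgroup G := NN c v ⊓ Subgroup.normalizer (((Spec.U).map c.ι : Subgroup G) : Set G)
    with hN0
  have hU : ∀ x : SM, x ∈ Spec.U ↔ inU x.1 = true := fun _ => Iff.rfl
  have mem_N0 : ∀ m ∈ NN c v, (m ∈ N0 ↔ (m * c.ι u0 * m⁻¹ = c.ι u0 ∨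
      m * c.ι u0 * m⁻¹ = c.ι (u0 * z0))) := by
    intro m hm
    constructor
    · intro h1
      obtain ⟨w, hw, hww⟩ := conj_mem_of_mem_normalizer h1.2
        (Subgroup.mem_map_of_mem c.ι ((hU u0).mpr u0_inU))
      have hw2 := sq_z0_conj c hm.1 u0_sq hww.symm
      rcases inU_spec ((hU w).mp hw) with h2 | h2 | h2 | h2
      · rw [h2, mul_one] at hw2; exact absurd hw2.symm z0_ne_one
      · left; rw [← hww, h2]
      · rw [h2, z0_sq] at hw2; exact absurd hw2.symm z0_ne_one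
      · right; rw [← hww, h2]
    · intro h1
      refine ⟨hm, mem_normalizer_of_forall ?_⟩
      rintro _ ⟨x, hx, rfl⟩
      have hx' : inU x.1 = true := hx
      rcases inU_spec hx' with h2 | h2 | h2 | h2
      · rw [h2, map_one, mul_one, mul_inv_cancel]; exact Subgroup.one_mem _
      · rw [h2]
        rcases h1 with h1 | h1 <;> rw [h1]
        · exact Subgroup.mem_map_of_mem _ ((hU u0).mpr u0_inU)
        · exact Subgroup.mem_map_of_mem _ ((hU _).mpr u0_mul_z0_notmem)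
      · rw [h2, hnz m hm]
        exact Subgroup.mem_map_of_mem _ ((hU _).mpr (by decide +kernel))
      · rw [h2, map_mul, conj_map_mul, hnz m hm]
        rcases h1 with h1 | h1 <;> rw [h1, ← map_mul]
        · exact Subgroup.mem_map_of_mem _ ((hU _).mpr u0_mul_z0_notmem)
        · rw [mul_assoc, z0_sq, mul_one]
          exact Subgroup.mem_map_of_mem _ ((hU u0).mpr u0_inU)
  have hnot : ∀ m ∈ NN c v, m ∉ N0 →
      ((m * c.ι u0 * m⁻¹ = c.ι v ∨ m * c.ι u0 * m⁻¹ = c.ι (v * z0)) ∧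
       (m * c.ι v * m⁻¹ = c.ι u0 ∨ m * c.ι v * m⁻¹ = c.ι (u0 * z0))) := by
    intro m hm hmN
    rw [mem_N0 m hm, not_or] at hmN
    obtain ⟨w, hw, hw'⟩ := hperm m hm u0 huC u0_sq hucent
    have h1 : m * c.ι u0 * m⁻¹ = c.ι v ∨ m * c.ι u0 * m⁻¹ = c.ι (v * z0) := by
      rcases hw' with h2 | h2 | h2 | h2
      · exact absurd (by rw [hw, h2]) hmN.1
      · exact absurd (by rw [hw, h2]) hmN.2
      · left; rw [hw, h2]
      · right; rw [hw, h2]
    refine ⟨h1, ?_⟩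
    obtain ⟨w1, hw1, hw1'⟩ := hperm m hm v hvC (t40_sq ht) (fun x hx => mem_Cv.mp hx)
    have hmz := hnz m hm
    have hne2 : m * c.ι v * m⁻¹ ≠ c.ι v ∧ m * c.ι v * m⁻¹ ≠ c.ι (v * z0) := by
      constructor
      · intro h2
        rcases h1 with h3 | h3
        · exact hne.1 (c.inj (conj_inj (h2.trans h3.symm)))
        · apply hne.2.1
          apply c.inj; apply conj_inj (g := m)
          rw [h2, map_mul, conj_map_mul, h3, hmz, ← map_mul, mul_assoc, z0_sq, mul_one]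
      · intro h2
        rcases h1 with h3 | h3
        · apply hne.2.1
          apply c.inj; apply conj_inj (g := m)
          rw [h2, map_mul c.ι u0 z0, conj_map_mul, h3, hmz, ← map_mul]
        · exact hne.1 (c.inj (conj_inj (h2.trans h3.symm)))
    rcases hw1' with h2 | h2 | h2 | h2
    · left; rw [hw1, h2]
    · right; rw [hw1, h2]
    · exact absurd (by rw [hw1, h2]) hne2.1
    · exact absurd (by rw [hw1, h2]) hne2.2
  -- `n ∉ N₀`
  have hnN0 : n ∉ N0 := by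
    rw [mem_N0 n hn]
    intro h1
    have h2 : n * c.ι v * n⁻¹ = c.ι t := htv.symm
    rcases htu with h3 | h3 <;> rcases h1 with h4 | h4
    · exact hne.1 (c.inj (conj_inj (g := n) (by rw [h2, h3, h4])))
    · apply hne.2.1; apply c.inj; apply conj_inj (g := n)
      rw [h2, h3, map_mul c.ι u0 z0, conj_map_mul, h4, hnz n hn, ← map_mul, mul_assoc, z0_sq, mul_one]
    · apply hne.2.1; apply c.inj; apply conj_inj (g := n)
      rw [h2, h3, map_mul c.ι u0 z0, conj_map_mul, h4, hnz n hn]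
    · exact hne.1 (c.inj (conj_inj (g := n) (by rw [h2, h3, h4])))
  -- `A ≤ N₀`
  have hAN0 : A.map c.ι ≤ N0 := by
    rintro _ ⟨a, ha, rfl⟩
    rw [mem_N0 _ (hAN ⟨a, ha, rfl⟩)]
    exact smul_u0_map c a
  have hN0N : N0 ≤ NN c v := inf_le_left
  -- index two
  have hidx : N0.relIndex (NN c v) = 2 := by
    show (N0.subgroupOf (NN c v)).index = 2
    rw [Subgroup.index_eq_two_iff]
    refine ⟨⟨n, hn⟩, fun b => ?_⟩
    rw [Subgroup.mem_subgroupOf, Subgroup.mem_subgroupOf]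
    show Xor ((b : G) * n ∈ N0) ((b : G) ∈ N0)
    by_cases hb : (b : G) ∈ N0
    · right
      refine ⟨hb, fun h1 => hnN0 ?_⟩
      have h2 := N0.mul_mem (N0.inv_mem hb) h1
      rwa [inv_mul_cancel_left] at h2
    · left
      refine ⟨?_, hb⟩
      rw [mem_N0 _ ((NN c v).mul_mem b.2 hn)]
      obtain ⟨-, hb2⟩ := hnot b b.2 hb
      obtain ⟨hn1, -⟩ := hnot n hn hnN0
      have hbz := hnz b b.2
      have e1 : (b : G) * n * c.ι u0 * ((b : G) * n)⁻¹ = b * (n * c.ι u0 * n⁻¹) * (b : G)⁻¹ := by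
        group
      rw [e1]
      rcases hn1 with h1 | h1
      · rw [h1]; exact hb2
      · rw [h1, map_mul, conj_map_mul, hbz]
        rcases hb2 with h2 | h2
        · right; rw [h2, map_mul]
        · left; rw [h2, ← map_mul, mul_assoc, z0_sq, mul_one]
  apply hAodd
  rw [← Subgroup.relIndex_mul_relIndex _ _ _ hAN0 hN0N, hidx]
  exact Dvd.intro_left _ rfl

/-- **Isolation of `u`.** -/
theorem u_isolated [Finite G] : Spec.IsolU c := by
  intro g hgz v hg
  rcases cases_of_conj c hg hgz with h | h | h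
  · exact Or.inl h
  · exact Or.inr h
  · exact absurd h (not_t40 c hg hgz)

end Cfsg.Agent.HSType.UIsol
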