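import Mathlib
import Cfsg.Agent.HSType.FactsJ
import Cfsg.Agent.HSType.UIsol

/-!
# Weak closure of `J`, Burnside for `J`, the subgroup `N_G(R2)`
-/

set_option autoImplicit false
set_option linter.style.haveILetI false

namespace Cfsg.Agent.HSType.JFus

open Cfsg.Agent.HSType.Model Cfsg.Agent.HSType.Facts Cfsg.Agent.HSType.FactsU
  Cfsg.Agent.HSType.FactsJ Cfsg.Agent.HSType.Spec
  Cfsg.Agent.HSType.Basic Cfsg.Agent.HSType.Trans

/-- `J` is the only abelian subgroup of order 64 of the model -/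
theorem eq_J {K : Subgroup SM} (hK : Nat.card K = 64) (hab : ∀ x ∈ K, ∀ y ∈ K, x * y = y * x) :
    K = J := by
  haveI := J_normal
  by_contra hne
  have hnle : ¬ K ≤ J := fun h => hne (Subgroup.eq_of_le_of_card_ge h (by rw [hK, card_J]))
  obtain ⟨s, hsK, hsJ⟩ := SetLike.not_le_iff_exists.mp hnle
  -- `|K ∩ J| ≤ 8`
  have h8 : Nat.card ((K ⊓ J : Subgroup SM)) ≤ 8 := by
    refine le_trans ?_ (cnt_CJ hsJ)
    apply cnt_le_card (by norm_num) (fun b => com s.1 b) ((K ⊓ J : Subgroup SM) : Set SM)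
    intro x hx
    exact ⟨Nat.le_of_ble_eq_true hx.2, com_of (hab s hsK x hx.1)⟩
  -- index
  have hJi : J.index = 8 := by
    have h1 := J.card_mul_index
    rw [card_J, card_SM] at h1
    omega
  have h1 : J.relIndex K ∣ 8 := by rw [← hJi]; exact Subgroup.relIndex_dvd_index_of_normal J K
  have h2 : Nat.card ((K ⊓ J : Subgroup SM)) * J.relIndex K = 64 := by
    have h3 := (J.subgroupOf K).card_mul_index
    rw [hK] at h3
    have h4 : Nat.card (J.subgroupOf K) = Nat.card ((K ⊓ J : Subgroup SM)) := by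
      rw [← Subgroup.inf_subgroupOf_left]
      exact Nat.card_congr (Subgroup.subgroupOfEquivOfLe inf_le_left).toEquiv
    rw [h4] at h3
    exact h3
  have h3 : J.relIndex K = 8 := by
    have h4 : J.relIndex K ≤ 8 := Nat.le_of_dvd (by norm_num) h1
    nlinarith
  have h4 : Nat.card ((K ⊓ J : Subgroup SM)) = 8 := by rw [h3] at h2; omega
  have h5 : K ⊔ J = ⊤ := by
    rw [← Subgroup.index_eq_one]
    have h6 := Subgroup.relIndex_mul_index (H := J) (K := K ⊔ J) le_sup_right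
    rw [Subgroup.relIndex_sup_right, h3, hJi] at h6
    omega
  -- `K ∩ J` is central
  have h6 : ∀ x ∈ K ⊓ J, x = 1 ∨ x = z0 := by
    intro x hx
    apply mem_center_of_forall
    intro y
    have hy : y ∈ K ⊔ J := by rw [h5]; exact Subgroup.mem_top y
    rw [Subgroup.mem_sup_of_normal_right] at hy
    obtain ⟨k, hk, j, hj, rfl⟩ := hy
    rw [← mul_assoc, hab x hx.1 k hk, mul_assoc, comm_J hx.2 hj, mul_assoc]
  have h7 : Nat.card ((K ⊓ J : Subgroup SM)) ≤ 2 := by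
    have h8 : ((K ⊓ J : Subgroup SM) : Set SM) ⊆ {1, z0} := fun x hx => h6 x hx
    have h9 := Set.ncard_le_ncard h8 (Set.toFinite _)
    have h10 : ({1, z0} : Set SM).ncard ≤ 2 := by
      apply le_trans (Set.ncard_insert_le _ _)
      rw [Set.ncard_singleton]
    exact le_trans h9 h10
  omega

variable {G : Type*} [Group G] (c : Ctx G)

theorem Nm_iff [Finite G] {X : Subgroup SM} {g : G} :
    Nm c X g ↔ g ∈ Subgroup.normalizer ((X.map c.ι : Subgroup G) : Set G) := by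
  constructor
  · intro h
    apply mem_normalizer_of_forall
    rintro _ ⟨x, hx, rfl⟩
    obtain ⟨y, hy, hxy⟩ := h x hx
    rw [hxy]; exact Subgroup.mem_map_of_mem _ hy
  · intro h x hx
    obtain ⟨y, hy, hxy⟩ := conj_mem_of_mem_normalizer h (Subgroup.mem_map_of_mem c.ι hx)
    exact ⟨y, hy, hxy.symm⟩

theorem Nm_mul [Finite G] {X : Subgroup SM} {g h : G} (hg : Nm c X g) (hh : Nm c X h) :
    Nm c X (g * h) := by
  rw [Nm_iff] at *; exact Subgroup.mul_mem _ hg hh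
theorem Nm_inv [Finite G] {X : Subgroup SM} {g : G} (hg : Nm c X g) : Nm c X g⁻¹ := by
  rw [Nm_iff] at *; exact Subgroup.inv_mem _ hg
theorem Nm_surj [Finite G] {X : Subgroup SM} {g : G} (hg : Nm c X g) {y : SM} (hy : y ∈ X) :
    ∃ x ∈ X, g * c.ι x * g⁻¹ = c.ι y := by
  obtain ⟨x, hx, hxy⟩ := Nm_inv c hg y hy
  exact ⟨x, hx, by rw [← hxy]; group⟩

theorem Nm_of_normal {X : Subgroup SM} (hX : ∀ s x : SM, x ∈ X → s * x * s⁻¹ ∈ X) (s : SM) :
    Nm c X (c.ι s) := by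
  intro x hx
  exact ⟨s * x * s⁻¹, hX s x hx, by rw [map_mul, map_mul, map_inv]⟩

/-- **weak closure of `J`** -/
theorem wJ [Finite G] : WJ c := by
  intro g hg
  have h1 : tr c g J = J := by
    apply eq_J
    · rw [card_tr c hg, card_J]
    · intro x hx y hy
      obtain ⟨x', hx', hxx⟩ := (mem_tr c).mp hx
      obtain ⟨y', hy', hyy⟩ := (mem_tr c).mp hy
      apply c.inj
      rw [map_mul, map_mul, ← hxx, ← hyy, ← conj_map_mul, ← map_mul, comm_J hx' hy', map_mul,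
        conj_map_mul]
  intro x hx
  obtain ⟨y, hy⟩ := hg x hx
  exact ⟨y, by rw [← h1]; exact (mem_tr c).mpr ⟨x, hx, hy⟩, hy⟩

/-- **Burnside for `J`** -/
theorem burnside_J [Finite G] {x y : SM} (hx : x ∈ J) (hy : y ∈ J) {g : G}
    (hg : g * c.ι x * g⁻¹ = c.ι y) :
    ∃ n : G, Nm c J n ∧ n * c.ι x * n⁻¹ = c.ι y ∧
      ∃ k : G, k * c.ι y * k⁻¹ = c.ι y ∧ n = k * g := by
  haveI : Fact (Nat.Prime 2) := ⟨Nat.prime_two⟩
  set K : Subgroup G := Subgroup.centralizer {c.ι y} with hK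
  have hJK : J.map c.ι ≤ K := by
    rintro _ ⟨w, hw, rfl⟩
    rw [hK, Subgroup.mem_centralizer_singleton_iff, ← map_mul, comm_J hw hy, map_mul]
  have hgJK : (J.map c.ι).map (MulAut.conj g).toMonoidHom ≤ K := by
    rintro _ ⟨_, ⟨w, hw, rfl⟩, rfl⟩
    rw [hK, Subgroup.mem_centralizer_singleton_iff]
    show g * c.ι w * g⁻¹ * c.ι y = c.ι y * (g * c.ι w * g⁻¹)
    rw [← hg, ← conj_map_mul, ← conj_map_mul, ← map_mul, comm_J hw hx, map_mul]
  have hp1 : IsPGroup 2 ((J.map c.ι).subgroupOf K) :=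
    (c.isPGroup_map J).comap_of_injective K.subtype K.subtype_injective
  obtain ⟨T, hT⟩ := hp1.exists_le_sylow
  have hT2 : IsPGroup 2 ((T : Subgroup K).map K.subtype) := T.2.map _
  have hTK : (T : Subgroup K).map K.subtype ≤ K := Subgroup.map_subtype_le _
  have hJT : J.map c.ι ≤ (T : Subgroup K).map K.subtype := by
    intro w hw
    exact ⟨⟨w, hJK hw⟩, hT (by rw [Subgroup.mem_subgroupOf]; exact hw), rfl⟩
  have hTs : ¬ 2 ∣ ((T : Subgroup K).map K.subtype).relIndex K := by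
    unfold Subgroup.relIndex
    have h1 : ((T : Subgroup K).map K.subtype).subgroupOf K = (T : Subgroup K) := by
      unfold Subgroup.subgroupOf
      exact Subgroup.comap_map_eq_self_of_injective K.subtype_injective _
    rw [h1]
    exact T.not_dvd_index
  obtain ⟨k, hk, hkT⟩ := rel_sylow hTK hT2 hTs hgJK ((c.isPGroup_map J).map _)
  obtain ⟨d, hd⟩ := c.exists_conj hT2
  have hdJ : Nm c J d := by
    apply wJ
    intro w hw
    obtain ⟨s, hs⟩ := hd _ (hJT (Subgroup.mem_map_of_mem _ hw))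
    exact ⟨s, hs.symm⟩
  have hdkg : Nm c J (d * (k * g)) := by
    apply wJ
    intro w hw
    obtain ⟨s, hs⟩ := hd _ (hkT _ ⟨_, Subgroup.mem_map_of_mem c.ι hw, rfl⟩)
    refine ⟨s, ?_⟩
    rw [hs]
    show d * (k * g) * c.ι w * (d * (k * g))⁻¹ = d * (k * (g * c.ι w * g⁻¹) * k⁻¹) * d⁻¹
    group
  have hky : k * c.ι y * k⁻¹ = c.ι y := by
    have := Subgroup.mem_centralizer_singleton_iff.mp hk
    rw [this, mul_inv_cancel_right]
  refine ⟨k * g, ?_, ?_, k, hky, rfl⟩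
  · have h1 := Nm_mul c (Nm_inv c hdJ) hdkg
    rwa [inv_mul_cancel_left] at h1
  · calc k * g * c.ι x * (k * g)⁻¹ = k * (g * c.ι x * g⁻¹) * k⁻¹ := by group
      _ = c.ι y := by rw [hg, hky]

/-- moving to `z` with control of the centralizer -/
theorem to_z [Finite G] {t : SM} (h : Dz c t) :
    ∃ g : G, g * c.ι t * g⁻¹ = c.ι z0 ∧ ∀ x : SM, t * x = x * t → ∃ y, g * c.ι x * g⁻¹ = c.ι y := by
  obtain ⟨g, hg⟩ := h
  set P : Subgroup G :=
    ((Subgroup.centralizer ({t} : Set SM)).map c.ι).map (MulAut.conj g).toMonoidHom with hPdef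
  have hP : IsPGroup 2 P := (c.isPGroup_map _).map _
  have hPK : P ≤ Cz c := by
    rintro _ ⟨_, ⟨x, hx, rfl⟩, rfl⟩
    have hx' := Subgroup.mem_centralizer_singleton_iff.mp hx
    unfold Cz
    rw [Subgroup.mem_centralizer_singleton_iff]
    show g * c.ι x * g⁻¹ * c.ι z0 = c.ι z0 * (g * c.ι x * g⁻¹)
    rw [← hg, ← conj_map_mul, ← conj_map_mul, ← map_mul, hx', map_mul]
  obtain ⟨k, hk, hkP⟩ := c.exists_conj_in (range_le_Cz c) hPK hP
  refine ⟨k * g, ?_, ?_⟩
  · calc k * g * c.ι t * (k * g)⁻¹ = k * (g * c.ι t * g⁻¹) * k⁻¹ := by group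
      _ = c.ι z0 := by rw [hg]; exact (mem_Cz c).mp hk
  · intro x hx
    obtain ⟨s, hs⟩ := hkP _ ⟨_, Subgroup.mem_map_of_mem c.ι
      (Subgroup.mem_centralizer_singleton_iff.mpr hx.symm), rfl⟩
    refine ⟨s, ?_⟩
    rw [hs]
    show k * g * c.ι x * (k * g)⁻¹ = k * (g * c.ι x * g⁻¹) * k⁻¹
    group

theorem Dz_of_conj {x y : SM} {g : G} (h : Dz c x) (hg : g * c.ι x * g⁻¹ = c.ι y) : Dz c y := by
  obtain ⟨k, hk⟩ := h
  refine ⟨k * g⁻¹, ?_⟩
  rw [← hg, ← hk]; group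

theorem Dz_of_conj' {x y : SM} {g : G} (h : Dz c y) (hg : g * c.ι x * g⁻¹ = c.ι y) : Dz c x := by
  obtain ⟨k, hk⟩ := h
  refine ⟨k * g, ?_⟩
  rw [← hk, ← hg]; group

theorem Dz_z0 : Dz c z0 := ⟨1, by group⟩

theorem Dz_smul {x s : SM} (h : Dz c x) : Dz c (s * x * s⁻¹) :=
  Dz_of_conj c h (g := c.ι s) (by rw [map_mul, map_mul, map_inv])

theorem a1_of_a0 (h : Dz c a0) : Dz c a1 := by
  have := Dz_smul c (s := s0) h
  rwa [s0_swap.1] at this
theorem a0_of_a1 (h : Dz c a1) : Dz c a0 := by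
  have := Dz_smul c (s := s0) h
  rwa [s0_swap.2] at this

theorem Dz_a0_of_V {x : SM} (hx : x ∈ V) (h1 : x ≠ 1) (hz : x ≠ z0) (h : Dz c x) : Dz c a0 := by
  rcases V_cases hx with e | e | e | e
  · exact absurd e h1
  · rwa [e] at h
  · rw [e] at h; exact a0_of_a1 c h
  · exact absurd e hz

theorem Nm_V_SM (s : SM) : Nm c V (c.ι s) := Nm_of_normal c (fun _ _ hx => V_normal hx) s
theorem Nm_J_SM (s : SM) : Nm c J (c.ι s) :=
  Nm_of_normal c (fun s x hx => J_normal.conj_mem x hx s) s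

theorem mem_R2_of_comm_a0 {s : SM} (h : s * a0 = a0 * s) : s ∈ R2 :=
  Subgroup.mem_centralizer_singleton_iff.mpr h

theorem R2_normal (s x : SM) (hx : x ∈ R2) : s * x * s⁻¹ ∈ R2 := by
  apply mem_R2_of_comm_a0
  have h1 : s⁻¹ * a0 * s⁻¹⁻¹ ∈ V := V_normal a0_mem_V
  rw [inv_inv] at h1
  have h2 := R2_cent hx h1
  calc s * x * s⁻¹ * a0 = s * (x * (s⁻¹ * a0 * s)) * s⁻¹ := by group
    _ = s * ((s⁻¹ * a0 * s) * x) * s⁻¹ := by rw [h2]
    _ = a0 * (s * x * s⁻¹) := by group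

theorem Nm_R2_SM (s : SM) : Nm c R2 (c.ι s) := Nm_of_normal c R2_normal s

/-- if `a ~ z` there is an element of `N_G(R2) ∩ N_G(J)` carrying `a` to `z` -/
theorem exists_a0_to_z [Finite G] (h : Dz c a0) :
    ∃ n : G, Nm c J n ∧ Nm c R2 n ∧ Nm c V n ∧ n * c.ι a0 * n⁻¹ = c.ι z0 := by
  obtain ⟨n, hn, hC⟩ := to_z c h
  have hR : ∀ r ∈ R2, ∃ y, n * c.ι r * n⁻¹ = c.ι y := fun r hr =>
    hC r (Subgroup.mem_centralizer_singleton_iff.mp hr).symm
  have hJ : Nm c J n := wJ c n (fun x hx => hR x (J_le_R2 hx))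
  have hV : Nm c V n := by
    intro w hw
    obtain ⟨w', hw', hww⟩ := hJ w (V_le_J hw)
    refine ⟨w', ?_, hww⟩
    by_contra hV'
    have hOm : w' ∈ Om := by
      rw [mem_Om_iff]
      refine ⟨hw', ?_⟩
      apply c.inj
      have h2 := (mem_Om_iff.mp (V_le_Om hw)).2
      rw [map_mul, ← hww, ← conj_map_mul, ← map_mul, h2, map_one]; group
    have h128 := card_cent_Om hOm hV'
    have h3 : tr c n R2 ≤ Subgroup.centralizer ({w'} : Set SM) := by
      intro y hy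
      obtain ⟨x, hx, hxy⟩ := (mem_tr c).mp hy
      rw [Subgroup.mem_centralizer_singleton_iff]
      apply c.inj
      rw [map_mul, map_mul, ← hxy, ← hww, ← conj_map_mul, ← map_mul, R2_cent hx hw, map_mul,
        conj_map_mul]
    have h4 := Subgroup.card_le_of_le h3
    rw [card_tr c hR, card_R2] at h4
    omega
  refine ⟨n, hJ, ?_, hV, hn⟩
  intro r hr
  obtain ⟨s, hs⟩ := hR r hr
  refine ⟨s, ?_, hs⟩
  obtain ⟨w, hw, hww⟩ := Nm_surj c hV a0_mem_V
  apply mem_R2_of_comm_a0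
  apply c.inj
  rw [map_mul, map_mul, ← hs, ← hww, ← conj_map_mul, ← map_mul, R2_cent hr hw, map_mul,
    conj_map_mul]

theorem Nm_ne_one {n : G} {x y : SM} (hx : x ≠ 1) (h : n * c.ι x * n⁻¹ = c.ι y) : y ≠ 1 := by
  rintro rfl
  apply hx
  apply c.inj; apply conj_inj (g := n)
  rw [h, map_one]; group

theorem swapV [Finite G] (h : Dz c a0) : SwapV c := by
  obtain ⟨n, hJ, hR, hV, hn⟩ := exists_a0_to_z c h
  constructor
  · intro w hw hw1
    rcases V_cases hw with e | e | e | e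
    · exact absurd e hw1
    · rw [e]; exact ⟨n, hJ, hR, hV, hn⟩
    · refine ⟨n * c.ι s0, Nm_mul c hJ (Nm_J_SM c s0), Nm_mul c hR (Nm_R2_SM c s0),
        Nm_mul c hV (Nm_V_SM c s0), ?_⟩
      rw [e]
      calc n * c.ι s0 * c.ι a1 * (n * c.ι s0)⁻¹ = n * c.ι (s0 * a1 * s0⁻¹) * n⁻¹ := by
            rw [map_mul, map_mul, map_inv]; group
        _ = c.ι z0 := by rw [s0_swap.2, hn]
    · rw [e]
      refine ⟨1, ?_, ?_, ?_, by group⟩ <;> intro x hx <;> exact ⟨x, hx, by group⟩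
  · obtain ⟨w, hw, hww⟩ := hV z0 z0_mem_V
    have hw1 : w ≠ 1 := Nm_ne_one c z0_ne_one hww
    have hwz : w ≠ z0 := by
      rintro rfl
      exact a0_ne_z0 (c.inj (conj_inj (g := n) (hn.trans hww.symm)))
    rcases V_cases hw with e | e | e | e
    · exact absurd e hw1
    · rw [e] at hww; exact ⟨n, hJ, hR, hV, hn, hww⟩
    · refine ⟨c.ι s0 * n, Nm_mul c (Nm_J_SM c s0) hJ, Nm_mul c (Nm_R2_SM c s0) hR,
        Nm_mul c (Nm_V_SM c s0) hV, ?_, ?_⟩
      · calc c.ι s0 * n * c.ι a0 * (c.ι s0 * n)⁻¹ = c.ι s0 * (n * c.ι a0 * n⁻¹) * (c.ι s0)⁻¹ := by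
              group
          _ = c.ι z0 := by
            rw [hn, ← map_mul, z0_central, map_mul, mul_inv_cancel_right]
      · calc c.ι s0 * n * c.ι z0 * (c.ι s0 * n)⁻¹ = c.ι s0 * (n * c.ι z0 * n⁻¹) * (c.ι s0)⁻¹ := by
              group
          _ = c.ι (s0 * a1 * s0⁻¹) := by rw [hww, e, map_mul, map_mul, map_inv]
          _ = c.ι a0 := by rw [s0_swap.2]
    · exact absurd e hwz

/-- fusion inside `Ω` -/
theorem a0_of_Om [Finite G] {t : SM} (ht : t ∈ Om) (h1 : t ≠ 1) (hz : t ≠ z0) (h : Dz c t) :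
    Dz c a0 := by
  by_cases hV : t ∈ V
  · exact Dz_a0_of_V c hV h1 hz h
  by_contra hna
  have hb : ∀ x : SM, x ∈ Om → x ∉ V → Dz c x := by
    intro x hx hxV
    obtain ⟨s, hs⟩ := conj_b ht hV hx hxV
    rw [← hs]; exact Dz_smul c h
  obtain ⟨g, hg⟩ := h
  obtain ⟨n, hn, hnt, -⟩ := burnside_J c (mem_Om_iff.mp ht).1 (V_le_J z0_mem_V) hg
  have hOm : ∀ x ∈ Om, ∃ y ∈ Om, n * c.ι x * n⁻¹ = c.ι y := by
    intro x hx
    obtain ⟨y, hy, hxy⟩ := hn x (mem_Om_iff.mp hx).1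
    refine ⟨y, mem_Om_iff.mpr ⟨hy, ?_⟩, hxy⟩
    apply c.inj
    rw [map_mul, ← hxy, ← conj_map_mul, ← map_mul, (mem_Om_iff.mp hx).2, map_one]; group
  have hnotV : ∀ x y : SM, x ∈ Om → x ≠ 1 → Dz c x → n * c.ι x * n⁻¹ = c.ι y → y ∈ Om →
      y ≠ z0 → y ∉ V := by
    intro x y hx hx1 hxD hxy hy hyz hyV
    apply hna
    exact Dz_a0_of_V c hyV (Nm_ne_one c hx1 hxy) hyz (Dz_of_conj c hxD hxy)
  -- `t a₀`
  have hta : t * a0 ∈ Om := Om.mul_mem ht (V_le_Om a0_mem_V)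
  have htaV : t * a0 ∉ V := fun h2 => hV (by
    have := V.mul_mem h2 a0_mem_V
    rwa [mul_assoc, a0_sq, mul_one] at this)
  obtain ⟨w, hw, hww⟩ := hOm _ hta
  have hta1 : t * a0 ≠ 1 := fun h2 => htaV (by rw [h2]; exact V.one_mem)
  have hwz : w ≠ z0 := by
    rintro rfl
    have h2 := c.inj (conj_inj (g := n) (hww.trans hnt.symm))
    have h3 : a0 = 1 := by
      have h4 : t * a0 = t * 1 := by rw [h2, mul_one]
      exact mul_left_cancel h4
    exact a0_ne_one h3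
  have hwV := hnotV _ _ hta hta1 (hb _ hta htaV) hww hw hwz
  have hzw : n * c.ι a0 * n⁻¹ = c.ι (z0 * w) := by
    have h2 : a0 = t * (t * a0) := by
      rw [← mul_assoc, (mem_Om_iff.mp ht).2, one_mul]
    rw [map_mul, ← hww, ← hnt, ← conj_map_mul, ← map_mul, ← h2]
  have hzwOm : z0 * w ∈ Om := Om.mul_mem (V_le_Om z0_mem_V) hw
  have hzwV : z0 * w ∉ V := fun h2 => hwV (by
    have := V.mul_mem z0_mem_V h2
    rwa [← mul_assoc, z0_sq, one_mul] at this)
  exact hna (Dz_of_conj' c (hb _ hzwOm hzwV) hzw)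

theorem V_mul_cases {d e : SM} (hd : d ∈ V) (hd1 : d ≠ 1) :
    ∃ e ∈ V, e ≠ 1 ∧ e ≠ d := by
  by_cases h : d = a0
  · exact ⟨a1, a1_mem_V, a1_ne_one, by rw [h]; exact a0_ne_a1.symm⟩
  · exact ⟨a0, a0_mem_V, a0_ne_one, fun h' => h h'.symm⟩

/-- an involution outside `J` conjugate to `z` forces `a ~ z` -/
theorem a0_of_notJ [Finite G] {t : SM} (ht : t * t = 1) (hJ : t ∉ J) (h : Dz c t) :
    Dz c a0 := by
  obtain ⟨g, hg, hC⟩ := to_z c h
  have htz : t ≠ z0 := by rintro rfl; exact hJ (V_le_J z0_mem_V)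
  have hsq : ∀ {x y : SM}, g * c.ι x * g⁻¹ = c.ι y → g * c.ι (x * x) * g⁻¹ = c.ι (y * y) := by
    intro x y hxy
    rw [map_mul, conj_map_mul, hxy, map_mul]
  have hinj : ∀ {x y : SM}, g * c.ι x * g⁻¹ = g * c.ι y * g⁻¹ → x = y := fun hxy =>
    c.inj (conj_inj hxy)
  have hone : g * c.ι 1 * g⁻¹ = c.ι 1 := by rw [map_one]; group
  by_cases hR : t ∈ R1
  · have htu : t * u0 = u0 * t := Subgroup.mem_centralizer_singleton_iff.mp hR
    obtain ⟨u', hu'⟩ := hC u0 htu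
    obtain ⟨z', hz'⟩ := hC z0 (z0_central t)
    have huz : u' * u' = z' := by
      apply c.inj
      rw [← hsq hu', u0_sq, hz']
    have hz1 : z' ≠ 1 := Nm_ne_one c z0_ne_one hz'
    have hzz : z' ≠ z0 := by
      rintro rfl
      exact htz (hinj (hg.trans hz'.symm))
    have hz2 : z' * z' = 1 := by
      apply c.inj; rw [← hsq hz', z0_sq, hone]
    by_cases hV : z' ∈ V
    · exact Dz_a0_of_V c hV hz1 hzz (Dz_of_conj c (Dz_z0 c) hz')
    exfalso
    obtain ⟨⟨w, hwR, hwt, hw2, hw1, hwz, hwt', hwtz⟩, a, b, haR, hbR, hta, htb, hab⟩ :=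
      f2a ht hR hJ
    have hcu : ∀ x y : SM, x ∈ R1 → g * c.ι x * g⁻¹ = c.ι y → u' * y = y * u' := by
      intro x y hx hxy
      have h1 : x * u0 = u0 * x := Subgroup.mem_centralizer_singleton_iff.mp hx
      apply c.inj
      rw [map_mul, map_mul, ← hu', ← hxy, ← conj_map_mul, ← conj_map_mul, ← map_mul, ← map_mul, h1]
    rcases fZ (x := u') (by rw [huz]; exact hz1) (by rw [huz]; exact hz2) (by rw [huz]; exact hV)
      with ⟨-, h1⟩ | h1
    · obtain ⟨a', ha'⟩ := hC a hta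
      obtain ⟨b', hb'⟩ := hC b htb
      apply hab
      apply hinj
      rw [map_mul, map_mul, conj_map_mul, conj_map_mul, ha', hb', ← map_mul, ← map_mul,
        comm_J (h1 a' (hcu a a' haR ha')) (h1 b' (hcu b b' hbR hb'))]
    · obtain ⟨w', hw'⟩ := hC w hwt
      have h2 := fR h1 (by rw [huz]; exact hz2) (y := w') (by
        apply c.inj; rw [← hsq hw', hw2, hone]) (hcu w w' hwR hw')
      rw [huz] at h2
      rcases h2 with h3 | h3 | h3 | h3
      · apply hw1; apply hinj; rw [hw', h3, hone]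
      · apply hwt'; apply hinj; rw [hw', h3, hg]
      · apply hwz; apply hinj; rw [hw', h3, hz']
      · apply hwtz; apply hinj
        rw [hw', h3, map_mul c.ι t z0, conj_map_mul, hg, hz', ← map_mul, z0_central]
  · have hR2 : t ∈ R2 := by
      rcases inv_cases ht with h1 | h1
      · exact absurd h1 hR
      · exact h1
    obtain ⟨⟨f, hfJ, htf, hf1, hfV⟩, hconj⟩ := f2b ht hR2 hR
    set d := f * f with hd
    obtain ⟨f', hf'⟩ := hC f htf
    have htV : ∀ v ∈ V, t * v = v * t := fun v hv => R2_cent hR2 hv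
    obtain ⟨d', hd'⟩ := hC d (htV d hfV)
    have hfd : f' * f' = d' := by
      apply c.inj
      rw [← hsq hf', hd']
    have hdt : d ≠ t := fun h1 => hJ (by rw [← h1]; exact V_le_J hfV)
    have hd'1 : d' ≠ 1 := Nm_ne_one c hf1 hd'
    have hd'z : d' ≠ z0 := by
      rintro rfl
      exact hdt (hinj (hd'.trans hg.symm))
    have hd'2 : d' * d' = 1 := by
      apply c.inj; rw [← hsq hd', (mem_Om_iff.mp (V_le_Om hfV)).2, hone]
    by_cases hV : d' ∈ V
    · -- `z d' = (t d)^g`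
      have h1 : g * c.ι (t * d) * g⁻¹ = c.ι (z0 * d') := by
        rw [map_mul, conj_map_mul, hg, hd', map_mul]
      obtain ⟨s, hs⟩ := hconj d hfV
      have h2 : Dz c (t * d) := by rw [← hs]; exact Dz_smul c h
      have h3 : Dz c (z0 * d') := Dz_of_conj c h2 h1
      refine Dz_a0_of_V c (V.mul_mem z0_mem_V hV) ?_ ?_ h3
      · intro h4
        apply hd'z
        calc d' = z0 * (z0 * d') := by rw [← mul_assoc, z0_sq, one_mul]
          _ = z0 := by rw [h4, mul_one]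
      · intro h4
        apply hd'1
        calc d' = z0 * (z0 * d') := by rw [← mul_assoc, z0_sq, one_mul]
          _ = 1 := by rw [h4, z0_sq]
    have hcf : ∀ x y : SM, x * f = f * x → g * c.ι x * g⁻¹ = c.ι y → f' * y = y * f' := by
      intro x y hx hxy
      apply c.inj
      rw [map_mul, map_mul, ← hf', ← hxy, ← conj_map_mul, ← conj_map_mul, ← map_mul, ← map_mul, hx]
    rcases fZ (x := f') (by rw [hfd]; exact hd'1) (by rw [hfd]; exact hd'2)
      (by rw [hfd]; exact hV) with ⟨-, h1⟩ | h1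
    · -- `z^g ∈ J`
      obtain ⟨z', hz'⟩ := hC z0 (z0_central t)
      have hz'J : z' ∈ J := h1 z' (hcf z0 z' (z0_central f).symm hz')
      have hz2 : z' * z' = 1 := by
        apply c.inj; rw [← hsq hz', z0_sq, hone]
      have hzz : z' ≠ z0 := by
        rintro rfl
        exact htz (hinj (hg.trans hz'.symm))
      exact a0_of_Om c (mem_Om_iff.mpr ⟨hz'J, hz2⟩) (Nm_ne_one c z0_ne_one hz') hzz
        (Dz_of_conj c (Dz_z0 c) hz')
    · exfalso
      obtain ⟨e, heV, he1, hed⟩ := V_mul_cases (e := d) hfV hf1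
      obtain ⟨e', he'⟩ := hC e (htV e heV)
      have he2 : e * e = 1 := (mem_Om_iff.mp (V_le_Om heV)).2
      have h2 := fR h1 (by rw [hfd]; exact hd'2) (y := e') (by
        apply c.inj; rw [← hsq he', he2, hone]) (hcf e e' (comm_J (V_le_J heV) hfJ) he')
      rw [hfd] at h2
      rcases h2 with h3 | h3 | h3 | h3
      · apply he1; apply hinj; rw [he', h3, hone]
      · apply hJ
        have h4 : e = t := hinj (by rw [he', h3, hg])
        rw [← h4]; exact V_le_J heV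
      · apply hed; apply hinj; rw [he', h3, hd']
      · apply hJ
        have h4 : e = t * d := hinj (by
          rw [he', h3, map_mul c.ι t d, conj_map_mul, hg, hd', ← map_mul, z0_central])
        have h5 : t = e * d := by
          rw [h4, mul_assoc, (mem_Om_iff.mp (V_le_Om hfV)).2, mul_one]
        rw [h5]; exact V_le_J (V.mul_mem heV hfV)

end Cfsg.Agent.HSType.JFus
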