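import Cfsg.Agent.J2Sylow.Functor

/-!
# Lemma H of the Higman–Sims type (S1777)

`H` finite with a Sylow 2-subgroup `T` of order 64 of a certain type (two elementary abelian
subgroups of order 16 containing all involutions).  If `B` is `Z` or `A₁`, strongly closed in `T`,
and all its involutions are conjugate, with 2-nilpotent centralizers for the involutions of `Z`,
then `B O(H)` is normal in `H`.
-/

set_option autoImplicit false
set_option maxHeartbeats 400000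

namespace Cfsg.Agent.HSType.LemmaH

open Subgroup
open scoped commutatorElement
open Cfsg.Agent.J2Sylow.Functor

universe u

section gen

variable {X : Type*} [Group X]

/-- A 2-element of a subgroup `M` containing the Sylow 2-subgroup `T` is conjugate in `M` into
`T`. -/
theorem exists_conj_mem2 [Finite X] (T : Sylow 2 X) {M : Subgroup X} (hTM : (T : Subgroup X) ≤ M)
    {t : X} (ht : t ∈ M) (h2 : ∃ k : ℕ, t ^ (2 ^ k) = 1) : ∃ m ∈ M, m * t * m⁻¹ ∈ T := by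
  set P : Sylow 2 M := T.subtype hTM with hP
  have hz : IsPGroup 2 (zpowers (⟨t, ht⟩ : M)) := by
    obtain ⟨k, hk⟩ := h2
    obtain ⟨j, -, hj⟩ := (Nat.dvd_prime_pow Nat.prime_two).mp (orderOf_dvd_of_pow_eq_one hk)
    rw [IsPGroup.iff_card]
    exact ⟨j, by rw [Nat.card_zpowers, Subgroup.orderOf_mk, hj]⟩
  obtain ⟨Q, hQ⟩ := hz.exists_le_sylow
  obtain ⟨m, hm⟩ := MulAction.exists_smul_eq M Q P
  refine ⟨m, m.2, ?_⟩
  have h1 : (⟨t, ht⟩ : M) ∈ Q := hQ (mem_zpowers _)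
  have h3 : m * ⟨t, ht⟩ * m⁻¹ ∈ (m • Q : Sylow 2 M) := by
    rw [← SetLike.mem_coe, Sylow.coe_smul]
    exact Set.mem_smul_set.mpr ⟨⟨t, ht⟩, h1, rfl⟩
  rw [hm] at h3
  exact h3

/-- A 2-subgroup of a subgroup `M` containing the Sylow 2-subgroup `T` is conjugate in `M` into
`T`. -/
theorem exists_conj_le [Finite X] (T : Sylow 2 X) {M : Subgroup X} (hTM : (T : Subgroup X) ≤ M)
    {A : Subgroup X} (ht : A ≤ M) (h2 : IsPGroup 2 A) : ∃ m ∈ M, ∀ a ∈ A, m * a * m⁻¹ ∈ T := by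
  set P : Sylow 2 M := T.subtype hTM with hP
  have hz : IsPGroup 2 (A.subgroupOf M) := by
    exact h2.of_injective (A.subgroupOfEquivOfLe ht).toMonoidHom
      (A.subgroupOfEquivOfLe ht).injective
  obtain ⟨Q, hQ⟩ := hz.exists_le_sylow
  obtain ⟨m, hm⟩ := MulAction.exists_smul_eq M Q P
  refine ⟨m, m.2, ?_⟩
  intro a ha
  have h1 : (⟨a, ht ha⟩ : M) ∈ Q := hQ (mem_subgroupOf.mpr ha)
  have h3 : m * ⟨a, ht ha⟩ * m⁻¹ ∈ (m • Q : Sylow 2 M) := by
    rw [← SetLike.mem_coe, Sylow.coe_smul]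
    exact Set.mem_smul_set.mpr ⟨⟨a, ht ha⟩, h1, rfl⟩
  rw [hm] at h3
  exact h3

/-- Frattini argument -/
theorem exists_mul_mem_normalizer [Finite X] (T : Sylow 2 X) {M : Subgroup X}
    (hTM : (T : Subgroup X) ≤ M) (g : X) (hg : ∀ x ∈ T, g * x * g⁻¹ ∈ M) :
    ∃ m ∈ M, m * g ∈ normalizer (T : Set X) := by
  have hT'M : ((g • T : Sylow 2 X) : Subgroup X) ≤ M := by
    intro y hy
    have hy' : y ∈ (g • T : Sylow 2 X) := hy
    rw [← SetLike.mem_coe, Sylow.coe_smul] at hy'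
    obtain ⟨x, hx, rfl⟩ := Set.mem_smul_set.mp hy'
    exact hg x hx
  obtain ⟨m₄, hm₄⟩ := MulAction.exists_smul_eq M ((g • T : Sylow 2 X).subtype hT'M)
    (T.subtype hTM)
  refine ⟨m₄, m₄.2, ?_⟩
  refine mem_normalizer_of_conj' ?_
  intro x hx
  have h7 : (⟨g * x * g⁻¹, hg x hx⟩ : M) ∈ ((g • T : Sylow 2 X).subtype hT'M) := by
    show g * x * g⁻¹ ∈ (g • T : Sylow 2 X)
    rw [← SetLike.mem_coe, Sylow.coe_smul]
    exact Set.mem_smul_set.mpr ⟨x, hx, rfl⟩
  have h8 : m₄ * (⟨g * x * g⁻¹, hg x hx⟩ : M) * m₄⁻¹ ∈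
      (m₄ • ((g • T : Sylow 2 X).subtype hT'M) : Sylow 2 M) := by
    rw [← SetLike.mem_coe, Sylow.coe_smul]
    exact Set.mem_smul_set.mpr ⟨_, h7, rfl⟩
  rw [hm₄] at h8
  have h9 : (m₄ : X) * (g * x * g⁻¹) * (m₄ : X)⁻¹ ∈ T := h8
  have h10 : (m₄ : X) * g * x * ((m₄ : X) * g)⁻¹ = (m₄ : X) * (g * x * g⁻¹) * (m₄ : X)⁻¹ := by
    group
  rw [h10]; exact h9

/-- odd powers into 2-elements -/
theorem exists_odd_pow [Finite X] (x : X) : ∃ m : ℕ, Odd m ∧ ∃ k : ℕ, (x ^ m) ^ (2 ^ k) = 1 := by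
  obtain ⟨k, m, hm, h⟩ := Nat.exists_eq_two_pow_mul_odd (orderOf_pos x).ne'
  refine ⟨m, hm, k, ?_⟩
  rw [← pow_mul, mul_comm, ← h, pow_orderOf_eq_one]

/-- 2-elements normalizing a Sylow 2-subgroup lie in it -/
theorem mem_of_mem_normalizer [Finite X] (T : Sylow 2 X) {x : X}
    (hx : x ∈ normalizer (T : Set X)) (h2 : ∃ k : ℕ, x ^ (2 ^ k) = 1) : x ∈ T := by
  obtain ⟨m, hm, h⟩ := exists_conj_mem2 T le_normalizer hx h2
  have h3 := (mem_normalizer_iff.mp ((normalizer (T : Set X)).inv_mem hm) (m * x * m⁻¹)).mp h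
  have h4 : m⁻¹ * (m * x * m⁻¹) * m⁻¹⁻¹ = x := by group
  rwa [h4] at h3

theorem exists_odd_pow_mem [Finite X] (T : Sylow 2 X) {x : X}
    (hx : x ∈ normalizer (T : Set X)) : ∃ m : ℕ, Odd m ∧ x ^ m ∈ T := by
  obtain ⟨m, hm, hk⟩ := exists_odd_pow x
  exact ⟨m, hm, mem_of_mem_normalizer T (pow_mem hx m) hk⟩

theorem pow_conj_mem {N : Subgroup X} {c : X} (h : ∀ x ∈ N, c * x * c⁻¹ ∈ N) (k : ℕ) :
    ∀ x ∈ N, c ^ k * x * (c ^ k)⁻¹ ∈ N := by
  induction k with
  | zero => intro x hx; simpa using hx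
  | succ n ih =>
    intro x hx
    have h3 : c ^ (n + 1) * x * (c ^ (n + 1))⁻¹ = c ^ n * (c * x * c⁻¹) * (c ^ n)⁻¹ := by
      rw [pow_succ]; group
    rw [h3]
    exact ih _ (h x hx)

/-- Burnside: if `A` is a 2-subgroup of `Y`, maximal as such, with `N_Y(A) ≤ C(A)`, then
`Y = O(Y) A`. -/
theorem burnside [Finite X] {x : X} {A : Subgroup X} (hA2 : IsPGroup 2 A)
    (hAY : A ≤ centralizer ({x} : Set X))
    (hmax : ∀ P : Subgroup X, A ≤ P → P ≤ centralizer ({x} : Set X) → IsPGroup 2 P → P ≤ A)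
    (hN : ∀ r ∈ centralizer ({x} : Set X), (∀ a ∈ A, r * a * r⁻¹ ∈ A) →
      ∀ a ∈ A, r * a * r⁻¹ = a) :
    ∀ c ∈ centralizer ({x} : Set X), ∃ k ∈ K x, k * c ∈ A := by
  classical
  have : Fact (Nat.Prime 2) := ⟨Nat.prime_two⟩
  set Y : Subgroup X := centralizer ({x} : Set X) with hY
  have hAp : IsPGroup 2 (A.subgroupOf Y) :=
    hA2.of_injective (A.subgroupOfEquivOfLe hAY).toMonoidHom (A.subgroupOfEquivOfLe hAY).injective
  obtain ⟨P, hP⟩ := hAp.exists_le_sylow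
  have hPA : ∀ y : Y, y ∈ P → (y : X) ∈ A := by
    have h1 := hmax ((P : Subgroup Y).map Y.subtype) (by
      intro a ha
      exact ⟨⟨a, hAY ha⟩, hP (mem_subgroupOf.mpr ha), rfl⟩) (by
      rintro _ ⟨y, -, rfl⟩; exact y.2) (P.isPGroup'.map _)
    intro y hy
    exact h1 ⟨y, hy, rfl⟩
  have hPA' : ∀ y : Y, y ∈ P ↔ (y : X) ∈ A := fun y =>
    ⟨hPA y, fun h => hP (mem_subgroupOf.mpr h)⟩
  have hNC : normalizer (P : Set Y) ≤ centralizer (P : Set Y) := by
    intro r hr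
    rw [mem_centralizer_iff]
    intro a ha
    have h1 : ∀ a ∈ A, (r : X) * a * (r : X)⁻¹ ∈ A := by
      intro a ha
      have h2 := (mem_normalizer_iff.mp hr ⟨a, hAY ha⟩).mp ((hPA' _).mpr ha)
      exact (hPA' _).mp h2
    have h2 := hN r r.2 h1 a ((hPA' a).mp ha)
    apply Subtype.ext
    show (a : X) * r = r * a
    calc (a : X) * r = ((r : X) * a * (r : X)⁻¹) * r := by rw [h2]
      _ = _ := by group
  obtain ⟨L, hLn, hodd, hcomp⟩ : ∃ L : Subgroup Y, L.Normal ∧ ¬ 2 ∣ Nat.card L ∧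
      IsComplement' L (P : Subgroup Y) :=
    ⟨(MonoidHom.transferSylow P hNC).ker, MonoidHom.normal_ker _,
      MonoidHom.not_dvd_card_ker_transferSylow P hNC,
      MonoidHom.ker_transferSylow_isComplement' P hNC⟩
  have hLK : L.map Y.subtype ≤ K x := by
    refine le_K ?_ ?_ ?_
    · rintro _ ⟨y, -, rfl⟩; exact y.2
    · rw [Nat.card_congr (L.equivMapOfInjective _ Y.subtype_injective).symm.toEquiv,
        ← Nat.not_even_iff_odd, even_iff_two_dvd]
      exact hodd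
    · rintro c hc _ ⟨y, hy, rfl⟩
      have h1 : (⟨c, hc⟩ : Y) * y * (⟨c, hc⟩ : Y)⁻¹ ∈ L := hLn.conj_mem y hy ⟨c, hc⟩
      exact mem_map_of_mem Y.subtype h1
  intro c hc
  obtain ⟨⟨l, p⟩, hlp, -⟩ := hcomp.existsUnique ⟨c, hc⟩
  have h1 : ((l : Y) : X) * ((p : Y) : X) = c := by
    have := congrArg Subtype.val hlp
    simpa using this
  refine ⟨((l : Y) : X)⁻¹, inv_mem (hLK ⟨l, l.2, rfl⟩), ?_⟩
  rw [← h1, inv_mul_cancel_left]
  exact hPA _ p.2

end gen

/-- The configuration, one-sided. -/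
structure Conf {H : Type*} [Group H] (T : Sylow 2 H) (A A' Z : Subgroup H) : Prop where
  hAT : A ≤ T
  hAT' : A' ≤ T
  hZA : Z ≤ A
  hZA' : Z ≤ A'
  hZ : ∀ x, x ∈ A → x ∈ A' → x ∈ Z
  cT : Nat.card T = 64
  c1 : Nat.card A = 16
  c2 : Nat.card A' = 16
  cZ : Nat.card Z = 4
  e1 : ∀ a ∈ A, a * a = 1
  e2 : ∀ a ∈ A', a * a = 1
  hZc : ∀ a ∈ Z, ∀ t ∈ T, t * a = a * t
  hinv : ∀ x ∈ T, x * x = 1 → x ∈ A ∨ x ∈ A'
  k1 : ∀ a ∈ A, a ∉ Z → ∀ t ∈ T, t * a = a * t → t ∈ A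
  k2 : ∀ a ∈ A', a ∉ Z → ∀ t ∈ T, t * a = a * t → t ∈ A'
  hcomm : ⁅A, A'⁆ = Z
  hJ : ∀ n ∈ normalizer ((T : Subgroup H) : Set H),
    (∀ a ∈ A, n * a * n⁻¹ * a⁻¹ ∈ Z) ↔ (∀ a ∈ A', n * a * n⁻¹ * a⁻¹ ∈ Z)

namespace Conf

variable {H : Type*} [Group H] {T : Sylow 2 H} {A A' Z : Subgroup H}

theorem symm (C : Conf T A A' Z) : Conf T A' A Z where
  hAT := C.hAT'
  hAT' := C.hAT
  hZA := C.hZA'
  hZA' := C.hZA
  hZ := fun x h1 h2 => C.hZ x h2 h1
  cT := C.cT
  c1 := C.c2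
  c2 := C.c1
  cZ := C.cZ
  e1 := C.e2
  e2 := C.e1
  hZc := C.hZc
  hinv := fun x h1 h2 => (C.hinv x h1 h2).symm
  k1 := C.k2
  k2 := C.k1
  hcomm := by rw [commutator_comm]; exact C.hcomm
  hJ := fun n hn => (C.hJ n hn).symm

theorem conj_mem' (C : Conf T A A' Z) {a b : H} (ha : a ∈ A) (hb : b ∈ A') : b * a * b⁻¹ ∈ A := by
  have h1 : ⁅b, a⁆ ∈ ⁅A', A⁆ := commutator_mem_commutator hb ha
  rw [commutator_comm, C.hcomm] at h1
  have h2 := A.mul_mem (C.hZA h1) ha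
  rw [commutatorElement_def] at h2
  simpa using h2

theorem comm (C : Conf T A A' Z) {a b : H} (ha : a ∈ A) (hb : b ∈ A) : a * b = b * a := by
  have h1 := C.e1 a ha
  have h2 := C.e1 b hb
  have h3 := C.e1 (a * b) (A.mul_mem ha hb)
  have ha' : a⁻¹ = a := inv_eq_of_mul_eq_one_right h1
  have hb' : b⁻¹ = b := inv_eq_of_mul_eq_one_right h2
  have hab : (a * b)⁻¹ = a * b := inv_eq_of_mul_eq_one_right h3
  rw [← hab, mul_inv_rev, ha', hb']

theorem inv_eq (C : Conf T A A' Z) {a : H} (ha : a ∈ A) : a⁻¹ = a :=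
  inv_eq_of_mul_eq_one_right (C.e1 a ha)

/-- `T = A A'` -/
theorem exists_mul [Finite H] (C : Conf T A A' Z) {t : H} (ht : t ∈ T) :
    ∃ a ∈ A, ∃ b ∈ A', t = a * b := by
  classical
  have : Fintype T := Fintype.ofFinite T
  -- the surjection from `A × A'` onto the set `A A'`, with fibres of order at most 4
  let f : A × A' → T := fun p => ⟨p.1 * p.2, mul_mem (C.hAT p.1.2) (C.hAT' p.2.2)⟩
  by_contra hne
  have hcard : Nat.card (A × A') = 256 := by
    rw [Nat.card_prod, C.c1, C.c2]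
  -- each fibre embeds in `Z`
  have hfib : ∀ y : T, Nat.card {p : A × A' // f p = y} ≤ 4 := by
    intro y
    by_cases h : ∃ p, f p = y
    · obtain ⟨p0, hp0⟩ := h
      have hval : ∀ p : A × A', f p = y → (p.1 : H) * p.2 = y := by
        intro p hp
        exact congrArg Subtype.val hp
      have h0 := hval p0 hp0
      rw [← C.cZ]
      have hmem : ∀ p : {p : A × A' // f p = y}, ((p0.1 : H))⁻¹ * (p.1.1 : H) ∈ Z := by
        intro p
        apply C.hZ
        · exact A.mul_mem (A.inv_mem p0.1.2) p.1.1.2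
        · have h1 := hval p.1 p.2
          have h2 : ((p0.1 : H))⁻¹ * (p.1.1 : H) = (p0.2 : H) * ((p.1.2 : H))⁻¹ := by
            rw [inv_mul_eq_iff_eq_mul, ← mul_assoc, eq_mul_inv_iff_mul_eq, h0, h1]
          rw [h2]
          exact A'.mul_mem p0.2.2 (A'.inv_mem p.1.2.2)
      refine Nat.card_le_card_of_injective
        (fun p : {p : A × A' // f p = y} => (⟨_, hmem p⟩ : Z)) ?_
      intro p q hpq
      have h1 : ((p0.1 : H))⁻¹ * (p.1.1 : H) = ((p0.1 : H))⁻¹ * (q.1.1 : H) :=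
        congrArg Subtype.val hpq
      have h2 : (p.1.1 : H) = q.1.1 := mul_left_cancel h1
      have h3 : (p.1.2 : H) = q.1.2 := by
        have h4 := hval p.1 p.2
        have h5 := hval q.1 q.2
        rw [h2] at h4
        exact mul_left_cancel (h4.trans h5.symm)
      apply Subtype.ext
      exact Prod.ext (Subtype.ext h2) (Subtype.ext h3)
    · have : IsEmpty {p : A × A' // f p = y} := ⟨fun p => h ⟨p.1, p.2⟩⟩
      rw [Nat.card_of_isEmpty]
      omega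
  have hempty : Nat.card {p : A × A' // f p = ⟨t, ht⟩} = 0 := by
    have : IsEmpty {p : A × A' // f p = ⟨t, ht⟩} := by
      refine ⟨fun p => hne ⟨p.1.1, p.1.1.2, p.1.2, p.1.2.2, ?_⟩⟩
      exact (congrArg Subtype.val p.2).symm
    exact Nat.card_of_isEmpty
  have hsum : Nat.card (A × A') = ∑ y : T, Nat.card {p : A × A' // f p = y} := by
    rw [Nat.card_congr (Equiv.sigmaFiberEquiv f).symm, Nat.card_sigma]
    rfl
  have h3 : ∑ y : T, Nat.card {p : A × A' // f p = y} < ∑ _y : T, 4 := by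
    refine Finset.sum_lt_sum (fun y _ => hfib y) ⟨⟨t, ht⟩, Finset.mem_univ _, ?_⟩
    rw [hempty]; omega
  rw [Finset.sum_const, Finset.card_univ, ← Nat.card_eq_fintype_card, C.cT, smul_eq_mul] at h3
  rw [hcard] at hsum
  omega

theorem T_conj [Finite H] (C : Conf T A A' Z) {t : H} (ht : t ∈ T) {a : H} (ha : a ∈ A) :
    t * a * t⁻¹ ∈ A := by
  obtain ⟨x, hx, y, hy, rfl⟩ := C.exists_mul ht
  have h1 : x * y * a * (x * y)⁻¹ = x * (y * a * y⁻¹) * x⁻¹ := by group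
  rw [h1]
  exact A.mul_mem (A.mul_mem hx (C.conj_mem' ha hy)) (A.inv_mem hx)

theorem T_conj_Z [Finite H] (C : Conf T A A' Z) {t : H} (ht : t ∈ T) {a : H} (ha : a ∈ A) :
    t * a * t⁻¹ * a⁻¹ ∈ Z := by
  obtain ⟨x, hx, y, hy, rfl⟩ := C.exists_mul ht
  have h0 : y * a * y⁻¹ ∈ A := C.conj_mem' ha hy
  have h1 : x * y * a * (x * y)⁻¹ * a⁻¹ = x * (y * a * y⁻¹) * x⁻¹ * a⁻¹ := by group
  have h2 : x * (y * a * y⁻¹) * x⁻¹ = y * a * y⁻¹ := by
    rw [C.comm hx h0]; group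
  rw [h1, h2]
  have h3 : ⁅y, a⁆ ∈ ⁅A', A⁆ := commutator_mem_commutator hy ha
  rw [commutator_comm, C.hcomm, commutatorElement_def] at h3
  exact h3

theorem T_le [Finite H] (C : Conf T A A' Z) : (T : Subgroup H) ≤ normalizer (A : Set H) := by
  intro t ht
  exact mem_normalizer_of_conj' fun a ha => C.T_conj ht ha

theorem ne [Finite H] (C : Conf T A A' Z) : A ≠ A' := by
  intro h
  have h1 : A ≤ Z := fun x hx => C.hZ x hx (h ▸ hx)
  have h2 := card_le_of_le h1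
  rw [C.c1, C.cZ] at h2
  omega

/-- an elementary abelian subgroup of `T` of order 16 is `A` or `A'` -/
theorem eq_or_eq [Finite H] (C : Conf T A A' Z) {B : Subgroup H} (hB : B ≤ T)
    (h2 : ∀ b ∈ B, b * b = 1) (hc : Nat.card B = 16) : B = A ∨ B = A' := by
  have key : B ≤ A ∨ B ≤ A' := by
    by_contra hne
    push Not at hne
    obtain ⟨x, hx, hxA⟩ := Set.not_subset.mp hne.1
    obtain ⟨y, hy, hyA⟩ := Set.not_subset.mp hne.2
    have hx' : x ∈ A' := (C.hinv x (hB hx) (h2 x hx)).resolve_left hxA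
    have hy' : y ∈ A := (C.hinv y (hB hy) (h2 y hy)).resolve_right hyA
    have hxy : x * y ∈ B := B.mul_mem hx hy
    rcases C.hinv (x * y) (hB hxy) (h2 _ hxy) with h | h
    · apply hxA
      have := A.mul_mem h (A.inv_mem hy')
      simpa using this
    · apply hyA
      have := A'.mul_mem (A'.inv_mem hx') h
      simpa using this
  rcases key with h | h
  · left
    exact eq_of_le_of_card_ge h (by rw [C.c1, hc])
  · right
    exact eq_of_le_of_card_ge h (by rw [C.c2, hc])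

theorem normalizer_le [Finite H] (C : Conf T A A' Z) :
    normalizer ((T : Subgroup H) : Set H) ≤ normalizer (A : Set H) := by
  intro n hn
  have hmap : ∀ {B : Subgroup H}, B ≤ T → (∀ b ∈ B, b * b = 1) → Nat.card B = 16 →
      B.map (MulAut.conj n).toMonoidHom = A ∨ B.map (MulAut.conj n).toMonoidHom = A' := by
    intro B hB h2 hc
    refine C.eq_or_eq ?_ ?_ ?_
    · rintro _ ⟨b, hb, rfl⟩
      exact (mem_normalizer_iff.mp hn b).mp (hB hb)
    · rintro _ ⟨b, hb, rfl⟩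
      show n * b * n⁻¹ * (n * b * n⁻¹) = 1
      have h3 := h2 b hb
      calc n * b * n⁻¹ * (n * b * n⁻¹) = n * (b * b) * n⁻¹ := by group
        _ = 1 := by rw [h3]; group
    · rw [← hc]
      exact Nat.card_congr (B.equivMapOfInjective _ (MulAut.conj n).injective).symm.toEquiv
  rcases hmap C.hAT C.e1 C.c1 with h | h
  · refine mem_normalizer_of_conj' ?_
    intro x hx
    have h1 : n * x * n⁻¹ ∈ A.map (MulAut.conj n).toMonoidHom := ⟨x, hx, rfl⟩
    rwa [h] at h1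
  · exfalso
    -- `n` swaps
    have h' : A'.map (MulAut.conj n).toMonoidHom = A := by
      rcases hmap C.hAT' C.e2 C.c2 with h1 | h1
      · exact h1
      · exfalso
        apply C.ne
        exact Subgroup.map_injective (MulAut.conj n).injective (h.trans h1.symm)
    have s1 : ∀ x ∈ A, n * x * n⁻¹ ∈ A' := by
      intro x hx
      have h1 : n * x * n⁻¹ ∈ A.map (MulAut.conj n).toMonoidHom := ⟨x, hx, rfl⟩
      rwa [h] at h1
    have s2 : ∀ x ∈ A', n * x * n⁻¹ ∈ A := by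
      intro x hx
      have h1 : n * x * n⁻¹ ∈ A'.map (MulAut.conj n).toMonoidHom := ⟨x, hx, rfl⟩
      rwa [h'] at h1
    obtain ⟨m, ⟨k, hk⟩, hmT⟩ := exists_odd_pow_mem T hn
    have s3 : ∀ x ∈ A, n * n * x * (n * n)⁻¹ ∈ A := by
      intro x hx
      have h1 : n * n * x * (n * n)⁻¹ = n * (n * x * n⁻¹) * n⁻¹ := by group
      rw [h1]
      exact s2 _ (s1 x hx)
    have s4 : ∀ x ∈ A, n ^ m * x * (n ^ m)⁻¹ ∈ A' := by
      intro x hx
      have h1 := pow_conj_mem (N := A) (c := n * n) s3 k x hx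
      have h2 := s1 _ h1
      have h3 : n ^ m * x * (n ^ m)⁻¹ = n * ((n * n) ^ k * x * ((n * n) ^ k)⁻¹) * n⁻¹ := by
        rw [hk, pow_succ', pow_mul, pow_two]; group
      rw [h3]; exact h2
    apply C.ne
    have h5 : A ≤ A' := by
      intro x hx
      -- x = n^m x' n^-m
      have h6 : (n ^ m)⁻¹ * x * (n ^ m)⁻¹⁻¹ ∈ A := C.T_conj (inv_mem hmT) hx
      have h7 := s4 _ h6
      have h8 : n ^ m * ((n ^ m)⁻¹ * x * (n ^ m)⁻¹⁻¹) * (n ^ m)⁻¹ = x := by group
      rwa [h8] at h7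
    exact eq_of_le_of_card_ge h5 (by rw [C.c1, C.c2])

theorem exists_notMem [Finite H] (C : Conf T A A' Z) : ∃ a ∈ A, a ∉ Z := by
  by_contra hne
  push Not at hne
  have h2 := card_le_of_le (H := A) (K := Z) hne
  rw [C.c1, C.cZ] at h2
  omega

/-- 2-elements centralizing `A` lie in `A` -/
theorem hself [Finite H] (C : Conf T A A' Z) (x : H) (h2 : ∃ k : ℕ, x ^ (2 ^ k) = 1)
    (hx : ∀ j ∈ A, x * j = j * x) : x ∈ A := by
  have hxN : x ∈ normalizer (A : Set H) := by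
    refine mem_normalizer_of_conj' ?_
    intro a ha
    rw [hx a ha, mul_inv_cancel_right]
    exact ha
  obtain ⟨g, hg, hgT⟩ := exists_conj_mem2 T C.T_le hxN h2
  obtain ⟨a, ha, haZ⟩ := C.exists_notMem
  have h3 : g * x * g⁻¹ ∈ A := by
    refine C.k1 a ha haZ _ hgT ?_
    have h4 : g⁻¹ * a * g ∈ A := by
      have h5 := (mem_normalizer_iff.mp ((normalizer (A : Set H)).inv_mem hg) a).mp ha
      rwa [inv_inv] at h5
    have h5 := hx _ h4
    calc g * x * g⁻¹ * a = g * (x * (g⁻¹ * a * g)) * g⁻¹ := by group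
      _ = g * ((g⁻¹ * a * g) * x) * g⁻¹ := by rw [h5]
      _ = a * (g * x * g⁻¹) := by group
  have h5 := (mem_normalizer_iff.mp ((normalizer (A : Set H)).inv_mem hg) _).mp h3
  have h6 : g⁻¹ * (g * x * g⁻¹) * g⁻¹⁻¹ = x := by group
  rwa [h6] at h5

theorem isPGroup [Finite H] (C : Conf T A A' Z) : IsPGroup 2 A := by
  have : Fact (Nat.Prime 2) := ⟨Nat.prime_two⟩
  rw [IsPGroup.iff_card]
  exact ⟨4, by rw [C.c1]; norm_num⟩

/-- `A` is the Sylow 2-subgroup of `C(x)` -/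
theorem max_of [Finite H] (C : Conf T A A' Z) {x : H} (hx : x ∈ A)
    (hnc : ∀ h : H, h * x * h⁻¹ ∉ Z) (P : Subgroup H) (hAP : A ≤ P)
    (hPx : P ≤ centralizer ({x} : Set H)) (hP : IsPGroup 2 P) : P ≤ A := by
  have : Fact (Nat.Prime 2) := ⟨Nat.prime_two⟩
  obtain ⟨g, -, hg⟩ := exists_conj_le T (M := ⊤) le_top (A := P) le_top hP
  have hxT : g * x * g⁻¹ ∈ T := hg x (hAP hx)
  have hx2 : (g * x * g⁻¹) * (g * x * g⁻¹) = 1 := by
    have h3 := C.e1 x hx
    calc (g * x * g⁻¹) * (g * x * g⁻¹) = g * (x * x) * g⁻¹ := by group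
      _ = 1 := by rw [h3]; group
  have hcx : ∀ p ∈ P, (g * p * g⁻¹) * (g * x * g⁻¹) = (g * x * g⁻¹) * (g * p * g⁻¹) := by
    intro p hp
    have h3 := mem_centralizer_singleton_iff.mp (hPx hp)
    calc (g * p * g⁻¹) * (g * x * g⁻¹) = g * (p * x) * g⁻¹ := by group
      _ = g * (x * p) * g⁻¹ := by rw [h3]
      _ = _ := by group
  have hcard : Nat.card P ≤ 16 := by
    have hle : ∀ B : Subgroup H, (∀ p ∈ P, g * p * g⁻¹ ∈ B) → Nat.card P ≤ Nat.card B := by
      intro B hB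
      refine Nat.card_le_card_of_injective (fun p : P => (⟨g * p * g⁻¹, hB p p.2⟩ : B)) ?_
      intro p q hpq
      have h1 : g * (p : H) * g⁻¹ = g * (q : H) * g⁻¹ := congrArg Subtype.val hpq
      apply Subtype.ext
      exact mul_left_cancel (mul_right_cancel h1)
    rcases C.hinv _ hxT hx2 with h | h
    · rw [← C.c1]
      exact hle A fun p hp => C.k1 _ h (hnc g) _ (hg p hp) (hcx p hp)
    · rw [← C.c2]
      exact hle A' fun p hp => C.k2 _ h (hnc g) _ (hg p hp) (hcx p hp)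
  have h1 : A = P := eq_of_le_of_card_ge hAP (by rw [C.c1]; exact hcard)
  exact h1.ge

/-- the action is nontrivial on `A/Z` for elements of odd order -/
theorem quot_trivial [Finite H] (C : Conf T A A' Z) {x r : H} (hx : x ∈ A) (hxZ : x ∉ Z)
    (hrA : ∀ a ∈ A, r * a * r⁻¹ ∈ A) (hrZ : ∀ a ∈ Z, r * a * r⁻¹ ∈ Z) (hrx : r * x * r⁻¹ = x)
    {m : ℕ} (hm : Odd m) (hrm : ∀ a ∈ A, r ^ m * a * (r ^ m)⁻¹ = a) :
    ∀ a ∈ A, r * a * r⁻¹ * a⁻¹ ∈ Z := by
  -- four cosets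
  have hind : ∀ a ∈ A, ∀ b ∈ A, a ∈ Z ∨ b ∈ Z ∨ a * b ∈ Z ∨ x * a ∈ Z ∨ x * b ∈ Z ∨
      x * (a * b) ∈ Z := by
    intro a ha b hb
    by_contra hne
    push Not at hne
    obtain ⟨h1, h2, h3, h4, h5, h6⟩ := hne
    -- five distinct cosets of `Z` in `A`: 1, x, a, b, ...
    have hZA : Z.relIndex A = 4 := by
      have h7 := card_mul_index (Z.subgroupOf A)
      rw [Nat.card_congr (subgroupOfEquivOfLe C.hZA).toEquiv, C.cZ, C.c1] at h7
      show (Z.subgroupOf A).index = 4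
      omega
    have hfin : Nat.card (A ⧸ Z.subgroupOf A) = 4 := hZA
    let g : Fin 5 → A ⧸ Z.subgroupOf A := ![((1 : A) : A ⧸ _), ((⟨x, hx⟩ : A) : A ⧸ _),
      ((⟨a, ha⟩ : A) : A ⧸ _), ((⟨b, hb⟩ : A) : A ⧸ _), ((⟨a, ha⟩ * ⟨b, hb⟩ : A) : A ⧸ _)]
    have hqe : ∀ u v : A, (u : A ⧸ Z.subgroupOf A) = v ↔ (u : H) * v ∈ Z := by
      intro u v
      rw [QuotientGroup.eq, mem_subgroupOf]
      show (u : H)⁻¹ * v ∈ Z ↔ _
      rw [C.inv_eq u.2]
    have hcan : ∀ u v : H, u ∈ A → v ∈ A → u * (u * v) = v := by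
      intro u v hu _
      rw [← mul_assoc, C.e1 u hu, one_mul]
    have hcab := C.comm ha hb
    have hginj : Function.Injective g := by
      intro i j hij
      fin_cases i <;> fin_cases j <;>
        simp only [g, Matrix.cons_val_zero, Matrix.cons_val_one, Matrix.cons_val, Fin.zero_eta,
          Fin.mk_one, Fin.reduceFinMk] at hij ⊢ <;>
        rw [hqe] at hij <;> exfalso <;>
        simp only [coe_mul, coe_one, one_mul, mul_one] at hij
      · exact hxZ hij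
      · exact h1 hij
      · exact h2 hij
      · exact h3 hij
      · exact hxZ hij
      · exact h4 hij
      · exact h5 hij
      · exact h6 hij
      · exact h1 hij
      · exact h4 (by rwa [C.comm ha hx] at hij)
      · exact h3 hij
      · exact h2 (by rwa [hcan a b ha hb] at hij)
      · exact h2 hij
      · exact h5 (by rwa [C.comm hb hx] at hij)
      · exact h3 (by rwa [← hcab] at hij)
      · exact h1 (by rwa [hcab, hcan b a hb ha] at hij)
      · exact h3 hij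
      · exact h6 (by rwa [C.comm (A.mul_mem ha hb) hx] at hij)
      · exact h2 (by rwa [C.comm (A.mul_mem ha hb) ha, hcan a b ha hb] at hij)
      · exact h1 (by rwa [C.comm (A.mul_mem ha hb) hb, hcab, hcan b a hb ha] at hij)
    have h8 := Nat.card_le_card_of_injective g hginj
    rw [hfin, Nat.card_eq_fintype_card, Fintype.card_fin] at h8
    omega
  intro a ha
  have hra := hrA a ha
  rw [C.inv_eq ha]
  by_cases haZ : a ∈ Z
  · exact Z.mul_mem (hrZ a haZ) haZ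
  by_cases hxa : x * a ∈ Z
  · -- a = x z
    have h1 := hrZ _ hxa
    have h2 : r * (x * a) * r⁻¹ = (r * x * r⁻¹) * (r * a * r⁻¹) := by group
    rw [h2, hrx] at h1
    have h3 := Z.mul_mem h1 hxa
    have h4 : x * (r * a * r⁻¹) * (x * a) = (r * a * r⁻¹) * a := by
      rw [C.comm hx hra]
      calc (r * a * r⁻¹) * x * (x * a) = (r * a * r⁻¹) * (x * x) * a := by group
        _ = _ := by rw [C.e1 x hx, mul_one]
    rwa [h4] at h3
  -- general case
  have hodd : ∀ b ∈ A, b ∉ Z → x * b ∉ Z → r * b * r⁻¹ ∉ Z ∧ x * (r * b * r⁻¹) ∉ Z := by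
    have hinvZ : ∀ b ∈ A, r * b * r⁻¹ ∈ Z → b ∈ Z := by
      intro b hb hbZ
      have hrZ' : r ∈ normalizer (Z : Set H) := mem_normalizer_of_conj' hrZ
      exact (mem_normalizer_iff.mp hrZ' b).mpr hbZ
    intro b hb hbZ hxb
    refine ⟨fun h => hbZ (hinvZ b hb h), fun h => hxb (hinvZ (x * b) (A.mul_mem hx hb) ?_)⟩
    have h2 : r * (x * b) * r⁻¹ = (r * x * r⁻¹) * (r * b * r⁻¹) := by group
    rw [h2, hrx]; exact h
  by_contra hne
  have h1 := hodd a ha haZ hxa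
  have hor := hind _ hra a ha
  have h5 : x * (r * a * r⁻¹ * a) ∈ Z := by
    rcases hor with h | h | h | h | h | h
    · exact absurd h h1.1
    · exact absurd h haZ
    · exact absurd h hne
    · exact absurd h h1.2
    · exact absurd h hxa
    · exact h
  -- so `r` swaps `aZ` and `xaZ`
  have hstep : ∀ k : ℕ, x ^ k * (r ^ k * a * (r ^ k)⁻¹ * a) ∈ Z ∧ r ^ k * a * (r ^ k)⁻¹ ∈ A := by
    intro k
    induction k with
    | zero => simp [C.e1 a ha, Z.one_mem, ha]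
    | succ k ih =>
      obtain ⟨ih1, ih2⟩ := ih
      have hxk : x ^ k ∈ A := A.pow_mem hx k
      have h6 : r ^ (k + 1) * a * (r ^ (k + 1))⁻¹ = r * (r ^ k * a * (r ^ k)⁻¹) * r⁻¹ := by
        rw [pow_succ']; group
      have h7 : r ^ (k + 1) * a * (r ^ (k + 1))⁻¹ ∈ A := by rw [h6]; exact hrA _ ih2
      refine ⟨?_, h7⟩
      have h8 := hrZ _ ih1
      have h9 : r * (x ^ k * (r ^ k * a * (r ^ k)⁻¹ * a)) * r⁻¹ =
          (r * x ^ k * r⁻¹) * (r * (r ^ k * a * (r ^ k)⁻¹) * r⁻¹) * (r * a * r⁻¹) := by group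
      have h10 : r * x ^ k * r⁻¹ = x ^ k := by
        rw [← conj_pow, hrx]
      rw [h9, h10, ← h6] at h8
      have h11 := Z.mul_mem h8 h5
      have h12 : x ^ k * (r ^ (k + 1) * a * (r ^ (k + 1))⁻¹) * (r * a * r⁻¹) *
          (x * (r * a * r⁻¹ * a)) = x ^ (k + 1) * (r ^ (k + 1) * a * (r ^ (k + 1))⁻¹ * a) := by
        have c4 : ∀ u ∈ A, ∀ v ∈ A, x ^ k * u * v * (x * (v * a)) = x ^ (k + 1) * (u * a) := by
          intro u hu v hv
          have d1 := C.comm hx hu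
          have d2 := C.comm hx hv
          have d3 := C.e1 v hv
          calc x ^ k * u * v * (x * (v * a)) = x ^ k * u * (v * x) * (v * a) := by
                simp only [mul_assoc]
            _ = x ^ k * u * (x * v) * (v * a) := by rw [d2]
            _ = x ^ k * (u * x) * (v * v) * a := by simp only [mul_assoc]
            _ = x ^ k * (x * u) * a := by rw [d3, ← d1, mul_one]
            _ = x ^ (k + 1) * (u * a) := by rw [pow_succ]; simp only [mul_assoc]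
        exact c4 _ h7 _ hra
      rw [h12] at h11
      exact h11
  obtain ⟨j, hj⟩ := hm
  have h6 := (hstep m).1
  rw [hrm a ha, C.e1 a ha, mul_one, hj, pow_add, pow_mul, pow_two, C.e1 x hx, one_pow, one_mul,
    pow_one] at h6
  exact hxZ h6

/-- **2-nilpotency of the centralizers of the other involutions.** -/
theorem nilp [Finite H] (C : Conf T A A' Z) {x : H} (hx : x ∈ A) (hxZ : x ∉ Z)
    (hnc : ∀ h : H, h * x * h⁻¹ ∉ Z)
    (hNZ : ∀ n ∈ normalizer (A : Set H), ∀ z ∈ Z, n * z * n⁻¹ ∈ Z) :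
    ∀ c ∈ centralizer ({x} : Set H), ∃ k ∈ K x, k * c ∈ A := by
  have : Fact (Nat.Prime 2) := ⟨Nat.prime_two⟩
  have hAx : A ≤ centralizer ({x} : Set H) := by
    intro a ha
    rw [mem_centralizer_singleton_iff]
    exact C.comm ha hx
  refine burnside C.isPGroup hAx (C.max_of hx hnc) ?_
  intro r hr hrA
  have hrx : r * x * r⁻¹ = x := by
    rw [mem_centralizer_singleton_iff.mp hr, mul_inv_cancel_right]
  have hrN : r ∈ normalizer (A : Set H) := mem_normalizer_of_conj' hrA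
  -- an odd power of `r` centralizes `A`
  obtain ⟨m, hm, hrm⟩ : ∃ m : ℕ, Odd m ∧ ∀ a ∈ A, r ^ m * a * (r ^ m)⁻¹ = a := by
    obtain ⟨m, hm, hk⟩ := exists_odd_pow r
    refine ⟨m, hm, ?_⟩
    -- `r ^ m ∈ A`
    have h1 : r ^ m ∈ A := by
      have hmax := C.max_of hx hnc (A ⊔ zpowers (r ^ m)) le_sup_left
        (sup_le hAx ((zpowers_le).mpr (pow_mem hr m))) ?_
      · exact hmax (le_sup_right (a := A) (mem_zpowers _))
      · have hz : IsPGroup 2 (zpowers (r ^ m)) := by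
          obtain ⟨k, hk⟩ := hk
          obtain ⟨j, -, hj⟩ := (Nat.dvd_prime_pow Nat.prime_two).mp (orderOf_dvd_of_pow_eq_one hk)
          rw [IsPGroup.iff_card]
          exact ⟨j, by rw [Nat.card_zpowers, hj]⟩
        exact C.isPGroup.to_sup_of_normal_left' hz (by
          rw [zpowers_le]; exact pow_mem hrN m)
    intro a ha
    rw [C.comm h1 ha, mul_inv_cancel_right]
  have hq := C.quot_trivial hx hxZ hrA (hNZ r hrN) hrx hm hrm
  -- the group `M0`
  let M0 : Subgroup H :=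
    { carrier := {k | (∀ a ∈ A, k * a * k⁻¹ * a⁻¹ ∈ Z) ∧ ∀ z ∈ Z, k * z = z * k}
      one_mem' := ⟨fun a _ => by simp [Z.one_mem], fun z _ => by simp⟩
      mul_mem' := by
        rintro k l ⟨hk1, hk2⟩ ⟨hl1, hl2⟩
        refine ⟨fun a ha => ?_, fun z hz => ?_⟩
        · have h1 := hl1 a ha
          have h2 := hk1 a ha
          have h3 := hk2 _ h1
          have h4 : k * l * a * (k * l)⁻¹ * a⁻¹ =
              (k * (l * a * l⁻¹ * a⁻¹) * k⁻¹) * (k * a * k⁻¹ * a⁻¹) := by group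
          rw [h4, h3, mul_inv_cancel_right]
          exact Z.mul_mem h1 h2
        · rw [mul_assoc, hl2 z hz, ← mul_assoc, hk2 z hz, mul_assoc]
      inv_mem' := by
        rintro k ⟨hk1, hk2⟩
        have hk2' : ∀ z ∈ Z, k⁻¹ * z = z * k⁻¹ := by
          intro z hz
          rw [inv_mul_eq_iff_eq_mul, ← mul_assoc, hk2 z hz, mul_inv_cancel_right]
        refine ⟨fun a ha => ?_, hk2'⟩
        have h1 := hk1 a ha
        have h2 := hk2' _ h1
        have h3 : k⁻¹ * a * k⁻¹⁻¹ * a⁻¹ = k⁻¹ * (k * a * k⁻¹ * a⁻¹)⁻¹ * k := by group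
        rw [h3]
        have h4 := hk2' _ (Z.inv_mem h1)
        rw [h4, inv_mul_cancel_right]
        exact Z.inv_mem h1 }
  have hM0 : ∀ k, k ∈ M0 ↔ (∀ a ∈ A, k * a * k⁻¹ * a⁻¹ ∈ Z) ∧ ∀ z ∈ Z, k * z = z * k :=
    fun k => Iff.rfl
  have hTM0 : (T : Subgroup H) ≤ M0 := by
    intro t ht
    rw [hM0]
    exact ⟨fun a ha => C.T_conj_Z ht ha, fun z hz => C.hZc z hz t ht⟩
  have hM0n : ∀ n ∈ normalizer (A : Set H), ∀ k ∈ M0, n * k * n⁻¹ ∈ M0 := by
    intro n hn k hk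
    rw [hM0] at hk ⊢
    have hn' := (normalizer (A : Set H)).inv_mem hn
    refine ⟨fun a ha => ?_, fun z hz => ?_⟩
    · have h1 : n⁻¹ * a * n ∈ A := by
        have := (mem_normalizer_iff.mp hn' a).mp ha
        rwa [inv_inv] at this
      have h2 := hNZ n hn _ (hk.1 _ h1)
      have h3 : n * k * n⁻¹ * a * (n * k * n⁻¹)⁻¹ * a⁻¹ =
          n * (k * (n⁻¹ * a * n) * k⁻¹ * (n⁻¹ * a * n)⁻¹) * n⁻¹ := by group
      rw [h3]; exact h2
    · have h1 : n⁻¹ * z * n ∈ Z := by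
        have := hNZ _ hn' z hz
        rwa [inv_inv] at this
      have h2 := hk.2 _ h1
      calc n * k * n⁻¹ * z = n * (k * (n⁻¹ * z * n)) * n⁻¹ := by group
        _ = n * ((n⁻¹ * z * n) * k) * n⁻¹ := by rw [h2]
        _ = z * (n * k * n⁻¹) := by group
  have hM0A : M0 ≤ normalizer (A : Set H) := by
    intro k hk
    refine mem_normalizer_of_conj' ?_
    intro a ha
    have h1 := A.mul_mem (C.hZA (hk.1 a ha)) ha
    simpa using h1
  -- `M0 = C(A) T`
  have hcomm : ∀ k ∈ M0, ∀ l ∈ M0, ∀ a ∈ A, (k * l) * a * (k * l)⁻¹ = (l * k) * a * (l * k)⁻¹ := by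
    intro k hk l hl a ha
    have h1 : ∀ k ∈ M0, ∀ l ∈ M0, (k * l) * a * (k * l)⁻¹ =
        (l * a * l⁻¹ * a⁻¹) * (k * a * k⁻¹ * a⁻¹) * a := by
      intro k hk l hl
      have h2 := hk.2 _ (hl.1 a ha)
      have h3 : (k * l) * a * (k * l)⁻¹ = (k * (l * a * l⁻¹ * a⁻¹)) * k⁻¹ * (k * a * k⁻¹) := by
        group
      rw [h3, h2]; group
    rw [h1 k hk l hl, h1 l hl k hk]
    have h4 := C.comm (C.hZA (hl.1 a ha)) (C.hZA (hk.1 a ha))
    rw [h4]
  have hdec : ∀ k ∈ M0, ∃ t ∈ T, ∀ a ∈ A, k * a * k⁻¹ = t * a * t⁻¹ := by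
    intro k hk
    obtain ⟨m, hm, hk2⟩ := exists_odd_pow k
    obtain ⟨g, hg, hgT⟩ := exists_conj_mem2 T hTM0 (pow_mem hk m) hk2
    refine ⟨g * k ^ m * g⁻¹, hgT, ?_⟩
    intro a ha
    have h1 : ∀ a ∈ A, (k * k) * a * (k * k)⁻¹ = a := by
      intro a ha
      have h2 := hk.2 _ (hk.1 a ha)
      have h3 : (k * k) * a * (k * k)⁻¹ = (k * (k * a * k⁻¹ * a⁻¹)) * k⁻¹ * (k * a * k⁻¹) := by
        group
      rw [h3, h2]
      have h4 := C.e1 _ (C.hZA (hk.1 a ha))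
      calc (k * a * k⁻¹ * a⁻¹) * k * k⁻¹ * (k * a * k⁻¹)
          = ((k * a * k⁻¹ * a⁻¹) * (k * a * k⁻¹ * a⁻¹)) * a := by group
        _ = a := by rw [h4, one_mul]
    have h2 : ∀ j : ℕ, ∀ a ∈ A, (k * k) ^ j * a * ((k * k) ^ j)⁻¹ = a := by
      intro j
      induction j with
      | zero => intro a _; simp
      | succ j ih =>
        intro a ha
        have h3 : (k * k) ^ (j + 1) * a * ((k * k) ^ (j + 1))⁻¹ =
            (k * k) ^ j * ((k * k) * a * (k * k)⁻¹) * ((k * k) ^ j)⁻¹ := by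
          rw [pow_succ]; group
        rw [h3, h1 a ha, ih a ha]
    have h3 : ∀ a ∈ A, k ^ m * a * (k ^ m)⁻¹ = k * a * k⁻¹ := by
      intro a ha
      obtain ⟨j, hj⟩ := hm
      have h4 : k ^ m * a * (k ^ m)⁻¹ = k * ((k * k) ^ j * a * ((k * k) ^ j)⁻¹) * k⁻¹ := by
        rw [hj, pow_succ', pow_mul, pow_two]; group
      rw [h4, h2 j a ha]
    have hg' := M0.inv_mem hg
    have h5 := hcomm (g * k ^ m) (M0.mul_mem hg (pow_mem hk m)) g⁻¹ hg' a ha
    have h6 : g⁻¹ * (g * k ^ m) = k ^ m := by group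
    rw [h6, h3 a ha] at h5
    exact h5.symm
  -- Frattini
  obtain ⟨g, hg, hgN⟩ := exists_mul_mem_normalizer T hTM0 r (fun t ht => hM0n r hrN t (hTM0 ht))
  obtain ⟨t, ht, htg⟩ := hdec g⁻¹ (M0.inv_mem hg)
  -- `n = t * (g * r)` acts on `A` as `r`
  have hnN : t * (g * r) ∈ normalizer ((T : Subgroup H) : Set H) :=
    mul_mem (le_normalizer ht) hgN
  have hact : ∀ a ∈ A, (t * (g * r)) * a * (t * (g * r))⁻¹ = r * a * r⁻¹ := by
    intro a ha
    have h1 : g * r * a * (g * r)⁻¹ ∈ A := by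
      have h2 : g * r * a * (g * r)⁻¹ = g * (r * a * r⁻¹) * g⁻¹ := by group
      rw [h2]
      exact (mem_normalizer_iff.mp (hM0A hg) _).mp (hrA a ha)
    have h2 := htg _ h1
    have h3 : t * (g * r) * a * (t * (g * r))⁻¹ = t * (g * r * a * (g * r)⁻¹) * t⁻¹ := by group
    rw [h3, ← h2]; group
  have hn1 : ∀ a ∈ A, (t * (g * r)) * a * (t * (g * r))⁻¹ * a⁻¹ ∈ Z := by
    intro a ha
    rw [hact a ha]
    exact hq a ha
  have hn2 := (C.hJ _ hnN).mp hn1
  -- so `n` centralizes `Z = [A, A']`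
  have hnZ : ∀ z ∈ Z, (t * (g * r)) * z = z * (t * (g * r)) := by
    set n := t * (g * r) with hn
    have h1 : ⁅A, A'⁆ ≤ centralizer ({n} : Set H) := by
      rw [commutator_le]
      intro a ha b hb
      have ha1 := hn1 a ha
      have hb1 := hn2 b hb
      rw [mem_centralizer_singleton_iff]
      -- n [a,b] n⁻¹ = [u a, v b] = [a, b]
      set u := n * a * n⁻¹ * a⁻¹ with hu
      set v := n * b * n⁻¹ * b⁻¹ with hv
      have hua : n * a * n⁻¹ = u * a := by rw [hu]; group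
      have hvb : n * b * n⁻¹ = v * b := by rw [hv]; group
      have cu : ∀ t ∈ T, t * u = u * t := C.hZc u ha1
      have cv : ∀ t ∈ T, t * v = v * t := C.hZc v hb1
      have hzT : ∀ z ∈ Z, z ∈ T := fun z hz => C.hAT (C.hZA hz)
      have haT := C.hAT ha
      have hbT := C.hAT' hb
      have e : n * ⁅a, b⁆ * n⁻¹ = ⁅a, b⁆ := by
        rw [commutatorElement_def]
        have h2 : n * (a * b * a⁻¹ * b⁻¹) * n⁻¹ =
            (n * a * n⁻¹) * (n * b * n⁻¹) * (n * a * n⁻¹)⁻¹ * (n * b * n⁻¹)⁻¹ := by group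
        rw [h2, hua, hvb]
        have c1 : b * u = u * b := cu b hbT
        have c2 : a * v = v * a := cv a haT
        have c3 : v * u = u * v := cu v (hzT v hb1)
        calc u * a * (v * b) * (u * a)⁻¹ * (v * b)⁻¹
            = u * (a * v) * b * a⁻¹ * u⁻¹ * b⁻¹ * v⁻¹ := by group
          _ = u * (v * a) * b * a⁻¹ * u⁻¹ * b⁻¹ * v⁻¹ := by rw [c2]
          _ = u * v * (a * b * a⁻¹) * u⁻¹ * b⁻¹ * v⁻¹ := by group
          _ = v * u * (a * b * a⁻¹) * u⁻¹ * b⁻¹ * v⁻¹ := by rw [c3]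
          _ = v * (u * (a * b * a⁻¹)) * u⁻¹ * b⁻¹ * v⁻¹ := by group
          _ = v * ((a * b * a⁻¹) * u) * u⁻¹ * b⁻¹ * v⁻¹ := by
              rw [cu _ (mul_mem (mul_mem haT hbT) (inv_mem haT))]
          _ = (v * (a * b * a⁻¹ * b⁻¹)) * v⁻¹ := by group
          _ = ((a * b * a⁻¹ * b⁻¹) * v) * v⁻¹ := by
              rw [cv _ (mul_mem (mul_mem (mul_mem haT hbT) (inv_mem haT)) (inv_mem hbT))]
          _ = a * b * a⁻¹ * b⁻¹ := by group
      calc ⁅a, b⁆ * n = (n * ⁅a, b⁆ * n⁻¹) * n := by rw [e]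
        _ = n * ⁅a, b⁆ := by group
    rw [C.hcomm] at h1
    intro z hz
    exact (mem_centralizer_singleton_iff.mp (h1 hz)).symm
  have hrz : ∀ z ∈ Z, r * z = z * r := by
    intro z hz
    have h1 := hact z (C.hZA hz)
    rw [hnZ z hz, mul_inv_cancel_right] at h1
    calc r * z = (r * z * r⁻¹) * r := by group
      _ = z * r := by rw [← h1]
  -- finally `r` centralizes `A`
  intro a ha
  set z := r * a * r⁻¹ * a⁻¹ with hz
  have hzZ : z ∈ Z := hq a ha
  have hra : r * a * r⁻¹ = z * a := by rw [hz]; group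
  have hpow : ∀ k : ℕ, r ^ k * a * (r ^ k)⁻¹ = z ^ k * a := by
    intro k
    induction k with
    | zero => simp
    | succ k ih =>
      have h1 : r ^ (k + 1) * a * (r ^ (k + 1))⁻¹ = r * (r ^ k * a * (r ^ k)⁻¹) * r⁻¹ := by
        rw [pow_succ']; group
      have h2 : r * z ^ k = z ^ k * r := hrz _ (Z.pow_mem hzZ k)
      rw [h1, ih]
      calc r * (z ^ k * a) * r⁻¹ = (r * z ^ k) * a * r⁻¹ := by group
        _ = z ^ k * (r * a * r⁻¹) := by rw [h2]; group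
        _ = z ^ (k + 1) * a := by rw [hra, pow_succ]; group
  have h1 := hpow m
  rw [hrm a ha] at h1
  have h2 : z ^ m = 1 := by
    have h3 : (1 : H) * a = z ^ m * a := by rw [one_mul]; exact h1
    exact (mul_right_cancel h3).symm
  obtain ⟨j, hj⟩ := hm
  have h3 : z = 1 := by
    rw [hj, pow_add, pow_mul, pow_two, C.e1 z (C.hZA hzZ), one_pow, one_mul, pow_one] at h2
    exact h2
  rw [hra, h3, one_mul]

end Conf

/-- `T ∩ O(H) = 1` -/
theorem eq_one_of_mem_core {H : Type*} [Group H] [Finite H] {x : H}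
    (hx : x ∈ Cfsg.oddCore H) (h2 : x * x = 1) : x = 1 := by
  refine eq_one_of_odd h2 (odd_orderOf_of_mem ?_ hx)
  have h := Lib.Cores.pPrimeCore_coprime (G := H) 2
  rwa [Nat.coprime_two_right] at h

/-- **Lemma H.** -/
theorem lemmaH (hSF : SolvFun.{u}) (hFT : OddSolv.{u}) {H : Type u} [Group H] [Finite H]
    (T : Sylow 2 H) (A₁ A₂ Z B : Subgroup H)
    (hA1T : A₁ ≤ T) (hA2T : A₂ ≤ T) (hZ : Z = A₁ ⊓ A₂)
    (cT : Nat.card T = 64) (c1 : Nat.card A₁ = 16) (c2 : Nat.card A₂ = 16) (cZ : Nat.card Z = 4)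
    (e1 : ∀ a ∈ A₁, a * a = 1) (e2 : ∀ a ∈ A₂, a * a = 1)
    (hZc : ∀ a ∈ Z, ∀ t ∈ T, t * a = a * t)
    (hinv : ∀ x ∈ T, x * x = 1 → x ∈ A₁ ∨ x ∈ A₂)
    (k1 : ∀ a ∈ A₁, a ∉ Z → ∀ t ∈ T, t * a = a * t → t ∈ A₁)
    (k2 : ∀ a ∈ A₂, a ∉ Z → ∀ t ∈ T, t * a = a * t → t ∈ A₂)
    (hcomm : ⁅A₁, A₂⁆ = Z)
    (hJ : ∀ n ∈ normalizer ((T : Subgroup H) : Set H),
      (∀ a ∈ A₁, n * a * n⁻¹ * a⁻¹ ∈ Z) ↔ (∀ a ∈ A₂, n * a * n⁻¹ * a⁻¹ ∈ Z))
    (hB : B = Z ∨ B = A₁)
    (hsc : ∀ a ∈ B, ∀ h : H, h * a * h⁻¹ ∈ T → h * a * h⁻¹ ∈ B)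
    (htr : ∀ a ∈ B, ∀ b ∈ B, a ≠ 1 → b ≠ 1 → ∃ h : H, h * a * h⁻¹ = b)
    (hnil : ∀ a ∈ Z, a ≠ 1 → ∃ N : Subgroup H, N ≤ centralizer ({a} : Set H) ∧
      Odd (Nat.card N) ∧ (∀ c ∈ centralizer ({a} : Set H), ∀ x ∈ N, c * x * c⁻¹ ∈ N) ∧
      ∀ c ∈ centralizer ({a} : Set H), ∃ n ∈ N, ∃ t ∈ T, c = n * t) :
    ∀ h : H, ∀ b ∈ B, ∃ b' ∈ B, ∃ n ∈ Cfsg.oddCore H, h * b * h⁻¹ = n * b' := by
  have : Fact (Nat.Prime 2) := ⟨Nat.prime_two⟩
  have C : Conf T A₁ A₂ Z :=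
    { hAT := hA1T, hAT' := hA2T, hZA := hZ.le.trans inf_le_left, hZA' := hZ.le.trans inf_le_right,
      hZ := fun x h1 h2 => by rw [hZ]; exact ⟨h1, h2⟩, cT := cT, c1 := c1, c2 := c2, cZ := cZ,
      e1 := e1, e2 := e2, hZc := hZc, hinv := hinv, k1 := k1, k2 := k2, hcomm := hcomm, hJ := hJ }
  have hZB : Z ≤ B := by
    rcases hB with h | h
    · exact h.ge
    · rw [h]; exact C.hZA
  -- an involution of `Z` and two of them
  obtain ⟨z₁, hz₁, z₂, hz₂, hz₁1, hz₂1, hz₁₂⟩ : ∃ x ∈ Z, ∃ y ∈ Z, x ≠ 1 ∧ y ≠ 1 ∧ x ≠ y := by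
    have h1 : Nontrivial Z := by
      rw [← Finite.one_lt_card_iff_nontrivial, cZ]; omega
    obtain ⟨⟨x, hx⟩, hx1⟩ := exists_ne (1 : Z)
    have hx1' : x ≠ 1 := fun h => hx1 (Subtype.ext h)
    by_contra hne
    push Not at hne
    have h2 : (Z : Set H) ⊆ {1, x} := by
      intro y hy
      by_cases hy1 : y = 1
      · left; exact hy1
      · right; exact (hne x hx y hy hx1' hy1).symm
    have h3 : Nat.card Z ≤ 2 := by
      have h4 := Set.ncard_le_ncard h2 (Set.toFinite _)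
      have h5 : ({1, x} : Set H).ncard ≤ 2 := Set.ncard_insert_le _ _ |>.trans (by
        rw [Set.ncard_singleton])
      have h6 : Nat.card Z = (Z : Set H).ncard := rfl
      omega
    omega
  -- centralizers of involutions in `Z`
  have hcZ : ∀ v ∈ Z, v ≠ 1 → ∀ c ∈ centralizer ({v} : Set H), ∃ k ∈ K v, k * c ∈ T := by
    intro v hv hv1 c hc
    obtain ⟨N, hN1, hN2, hN3, hN4⟩ := hnil v hv hv1
    obtain ⟨n, hn, t, ht, rfl⟩ := hN4 c hc
    refine ⟨n⁻¹, inv_mem (le_K hN1 hN2 hN3 hn), ?_⟩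
    rw [inv_mul_cancel_left]
    exact ht
  -- fusion into `Z`
  have hncB : ∀ x ∈ T, x ∉ B → ∀ h : H, h * x * h⁻¹ ∉ Z := by
    intro x hxT hxB h hh
    apply hxB
    have h1 := hsc _ (hZB hh) h⁻¹ (by
      have h2 : h⁻¹ * (h * x * h⁻¹) * h⁻¹⁻¹ = x := by group
      rw [h2]; exact hxT)
    have h2 : h⁻¹ * (h * x * h⁻¹) * h⁻¹⁻¹ = x := by group
    rwa [h2] at h1
  have hO : (Cfsg.oddCore H).Normal := Lib.Cores.pPrimeCore_normal 2
  have hord : ∀ x : H, x * x = 1 → x ≠ 1 → orderOf x = 2 := by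
    intro x h1 h2
    exact orderOf_eq_prime (by rw [pow_two]; exact h1) h2
  -- the main theorem for one of the two subgroups
  have hmain : ∀ {A A' : Subgroup H}, Conf T A A' Z → (B = Z ∨ B = A) →
      ∀ x : H, ∃ k ∈ Cfsg.oddCore H, k * x ∈ normalizer (A : Set H) := by
    intro A A' C hB
    obtain ⟨y, hy, hyZ⟩ := C.symm.exists_notMem
    have hBA : B ≤ A := by
      rcases hB with h | h
      · rw [h]; exact C.hZA
      · rw [h]
    have hBA' : ∀ x ∈ A', x ∈ B → x ∈ Z := fun x h1 h2 => C.hZ x (hBA h2) h1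
    have hNZ' : ∀ n ∈ normalizer (A' : Set H), ∀ z ∈ Z, n * z * n⁻¹ ∈ Z := by
      intro n hn z hz
      have h1 : n * z * n⁻¹ ∈ A' := (mem_normalizer_iff.mp hn z).mp (C.hZA' hz)
      exact hBA' _ h1 (hsc z (hZB hz) n (C.hAT' h1))
    refine main hSF hFT T A C.hAT C.normalizer_le C.e1 (by rw [C.c1]; omega) C.hself ?_ ?_ ?_
    · -- centralizers of involutions of `A`
      intro v hv hv1 c hc
      by_cases hvZ : v ∈ Z
      · obtain ⟨k, hk, hkc⟩ := hcZ v hvZ hv1 c hc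
        exact ⟨k, hk, C.T_le hkc⟩
      · rcases hB with hB | hB
        · -- `B = Z`
          have hNZ : ∀ n ∈ normalizer (A : Set H), ∀ z ∈ Z, n * z * n⁻¹ ∈ Z := by
            intro n hn z hz
            have h1 : n * z * n⁻¹ ∈ A := (mem_normalizer_iff.mp hn z).mp (C.hZA hz)
            have h2 := hsc z (hZB hz) n (C.hAT h1)
            rwa [hB] at h2
          obtain ⟨k, hk, hkc⟩ := C.nilp hv hvZ (hncB v (C.hAT hv) (by rw [hB]; exact hvZ)) hNZ c hc
          exact ⟨k, hk, le_normalizer hkc⟩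
        · -- `B = A`
          have hvB : v ∈ B := by rw [hB]; exact hv
          obtain ⟨g, hg⟩ := htr v hvB z₁ (hZB hz₁) hv1 hz₁1
          -- move `g A g⁻¹` into `T` inside `C(z₁)`
          have hTz : (T : Subgroup H) ≤ centralizer ({z₁} : Set H) := by
            intro t ht
            rw [mem_centralizer_singleton_iff]
            exact C.hZc z₁ hz₁ t ht
          have hgA : A.map (MulAut.conj g).toMonoidHom ≤ centralizer ({z₁} : Set H) := by
            rintro _ ⟨a, ha, rfl⟩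
            rw [mem_centralizer_singleton_iff]
            show g * a * g⁻¹ * z₁ = z₁ * (g * a * g⁻¹)
            rw [← hg]
            have h3 := C.comm ha hv
            calc g * a * g⁻¹ * (g * v * g⁻¹) = g * (a * v) * g⁻¹ := by group
              _ = g * (v * a) * g⁻¹ := by rw [h3]
              _ = _ := by group
          obtain ⟨m, hm, hmT⟩ := exists_conj_le T hTz hgA (C.isPGroup.map _)
          set h : H := m * g with hh
          have hhv : h * v * h⁻¹ = z₁ := by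
            have h3 := mem_centralizer_singleton_iff.mp hm
            have h4 : h * v * h⁻¹ = m * (g * v * g⁻¹) * m⁻¹ := by rw [hh]; group
            rw [h4, hg, h3, mul_inv_cancel_right]
          have hhN : h ∈ normalizer (A : Set H) := by
            refine mem_normalizer_of_conj' ?_
            intro a ha
            have h3 : h * a * h⁻¹ ∈ T := by
              have h4 := hmT _ (mem_map_of_mem (MulAut.conj g).toMonoidHom ha)
              have h5 : h * a * h⁻¹ = m * ((MulAut.conj g).toMonoidHom a) * m⁻¹ := by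
                show h * a * h⁻¹ = m * (g * a * g⁻¹) * m⁻¹
                rw [hh]; group
              rw [h5]; exact h4
            have h4 := hsc a (by rw [hB]; exact ha) h h3
            rwa [hB] at h4
          have hc' : h * c * h⁻¹ ∈ centralizer ({z₁} : Set H) := by
            rw [mem_centralizer_singleton_iff, ← hhv]
            have h3 := mem_centralizer_singleton_iff.mp hc
            calc h * c * h⁻¹ * (h * v * h⁻¹) = h * (c * v) * h⁻¹ := by group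
              _ = h * (v * c) * h⁻¹ := by rw [h3]
              _ = _ := by group
          obtain ⟨k, hk, hkc⟩ := hcZ z₁ hz₁ hz₁1 _ hc'
          have hk' := K_map h⁻¹ z₁ hk
          have h6 : h⁻¹ * z₁ * h⁻¹⁻¹ = v := by rw [← hhv]; group
          rw [h6] at hk'
          refine ⟨_, hk', ?_⟩
          have h7 : h⁻¹ * k * h⁻¹⁻¹ * c = h⁻¹ * (k * (h * c * h⁻¹)) * h := by group
          rw [h7]
          exact mul_mem (mul_mem (inv_mem hhN) (C.T_le hkc)) hhN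
    · -- involutions outside
      intro t ht htA ht2
      have ht2' : t * t = 1 := by rw [← pow_two, ← ht2, pow_orderOf_eq_one]
      have htA' : t ∈ A' := (C.hinv t ht ht2').resolve_left htA
      have htZ : t ∉ Z := fun h => htA (C.hZA h)
      refine ⟨?_, z₁, C.hZA hz₁, z₂, C.hZA hz₂, hz₁1, hz₂1, hz₁₂, ?_, ?_⟩
      · intro c hc
        obtain ⟨k, hk, hkc⟩ := C.symm.nilp htA' htZ (hncB t ht (fun h => htA (hBA h))) hNZ' c hc
        exact ⟨k, hk, C.T_le (C.hAT' hkc)⟩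
      · exact (C.hZc z₁ hz₁ t ht).symm
      · exact (C.hZc z₂ hz₂ t ht).symm
    · -- two classes
      have hyB : y ∉ B := fun h => hyZ (hBA' y hy h)
      refine ⟨z₁, y, hord _ (C.e1 _ (C.hZA hz₁)) hz₁1, hord _ (C.e2 _ hy) ?_, ?_⟩
      · rintro rfl
        exact hyZ (one_mem _)
      · intro hconj
        obtain ⟨g, hg⟩ := isConj_iff.mp hconj
        apply hncB y (C.hAT' hy) hyB g⁻¹
        have h1 : g⁻¹ * y * g⁻¹⁻¹ = z₁ := by rw [← hg]; group
        rw [h1]; exact hz₁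
  have hfin : ∀ {A : Subgroup H}, (∀ x : H, ∃ k ∈ Cfsg.oddCore H, k * x ∈ normalizer (A : Set H)) →
      ∀ h : H, ∀ b ∈ A, ∃ b' ∈ A, ∃ n ∈ Cfsg.oddCore H, h * b * h⁻¹ = n * b' := by
    intro A hA h b hb
    obtain ⟨k, hk, hn⟩ := hA h
    have h1 : k * h * b * (k * h)⁻¹ ∈ A := (mem_normalizer_iff.mp hn b).mp hb
    refine ⟨_, h1, k⁻¹ * ((k * h * b * (k * h)⁻¹) * k * (k * h * b * (k * h)⁻¹)⁻¹), ?_, ?_⟩
    · exact mul_mem (inv_mem hk) (hO.conj_mem k hk _)
    · group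
  rcases hB with hB | hB
  · -- `B = Z`
    have m1 := hfin (hmain C (Or.inl hB))
    have m2 := hfin (hmain C.symm (Or.inl hB))
    intro h b hb
    rw [hB] at hb
    obtain ⟨b₁, hb₁, n₁, hn₁, h₁⟩ := m1 h b (C.hZA hb)
    obtain ⟨b₂, hb₂, n₂, hn₂, h₂⟩ := m2 h b (C.hZA' hb)
    have h3 : n₂⁻¹ * n₁ = b₂ * b₁⁻¹ := by
      have h4 : n₁ * b₁ = n₂ * b₂ := h₁.symm.trans h₂
      rw [inv_mul_eq_iff_eq_mul, ← mul_assoc, ← h4, mul_inv_cancel_right]
    have h4 : b₂ * b₁⁻¹ ∈ Cfsg.oddCore H := by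
      rw [← h3]; exact mul_mem (inv_mem hn₂) hn₁
    -- an element of the 2-group `T` in the odd core
    have h5 : b₂ * b₁⁻¹ = 1 := by
      have h6 : b₂ * b₁⁻¹ ∈ T := mul_mem (C.hAT' hb₂) (inv_mem (C.hAT hb₁))
      obtain ⟨k, hk⟩ := T.isPGroup' ⟨_, h6⟩
      have hk' : (b₂ * b₁⁻¹) ^ (2 ^ k) = 1 := by
        have := congrArg Subtype.val hk
        simpa using this
      have h7 : Odd (orderOf (b₂ * b₁⁻¹)) := by
        refine odd_orderOf_of_mem ?_ h4
        have h := Lib.Cores.pPrimeCore_coprime (G := H) 2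
        rwa [Nat.coprime_two_right] at h
      obtain ⟨j, -, hj⟩ := (Nat.dvd_prime_pow Nat.prime_two).mp (orderOf_dvd_of_pow_eq_one hk')
      rcases Nat.eq_zero_or_pos j with hj0 | hj0
      · rw [hj0, pow_zero] at hj
        exact orderOf_eq_one_iff.mp hj
      · exfalso
        rw [hj] at h7
        have h8 : Even (2 ^ j) := (Nat.even_pow.mpr ⟨even_two, hj0.ne'⟩)
        exact (Nat.not_even_iff_odd.mpr h7) h8
    have h6 : b₂ = b₁ := mul_inv_eq_one.mp h5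
    refine ⟨b₁, ?_, n₁, hn₁, h₁⟩
    rw [hB]
    exact C.hZ _ hb₁ (h6 ▸ hb₂)
  · -- `B = A₁`
    have m1 := hfin (hmain C (Or.inr hB))
    rw [hB]
    exact m1

end Cfsg.Agent.HSType.LemmaH
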