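import Cfsg.Agent.HSType.Spec
import Cfsg.Agent.HSType.LemmaH
import Cfsg.Agent.SylowL5.Ctrl

/-!
# `C_G(V)` is 2-nilpotent with Sylow 2-subgroup `R2`
-/

set_option autoImplicit false
set_option maxHeartbeats 400000

namespace Cfsg.Agent.HSType.KNil

open Subgroup Cfsg.Agent.HSType.Model Cfsg.Agent.HSType.Facts Cfsg.Agent.HSType.FactsU
  Cfsg.Agent.HSType.Basic Cfsg.Agent.HSType.Trans Cfsg.Agent.HSType.Spec

/-! ### general lemmas -/

section gen

variable {X : Type*} [Group X]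

/-- Burnside: if the Sylow 2-subgroup `A` of `Y` is centralized by its normalizer, then
`Y = L A` with `L` normal of odd order. -/
theorem burnside_gen [Finite X] {Y A : Subgroup X} (hA2 : IsPGroup 2 A) (hAY : A ≤ Y)
    (hmax : ¬ 2 ∣ A.relIndex Y)
    (hN : ∀ r ∈ Y, (∀ a ∈ A, r * a * r⁻¹ ∈ A) → ∀ a ∈ A, r * a * r⁻¹ = a) :
    ∃ L : Subgroup X, L ≤ Y ∧ Odd (Nat.card L) ∧ (∀ y ∈ Y, ∀ l ∈ L, y * l * y⁻¹ ∈ L) ∧
      (∀ y ∈ Y, Odd (orderOf y) → y ∈ L) ∧ ∀ y ∈ Y, ∃ l ∈ L, ∃ a ∈ A, y = l * a := by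
  classical
  have : Fact (Nat.Prime 2) := ⟨Nat.prime_two⟩
  have hAp : IsPGroup 2 (A.subgroupOf Y) :=
    hA2.of_injective (A.subgroupOfEquivOfLe hAY).toMonoidHom (A.subgroupOfEquivOfLe hAY).injective
  set P : Sylow 2 Y := hAp.toSylow hmax with hP
  have hPA' : ∀ y : Y, y ∈ P ↔ (y : X) ∈ A := fun y => Iff.rfl
  have hNC : normalizer (P : Set Y) ≤ centralizer (P : Set Y) := by
    intro r hr
    rw [mem_centralizer_iff]
    intro a ha
    have h1 : ∀ a ∈ A, (r : X) * a * (r : X)⁻¹ ∈ A := by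
      intro a ha
      have h2 := (mem_normalizer_iff.mp hr ⟨a, hAY ha⟩).mp ((hPA' _).mpr ha)
      exact (hPA' _).mp h2
    have h2 := hN r r.2 h1 a ((hPA' a).mp ha)
    apply Subtype.ext
    show (a : X) * r = r * a
    calc (a : X) * r = ((r : X) * a * (r : X)⁻¹) * r := by rw [h2]
      _ = _ := by group
  obtain ⟨L, hLn, hodd, hcomp, hLm⟩ : ∃ L : Subgroup Y, L.Normal ∧ ¬ 2 ∣ Nat.card L ∧
      IsComplement' L (P : Subgroup Y) ∧ ∀ y : Y, Odd (orderOf y) → y ∈ L := by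
    refine ⟨(MonoidHom.transferSylow P hNC).ker, MonoidHom.normal_ker _,
      MonoidHom.not_dvd_card_ker_transferSylow P hNC,
      MonoidHom.ker_transferSylow_isComplement' P hNC, ?_⟩
    intro y hy
    rw [MonoidHom.mem_ker]
    exact Transfer.NormalPComplement.map_eq_one_of_coprime P.isPGroup' _
      (Nat.coprime_two_right.mpr hy)
  refine ⟨L.map Y.subtype, ?_, ?_, ?_, ?_, ?_⟩
  · rintro _ ⟨y, -, rfl⟩; exact y.2
  · rw [Nat.card_congr (L.equivMapOfInjective _ Y.subtype_injective).symm.toEquiv,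
      ← Nat.not_even_iff_odd, even_iff_two_dvd]
    exact hodd
  · rintro c hc _ ⟨y, hy, rfl⟩
    have h1 : (⟨c, hc⟩ : Y) * y * (⟨c, hc⟩ : Y)⁻¹ ∈ L := hLn.conj_mem y hy ⟨c, hc⟩
    exact mem_map_of_mem Y.subtype h1
  · intro y hy ho
    exact ⟨⟨y, hy⟩, hLm _ (by rw [Subgroup.orderOf_mk]; exact ho), rfl⟩
  · intro c hc
    obtain ⟨⟨l, p⟩, hlp, -⟩ := hcomp.existsUnique ⟨c, hc⟩
    have h1 : ((l : Y) : X) * ((p : Y) : X) = c := by
      have := congrArg Subtype.val hlp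
      simpa using this
    exact ⟨(l : Y), ⟨l, l.2, rfl⟩, (p : Y), p.2, h1.symm⟩

/-- an element of odd order acting on `w` by an involution it centralizes -/
theorem conj_eq_of_odd {r w t : X} (ho : Odd (orderOf r)) (h : r * w * r⁻¹ = t * w)
    (ht : r * t = t * r) (ht2 : t * t = 1) : r * w * r⁻¹ = w := by
  have hpow : ∀ k : ℕ, r ^ k * w * (r ^ k)⁻¹ = t ^ k * w := by
    intro k
    induction k with
    | zero => simp
    | succ k ih =>
      have h1 : r ^ (k + 1) * w * (r ^ (k + 1))⁻¹ = r * (r ^ k * w * (r ^ k)⁻¹) * r⁻¹ := by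
        rw [pow_succ']; group
      have h2 : r * t ^ k = t ^ k * r := by
        have : Commute r t := ht
        exact (this.pow_right k)
      rw [h1, ih]
      calc r * (t ^ k * w) * r⁻¹ = (r * t ^ k) * w * r⁻¹ := by group
        _ = t ^ k * (r * w * r⁻¹) := by rw [h2]; group
        _ = t ^ (k + 1) * w := by rw [h, pow_succ]; group
  have h1 := hpow (orderOf r)
  rw [pow_orderOf_eq_one, inv_one, mul_one, one_mul] at h1
  obtain ⟨j, hj⟩ := ho
  have h2 : t ^ orderOf r = t := by rw [hj, pow_add, pow_mul, pow_two, ht2, one_pow, one_mul, pow_one]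
  rw [h2] at h1
  rw [h, ← h1]

/-- decomposition of an element as a product of powers of even and odd parts -/
theorem exists_decomp [Finite X] (x : X) : ∃ y ∈ zpowers x, ∃ z ∈ zpowers x, x = z * y ∧
    (∃ k : ℕ, y ^ (2 ^ k) = 1) ∧ Odd (orderOf z) := by
  obtain ⟨k, m, hm, h⟩ := Nat.exists_eq_two_pow_mul_odd (orderOf_pos x).ne'
  have hcop : Nat.Coprime (2 ^ k) m := Nat.Coprime.pow_left k (Nat.coprime_two_left.mpr hm)
  have hb := Nat.gcd_eq_gcd_ab (2 ^ k) m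
  rw [Nat.Coprime.gcd_eq_one hcop] at hb
  refine ⟨x ^ ((m : ℤ) * Nat.gcdB (2 ^ k) m), zpow_mem (mem_zpowers x) _,
    x ^ (((2 ^ k : ℕ) : ℤ) * Nat.gcdA (2 ^ k) m), zpow_mem (mem_zpowers x) _, ?_, ⟨k, ?_⟩, ?_⟩
  · rw [← zpow_add, ← hb]; simp
  · rw [← zpow_natCast, ← zpow_mul]
    have h1 : (m : ℤ) * Nat.gcdB (2 ^ k) m * ((2 ^ k : ℕ) : ℤ) =
        (orderOf x : ℤ) * Nat.gcdB (2 ^ k) m := by
      rw [h]; push_cast; ring
    rw [h1, zpow_mul, zpow_natCast, pow_orderOf_eq_one, one_zpow]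
  · refine hm.of_dvd_nat (orderOf_dvd_of_pow_eq_one ?_)
    rw [← zpow_natCast, ← zpow_mul]
    have h1 : ((2 ^ k : ℕ) : ℤ) * Nat.gcdA (2 ^ k) m * (m : ℤ) =
        (orderOf x : ℤ) * Nat.gcdA (2 ^ k) m := by
      rw [h]; push_cast; ring
    rw [h1, zpow_mul, zpow_natCast, pow_orderOf_eq_one, one_zpow]

/-- the centralizer of `u` modulo `N` inside `C` -/
def Yu (C N : Subgroup X) (u : X) (hn : ∀ g ∈ C, ∀ n ∈ N, g * n * g⁻¹ ∈ N) : Subgroup X where
  carrier := {k | k ∈ C ∧ ∃ n ∈ N, k * u * k⁻¹ = n * u}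
  one_mem' := ⟨C.one_mem, 1, N.one_mem, by group⟩
  mul_mem' := by
    rintro k l ⟨hk, n, hnN, h1⟩ ⟨hl, m, hm, h2⟩
    refine ⟨C.mul_mem hk hl, (k * m * k⁻¹) * n, N.mul_mem (hn k hk m hm) hnN, ?_⟩
    calc k * l * u * (k * l)⁻¹ = k * (l * u * l⁻¹) * k⁻¹ := by group
      _ = (k * m * k⁻¹) * (k * u * k⁻¹) := by rw [h2]; group
      _ = (k * m * k⁻¹) * n * u := by rw [h1]; group
  inv_mem' := by
    rintro k ⟨hk, n, hnN, h1⟩
    refine ⟨C.inv_mem hk, (k⁻¹ * n * k⁻¹⁻¹)⁻¹, N.inv_mem (hn _ (C.inv_mem hk) n hnN), ?_⟩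
    have h2 : n = k * u * k⁻¹ * u⁻¹ := by rw [h1]; group
    rw [h2]; group

theorem mem_Yu {C N : Subgroup X} {u : X} {hn : ∀ g ∈ C, ∀ n ∈ N, g * n * g⁻¹ ∈ N} {k : X} :
    k ∈ Yu C N u hn ↔ k ∈ C ∧ ∃ n ∈ N, k * u * k⁻¹ = n * u := Iff.rfl

theorem sq_mem_Yu {C N : Subgroup X} {u z : X} (hn : ∀ g ∈ C, ∀ n ∈ N, g * n * g⁻¹ ∈ N)
    (hz2 : z * z = 1) (hzc : ∀ g ∈ C, g * z = z * g)
    (hmv : ∀ g ∈ C, ∃ n ∈ N, g * u * g⁻¹ = n * u ∨ g * u * g⁻¹ = n * (u * z)) {k : X}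
    (hk : k ∈ C) : k * k ∈ Yu C N u hn := by
  rw [mem_Yu]
  refine ⟨C.mul_mem hk hk, ?_⟩
  obtain ⟨n, hnN, h1⟩ := hmv k hk
  rcases h1 with h1 | h1
  · refine ⟨(k * n * k⁻¹) * n, N.mul_mem (hn k hk n hnN) hnN, ?_⟩
    calc k * k * u * (k * k)⁻¹ = k * (k * u * k⁻¹) * k⁻¹ := by group
      _ = k * (n * u) * k⁻¹ := by rw [h1]
      _ = (k * n * k⁻¹) * (k * u * k⁻¹) := by group
      _ = (k * n * k⁻¹) * n * u := by rw [h1]; group
  · refine ⟨(k * n * k⁻¹) * n, N.mul_mem (hn k hk n hnN) hnN, ?_⟩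
    have hz' : k * z * k⁻¹ = z := by rw [hzc k hk]; group
    calc k * k * u * (k * k)⁻¹ = k * (k * u * k⁻¹) * k⁻¹ := by group
      _ = k * (n * (u * z)) * k⁻¹ := by rw [h1]
      _ = (k * n * k⁻¹) * (k * u * k⁻¹) * (k * z * k⁻¹) := by group
      _ = (k * n * k⁻¹) * n * u * (z * z) := by rw [h1, hz']; group
      _ = (k * n * k⁻¹) * n * u := by rw [hz2, mul_one]

/-- a subgroup containing all squares is normalized -/
theorem conj_mem_of_sq {C Y : Subgroup X} (hYC : Y ≤ C) (hsq : ∀ k ∈ C, k * k ∈ Y) {g k : X}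
    (hg : g ∈ C) (hk : k ∈ Y) : g * k * g⁻¹ ∈ Y := by
  have h1 : g * k * g⁻¹ = (g * g) * ((g⁻¹ * k) * (g⁻¹ * k)) * (k * k)⁻¹ * k := by group
  rw [h1]
  exact Y.mul_mem (Y.mul_mem (Y.mul_mem (hsq g hg) (hsq _ (C.mul_mem (C.inv_mem hg) (hYC hk))))
    (Y.inv_mem (hsq k (hYC hk)))) hk

end gen

/-! ### facts on the model -/

theorem J_comm {x y : SM} (hx : x ∈ J) (hy : y ∈ J) : x * y = y * x := by
  have hd : allLT 64 (fun a => allLT 64 (fun b => com a b)) = true := by decide +kernel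
  have hx' : x.1 < 64 := Nat.le_of_ble_eq_true hx
  have hy' : y.1 < 64 := Nat.le_of_ble_eq_true hy
  exact of_com (allLT_spec (allLT_spec hd x.1 hx') y.1 hy')

theorem J_le_R2 : J ≤ R2 := by
  intro x hx
  have hd : allLT 64 (fun a => inR2 a) = true := by decide +kernel
  exact mem_R2.mpr (allLT_spec hd x.1 (Nat.le_of_ble_eq_true hx))

theorem u0_mem_J : u0 ∈ J := by
  show inJ 37 = true
  decide

theorem z0_mem_V : z0 ∈ V := by show inV 10 = true; decide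
theorem a0_mem_V : a0 ∈ V := by show inV 2 = true; decide
theorem a0_ne_one : a0 ≠ 1 := by
  intro h; have := congrArg SM.val h; exact absurd this (by decide)
theorem a0_ne_z0 : a0 ≠ z0 := by
  intro h; have := congrArg SM.val h; exact absurd this (by decide)
theorem a0_sq : a0 * a0 = 1 := SM.ext (by decide +kernel)

/-- the kernel fact F2 -/
theorem mem_J_of {x y : SM} (hx : x ∈ J) (hxa : x * x = a0) (hns : ∀ r ∈ R2, r * r ≠ x)
    (hs : ∃ s ∈ R2, s ∉ J ∧ s * x = x * s) (hy : y ∈ R2) (hyu : y * u0 = u0 * y)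
    (hyx : y * x = x * y) : y ∈ J := by
  have hd : allLT 64 (fun a => imp (sqIs a 2) (orB
      (exLT 512 (fun r => andB (inR2 r) (sqIs r a)))
      (orB (allLT 512 (fun s => imp (inR2 s) (imp (com s a) (inJ s))))
        (allLT 512 (fun y => imp (inR2 y) (imp (com y 37) (imp (com y a) (inJ y)))))))) = true := by
    decide +kernel
  have h1 := imp_spec (allLT_spec hd x.1 (Nat.le_of_ble_eq_true hx)) (sqIs_of (y := a0) hxa)
  rcases orB_spec h1 with h2 | h2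
  · obtain ⟨r, hr, hr'⟩ := exLT_spec h2
    obtain ⟨h3, h4⟩ := andB_spec hr'
    exact absurd (of_sqIs (x := ⟨r, hr⟩) h4) (hns ⟨r, hr⟩ (mem_R2.mpr h3))
  rcases orB_spec h2 with h3 | h3
  · obtain ⟨s, hs1, hs2, hs3⟩ := hs
    exact absurd (imp_spec (imp_spec (allLT_spec h3 s.1 s.2) (mem_R2.mp hs1)) (com_of hs3)) hs2
  · exact imp_spec (imp_spec (imp_spec (allLT_spec h3 y.1 y.2) (mem_R2.mp hy))
      (com_of (y := u0) hyu)) (com_of hyx)

theorem sq_mem_Om {x : SM} (hx : x ∈ J) : x * x ∈ Om := by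
  have hd : allLT 64 (fun a => inOm (mulN a a)) = true := by decide +kernel
  exact allLT_spec hd x.1 (Nat.le_of_ble_eq_true hx)

theorem mem_Om_of_sq {x : SM} (hx : x ∈ J) (h : x * x = 1) : x ∈ Om := by
  have hd : allLT 64 (fun a => imp (sqIs a 0) (inOm a)) = true := by decide +kernel
  exact imp_spec (allLT_spec hd x.1 (Nat.le_of_ble_eq_true hx)) (sqIs_of (y := 1) h)

theorem Om_le_J : Om ≤ J := by
  intro x hx
  have hd : allLT 512 (fun a => imp (inOm a) (inJ a)) = true := by decide +kernel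
  exact imp_spec (allLT_spec hd x.1 x.2) hx

theorem Om_sq {x : SM} (hx : x ∈ Om) : x * x = 1 := by
  have hd : allLT 512 (fun a => imp (inOm a) (sqIs a 0)) = true := by decide +kernel
  exact of_sqIs (y := 1) (imp_spec (allLT_spec hd x.1 x.2) hx)

theorem V_le_Om : V ≤ Om := by
  intro x hx
  have hd : allLT 512 (fun a => imp (inV a) (inOm a)) = true := by decide +kernel
  exact imp_spec (allLT_spec hd x.1 x.2) hx

theorem mul_mem_V {x y : SM} (hx : x ∈ Om) (hy : y ∈ Om) (hxV : x ∉ V) (hyV : y ∉ V) :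
    x * y ∈ V := by
  have hd : allLT 512 (fun a => imp (inOm a) (orB (inV a) (allLT 512 (fun b =>
    imp (inOm b) (orB (inV b) (inV (mulN a b))))))) = true := by decide +kernel
  rcases orB_spec (imp_spec (allLT_spec hd x.1 x.2) hx) with h | h
  · exact absurd h hxV
  rcases orB_spec (imp_spec (allLT_spec h y.1 y.2) hy) with h1 | h1
  · exact absurd h1 hyV
  · exact h1

theorem V_cases {x : SM} (hx : x ∈ V) : x = 1 ∨ x = z0 ∨ x = a0 ∨ x = a0 * z0 := by
  have hd : allLT 512 (fun a => imp (inV a) (orB (Nat.beq a 0) (orB (Nat.beq a 10)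
    (orB (Nat.beq a 2) (Nat.beq a 8))))) = true := by decide +kernel
  have e : a0 * z0 = el 8 := SM.ext (by decide +kernel)
  rw [e]
  rcases orB_spec (imp_spec (allLT_spec hd x.1 x.2) hx) with h | h
  · exact Or.inl (ext_beq (y := 1) h)
  rcases orB_spec h with h | h
  · exact Or.inr (Or.inl (ext_beq (y := z0) h))
  rcases orB_spec h with h | h
  · exact Or.inr (Or.inr (Or.inl (ext_beq (y := a0) h)))
  · exact Or.inr (Or.inr (Or.inr (ext_beq (y := el 8) h)))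

theorem exists_outside : ∃ s ∈ R2, s ∉ J ∧ s * u0 = u0 * s := by
  refine ⟨el 128, mem_R2.mpr (by decide +kernel), ?_, ?_⟩
  · intro h
    have h' : inJ 128 = true := h
    exact absurd h' (by decide)
  · exact of_com (x := el 128) (y := u0) (by decide +kernel)

/-! ### the theorem -/

variable {G : Type*} [Group G] (c : Ctx G)

theorem mem_KV {g : G} : g ∈ KV c ↔ g * c.ι z0 = c.ι z0 * g ∧ g * c.ι a0 = c.ι a0 * g := by
  unfold KV
  rw [mem_centralizer_iff]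
  constructor
  · intro h
    exact ⟨(h _ (by simp)).symm, (h _ (by simp)).symm⟩
  · rintro ⟨h1, h2⟩ x hx
    rcases hx with rfl | hx
    · exact h1.symm
    · rw [Set.mem_singleton_iff] at hx; rw [hx]; exact h2.symm

theorem map_R2_le : R2.map c.ι ≤ KV c := by
  rintro _ ⟨r, hr, rfl⟩
  show c.ι r ∈ KV c
  rw [mem_KV, ← map_mul, ← map_mul, ← map_mul, ← map_mul, z0_central]
  refine ⟨rfl, ?_⟩
  rw [mem_centralizer_singleton_iff.mp hr]

/-- `R2` is a Sylow 2-subgroup of `C_G(V)` -/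
theorem R2_sylow [Finite G] : ¬ 2 ∣ (R2.map c.ι).relIndex (KV c) := by
  refine not_dvd_relIndex c (KV c) R2 card_R2 (map_R2_le c) ?_
  intro P hPK hP h512
  obtain ⟨g, hg⟩ := central_of_big c hP h512
  have h1 := hg z0 (fun p hp => ((mem_KV c).mp (hPK hp)).1.symm)
  have h2 := hg a0 (fun p hp => ((mem_KV c).mp (hPK hp)).2.symm)
  have hne : ∀ x : SM, x ≠ 1 → g * c.ι x * g⁻¹ ≠ 1 := by
    intro x hx h
    apply hx
    apply c.inj
    apply conj_inj (g := g)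
    rw [h, map_one]; group
  have h3 := h1.resolve_left (hne z0 z0_ne_one)
  have h4 := h2.resolve_left (hne a0 a0_ne_one)
  exact a0_ne_z0 (c.inj (conj_inj (h4.trans h3.symm)))

/-- inverse of a normalizing element -/
theorem Nm_inv [Finite G] {X : Subgroup SM} {g : G} (h : Nm c X g) : Nm c X g⁻¹ := by
  have h1 : g ∈ normalizer ((X.map c.ι : Subgroup G) : Set G) := by
    refine mem_normalizer_of_forall ?_
    rintro _ ⟨x, hx, rfl⟩
    obtain ⟨y, hy, hxy⟩ := h x hx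
    exact ⟨y, hy, hxy.symm⟩
  intro x hx
  have h2 := conj_mem_of_mem_normalizer (inv_mem h1) (mem_map_of_mem c.ι hx)
  obtain ⟨y, hy, hxy⟩ := h2
  exact ⟨y, hy, hxy.symm⟩

/-- elements of odd order of `C_G(V)` normalizing `J` centralize it -/
theorem conj_J_of_odd {r : G} (hr : r ∈ KV c) (ho : Odd (orderOf r)) (hJ : Nm c J r) :
    ∀ x ∈ J, r * c.ι x * r⁻¹ = c.ι x := by
  obtain ⟨hz, ha⟩ := (mem_KV c).mp hr
  have hV : ∀ x ∈ V, r * c.ι x = c.ι x * r := by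
    intro x hx
    rcases V_cases hx with rfl | rfl | rfl | rfl
    · rw [map_one, mul_one, one_mul]
    · exact hz
    · exact ha
    · rw [map_mul, ← mul_assoc, ha, mul_assoc, hz, ← mul_assoc]
  have hOm : ∀ x ∈ Om, r * c.ι x = c.ι x * r := by
    intro x hx
    by_cases hxV : x ∈ V
    · exact hV x hxV
    obtain ⟨y, hy, hxy⟩ := hJ x (Om_le_J hx)
    have hyO : y ∈ Om := by
      refine mem_Om_of_sq hy ?_
      apply c.inj
      rw [map_mul, ← hxy, ← conj_map_mul, ← map_mul, Om_sq hx, map_one]; group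
    have hyV : y ∉ V := by
      intro hyV
      apply hxV
      have h1 : c.ι x = c.ι y := by
        have h2 := hV y hyV
        have h3 : c.ι x = r⁻¹ * c.ι y * r := by rw [← hxy]; group
        rw [h3, mul_assoc, ← h2]; group
      rw [c.inj h1]; exact hyV
    have ht := mul_mem_V hyO hx hyV hxV
    have hxx : c.ι x * c.ι x = 1 := by rw [← map_mul, Om_sq hx, map_one]
    have h1 : r * c.ι x * r⁻¹ = c.ι (y * x) * c.ι x := by
      rw [hxy, map_mul, mul_assoc, hxx, mul_one]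
    have h2 := conj_eq_of_odd ho h1 (hV _ ht) (by
      rw [← map_mul, Om_sq (V_le_Om ht), map_one])
    calc r * c.ι x = (r * c.ι x * r⁻¹) * r := by group
      _ = c.ι x * r := by rw [h2]
  intro x hx
  obtain ⟨y, hy, hxy⟩ := hJ x hx
  have hsq := hOm _ (sq_mem_Om hx)
  -- `t = y x⁻¹`
  have hcomm := J_comm hy (J.inv_mem hx)
  have hyy : y * y = x * x := by
    apply c.inj
    rw [map_mul, ← hxy, ← conj_map_mul, ← map_mul, hsq, mul_inv_cancel_right]
  have ht2 : (y * x⁻¹) * (y * x⁻¹) = 1 := by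
    calc (y * x⁻¹) * (y * x⁻¹) = y * (x⁻¹ * y) * x⁻¹ := by group
      _ = y * (y * x⁻¹) * x⁻¹ := by rw [← hcomm]
      _ = (y * y) * (x⁻¹ * x⁻¹) := by group
      _ = 1 := by rw [hyy]; group
  have htO := mem_Om_of_sq (J.mul_mem hy (J.inv_mem hx)) ht2
  refine conj_eq_of_odd (t := c.ι (y * x⁻¹)) ho ?_ (hOm _ htO) (by
    rw [← map_mul, ht2, map_one])
  rw [hxy, ← map_mul, inv_mul_cancel_right]

theorem exists_KN [Finite G] (hS : SwapV c) {N : Subgroup G} (hN : ZN c N) :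
    ∃ M, KN c M := by
  have : Fact (Nat.Prime 2) := ⟨Nat.prime_two⟩
  -- the element `x` of `J` with square `a0`
  obtain ⟨n, hnJ, hnR, -, hna⟩ := hS.toz a0 a0_mem_V a0_ne_one
  obtain ⟨x, hx, hnx⟩ := Nm_inv c hnJ u0 u0_mem_J
  rw [inv_inv] at hnx
  have hnx' : n * c.ι x * n⁻¹ = c.ι u0 := by rw [← hnx]; group
  have hxa : x * x = a0 := by
    apply c.inj
    apply conj_inj (g := n)
    rw [map_mul, conj_map_mul, hnx', ← map_mul, u0_sq, hna]
  have hns : ∀ r ∈ R2, r * r ≠ x := by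
    intro r hr h
    obtain ⟨y, -, hy⟩ := hnR r hr
    apply no_sqrt_u0 y
    apply c.inj
    rw [map_mul, ← hy, ← conj_map_mul, ← map_mul, h, hnx']
  have hsx : ∃ s ∈ R2, s ∉ J ∧ s * x = x * s := by
    obtain ⟨s, hs, hsJ, hsu⟩ := exists_outside
    obtain ⟨y, hy, hsy⟩ := Nm_inv c hnR s hs
    rw [inv_inv] at hsy
    refine ⟨y, hy, ?_, ?_⟩
    · intro hyJ
      obtain ⟨w, hw, hyw⟩ := hnJ y hyJ
      apply hsJ
      have h1 : c.ι s = c.ι w := by rw [← hyw, ← hsy]; group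
      rw [c.inj h1]; exact hw
    · apply c.inj
      rw [map_mul, map_mul, ← hsy, ← hnx]
      have h1 : c.ι s * c.ι u0 = c.ι u0 * c.ι s := by rw [← map_mul, hsu, map_mul]
      calc n⁻¹ * c.ι s * n * (n⁻¹ * c.ι u0 * n) = n⁻¹ * (c.ι s * c.ι u0) * n := by group
        _ = n⁻¹ * (c.ι u0 * c.ι s) * n := by rw [h1]
        _ = _ := by group
  -- `C_G(a)` and `N_a`
  set Ca : Subgroup G := centralizer {c.ι a0} with hCa
  have hCa' : ∀ g ∈ Ca, n * g * n⁻¹ ∈ Cz c := by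
    intro g hg
    rw [mem_Cz, ← hna]
    have h1 := mem_centralizer_singleton_iff.mp hg
    calc n * g * n⁻¹ * (n * c.ι a0 * n⁻¹) * (n * g * n⁻¹)⁻¹ = n * ((g * c.ι a0) * g⁻¹) * n⁻¹ := by
          group
      _ = n * c.ι a0 * n⁻¹ := by rw [h1]; group
  set Na : Subgroup G := N.map (MulAut.conj n⁻¹).toMonoidHom with hNa
  have hNamem : ∀ m, m ∈ Na ↔ n * m * n⁻¹ ∈ N := by
    intro m
    constructor
    · rintro ⟨k, hk, rfl⟩
      have h1 : n * ((MulAut.conj n⁻¹).toMonoidHom k) * n⁻¹ = k := by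
        show n * (n⁻¹ * k * n⁻¹⁻¹) * n⁻¹ = k
        group
      rw [h1]; exact hk
    · intro h
      refine ⟨_, h, ?_⟩
      show n⁻¹ * (n * m * n⁻¹) * n⁻¹⁻¹ = m
      group
  have hNao : Odd (Nat.card Na) := by
    rw [hNa, card_map_of_injective (MulAut.conj n⁻¹).injective]; exact hN.odd
  have hNan : ∀ g ∈ Ca, ∀ m ∈ Na, g * m * g⁻¹ ∈ Na := by
    intro g hg m hm
    rw [hNamem] at hm ⊢
    have h1 := hN.norm _ (hCa' g hg) _ hm
    have h2 : n * g * n⁻¹ * (n * m * n⁻¹) * (n * g * n⁻¹)⁻¹ = n * (g * m * g⁻¹) * n⁻¹ := by group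
    rwa [h2] at h1
  have hNamv : ∀ g ∈ Ca, ∃ m ∈ Na, g * c.ι x * g⁻¹ = m * c.ι x ∨
      g * c.ι x * g⁻¹ = m * (c.ι x * c.ι a0) := by
    intro g hg
    obtain ⟨m, hm, h1⟩ := hN.mv _ (hCa' g hg)
    refine ⟨n⁻¹ * m * n, ?_, ?_⟩
    · rw [hNamem]
      have h2 : n * (n⁻¹ * m * n) * n⁻¹ = m := by group
      rw [h2]; exact hm
    · have h2 : g * c.ι x * g⁻¹ = n⁻¹ * (n * g * n⁻¹ * c.ι u0 * (n * g * n⁻¹)⁻¹) * n := by
        rw [← hnx]; group
      rw [h2]
      rcases h1 with h1 | h1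
      · left; rw [h1, ← hnx]; group
      · right
        rw [h1, map_mul, ← hnx, ← hna]; group
  -- `Y0`
  set K : Subgroup G := KV c with hK
  have hKz : K ≤ Cz c := by
    intro g hg
    rw [mem_Cz, ((mem_KV c).mp hg).1, mul_inv_cancel_right]
  have hKa : K ≤ Ca := by
    intro g hg
    rw [hCa, mem_centralizer_singleton_iff]
    exact ((mem_KV c).mp hg).2
  set Y0 : Subgroup G := K ⊓ (Yu (Cz c) N (c.ι u0) hN.norm ⊓ Yu Ca Na (c.ι x) hNan) with hY0
  have hY0K : Y0 ≤ K := inf_le_left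
  have hsqY : ∀ k ∈ K, k * k ∈ Y0 := by
    intro k hk
    refine ⟨K.mul_mem hk hk, ?_, ?_⟩
    · refine sq_mem_Yu (z := c.ι z0) hN.norm ?_ ?_ ?_ (hKz hk)
      · rw [← map_mul, z0_sq, map_one]
      · intro g hg
        have h1 := (mem_Cz c).mp hg
        calc g * c.ι z0 = (g * c.ι z0 * g⁻¹) * g := by group
          _ = _ := by rw [h1]
      · intro g hg
        obtain ⟨m, hm, h1⟩ := hN.mv g hg
        refine ⟨m, hm, ?_⟩
        rw [map_mul] at h1
        exact h1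
    · refine sq_mem_Yu (z := c.ι a0) hNan ?_ ?_ hNamv (hKa hk)
      · rw [← map_mul, a0_sq, map_one]
      · intro g hg
        exact mem_centralizer_singleton_iff.mp hg
  have hY0n : ∀ g ∈ K, ∀ k ∈ Y0, g * k * g⁻¹ ∈ Y0 := fun g hg k hk =>
    conj_mem_of_sq hY0K hsqY hg hk
  -- trivial intersection of the model with odd subgroups
  have htriv : ∀ (L : Subgroup G), Odd (Nat.card L) → ∀ s : SM, c.ι s ∈ L → s = 1 := by
    intro L hL s hs
    apply c.inj
    rw [map_one]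
    have h1 : orderOf (c.ι s) ∣ Nat.card L := L.orderOf_dvd_natCard hs
    have h2 : orderOf (c.ι s) ∣ 2 ^ 9 := by
      have h3 : orderOf (c.ι s) ∣ orderOf s := orderOf_map_dvd c.ι s
      have h4 : orderOf s ∣ Nat.card SM := orderOf_dvd_natCard s
      rw [card_SM] at h4
      exact h3.trans h4
    exact orderOf_eq_one_iff.mp
      (Nat.eq_one_of_dvd_coprimes (Nat.Coprime.pow_right 9 (Nat.coprime_two_right.mpr hL)) h1 h2)
  -- `R2 ∩ Y0 = J`
  have hJY0 : J.map c.ι ≤ Y0 := by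
    rintro _ ⟨j, hj, rfl⟩
    show c.ι j ∈ Y0
    have hjK : c.ι j ∈ K := map_R2_le c (mem_map_of_mem c.ι (J_le_R2 hj))
    refine ⟨hjK, ⟨hKz hjK, 1, one_mem _, ?_⟩, ⟨hKa hjK, 1, one_mem _, ?_⟩⟩
    · rw [one_mul, ← map_mul, J_comm hj u0_mem_J, map_mul, mul_inv_cancel_right]
    · rw [one_mul, ← map_mul, J_comm hj hx, map_mul, mul_inv_cancel_right]
  have hR2Y0 : R2.map c.ι ⊓ Y0 = J.map c.ι := by
    apply le_antisymm
    · rintro y ⟨hyR, hyY⟩
      obtain ⟨r, hr, rfl⟩ := hyR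
      have hyY' : c.ι r ∈ Y0 := hyY
      obtain ⟨-, ⟨-, m, hm, h1⟩, ⟨-, m', hm', h2⟩⟩ := hyY'
      have e1 : r * u0 * r⁻¹ * u0⁻¹ = 1 := by
        refine htriv N hN.odd _ ?_
        have h3 : c.ι (r * u0 * r⁻¹ * u0⁻¹) = m := by
          rw [map_mul, map_mul, map_mul, map_inv, map_inv, h1, mul_inv_cancel_right]
        rw [h3]; exact hm
      have e2 : r * x * r⁻¹ * x⁻¹ = 1 := by
        refine htriv Na hNao _ ?_
        have h3 : c.ι (r * x * r⁻¹ * x⁻¹) = m' := by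
          rw [map_mul, map_mul, map_mul, map_inv, map_inv, h2, mul_inv_cancel_right]
        rw [h3]; exact hm'
      have e1' : r * u0 = u0 * r := by
        have h3 := mul_inv_eq_one.mp e1
        exact mul_inv_eq_iff_eq_mul.mp h3
      have e2' : r * x = x * r := by
        have h3 := mul_inv_eq_one.mp e2
        exact mul_inv_eq_iff_eq_mul.mp h3
      exact mem_map_of_mem c.ι (mem_J_of hx hxa hns hsx hr e1' e2')
    · refine le_inf ?_ hJY0
      exact map_mono J_le_R2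
  -- `J` is Sylow in `Y0`
  have hJs : ¬ 2 ∣ (J.map c.ι).relIndex Y0 := by
    rw [← hR2Y0]
    refine SylowL5.Ctrl.not_dvd_relIndex_inf hY0K hY0n ?_
    rw [inf_eq_left.mpr (map_R2_le c)]
    exact R2_sylow c
  -- Burnside
  obtain ⟨L, hLY, hLo, hLn, hLm, hLd⟩ := burnside_gen (c.isPGroup_map J) hJY0 hJs (by
    intro r hr hrJ
    have hrK : r ∈ K := hY0K hr
    have hNmr : Nm c J r := by
      intro y hy
      obtain ⟨w, hw, h1⟩ := hrJ _ (mem_map_of_mem c.ι hy)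
      exact ⟨w, hw, h1.symm⟩
    have hrN : r ∈ normalizer ((J.map c.ι : Subgroup G) : Set G) := mem_normalizer_of_forall hrJ
    obtain ⟨y, hy, w, hw, hyw, ⟨k, hk⟩, hwo⟩ := exists_decomp r
    have hyY : y ∈ Y0 := (zpowers_le.mpr hr) hy
    have hyN : y ∈ normalizer ((J.map c.ι : Subgroup G) : Set G) := (zpowers_le.mpr hrN) hy
    have hwK : w ∈ K := (zpowers_le.mpr hrK) hw
    have hwN : w ∈ normalizer ((J.map c.ι : Subgroup G) : Set G) := (zpowers_le.mpr hrN) hw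
    -- `y ∈ J`
    have hyJ : y ∈ J.map c.ι := by
      have hz : IsPGroup 2 (zpowers y) := by
        obtain ⟨j, -, hj⟩ := (Nat.dvd_prime_pow Nat.prime_two).mp (orderOf_dvd_of_pow_eq_one hk)
        rw [IsPGroup.iff_card]
        exact ⟨j, by rw [Nat.card_zpowers, hj]⟩
      have hsup : IsPGroup 2 (J.map c.ι ⊔ zpowers y : Subgroup G) :=
        (c.isPGroup_map J).to_sup_of_normal_left' hz (zpowers_le.mpr hyN)
      obtain ⟨g, hg, hgle⟩ := rel_sylow hJY0 (c.isPGroup_map J) hJs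
        (sup_le hJY0 (zpowers_le.mpr hyY)) hsup
      have hcard : Nat.card (J.map c.ι ⊔ zpowers y : Subgroup G) ≤ Nat.card (J.map c.ι) := by
        refine Nat.card_le_card_of_injective
          (fun p : (J.map c.ι ⊔ zpowers y : Subgroup G) => (⟨g * p * g⁻¹, hgle p p.2⟩ : J.map c.ι)) ?_
        intro p q hpq
        have h1 : g * (p : G) * g⁻¹ = g * (q : G) * g⁻¹ := congrArg Subtype.val hpq
        exact Subtype.ext (conj_inj h1)
      have h1 : J.map c.ι = J.map c.ι ⊔ zpowers y := eq_of_le_of_card_ge le_sup_left hcard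
      rw [h1]
      exact mem_sup_right (mem_zpowers y)
    obtain ⟨j, hj, rfl⟩ := hyJ
    have hNmw : Nm c J w := by
      intro v hv
      have h1 := conj_mem_of_mem_normalizer hwN (mem_map_of_mem c.ι hv)
      obtain ⟨u, hu, h2⟩ := h1
      exact ⟨u, hu, h2.symm⟩
    have hwJ := conj_J_of_odd c hwK hwo hNmw
    rintro _ ⟨v, hv, rfl⟩
    have h1 := hwJ v hv
    have h2 : c.ι j * c.ι v = c.ι v * c.ι j := by rw [← map_mul, J_comm hj hv, map_mul]
    show r * c.ι v * r⁻¹ = c.ι v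
    rw [hyw]
    calc w * c.ι j * c.ι v * (w * c.ι j)⁻¹ = w * ((c.ι j * c.ι v) * (c.ι j)⁻¹) * w⁻¹ := by group
      _ = w * c.ι v * w⁻¹ := by rw [h2, mul_inv_cancel_right]
      _ = c.ι v := h1)
  have hLn' : ∀ g ∈ K, ∀ l ∈ L, g * l * g⁻¹ ∈ L := by
    intro g hg l hl
    refine hLm _ (hY0n g hg l (hLY hl)) ?_
    rw [TwoFusion.StronglyEmbeddedBasic.orderOf_conj]
    exact J2Sylow.Functor.odd_orderOf_of_mem hLo hl
  refine ⟨L, hLY.trans hY0K, hLo, hLn', ?_⟩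
  intro g hg
  -- `K = R2 Y0`
  obtain ⟨s, hs, y, hy, rfl⟩ := SylowL5.Ctrl.exists_mul_of_cop (p := 2) hY0K hY0n
    (map_R2_le c) (R2_sylow c) (by
      intro k hk hcop
      obtain ⟨m, hm⟩ := Nat.coprime_two_right.mp hcop
      have h1 : k = ((k * k) ^ (m + 1)) := by
        rw [← pow_two, ← pow_mul]
        have h2 : 2 * (m + 1) = orderOf k + 1 := by rw [hm]; ring
        rw [h2, pow_succ, pow_orderOf_eq_one, one_mul]
      rw [h1]
      exact pow_mem (hsqY k hk) _) hg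
  obtain ⟨l, hl, a, ha, rfl⟩ := hLd y hy
  obtain ⟨r, hr, rfl⟩ := hs
  obtain ⟨j, hj, rfl⟩ := ha
  have hrK : c.ι r ∈ K := map_R2_le c (mem_map_of_mem c.ι hr)
  refine ⟨c.ι r * l * (c.ι r)⁻¹, hLn' _ hrK l hl, r * j, R2.mul_mem hr (J_le_R2 hj), ?_⟩
  show c.ι r * (l * c.ι j) = c.ι r * l * (c.ι r)⁻¹ * c.ι (r * j)
  rw [map_mul]; group

end Cfsg.Agent.HSType.KNil
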