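import Mathlib
import Cfsg.Agent.HSType.FactsI
import Cfsg.Agent.HSType.JFus
import Cfsg.Agent.HSType.KNil

/-!
# Fusion of involutions
-/

set_option autoImplicit false
set_option linter.style.haveILetI false

namespace Cfsg.Agent.HSType.InvFusion

open Cfsg.Agent.HSType.Model Cfsg.Agent.HSType.Facts Cfsg.Agent.HSType.FactsU
  Cfsg.Agent.HSType.FactsJ Cfsg.Agent.HSType.FactsI Cfsg.Agent.HSType.Spec
  Cfsg.Agent.HSType.Basic Cfsg.Agent.HSType.Trans Cfsg.Agent.HSType.JFus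

variable {G : Type*} [Group G] (c : Ctx G)

theorem CC_trans {x y w : SM} (h1 : CC c x y) (h2 : CC c y w) : CC c x w := by
  obtain ⟨g, hg, hxy⟩ := h1
  obtain ⟨k, hk, hyw⟩ := h2
  refine ⟨k * g, (Cz c).mul_mem hk hg, ?_⟩
  rw [← hyw, ← hxy]; group

theorem CC_symm {x y : SM} (h1 : CC c x y) : CC c y x := by
  obtain ⟨g, hg, hxy⟩ := h1
  refine ⟨g⁻¹, (Cz c).inv_mem hg, ?_⟩
  rw [← hxy]; group

theorem CC_refl (x : SM) : CC c x x := ⟨1, (Cz c).one_mem, by group⟩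

theorem CC_smul (s x : SM) : CC c x (s * x * s⁻¹) :=
  ⟨c.ι s, range_le_Cz c ⟨s, rfl⟩, by rw [map_mul, map_mul, map_inv]⟩

theorem Dz_of_CC {x y : SM} (h : CC c x y) (hy : Dz c y) : Dz c x := by
  obtain ⟨g, -, hxy⟩ := h
  exact Dz_of_conj' c hy hxy

theorem CC_conj {x y w : SM} {g : G} (hg : g ∈ Cz c) (h : g * c.ι x * g⁻¹ = c.ι y)
    (hx : CC c x w) : CC c y w := CC_trans c (CC_symm c ⟨g, hg, h⟩) hx

theorem CC_conj' {x y w : SM} {g : G} (hg : g ∈ Cz c) (h : g * c.ι x * g⁻¹ = c.ι y)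
    (hy : CC c y w) : CC c x w := CC_trans c ⟨g, hg, h⟩ hy

/-- an involution `t ∈ R1 - J` conjugate to `z` is `C_G(z)`-conjugate to `a` -/
theorem CC_a0 [Finite G] {t : SM} (ht : t * t = 1) (hR : t ∈ R1) (hJ : t ∉ J) (h : Dz c t) :
    CC c t a0 := by
  have hSw := swapV c (a0_of_notJ c ht hJ h)
  obtain ⟨g, hg, hC⟩ := to_z c h
  have htz : t ≠ z0 := by rintro rfl; exact hJ (V_le_J z0_mem_V)
  have hsq : ∀ {x y : SM}, g * c.ι x * g⁻¹ = c.ι y → g * c.ι (x * x) * g⁻¹ = c.ι (y * y) := by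
    intro x y hxy
    rw [map_mul, conj_map_mul, hxy, map_mul]
  have hinj : ∀ {x y : SM}, g * c.ι x * g⁻¹ = g * c.ι y * g⁻¹ → x = y := fun hxy =>
    c.inj (conj_inj hxy)
  have hone : g * c.ι 1 * g⁻¹ = c.ι 1 := by rw [map_one]; group
  have htu : t * u0 = u0 * t := Subgroup.mem_centralizer_singleton_iff.mp hR
  obtain ⟨u', hu'⟩ := hC u0 htu
  obtain ⟨z', hz'⟩ := hC z0 (z0_central t)
  have huz : u' * u' = z' := by
    apply c.inj
    rw [← hsq hu', u0_sq, hz']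
  have hz1 : z' ≠ 1 := Nm_ne_one c z0_ne_one hz'
  have hzz : z' ≠ z0 := by
    rintro rfl
    exact htz (hinj (hg.trans hz'.symm))
  have hz2 : z' * z' = 1 := by
    apply c.inj; rw [← hsq hz', z0_sq, hone]
  have hV : z' ∈ V := by
    by_contra hV
    obtain ⟨⟨w, hwR, hwt, hw2, hw1, hwz, hwt', hwtz⟩, a, b, haR, hbR, hta, htb, hab⟩ :=
      f2a ht hR hJ
    have hcu : ∀ x y : SM, x ∈ R1 → g * c.ι x * g⁻¹ = c.ι y → u' * y = y * u' := by
      intro x y hx hxy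
      have h1 : x * u0 = u0 * x := Subgroup.mem_centralizer_singleton_iff.mp hx
      apply c.inj
      rw [map_mul, map_mul, ← hu', ← hxy, ← conj_map_mul, ← conj_map_mul, ← map_mul, ← map_mul, h1]
    rcases fZ (x := u') (by rw [huz]; exact hz1) (by rw [huz]; exact hz2) (by rw [huz]; exact hV)
      with ⟨-, h1⟩ | h1
    · obtain ⟨a', ha'⟩ := hC a hta
      obtain ⟨b', hb'⟩ := hC b htb
      apply hab
      apply hinj
      rw [map_mul, map_mul, conj_map_mul, conj_map_mul, ha', hb', ← map_mul, ← map_mul,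
        comm_J (h1 a' (hcu a a' haR ha')) (h1 b' (hcu b b' hbR hb'))]
    · obtain ⟨w', hw'⟩ := hC w hwt
      have h2 := fR h1 (by rw [huz]; exact hz2) (y := w') (by
        apply c.inj; rw [← hsq hw', hw2, hone]) (hcu w w' hwR hw')
      rw [huz] at h2
      rcases h2 with h3 | h3 | h3 | h3
      · apply hw1; apply hinj; rw [hw', h3, hone]
      · apply hwt'; apply hinj; rw [hw', h3, hg]
      · apply hwz; apply hinj; rw [hw', h3, hz']
      · apply hwtz; apply hinj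
        rw [hw', h3, map_mul c.ι t z0, conj_map_mul, hg, hz', ← map_mul, z0_central]
  obtain ⟨n, -, -, -, hna, hnz⟩ := hSw.swap
  rcases V_cases hV with e | e | e | e
  · exact absurd e hz1
  · rw [e] at hz'
    refine ⟨n * g, ?_, ?_⟩
    · rw [mem_Cz]
      calc n * g * c.ι z0 * (n * g)⁻¹ = n * (g * c.ι z0 * g⁻¹) * n⁻¹ := by group
        _ = c.ι z0 := by rw [hz', hna]
    · calc n * g * c.ι t * (n * g)⁻¹ = n * (g * c.ι t * g⁻¹) * n⁻¹ := by group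
        _ = c.ι a0 := by rw [hg, hnz]
  · rw [e] at hz'
    have hs1 : c.ι s0 * c.ι a1 * (c.ι s0)⁻¹ = c.ι a0 := by
      rw [← map_mul, ← map_inv, ← map_mul, s0_swap.2]
    have hs2 : c.ι s0 * c.ι z0 * (c.ι s0)⁻¹ = c.ι z0 := by
      rw [← map_mul, z0_central, map_mul, mul_inv_cancel_right]
    refine ⟨n * c.ι s0 * g, ?_, ?_⟩
    · rw [mem_Cz]
      calc n * c.ι s0 * g * c.ι z0 * (n * c.ι s0 * g)⁻¹
          = n * (c.ι s0 * (g * c.ι z0 * g⁻¹) * (c.ι s0)⁻¹) * n⁻¹ := by group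
        _ = c.ι z0 := by rw [hz', hs1, hna]
    · calc n * c.ι s0 * g * c.ι t * (n * c.ι s0 * g)⁻¹
          = n * (c.ι s0 * (g * c.ι t * g⁻¹) * (c.ι s0)⁻¹) * n⁻¹ := by group
        _ = c.ι a0 := by rw [hg, hs2, hnz]
  · exact absurd e hzz

def s1 : SM := el 320
theorem s1_R2 : s1 ∈ R2 := mem_R2.mpr (by decide +kernel)
theorem s1_u0 : s1 * (u0 * z0) * s1⁻¹ = u0 := SM.ext (by decide +kernel)

/-- control of fusion to `a` by `C_G(u)` -/
theorem adj [Finite G] (hU : IsolU c) {t : SM} (hR : t ∈ R1) (hCC : CC c t a0) :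
    ∃ g : G, g * c.ι u0 * g⁻¹ = c.ι u0 ∧ g * c.ι t * g⁻¹ = c.ι a0 ∧
      ∀ x : SM, x * t = t * x → ∃ y ∈ R2, g * c.ι x * g⁻¹ = c.ι y := by
  obtain ⟨g₁, hg₁, hgt⟩ := hCC
  have hgz := (mem_Cz c).mp hg₁
  set P : Subgroup G :=
    ((Subgroup.centralizer ({t} : Set SM)).map c.ι).map (MulAut.conj g₁).toMonoidHom with hPdef
  have hP : IsPGroup 2 P := (c.isPGroup_map _).map _
  have hPK : P ≤ KV c := by
    rintro _ ⟨_, ⟨x, hx, rfl⟩, rfl⟩
    have hx' := Subgroup.mem_centralizer_singleton_iff.mp hx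
    show g₁ * c.ι x * g₁⁻¹ ∈ KV c
    rw [KNil.mem_KV]
    constructor
    · rw [← hgz, ← conj_map_mul, ← conj_map_mul, ← map_mul, z0_central, map_mul]
    · rw [← hgt, ← conj_map_mul, ← conj_map_mul, ← map_mul, hx', map_mul]
  obtain ⟨k, hk, hkP⟩ := rel_sylow (KNil.map_R2_le c) (c.isPGroup_map R2) (KNil.R2_sylow c) hPK hP
  obtain ⟨hkz, hka⟩ := (KNil.mem_KV c).mp hk
  have hmap : ∀ x : SM, x * t = t * x → ∃ y ∈ R2, k * g₁ * c.ι x * (k * g₁)⁻¹ = c.ι y := by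
    intro x hx
    obtain ⟨y, hy, hxy⟩ := hkP _ ⟨_, Subgroup.mem_map_of_mem c.ι
      (Subgroup.mem_centralizer_singleton_iff.mpr hx), rfl⟩
    refine ⟨y, hy, ?_⟩
    rw [hxy]
    show k * g₁ * c.ι x * (k * g₁)⁻¹ = k * (g₁ * c.ι x * g₁⁻¹) * k⁻¹
    group
  have hkC : k * g₁ ∈ Cz c := (Cz c).mul_mem (by
    unfold Cz; rw [Subgroup.mem_centralizer_singleton_iff]; exact hkz) hg₁
  have hkt : k * g₁ * c.ι t * (k * g₁)⁻¹ = c.ι a0 := by
    calc k * g₁ * c.ι t * (k * g₁)⁻¹ = k * (g₁ * c.ι t * g₁⁻¹) * k⁻¹ := by group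
      _ = c.ι a0 := by rw [hgt, hka, mul_inv_cancel_right]
  obtain ⟨y, -, hy⟩ := hmap u0 (Subgroup.mem_centralizer_singleton_iff.mp hR).symm
  rcases hU _ hkC y hy with rfl | rfl
  · exact ⟨k * g₁, hy, hkt, hmap⟩
  · refine ⟨c.ι s1 * (k * g₁), ?_, ?_, ?_⟩
    · calc c.ι s1 * (k * g₁) * c.ι u0 * (c.ι s1 * (k * g₁))⁻¹
          = c.ι s1 * (k * g₁ * c.ι u0 * (k * g₁)⁻¹) * (c.ι s1)⁻¹ := by group
        _ = c.ι u0 := by rw [hy, ← map_inv, ← map_mul, ← map_mul, s1_u0]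
    · calc c.ι s1 * (k * g₁) * c.ι t * (c.ι s1 * (k * g₁))⁻¹
          = c.ι s1 * (k * g₁ * c.ι t * (k * g₁)⁻¹) * (c.ι s1)⁻¹ := by group
        _ = c.ι a0 := by
          rw [hkt, ← map_mul, R2_cent s1_R2 a0_mem_V, map_mul, mul_inv_cancel_right]
    · intro x hx
      obtain ⟨w, hw, hxw⟩ := hmap x hx
      refine ⟨s1 * w * s1⁻¹, R2_normal s1 w hw, ?_⟩
      calc c.ι s1 * (k * g₁) * c.ι x * (c.ι s1 * (k * g₁))⁻¹
          = c.ι s1 * (k * g₁ * c.ι x * (k * g₁)⁻¹) * (c.ι s1)⁻¹ := by group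
        _ = c.ι (s1 * w * s1⁻¹) := by rw [hxw, ← map_inv, ← map_mul, ← map_mul]

theorem conj_u_z {g : G} (h : g * c.ι u0 * g⁻¹ = c.ι u0) : g ∈ Cz c := by
  rw [mem_Cz, ← u0_sq, map_mul, conj_map_mul, h]

/-- `f` is not conjugate to `z` -/
theorem not_Dz_f0 [Finite G] (hU : IsolU c) : ¬ Dz c f0 := by
  intro h
  obtain ⟨g, hgu, hgt, hC⟩ := adj c hU f0_R1 (CC_a0 c f0_inv f0_R1 f0_J h)
  obtain ⟨x, hxf, hxR, hx4⟩ := f0_root
  obtain ⟨y, hyR, hxy⟩ := hC x hxf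
  have hgz := (mem_Cz c).mp (conj_u_z c hgu)
  have hy4 : y * y * (y * y) = z0 := by
    apply c.inj
    rw [map_mul, map_mul, ← hxy, ← conj_map_mul, ← conj_map_mul, ← map_mul, ← map_mul, hx4, hgz]
  have hyR1 := R2_root hyR hy4
  apply hxR
  unfold R1
  rw [Subgroup.mem_centralizer_singleton_iff]
  have h1 : y * u0 = u0 * y := Subgroup.mem_centralizer_singleton_iff.mp hyR1
  apply c.inj
  apply conj_inj (g := g)
  rw [map_mul, map_mul, conj_map_mul, conj_map_mul, hxy, hgu, ← map_mul, ← map_mul, h1]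

theorem cnt_conj {p q : Nat → Bool} (n : G)
    (h : ∀ x : SM, p x.1 = true → ∃ y : SM, q y.1 = true ∧ n * c.ι x * n⁻¹ = c.ι y) :
    cnt 512 p ≤ cnt 512 q := by
  rw [← card_eq_cnt, ← card_eq_cnt]
  choose f hf1 hf2 using h
  apply Nat.card_le_card_of_injective
    (fun x : {x : SM // p x.1 = true} => (⟨f x.1 x.2, hf1 x.1 x.2⟩ : {x : SM // q x.1 = true}))
  intro x y hxy
  have h1 : f x.1 x.2 = f y.1 y.2 := congrArg Subtype.val hxy
  have h2 := hf2 x.1 x.2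
  rw [h1, ← hf2 y.1 y.2] at h2
  exact Subtype.ext (c.inj (conj_inj h2))

end Cfsg.Agent.HSType.InvFusion
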