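import Mathlib
import Cfsg.Agent.HSType.InvFusion

/-!
# Fusion of involutions (II): counting in `C_Q(t)`
-/

set_option autoImplicit false
set_option linter.style.haveILetI false

namespace Cfsg.Agent.HSType.Inv5

open Cfsg.Agent.HSType.Model Cfsg.Agent.HSType.Facts Cfsg.Agent.HSType.FactsU
  Cfsg.Agent.HSType.FactsJ Cfsg.Agent.HSType.FactsI Cfsg.Agent.HSType.Spec
  Cfsg.Agent.HSType.Basic Cfsg.Agent.HSType.Trans Cfsg.Agent.HSType.JFus
  Cfsg.Agent.HSType.InvFusion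

variable {G : Type*} [Group G] (c : Ctx G)

theorem p_of_rep {x r : SM} (h : ∃ s : SM, s * x * s⁻¹ = r) (w : SM) : CC c x w ↔ CC c r w := by
  obtain ⟨s, rfl⟩ := h
  exact ⟨fun h => CC_trans c (CC_symm c (CC_smul c s x)) h, fun h => CC_trans c (CC_smul c s x) h⟩

theorem pA {x : SM} (h : clA x.1 = true) : CC c x a0 :=
  (p_of_rep c (repA h) a0).mpr (CC_refl c a0)
theorem pB {x : SM} (h : clB x.1 = true) : CC c x a0 ↔ CC c b0 a0 := p_of_rep c (repB' h) a0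
theorem pE {x : SM} (h : clE x.1 = true) : CC c x a0 ↔ CC c e0 a0 := p_of_rep c (repE h) a0
theorem pF {x : SM} (h : clF x.1 = true) : CC c x a0 ↔ CC c f0 a0 := p_of_rep c (repF h) a0
theorem pG {x : SM} (h : clG x.1 = true) : CC c x a0 ↔ CC c g0 a0 := p_of_rep c (repG h) a0
theorem pH {x : SM} (h : clH x.1 = true) : CC c x a0 ↔ CC c h0 a0 := p_of_rep c (repH h) a0

/-- image of `C_A(t)` -/
theorem image_le [Finite G] {g : G} (hgu : g * c.ι u0 * g⁻¹ = c.ι u0) {A : Subgroup SM} {t : SM}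
    (hAR : A ≤ R1) (hsq : ∀ x ∈ A, x * x = 1 ∨ x * x = z0)
    (hC : ∀ x : SM, x * t = t * x → ∃ y ∈ R2, g * c.ι x * g⁻¹ = c.ι y) :
    (∀ x ∈ A, x * t = t * x → ∃ y ∈ Q, y ∈ R2 ∧ g * c.ι x * g⁻¹ = c.ι y) ∨
    (∀ x ∈ A, x * t = t * x → ∃ y ∈ Q', y ∈ R2 ∧ g * c.ι x * g⁻¹ = c.ι y) := by
  have hmain : ∀ x ∈ A, x * t = t * x → ∃ y ∈ R1, y ∈ R2 ∧ g * c.ι x * g⁻¹ = c.ι y := by
    intro x hx hxt
    obtain ⟨y, hy, hxy⟩ := hC x hxt
    refine ⟨y, ?_, hy, hxy⟩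
    unfold R1
    rw [Subgroup.mem_centralizer_singleton_iff]
    have h1 : x * u0 = u0 * x := Subgroup.mem_centralizer_singleton_iff.mp (hAR hx)
    apply c.inj
    rw [map_mul, map_mul, ← hxy, ← hgu, ← conj_map_mul, ← conj_map_mul, ← map_mul, ← map_mul, h1]
  have hmem : ∀ x, x ∈ (A ⊓ Subgroup.centralizer ({t} : Set SM) : Subgroup SM) ↔
      x ∈ A ∧ x * t = t * x := fun x => by
    rw [Subgroup.mem_inf, Subgroup.mem_centralizer_singleton_iff]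
  rcases UFusion.tr_le_Q_or c (conj_u_z c hgu)
    (X := A ⊓ Subgroup.centralizer ({t} : Set SM)) (fun x hx => by
      obtain ⟨y, hy, -, hxy⟩ := hmain x ((hmem x).mp hx).1 ((hmem x).mp hx).2
      exact ⟨y, hy, hxy⟩) (fun x hx => hsq x ((hmem x).mp hx).1) with h | h
  · left
    intro x hx hxt
    obtain ⟨y, hy, hy2, hxy⟩ := hmain x hx hxt
    exact ⟨y, h ((mem_tr c).mpr ⟨x, (hmem x).mpr ⟨hx, hxt⟩, hxy⟩), hy2, hxy⟩
  · right
    intro x hx hxt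
    obtain ⟨y, hy, hy2, hxy⟩ := hmain x hx hxt
    exact ⟨y, h ((mem_tr c).mpr ⟨x, (hmem x).mpr ⟨hx, hxt⟩, hxy⟩), hy2, hxy⟩

theorem inv_QR2 {t : SM} (h : t * t = 1) (hQ : t ∈ Q) (hR : t ∈ R2) (h1 : t ≠ 1) (hz : t ≠ z0) :
    clA t.1 = true ∨ clB t.1 = true ∨ clE t.1 = true := by
  rcases inv_Q h hQ with h2 | h2 | h2 | h2 | h2 | h2
  · exact absurd h2 h1
  · exact absurd h2 hz
  · exact Or.inl h2
  · exact Or.inr (Or.inl h2)
  · exact Or.inr (Or.inr h2)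
  · exact absurd (mem_R2.mp hR) (by rw [notB_spec (andB_spec h2).1]; exact Bool.false_ne_true)

theorem inv_Q'R2 {t : SM} (h : t * t = 1) (hQ : t ∈ Q') (hR : t ∈ R2) (h1 : t ≠ 1) (hz : t ≠ z0) :
    clA t.1 = true ∨ clB t.1 = true ∨ clF t.1 = true := by
  rcases inv_Q' h hQ with h2 | h2 | h2 | h2 | h2 | h2
  · exact absurd h2 h1
  · exact absurd h2 hz
  · exact Or.inl h2
  · exact Or.inr (Or.inl h2)
  · exact Or.inr (Or.inr h2)
  · exact absurd (mem_R2.mp hR) (by rw [notB_spec (andB_spec h2).1]; exact Bool.false_ne_true)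

/-- transfer of an involution with its `C_G(z)`-class -/
theorem step [Finite G] {g : G} (hgu : g * c.ι u0 * g⁻¹ = c.ι u0) {A B : Subgroup SM} {t : SM}
    (h : ∀ x ∈ A, x * t = t * x → ∃ y ∈ B, y ∈ R2 ∧ g * c.ι x * g⁻¹ = c.ι y) {x : SM} (hx : x ∈ A)
    (hxt : x * t = t * x) (hx2 : x * x = 1) (hx1 : x ≠ 1) (hxz : x ≠ z0) :
    ∃ y ∈ B, y ∈ R2 ∧ y * y = 1 ∧ y ≠ 1 ∧ y ≠ z0 ∧ g * c.ι x * g⁻¹ = c.ι y ∧
      (CC c x a0 ↔ CC c y a0) := by
  obtain ⟨y, hy, hy2, hxy⟩ := h x hx hxt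
  have hgz := conj_u_z c hgu
  refine ⟨y, hy, hy2, ?_, Nm_ne_one c hx1 hxy, ?_, hxy, CC_conj c hgz hxy, CC_conj' c hgz hxy⟩
  · apply c.inj
    rw [map_mul, ← hxy, ← conj_map_mul, ← map_mul, hx2, map_one]; group
  · rintro rfl
    exact hxz (c.inj (conj_inj (hxy.trans ((mem_Cz c).mp hgz).symm)))

theorem neJ {x : SM} (h : notB (inJ x.1) = true) : x ∉ J ∧ x ≠ 1 ∧ x ≠ z0 := by
  have h1 : inJ x.1 = false := notB_spec h
  have h2 : x ∉ J := fun h3 => by rw [mem_J, h1] at h3; exact Bool.false_ne_true h3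
  exact ⟨h2, fun e => h2 (by rw [e]; exact J.one_mem), fun e => h2 (by rw [e]; exact V_le_J z0_mem_V)⟩

theorem neR2 {x : SM} (h : notB (inR2 x.1) = true) : x ∉ R2 ∧ x ≠ 1 ∧ x ≠ z0 := by
  have h1 : inR2 x.1 = false := notB_spec h
  have h2 : x ∉ R2 := fun h3 => by rw [mem_R2, h1] at h3; exact Bool.false_ne_true h3
  exact ⟨h2, fun e => h2 (by rw [e]; exact R2.one_mem),
    fun e => h2 (by rw [e]; exact J_le_R2 (V_le_J z0_mem_V))⟩

theorem clE_spec {x : SM} (h : clE x.1 = true) : x ∈ Q ∧ x * x = 1 ∧ x ≠ 1 ∧ x ≠ z0 := by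
  obtain ⟨h1, h2⟩ := andB_spec h
  obtain ⟨h3, h4⟩ := andB_spec h2
  obtain ⟨-, h5, h6⟩ := neJ h1
  exact ⟨(andB_spec h4).2, of_sqIs (y := 1) h3, h5, h6⟩
theorem clF_spec {x : SM} (h : clF x.1 = true) : x ∈ Q' ∧ x * x = 1 ∧ x ≠ 1 ∧ x ≠ z0 := by
  obtain ⟨h1, h2⟩ := andB_spec h
  obtain ⟨h3, h4⟩ := andB_spec h2
  obtain ⟨-, h5, h6⟩ := neJ h1
  exact ⟨(andB_spec h4).2, of_sqIs (y := 1) h3, h5, h6⟩
theorem clG_spec {x : SM} (h : clG x.1 = true) : x ∈ Q ∧ x * x = 1 ∧ x ≠ 1 ∧ x ≠ z0 := by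
  obtain ⟨h1, h2⟩ := andB_spec h
  obtain ⟨h3, h4⟩ := andB_spec h2
  obtain ⟨-, h5, h6⟩ := neR2 h1
  exact ⟨h4, of_sqIs (y := 1) h3, h5, h6⟩
theorem clH_spec {x : SM} (h : clH x.1 = true) : x ∈ Q' ∧ x * x = 1 ∧ x ≠ 1 ∧ x ≠ z0 := by
  obtain ⟨h1, h2⟩ := andB_spec h
  obtain ⟨h3, h4⟩ := andB_spec h2
  obtain ⟨-, h5, h6⟩ := neR2 h1
  exact ⟨h4, of_sqIs (y := 1) h3, h5, h6⟩

theorem Om_le_Q {x : SM} (h : x ∈ Om) : x ∈ Q ∧ x ∈ Q' := by
  have hd : allLT 512 (fun a => imp (inOm a) (andB (inQ a) (inQ' a))) = true := by decide +kernel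
  exact andB_spec (imp_spec (allLT_spec hd x.1 x.2) h)

theorem clB_spec {x : SM} (h : clB x.1 = true) : x ∈ Om ∧ x * x = 1 ∧ x ≠ 1 ∧ x ≠ z0 := by
  obtain ⟨h1, h2⟩ := andB_spec h
  have h3 : x ∈ Om := h1
  have h4 : x ∉ V := fun h5 => by
    have h6 := notB_spec h2
    have h7 : inV x.1 = true := h5
    rw [h6] at h7; exact Bool.false_ne_true h7
  exact ⟨h3, (mem_Om_iff.mp h3).2, fun e => h4 (by rw [e]; exact V.one_mem),
    fun e => h4 (by rw [e]; exact z0_mem_V)⟩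
theorem clA_spec {x : SM} (h : clA x.1 = true) : x ∈ Om ∧ x * x = 1 ∧ x ≠ 1 ∧ x ≠ z0 := by
  obtain ⟨h1, h2, h3⟩ := clA_Om h
  exact ⟨V_le_Om h1, (mem_Om_iff.mp (V_le_Om h1)).2, h2, h3⟩

theorem h0_R1 : h0 ∈ R1 := mem_R1.mpr (by decide +kernel)
theorem g0_R1 : g0 ∈ R1 := mem_R1.mpr (by decide +kernel)
theorem e0_R1 : e0 ∈ R1 := mem_R1.mpr (by decide +kernel)

theorem not_le (p q : Nat → Bool) (m n : Nat) (hp : Nat.beq (cnt 512 p) m = true)
    (hq : Nat.beq (cnt 512 q) n = true) (h : n < m) : ¬ cnt 512 p ≤ cnt 512 q := by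
  rw [eq_of_beq hp, eq_of_beq hq]; omega

/-- `h` is not conjugate to `a` in `C_G(z)` -/
theorem not_h0 [Finite G] (hU : IsolU c) (ha : Dz c a0) : ¬ CC c h0 a0 := by
  intro hP
  have hnf : ¬ CC c f0 a0 := fun h => not_Dz_f0 c hU (Dz_of_CC c h ha)
  obtain ⟨g, hgu, hgt, hC⟩ := adj c hU h0_R1 hP
  rcases image_le c hgu Q'_le_R1 (fun x hx => sq_Q' hx) hC with h | h
  · by_cases hE : CC c e0 a0
    · by_cases hB : CC c b0 a0
      · -- an `f` commuting with `h0`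
        have hx : ∃ x : SM, clF x.1 = true ∧ x * h0 = h0 * x := by
          have hd : exLT 512 (fun a => andB (clF a) (com a 272)) = true := by decide +kernel
          obtain ⟨k, hk, hk'⟩ := exLT_spec hd
          exact ⟨⟨k, hk⟩, (andB_spec hk').1, of_com (y := h0) (andB_spec hk').2⟩
        obtain ⟨x, hxF, hxc⟩ := hx
        obtain ⟨hxQ, hx2, hx1, hxz⟩ := clF_spec hxF
        obtain ⟨y, hyQ, hyR, hy2, hy1, hyz, hxy, hiff⟩ := step c hgu h hxQ hxc hx2 hx1 hxz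
        apply hnf
        rw [← pF c hxF, hiff]
        rcases inv_QR2 hy2 hyQ hyR hy1 hyz with h1 | h1 | h1
        · exact pA c h1
        · exact (pB c h1).mpr hB
        · exact (pE c h1).mpr hE
      · refine not_le (fun a => andB (com a 272) (orB (clF a) (clB a))) clB 6 4
          (by decide +kernel) (by decide +kernel) (by norm_num) (cnt_conj c g ?_)
        intro x hx
        obtain ⟨hxc, hx'⟩ := andB_spec hx
        have hx3 : x ∈ Q' ∧ x * x = 1 ∧ x ≠ 1 ∧ x ≠ z0 ∧ ¬ CC c x a0 := by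
          rcases orB_spec hx' with h1 | h1
          · obtain ⟨h2, h3, h4, h5⟩ := clF_spec h1
            exact ⟨h2, h3, h4, h5, fun h6 => hnf ((pF c h1).mp h6)⟩
          · obtain ⟨h2, h3, h4, h5⟩ := clB_spec h1
            exact ⟨(Om_le_Q h2).2, h3, h4, h5, fun h6 => hB ((pB c h1).mp h6)⟩
        obtain ⟨hxQ, hx2, hx1, hxz, hxP⟩ := hx3
        obtain ⟨y, hyQ, hyR, hy2, hy1, hyz, hxy, hiff⟩ :=
          step c hgu h hxQ (of_com (y := h0) hxc) hx2 hx1 hxz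
        refine ⟨y, ?_, hxy⟩
        rcases inv_QR2 hy2 hyQ hyR hy1 hyz with h1 | h1 | h1
        · exact absurd (hiff.mpr (pA c h1)) hxP
        · exact h1
        · exact absurd (hiff.mpr ((pE c h1).mpr hE)) hxP
    · refine not_le (fun a => andB (com a 272) (clH a)) (fun a => orB (clA a) (clB a)) 8 6
        (by decide +kernel) (by decide +kernel) (by norm_num) (cnt_conj c g ?_)
      intro x hx
      obtain ⟨hxc, hx'⟩ := andB_spec hx
      obtain ⟨hxQ, hx2, hx1, hxz⟩ := clH_spec hx'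
      obtain ⟨y, hyQ, hyR, hy2, hy1, hyz, hxy, hiff⟩ :=
        step c hgu h hxQ (of_com (y := h0) hxc) hx2 hx1 hxz
      refine ⟨y, ?_, hxy⟩
      rcases inv_QR2 hy2 hyQ hyR hy1 hyz with h1 | h1 | h1
      · exact orB_intro (Or.inl h1)
      · exact orB_intro (Or.inr h1)
      · exact absurd ((pE c h1).mp (hiff.mp ((pH c hx').mpr hP))) hE
  · refine not_le (fun a => andB (com a 272) (clH a)) (fun a => orB (clA a) (clB a)) 8 6
      (by decide +kernel) (by decide +kernel) (by norm_num) (cnt_conj c g ?_)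
    intro x hx
    obtain ⟨hxc, hx'⟩ := andB_spec hx
    obtain ⟨hxQ, hx2, hx1, hxz⟩ := clH_spec hx'
    obtain ⟨y, hyQ, hyR, hy2, hy1, hyz, hxy, hiff⟩ :=
      step c hgu h hxQ (of_com (y := h0) hxc) hx2 hx1 hxz
    refine ⟨y, ?_, hxy⟩
    rcases inv_Q'R2 hy2 hyQ hyR hy1 hyz with h1 | h1 | h1
    · exact orB_intro (Or.inl h1)
    · exact orB_intro (Or.inr h1)
    · exact absurd ((pF c h1).mp (hiff.mp ((pH c hx').mpr hP))) hnf

/-- if `g ~ a` in `C_G(z)` then `b`, `e` are too -/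
theorem of_g0 [Finite G] (hU : IsolU c) (ha : Dz c a0) (hP : CC c g0 a0) :
    CC c e0 a0 ∧ CC c b0 a0 := by
  have hnf : ¬ CC c f0 a0 := fun h => not_Dz_f0 c hU (Dz_of_CC c h ha)
  obtain ⟨g, hgu, hgt, hC⟩ := adj c hU g0_R1 hP
  rcases image_le c hgu Q_le_R1 (fun x hx => sq_Q hx) hC with h | h
  · by_cases hE : CC c e0 a0
    · refine ⟨hE, ?_⟩
      by_contra hB
      refine not_le (fun a => andB (com a 256) (orB (clE a) (clG a))) (fun a => orB (clA a) (clE a))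
        12 10 (by decide +kernel) (by decide +kernel) (by norm_num) (cnt_conj c g ?_)
      intro x hx
      obtain ⟨hxc, hx'⟩ := andB_spec hx
      have hx3 : x ∈ Q ∧ x * x = 1 ∧ x ≠ 1 ∧ x ≠ z0 ∧ CC c x a0 := by
        rcases orB_spec hx' with h1 | h1
        · obtain ⟨h2, h3, h4, h5⟩ := clE_spec h1
          exact ⟨h2, h3, h4, h5, (pE c h1).mpr hE⟩
        · obtain ⟨h2, h3, h4, h5⟩ := clG_spec h1
          exact ⟨h2, h3, h4, h5, (pG c h1).mpr hP⟩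
      obtain ⟨hxQ, hx2, hx1, hxz, hxP⟩ := hx3
      obtain ⟨y, hyQ, hyR, hy2, hy1, hyz, hxy, hiff⟩ :=
        step c hgu h hxQ (of_com (y := g0) hxc) hx2 hx1 hxz
      refine ⟨y, ?_, hxy⟩
      rcases inv_QR2 hy2 hyQ hyR hy1 hyz with h1 | h1 | h1
      · exact orB_intro (Or.inl h1)
      · exact absurd ((pB c h1).mp (hiff.mp hxP)) hB
      · exact orB_intro (Or.inr h1)
    · exfalso
      refine not_le (fun a => andB (com a 256) (clG a)) (fun a => orB (clA a) (clB a)) 8 6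
        (by decide +kernel) (by decide +kernel) (by norm_num) (cnt_conj c g ?_)
      intro x hx
      obtain ⟨hxc, hx'⟩ := andB_spec hx
      obtain ⟨hxQ, hx2, hx1, hxz⟩ := clG_spec hx'
      obtain ⟨y, hyQ, hyR, hy2, hy1, hyz, hxy, hiff⟩ :=
        step c hgu h hxQ (of_com (y := g0) hxc) hx2 hx1 hxz
      refine ⟨y, ?_, hxy⟩
      rcases inv_QR2 hy2 hyQ hyR hy1 hyz with h1 | h1 | h1
      · exact orB_intro (Or.inl h1)
      · exact orB_intro (Or.inr h1)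
      · exact absurd ((pE c h1).mp (hiff.mp ((pG c hx').mpr hP))) hE
  · exfalso
    refine not_le (fun a => andB (com a 256) (clG a)) (fun a => orB (clA a) (clB a)) 8 6
      (by decide +kernel) (by decide +kernel) (by norm_num) (cnt_conj c g ?_)
    intro x hx
    obtain ⟨hxc, hx'⟩ := andB_spec hx
    obtain ⟨hxQ, hx2, hx1, hxz⟩ := clG_spec hx'
    obtain ⟨y, hyQ, hyR, hy2, hy1, hyz, hxy, hiff⟩ :=
      step c hgu h hxQ (of_com (y := g0) hxc) hx2 hx1 hxz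
    refine ⟨y, ?_, hxy⟩
    rcases inv_Q'R2 hy2 hyQ hyR hy1 hyz with h1 | h1 | h1
    · exact orB_intro (Or.inl h1)
    · exact orB_intro (Or.inr h1)
    · exact absurd ((pF c h1).mp (hiff.mp ((pG c hx').mpr hP))) hnf

/-- `T1 = Q' ∩ R2` -/
theorem card_T1 : Nat.card ((Q' ⊓ R2 : Subgroup SM)) = 32 := by
  rw [card_sub (Q' ⊓ R2) (fun a => andB (inQ' a) (inR2 a)) (fun x => by
    rw [Subgroup.mem_inf, mem_Q', mem_R2]
    exact ⟨fun h => andB_intro h.1 h.2, fun h => andB_spec h⟩)]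
  decide +kernel

theorem card_CQe : Nat.card ((Q ⊓ Subgroup.centralizer {e0} : Subgroup SM)) = 32 := by
  rw [card_sub (Q ⊓ Subgroup.centralizer {e0}) (fun a => andB (inQ a) (com a 128)) (fun x => by
    rw [Subgroup.mem_inf, mem_Q, Subgroup.mem_centralizer_singleton_iff]
    exact ⟨fun h => andB_intro h.1 (com_of (y := e0) h.2),
      fun h => ⟨(andB_spec h).1, of_com (y := e0) (andB_spec h).2⟩⟩)]
  decide +kernel

theorem R1_norm_T1 {r x : SM} (hr : r ∈ R1) (hx : x ∈ (Q' ⊓ R2 : Subgroup SM)) :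
    r * x * r⁻¹ ∈ (Q' ⊓ R2 : Subgroup SM) := by
  have hd : allLT 512 (fun r => imp (inR1 r) (allLT 512 (fun x => imp (inQ' x)
    (inQ' (mulN (mulN r x) (invN r)))))) = true := by decide +kernel
  exact ⟨imp_spec (allLT_spec (imp_spec (allLT_spec hd r.1 r.2) (mem_R1.mp hr)) x.1 x.2) hx.1,
    R2_normal r x hx.2⟩

end Cfsg.Agent.HSType.Inv5
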