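import Mathlib
import Cfsg.Agent.HSType.Inv5

/-!
# Fusion of involutions (III): `e ~ a`
-/

set_option autoImplicit false
set_option linter.style.haveILetI false

namespace Cfsg.Agent.HSType.Inv5b

open Cfsg.Agent.HSType.Model Cfsg.Agent.HSType.Facts Cfsg.Agent.HSType.FactsU
  Cfsg.Agent.HSType.FactsJ Cfsg.Agent.HSType.FactsI Cfsg.Agent.HSType.Spec
  Cfsg.Agent.HSType.Basic Cfsg.Agent.HSType.Trans Cfsg.Agent.HSType.JFus
  Cfsg.Agent.HSType.InvFusion Cfsg.Agent.HSType.Inv5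

variable {G : Type*} [Group G] (c : Ctx G)

theorem swap_of_e0 [Finite G] {g : G} (hgu : g * c.ι u0 * g⁻¹ = c.ι u0)
    (h : ∀ x ∈ Q, x * e0 = e0 * x → ∃ y ∈ Q', y ∈ R2 ∧ g * c.ι x * g⁻¹ = c.ι y) :
    ∃ n ∈ Cz c, ∀ x ∈ Q, ∃ y ∈ Q', n * c.ι x * n⁻¹ = c.ι y := by
  set T : Subgroup SM := Q ⊓ Subgroup.centralizer {e0} with hT
  have hmem : ∀ x, x ∈ T ↔ x ∈ Q ∧ x * e0 = e0 * x := fun x => by
    rw [hT, Subgroup.mem_inf, Subgroup.mem_centralizer_singleton_iff]
  have htr : tr c g T = Q' ⊓ R2 := by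
    apply Subgroup.eq_of_le_of_card_ge
    · intro y hy
      obtain ⟨x, hx, hxy⟩ := (mem_tr c).mp hy
      obtain ⟨y', hy', hy2', hxy'⟩ := h x ((hmem x).mp hx).1 ((hmem x).mp hx).2
      have e : y = y' := c.inj (by rw [← hxy, hxy'])
      rw [e]; exact ⟨hy', hy2'⟩
    · rw [card_T1, card_tr c (fun x hx => by
        obtain ⟨y', -, -, hxy'⟩ := h x ((hmem x).mp hx).1 ((hmem x).mp hx).2
        exact ⟨y', hxy'⟩), hT, card_CQe]
  set H : Subgroup G := Subgroup.centralizer {c.ι u0} with hH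
  set Y : Subgroup G := H ⊓ Subgroup.normalizer (((Q' ⊓ R2 : Subgroup SM).map c.ι : Subgroup G) : Set G)
    with hY
  have hHcomm : ∀ w : G, w ∈ H ↔ w * c.ι u0 * w⁻¹ = c.ι u0 := by
    intro w
    rw [hH, Subgroup.mem_centralizer_singleton_iff, mul_inv_eq_iff_eq_mul]
  have hRY : R1.map c.ι ≤ Y := by
    rintro _ ⟨r, hr, rfl⟩
    refine ⟨?_, ?_⟩
    · show c.ι r ∈ H
      rw [hHcomm, ← map_inv, ← map_mul, ← map_mul]
      have h1 : r * u0 = u0 * r := Subgroup.mem_centralizer_singleton_iff.mp hr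
      rw [h1, mul_inv_cancel_right]
    · apply mem_normalizer_of_forall
      rintro _ ⟨x, hx, rfl⟩
      rw [← map_inv, ← map_mul, ← map_mul]
      exact Subgroup.mem_map_of_mem _ (R1_norm_T1 hr hx)
  have hodd : ¬ 2 ∣ (R1.map c.ι).relIndex Y := by
    intro h2
    apply UFusion.u_sylow c
    rw [← Subgroup.relIndex_mul_relIndex (R1.map c.ι) Y H hRY inf_le_left]
    exact Dvd.dvd.mul_right h2 _
  have hPY : (Q.map c.ι).map (MulAut.conj g).toMonoidHom ≤ Y := by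
    rintro _ ⟨_, ⟨x, hx, rfl⟩, rfl⟩
    show g * c.ι x * g⁻¹ ∈ Y
    refine ⟨?_, ?_⟩
    · show g * c.ι x * g⁻¹ ∈ H
      rw [hHcomm]
      have h1 : x * u0 = u0 * x := Subgroup.mem_centralizer_singleton_iff.mp (Q_le_R1 hx)
      rw [mul_inv_eq_iff_eq_mul]
      conv_lhs => rw [← hgu]
      conv_rhs => rw [← hgu]
      rw [← conj_map_mul, ← conj_map_mul, ← map_mul, ← map_mul, h1]
    · apply mem_normalizer_of_forall
      rintro _ ⟨y, hy, rfl⟩
      have hy' : y ∈ tr c g T := by rw [htr]; exact hy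
      obtain ⟨x', hx', hxy⟩ := (mem_tr c).mp hy'
      have hxx : x * x' * x⁻¹ ∈ T := by
        rcases comm_Q hx ((hmem x').mp hx').1 with h1 | h1
        · rw [h1, mul_inv_cancel_right]; exact hx'
        · have h2 : x * x' * x⁻¹ = x' * z0 := by
            rw [mul_inv_eq_iff_eq_mul, h1, mul_assoc, mul_assoc, z0_central]
          rw [h2]
          apply T.mul_mem hx'
          rw [hmem]
          exact ⟨(Om_le_Q (V_le_Om z0_mem_V)).1, (z0_central e0).symm⟩
      obtain ⟨w, hw, hw2, hxw⟩ := h _ ((hmem _).mp hxx).1 ((hmem _).mp hxx).2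
      have h3 : g * c.ι x * g⁻¹ * c.ι y * (g * c.ι x * g⁻¹)⁻¹ = c.ι w := by
        rw [← hxw, ← hxy, map_mul, map_mul, map_inv]; group
      rw [h3]
      exact Subgroup.mem_map_of_mem _ ⟨hw, hw2⟩
  obtain ⟨k, hk, hkP⟩ := rel_sylow hRY (c.isPGroup_map R1) hodd hPY ((c.isPGroup_map Q).map _)
  have hku : k * c.ι u0 * k⁻¹ = c.ι u0 := (hHcomm k).mp hk.1
  have hkg : ∀ x : SM, k * g * c.ι x * (k * g)⁻¹ = k * (g * c.ι x * g⁻¹) * k⁻¹ := by
    intro x; group
  have hkgz : k * g ∈ Cz c := (Cz c).mul_mem (conj_u_z c hku) (conj_u_z c hgu)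
  have hR : ∀ x ∈ Q, ∃ y ∈ R1, k * g * c.ι x * (k * g)⁻¹ = c.ι y := by
    intro x hx
    obtain ⟨y, hy, hxy⟩ := hkP _ ⟨_, Subgroup.mem_map_of_mem c.ι hx, rfl⟩
    exact ⟨y, hy, by rw [hkg]; exact hxy.symm⟩
  refine ⟨k * g, hkgz, ?_⟩
  rcases UFusion.tr_le_Q_or c hkgz hR (fun x hx => sq_Q hx) with h1 | h1
  · exfalso
    -- `f0`
    have hf0 : f0 ∈ (Q' ⊓ R2 : Subgroup SM) :=
      ⟨(by decide +kernel : inQ' 129 = true), mem_R2.mpr (by decide +kernel)⟩
    have h2 := conj_mem_of_mem_normalizer (Subgroup.inv_mem _ hk.2) (Subgroup.mem_map_of_mem c.ι hf0)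
    obtain ⟨y1, hy1, hy1'⟩ := h2
    have hy1t : y1 ∈ tr c g T := by rw [htr]; exact hy1
    obtain ⟨x', hx', hxy⟩ := (mem_tr c).mp hy1t
    have h3 : f0 ∈ tr c (k * g) Q := (mem_tr c).mpr ⟨x', ((hmem x').mp hx').1, by
      rw [hkg, hxy, hy1']; group⟩
    exact absurd (h1 h3) (by
      intro h4
      exact absurd (mem_Q.mp h4) (by decide +kernel))
  · intro x hx
    obtain ⟨y, hy, hxy⟩ := hR x hx
    exact ⟨y, h1 ((mem_tr c).mpr ⟨x, hx, hxy⟩), hxy⟩

/-- if `e ~ a` in `C_G(z)` then `b`, `g` are too -/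
theorem of_e0 [Finite G] (hU : IsolU c) (ha : Dz c a0) (hP : CC c e0 a0) :
    CC c g0 a0 ∧ CC c b0 a0 := by
  have hnf : ¬ CC c f0 a0 := fun h => not_Dz_f0 c hU (Dz_of_CC c h ha)
  have hnh : ¬ CC c h0 a0 := not_h0 c hU ha
  obtain ⟨g, hgu, hgt, hC⟩ := adj c hU e0_R1 hP
  rcases image_le c hgu Q_le_R1 (fun x hx => sq_Q hx) hC with h | h
  · by_cases hG : CC c g0 a0
    · refine ⟨hG, ?_⟩
      by_contra hB
      refine not_le (fun a => andB (com a 128) (orB (clA a) (orB (clE a) (clG a))))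
        (fun a => orB (clA a) (clE a))
        14 10 (by decide +kernel) (by decide +kernel) (by norm_num) (cnt_conj c g ?_)
      intro x hx
      obtain ⟨hxc, hx'⟩ := andB_spec hx
      have hx3 : x ∈ Q ∧ x * x = 1 ∧ x ≠ 1 ∧ x ≠ z0 ∧ CC c x a0 := by
        rcases orB_spec hx' with h1 | h1
        · obtain ⟨h2, h3, h4, h5⟩ := clA_spec h1
          exact ⟨(Om_le_Q h2).1, h3, h4, h5, pA c h1⟩
        rcases orB_spec h1 with h1 | h1
        · obtain ⟨h2, h3, h4, h5⟩ := clE_spec h1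
          exact ⟨h2, h3, h4, h5, (pE c h1).mpr hP⟩
        · obtain ⟨h2, h3, h4, h5⟩ := clG_spec h1
          exact ⟨h2, h3, h4, h5, (pG c h1).mpr hG⟩
      obtain ⟨hxQ, hx2, hx1, hxz, hxP⟩ := hx3
      obtain ⟨y, hyQ, hyR, hy2, hy1, hyz, hxy, hiff⟩ :=
        step c hgu h hxQ (of_com (y := e0) hxc) hx2 hx1 hxz
      refine ⟨y, ?_, hxy⟩
      rcases inv_QR2 hy2 hyQ hyR hy1 hyz with h1 | h1 | h1
      · exact orB_intro (Or.inl h1)
      · exact absurd ((pB c h1).mp (hiff.mp hxP)) hB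
      · exact orB_intro (Or.inr h1)
    · exfalso
      refine not_le (fun a => andB (com a 128) (clG a)) clB 8 4
        (by decide +kernel) (by decide +kernel) (by norm_num) (cnt_conj c g ?_)
      intro x hx
      obtain ⟨hxc, hx'⟩ := andB_spec hx
      obtain ⟨hxQ, hx2, hx1, hxz⟩ := clG_spec hx'
      have hxP : ¬ CC c x a0 := fun h6 => hG ((pG c hx').mp h6)
      obtain ⟨y, hyQ, hyR, hy2, hy1, hyz, hxy, hiff⟩ :=
        step c hgu h hxQ (of_com (y := e0) hxc) hx2 hx1 hxz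
      refine ⟨y, ?_, hxy⟩
      rcases inv_QR2 hy2 hyQ hyR hy1 hyz with h1 | h1 | h1
      · exact absurd (hiff.mpr (pA c h1)) hxP
      · exact h1
      · exact absurd (hiff.mpr ((pE c h1).mpr hP)) hxP
  · exfalso
    obtain ⟨n, hn, hnQ⟩ := swap_of_e0 c hgu h
    refine not_le (fun a => orB (clA a) (clE a)) (fun a => orB (clA a) (clB a)) 10 6
      (by decide +kernel) (by decide +kernel) (by norm_num) (cnt_conj c n ?_)
    intro x hx
    have hx3 : x ∈ Q ∧ x * x = 1 ∧ x ≠ 1 ∧ x ≠ z0 ∧ CC c x a0 := by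
      rcases orB_spec hx with h1 | h1
      · obtain ⟨h2, h3, h4, h5⟩ := clA_spec h1
        exact ⟨(Om_le_Q h2).1, h3, h4, h5, pA c h1⟩
      · obtain ⟨h2, h3, h4, h5⟩ := clE_spec h1
        exact ⟨h2, h3, h4, h5, (pE c h1).mpr hP⟩
    obtain ⟨hxQ, hx2, hx1, hxz, hxP⟩ := hx3
    obtain ⟨y, hyQ, hxy⟩ := hnQ x hxQ
    refine ⟨y, ?_, hxy⟩
    have hyP : CC c y a0 := CC_conj c hn hxy hxP
    have hy2 : y * y = 1 := by
      apply c.inj
      rw [map_mul, ← hxy, ← conj_map_mul, ← map_mul, hx2, map_one]; group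
    have hyz : y ≠ z0 := by
      rintro rfl
      exact hxz (c.inj (conj_inj (hxy.trans ((mem_Cz c).mp hn).symm)))
    rcases inv_Q' hy2 hyQ with h1 | h1 | h1 | h1 | h1 | h1
    · exact absurd h1 (Nm_ne_one c hx1 hxy)
    · exact absurd h1 hyz
    · exact orB_intro (Or.inl h1)
    · exact orB_intro (Or.inr h1)
    · exact absurd ((pF c h1).mp hyP) hnf
    · exact absurd ((pH c h1).mp hyP) hnh

/-- elements of `R2` are moved into `R1` -/
theorem into_R1 [Finite G] (hSw : SwapV c) {t : SM} (ht : t ∈ R2) :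
    ∃ n : G, Nm c J n ∧ ∃ y ∈ R1, y ∈ R2 ∧ n * c.ι t * n⁻¹ = c.ι y := by
  obtain ⟨n, hnJ, hnR, -, hna⟩ := hSw.toz a0 a0_mem_V a0_ne_one
  obtain ⟨m, hmJ, hmR, -, hma⟩ := hSw.toz a1 a1_mem_V a1_ne_one
  have hgen : ∀ (n : G) (d : SM), Nm c J n → Nm c R2 n → n * c.ι d * n⁻¹ = c.ι z0 →
      ∃ x ∈ J, x * x = d ∧ n * c.ι x * n⁻¹ = c.ι u0 ∧
        (∀ s ∈ R2, s * x * s⁻¹ = x ∨ s * x * s⁻¹ = x * d) := by
    intro n d hJ hR hd
    obtain ⟨x, hx, hxu⟩ := Nm_surj c hJ (KNil.u0_mem_J)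
    refine ⟨x, hx, ?_, hxu, ?_⟩
    · apply c.inj
      apply conj_inj (g := n)
      rw [map_mul, conj_map_mul, hxu, ← map_mul, u0_sq, hd]
    · intro s hs
      obtain ⟨s', hs', hss⟩ := hR s hs
      have h1 : n * c.ι (s * x * s⁻¹) * n⁻¹ = c.ι (s' * u0 * s'⁻¹) := by
        rw [map_mul, map_mul, map_inv, map_mul, map_mul, map_inv, ← hss, ← hxu]; group
      rcases UIsol.smul_u0 s' with h2 | h2
      · left
        apply c.inj
        apply conj_inj (g := n)
        rw [h1, h2, hxu]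
      · right
        apply c.inj
        apply conj_inj (g := n)
        rw [h1, h2, map_mul, map_mul, conj_map_mul, hxu, hd]
  obtain ⟨x, hx, hx2, hxu, hxs⟩ := hgen n a0 hnJ hnR hna
  obtain ⟨y, hy, hy2, hyu, hys⟩ := hgen m a1 hmJ hmR hma
  have hfin : ∀ (n : G) (x : SM), Nm c R2 n → n * c.ι x * n⁻¹ = c.ι u0 → t * x = x * t →
      ∃ y ∈ R1, y ∈ R2 ∧ n * c.ι t * n⁻¹ = c.ι y := by
    intro n x hR hxu htx
    obtain ⟨t', ht', htt⟩ := hR t ht
    refine ⟨t', ?_, ht', htt⟩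
    unfold R1
    rw [Subgroup.mem_centralizer_singleton_iff]
    apply c.inj
    rw [map_mul, map_mul, ← htt, ← hxu, ← conj_map_mul, ← conj_map_mul, ← map_mul, ← map_mul, htx]
  rcases R2_cover ht hx hy hx2 hy2 hxs hys with h1 | h1 | h1
  · exact ⟨1, fun x hx => ⟨x, hx, by group⟩, t, h1, ht, by group⟩
  · exact ⟨n, hnJ, hfin n x hnR hxu h1⟩
  · exact ⟨m, hmJ, hfin m y hmR hyu h1⟩

/-- the three fusion patterns -/
theorem trichotomy [Finite G] (hU : IsolU c) (ha : Dz c a0) :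
    (∀ x : SM, Dz c x → x ∈ V) ∨
    ((∀ x : SM, Dz c x → x ∈ Om) ∧ (∀ x ∈ Om, x ≠ 1 → Dz c x)) ∨
    ((∀ x ∈ Q, x * x = 1 → x ≠ 1 → x ≠ z0 → CC c x a0) ∧ (∀ x ∈ R1, Dz c x → x ∈ Q)) := by
  have hSw := swapV c ha
  have hinv : ∀ x : SM, Dz c x → x * x = 1 ∧ x ≠ 1 := by
    intro x hx
    obtain ⟨g, hg⟩ := hx
    constructor
    · apply c.inj
      apply conj_inj (g := g)
      rw [map_mul, conj_map_mul, hg, ← map_mul, z0_sq, map_one]; group
    · rintro rfl
      rw [map_one] at hg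
      apply z0_ne_one
      apply c.inj
      rw [← hg, map_one]; group
  have hOmJ : ∀ x ∈ J, Dz c x → x ∈ Om := fun x hx h => mem_Om_iff.mpr ⟨hx, (hinv x h).1⟩
  by_cases hE : CC c e0 a0
  · right; right
    obtain ⟨hG, hB⟩ := of_e0 c hU ha hE
    constructor
    · intro x hx h2 h1 hz
      rcases inv_Q h2 hx with h | h | h | h | h | h
      · exact absurd h h1
      · exact absurd h hz
      · exact pA c h
      · exact (pB c h).mpr hB
      · exact (pE c h).mpr hE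
      · exact (pG c h).mpr hG
    · intro x hx h
      by_cases hJ : x ∈ J
      · exact (Om_le_Q (hOmJ x hJ h)).1
      have h3 := CC_a0 c (hinv x h).1 hx hJ h
      rcases mem_Q_or_Q' hx (Or.inl (hinv x h).1) with h4 | h4
      · exact h4
      · rcases inv_Q' (hinv x h).1 h4 with h5 | h5 | h5 | h5 | h5 | h5
        · exact absurd h5 (hinv x h).2
        · exact absurd (by rw [h5]; exact V_le_J z0_mem_V) hJ
        · exact absurd (V_le_J (clA_Om h5).1) hJ
        · exact absurd (mem_Om_iff.mp (clB_spec h5).1).1 hJ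
        · exact absurd (Dz_of_CC c ((pF c h5).mp h3) ha) (not_Dz_f0 c hU)
        · exact absurd ((pH c h5).mp h3) (not_h0 c hU ha)
  · have hR1 : ∀ x ∈ R1, Dz c x → x ∈ Om := by
      intro x hx h
      by_cases hJ : x ∈ J
      · exact hOmJ x hJ h
      exfalso
      have h3 := CC_a0 c (hinv x h).1 hx hJ h
      rcases mem_Q_or_Q' hx (Or.inl (hinv x h).1) with h4 | h4
      · rcases inv_Q (hinv x h).1 h4 with h5 | h5 | h5 | h5 | h5 | h5
        · exact absurd h5 (hinv x h).2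
        · exact absurd (by rw [h5]; exact V_le_J z0_mem_V) hJ
        · exact absurd (V_le_J (clA_Om h5).1) hJ
        · exact absurd (mem_Om_iff.mp (clB_spec h5).1).1 hJ
        · exact hE ((pE c h5).mp h3)
        · exact hE (of_g0 c hU ha ((pG c h5).mp h3)).1
      · rcases inv_Q' (hinv x h).1 h4 with h5 | h5 | h5 | h5 | h5 | h5
        · exact absurd h5 (hinv x h).2
        · exact absurd (by rw [h5]; exact V_le_J z0_mem_V) hJ
        · exact absurd (V_le_J (clA_Om h5).1) hJ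
        · exact absurd (mem_Om_iff.mp (clB_spec h5).1).1 hJ
        · exact absurd (Dz_of_CC c ((pF c h5).mp h3) ha) (not_Dz_f0 c hU)
        · exact absurd ((pH c h5).mp h3) (not_h0 c hU ha)
    have hall : ∀ x : SM, Dz c x → x ∈ Om := by
      intro x h
      rcases inv_cases (hinv x h).1 with h1 | h1
      · exact hR1 x h1 h
      · obtain ⟨n, hnJ, y, hy, hy2, hxy⟩ := into_R1 c hSw h1
        have h2 := hR1 y hy (Dz_of_conj c h hxy)
        have h3 : x ∈ J := by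
          obtain ⟨x', hx', hxx⟩ := Nm_surj c hnJ (mem_Om_iff.mp h2).1
          have e : x = x' := c.inj (conj_inj (hxy.trans hxx.symm))
          rw [e]; exact hx'
        exact hOmJ x h3 h
    by_cases hb : ∀ x ∈ Om, x ≠ 1 → Dz c x
    · exact Or.inr (Or.inl ⟨hall, hb⟩)
    · left
      intro x h
      by_contra hxV
      apply hb
      intro y hy hy1
      by_cases hyV : y ∈ V
      · rcases V_cases hyV with e | e | e | e
        · exact absurd e hy1
        · rw [e]; exact ha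
        · rw [e]; exact a1_of_a0 c ha
        · rw [e]; exact Dz_z0 c
      · obtain ⟨s, hs⟩ := conj_b (hall x h) hxV hy hyV
        rw [← hs]; exact Dz_smul c h

end Cfsg.Agent.HSType.Inv5b
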