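import Cfsg.Agent.HSType.Spec
import Cfsg.Agent.HSType.LemmaH
import Cfsg.Agent.S0215

/-!
# Z* modulo a central involution, applied to `C_G(z)`
-/

set_option autoImplicit false
set_option maxHeartbeats 400000

namespace Cfsg.Agent.HSType.ZStar

open Subgroup Cfsg.Agent.HSType.Model Cfsg.Agent.HSType.Facts Cfsg.Agent.HSType.FactsU
  Cfsg.Agent.HSType.Basic Cfsg.Agent.HSType.Trans Cfsg.Agent.HSType.Spec

/-- Z* modulo a central involution. -/
theorem zstar_mod {X : Type*} [Group X] [Finite X] (P : Sylow 2 X) (z u : X)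
    (hz : ∀ x : X, x * z = z * x) (hz2 : z * z = 1) (hz1 : z ≠ 1) (huP : u ∈ P)
    (hu2 : u * u = z) (hiso : ∀ g : X, g * u * g⁻¹ ∈ P → g * u * g⁻¹ = u ∨ g * u * g⁻¹ = u * z) :
    ∃ N : Subgroup X, N.Normal ∧ Odd (Nat.card N) ∧
      ∀ g : X, ∃ n ∈ N, g * u * g⁻¹ = n * u ∨ g * u * g⁻¹ = n * (u * z) := by
  classical
  have : Fact (Nat.Prime 2) := ⟨Nat.prime_two⟩
  set Z : Subgroup X := zpowers z with hZ
  have hZm : ∀ x ∈ Z, x = 1 ∨ x = z := by
    intro x hx
    obtain ⟨k, rfl⟩ := mem_zpowers_iff.mp hx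
    rcases Int.even_or_odd k with ⟨j, hj⟩ | ⟨j, hj⟩
    · left
      rw [hj, ← two_mul, zpow_mul, zpow_two, hz2, one_zpow]
    · right
      rw [hj, zpow_add, zpow_mul, zpow_two, hz2, one_zpow, one_mul, zpow_one]
  have hzZ : z ∈ Z := mem_zpowers z
  have hZc : ∀ x ∈ Z, ∀ g : X, g * x = x * g := by
    intro x hx g
    rcases hZm x hx with rfl | rfl
    · rw [mul_one, one_mul]
    · exact hz g
  have hZn : Z.Normal := by
    refine ⟨fun x hx g => ?_⟩
    rw [hZc x hx g, mul_inv_cancel_right]; exact hx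
  have hzP : z ∈ P := by rw [← hu2]; exact mul_mem huP huP
  let f : X →* X ⧸ Z := QuotientGroup.mk' Z
  have hfs : Function.Surjective f := QuotientGroup.mk'_surjective Z
  have hker : ∀ x, f x = 1 ↔ x ∈ Z := by
    intro x
    rw [← MonoidHom.mem_ker, QuotientGroup.ker_mk']
  let P' : Sylow 2 (X ⧸ Z) := P.mapSurjective hfs
  have hP' : ∀ y, y ∈ P' ↔ ∃ x ∈ P, f x = y := by
    intro y
    show y ∈ ((P' : Subgroup (X ⧸ Z))) ↔ _
    rw [Sylow.coe_mapSurjective]
    rfl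
  have hfu : orderOf (f u) = 2 := by
    refine orderOf_eq_prime ?_ ?_
    · rw [pow_two, ← map_mul, hu2, hker]; exact hzZ
    · rw [Ne, hker]
      intro h
      rcases hZm u h with h | h
      · rw [h, mul_one] at hu2; exact hz1 hu2.symm
      · rw [h, hz2] at hu2; exact hz1 hu2.symm
  obtain ⟨N', hN'n, hN'o, hN'⟩ := S0215.result P' (f u) hfu ((hP' _).mpr ⟨u, huP, rfl⟩) (by
    intro g hg
    obtain ⟨g, rfl⟩ := hfs g
    obtain ⟨x, hx, hxg⟩ := (hP' _).mp hg
    rw [← map_inv, ← map_mul, ← map_mul] at hxg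
    have h1 : f (x⁻¹ * (g * u * g⁻¹)) = 1 := by
      rw [map_mul, map_inv, hxg, inv_mul_cancel]
    rw [hker] at h1
    have h2 : g * u * g⁻¹ ∈ P := by
      have h3 : x⁻¹ * (g * u * g⁻¹) ∈ P := by
        rcases hZm _ h1 with h | h
        · rw [h]; exact one_mem _
        · rw [h]; exact hzP
      have h4 := mul_mem hx h3
      rwa [mul_inv_cancel_left] at h4
    rw [← map_inv, ← map_mul, ← map_mul]
    rcases hiso g h2 with h | h
    · rw [h]
    · rw [h, map_mul, (hker z).mpr hzZ, mul_one])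
  set M : Subgroup X := N'.comap f with hM
  have hMn : M.Normal := hN'n.comap f
  obtain ⟨L, hLM, hLo, hLmem, hLdec⟩ := J2Sylow.Functor.exists_odd_part (Z := M) (J := Z)
    (fun j hj => by
      rcases hZm j hj with rfl | rfl
      · rw [mul_one]
      · exact hz2) (fun j hj m _ => hZc j hj m) (by
      rintro m hm ⟨k, hk⟩
      rw [← hker]
      have h1 : (f m) ^ (2 ^ k) = 1 := by rw [← map_pow, hk, map_one]
      have h2 : orderOf (f m) ∣ 2 ^ k := orderOf_dvd_of_pow_eq_one h1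
      have h3 : orderOf (f m) ∣ Nat.card N' := N'.orderOf_dvd_natCard hm
      have h4 : orderOf (f m) = 1 :=
        Nat.eq_one_of_dvd_coprimes (Nat.Coprime.pow_right k (Nat.coprime_two_right.mpr hN'o)) h3 h2
      exact orderOf_eq_one_iff.mp h4)
  refine ⟨L, ⟨fun l hl g => ?_⟩, hLo, ?_⟩
  · refine hLmem _ (hMn.conj_mem l (hLM hl) g) ?_
    rw [TwoFusion.StronglyEmbeddedBasic.orderOf_conj]
    exact J2Sylow.Functor.odd_orderOf_of_mem hLo hl
  · intro g
    have h1 : u * g * u⁻¹ * g⁻¹ ∈ M := by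
      show f (u * g * u⁻¹ * g⁻¹) ∈ N'
      rw [map_mul, map_mul, map_mul, map_inv, map_inv]
      exact hN' (f g)
    obtain ⟨j, hj, l, hl, hjl⟩ := hLdec _ h1
    refine ⟨l⁻¹, inv_mem hl, ?_⟩
    have h2 : g * u * g⁻¹ = (u * g * u⁻¹ * g⁻¹)⁻¹ * u := by group
    rw [h2, hjl, mul_inv_rev]
    rcases hZm j hj with rfl | rfl
    · left; rw [inv_one, mul_one]
    · right
      rw [inv_eq_of_mul_eq_one_right hz2, mul_assoc, hz u]

theorem exists_ZN {G : Type*} [Group G] [Finite G] (c : Ctx G) (h : Spec.IsolU c) :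
    ∃ N : Subgroup G, Spec.ZN c N := by
  have hSC : (c.S : Subgroup G) ≤ Cz c := by rw [c.range]; exact range_le_Cz c
  have hz : c.ι z0 ∈ Cz c := range_le_Cz c ⟨z0, rfl⟩
  have hu : c.ι u0 ∈ Cz c := range_le_Cz c ⟨u0, rfl⟩
  obtain ⟨N, hNn, hNo, hN⟩ := zstar_mod (X := Cz c) (c.S.subtype hSC) ⟨c.ι z0, hz⟩ ⟨c.ι u0, hu⟩
    (by
      intro x
      apply Subtype.ext
      have h1 := (mem_Cz c).mp x.2
      show (x : G) * c.ι z0 = c.ι z0 * x
      calc (x : G) * c.ι z0 = ((x : G) * c.ι z0 * (x : G)⁻¹) * x := by group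
        _ = c.ι z0 * x := by rw [h1])
    (by
      apply Subtype.ext
      show c.ι z0 * c.ι z0 = 1
      rw [← map_mul, z0_sq, map_one])
    (by
      intro h1
      have h2 : c.ι z0 = 1 := congrArg Subtype.val h1
      rw [← map_one c.ι] at h2
      exact z0_ne_one (c.inj h2))
    (by
      show c.ι u0 ∈ (c.S : Subgroup G)
      rw [c.range]; exact ⟨u0, rfl⟩)
    (by
      apply Subtype.ext
      show c.ι u0 * c.ι u0 = c.ι z0
      rw [← map_mul, u0_sq])
    (by
      intro g hg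
      have hg' : (g : G) * c.ι u0 * (g : G)⁻¹ ∈ (c.S : Subgroup G) := hg
      rw [c.range] at hg'
      obtain ⟨v, hv⟩ := hg'
      rcases h g g.2 v hv.symm with h1 | h1
      · left
        apply Subtype.ext
        show (g : G) * c.ι u0 * (g : G)⁻¹ = c.ι u0
        rw [← hv, h1]
      · right
        apply Subtype.ext
        show (g : G) * c.ι u0 * (g : G)⁻¹ = c.ι u0 * c.ι z0
        rw [← hv, h1, map_mul])
  refine ⟨N.map (Cz c).subtype, ?_, ?_, ?_, ?_⟩
  · rintro _ ⟨y, -, rfl⟩; exact y.2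
  · rw [Nat.card_congr (N.equivMapOfInjective _ (Cz c).subtype_injective).symm.toEquiv]
    exact hNo
  · rintro g hg _ ⟨n, hn, rfl⟩
    have h1 : (⟨g, hg⟩ : Cz c) * n * (⟨g, hg⟩ : Cz c)⁻¹ ∈ N := hNn.conj_mem n hn ⟨g, hg⟩
    exact mem_map_of_mem (Cz c).subtype h1
  · intro g hg
    obtain ⟨n, hn, h1⟩ := hN ⟨g, hg⟩
    refine ⟨n, ⟨n, hn, rfl⟩, ?_⟩
    rcases h1 with h1 | h1
    · left
      exact congrArg Subtype.val h1
    · right
      have h2 := congrArg Subtype.val h1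
      rw [map_mul]
      exact h2

end Cfsg.Agent.HSType.ZStar
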