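import Mathlib
import Cfsg.Agent.HSType.Inv5b
import Cfsg.Agent.HSType.ZStar
import Cfsg.Agent.Transfer.ThompsonTransfer

/-!
# Simplicity: `a ~ z`, and `z^G ∩ S` is not `V - 1`
-/

set_option autoImplicit false
set_option linter.style.haveILetI false

namespace Cfsg.Agent.HSType.Simple

open Cfsg.Agent.HSType.Model Cfsg.Agent.HSType.Facts Cfsg.Agent.HSType.FactsU
  Cfsg.Agent.HSType.FactsJ Cfsg.Agent.HSType.FactsI Cfsg.Agent.HSType.Spec
  Cfsg.Agent.HSType.Basic Cfsg.Agent.HSType.Trans Cfsg.Agent.HSType.JFus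
  Cfsg.Agent.HSType.InvFusion Cfsg.Agent.HSType.Inv5 Cfsg.Agent.HSType.Inv5b

variable {G : Type*} [Group G] (c : Ctx G)

include c in
theorem even_card [Finite G] : Even (Nat.card G) := by
  have h : Nat.card (c.S : Subgroup G) ∣ Nat.card G := Subgroup.card_subgroup_dvd_card _
  rw [c.card_S] at h
  exact (by decide : Even 512).trans_dvd h

include c in
theorem not_comm : ¬ ∀ x y : G, x * y = y * x := by
  intro h
  have h1 : s1 * u0 = u0 * s1 := by
    apply c.inj; rw [map_mul, map_mul, h]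
  exact absurd (com_of h1) (by decide +kernel)

theorem mem_S (x : SM) : c.ι x ∈ c.S := by
  show c.ι x ∈ (c.S : Subgroup G)
  rw [c.range]; exact ⟨x, rfl⟩

theorem of_mem_S {g : G} (h : g ∈ c.S) : ∃ x : SM, c.ι x = g := by
  have h' : g ∈ (c.S : Subgroup G) := h
  rw [c.range] at h'
  exact h'

theorem order_z [Finite G] : orderOf (c.ι z0) = 2 := by
  apply orderOf_eq_prime
  · rw [pow_two, ← map_mul, z0_sq, map_one]
  · rw [← map_one c.ι]; exact fun h => z0_ne_one (c.inj h)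

theorem inv_of_Dz {x : SM} (hx : Dz c x) : x * x = 1 ∧ x ≠ 1 := by
  obtain ⟨g, hg⟩ := hx
  constructor
  · apply c.inj
    apply conj_inj (g := g)
    rw [map_mul, conj_map_mul, hg, ← map_mul, z0_sq, map_one]; group
  · rintro rfl
    rw [map_one] at hg
    apply z0_ne_one
    apply c.inj
    rw [← hg, map_one]; group

/-- `a ~ z` in a simple group -/
theorem Dz_a0 [Finite G] [IsSimpleGroup G] : Dz c a0 := by
  by_contra h
  have hall : ∀ x : SM, Dz c x → x = z0 := by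
    intro x hx
    by_contra hxz
    obtain ⟨h2, h1⟩ := inv_of_Dz c hx
    by_cases hJ : x ∈ J
    · exact h (a0_of_Om c (mem_Om_iff.mpr ⟨hJ, h2⟩) h1 hxz hx)
    · exact h (a0_of_notJ c h2 hJ hx)
  obtain ⟨N, hNn, hNo, hN⟩ := S0215.result c.S (c.ι z0) (order_z c) (mem_S c z0) (by
    intro g hg
    obtain ⟨x, hx⟩ := of_mem_S c hg
    rw [← hx, hall x (Dz_of_conj c (Dz_z0 c) hx.symm)])
  rcases hNn.eq_bot_or_eq_top with h1 | h1
  · have hc : c.ι z0 ∈ Subgroup.center G := by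
      rw [Subgroup.mem_center_iff]
      intro g
      have h2 := hN g
      rw [h1, Subgroup.mem_bot] at h2
      calc g * c.ι z0 = (c.ι z0 * g * (c.ι z0)⁻¹ * g⁻¹)⁻¹ * (c.ι z0 * g) := by group
        _ = c.ι z0 * g := by rw [h2, inv_one, one_mul]
    rcases (inferInstance : (Subgroup.center G).Normal).eq_bot_or_eq_top with h2 | h2
    · rw [h2, Subgroup.mem_bot, ← map_one c.ι] at hc
      exact z0_ne_one (c.inj hc)
    · apply not_comm c
      intro x y
      have hx : x ∈ Subgroup.center G := by rw [h2]; trivial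
      exact (Subgroup.mem_center_iff.mp hx y).symm
  · rw [h1, Subgroup.card_top] at hNo
    exact (Nat.not_even_iff_odd.mpr hNo) (even_card c)

/-- Z* for `a` modulo `z` -/
theorem exists_NA [Finite G] (ha : Dz c a0) (hV : ∀ x : SM, Dz c x → x ∈ V) :
    ∃ N : Subgroup G, Odd (Nat.card N) ∧ (∀ g ∈ Cz c, ∀ n ∈ N, g * n * g⁻¹ ∈ N) ∧
      ∀ g ∈ Cz c, ∃ n ∈ N, g * c.ι a0 * g⁻¹ = n * c.ι a0 ∨ g * c.ι a0 * g⁻¹ = n * c.ι a1 := by
  classical
  have hSC : (c.S : Subgroup G) ≤ Cz c := by rw [c.range]; exact range_le_Cz c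
  let X := Cz c
  let z : X := ⟨c.ι z0, range_le_Cz c ⟨z0, rfl⟩⟩
  let a : X := ⟨c.ι a0, range_le_Cz c ⟨a0, rfl⟩⟩
  have hz : ∀ x : X, x * z = z * x := by
    intro x
    apply Subtype.ext
    have h1 := (mem_Cz c).mp x.2
    show (x : G) * c.ι z0 = c.ι z0 * x
    calc (x : G) * c.ι z0 = ((x : G) * c.ι z0 * (x : G)⁻¹) * x := by group
      _ = c.ι z0 * x := by rw [h1]
  have hz2 : z * z = 1 := by
    apply Subtype.ext
    show c.ι z0 * c.ι z0 = 1
    rw [← map_mul, z0_sq, map_one]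
  let Z : Subgroup X := Subgroup.zpowers z
  have hZm : ∀ x ∈ Z, x = 1 ∨ x = z := by
    intro x hx
    obtain ⟨k, rfl⟩ := Subgroup.mem_zpowers_iff.mp hx
    rcases Int.even_or_odd k with ⟨j, hj⟩ | ⟨j, hj⟩
    · left
      rw [hj, ← two_mul, zpow_mul, zpow_two, hz2, one_zpow]
    · right
      rw [hj, zpow_add, zpow_mul, zpow_two, hz2, one_zpow, one_mul, zpow_one]
  have hzZ : z ∈ Z := Subgroup.mem_zpowers z
  have hZc : ∀ x ∈ Z, ∀ g : X, g * x = x * g := by
    intro x hx g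
    rcases hZm x hx with rfl | rfl
    · rw [mul_one, one_mul]
    · exact hz g
  have hZn : Z.Normal := by
    refine ⟨fun x hx g => ?_⟩
    rw [hZc x hx g, mul_inv_cancel_right]; exact hx
  let f : X →* X ⧸ Z := QuotientGroup.mk' Z
  have hfs : Function.Surjective f := QuotientGroup.mk'_surjective Z
  have hker : ∀ x, f x = 1 ↔ x ∈ Z := by
    intro x
    rw [← MonoidHom.mem_ker, QuotientGroup.ker_mk']
  let P : Sylow 2 X := c.S.subtype hSC
  have hP : ∀ x : X, x ∈ P ↔ (x : G) ∈ c.S := fun x => Iff.rfl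
  haveI : Fact (Nat.Prime 2) := ⟨Nat.prime_two⟩
  let P' : Sylow 2 (X ⧸ Z) := P.mapSurjective hfs
  have hP' : ∀ y, y ∈ P' ↔ ∃ x ∈ P, f x = y := by
    intro y
    show y ∈ ((P' : Subgroup (X ⧸ Z))) ↔ _
    rw [Sylow.coe_mapSurjective]
    rfl
  have hzP : z ∈ P := (hP z).mpr (mem_S c z0)
  have haP : a ∈ P := (hP a).mpr (mem_S c a0)
  have hfa : orderOf (f a) = 2 := by
    refine orderOf_eq_prime ?_ ?_
    · rw [pow_two, ← map_mul, hker]
      have : a * a = 1 := by
        apply Subtype.ext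
        show c.ι a0 * c.ι a0 = 1
        rw [← map_mul, a0_sq, map_one]
      rw [this]; exact Z.one_mem
    · rw [Ne, hker]
      intro h
      rcases hZm a h with h | h
      · have h2 : c.ι a0 = 1 := congrArg Subtype.val h
        rw [← map_one c.ι] at h2
        exact a0_ne_one (c.inj h2)
      · have h2 : c.ι a0 = c.ι z0 := congrArg Subtype.val h
        exact a0_ne_z0 (c.inj h2)
  have hiso : ∀ g : X, g * a * g⁻¹ ∈ P → g * a * g⁻¹ = a ∨ g * a * g⁻¹ = a * z := by
    intro g hg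
    obtain ⟨x, hx⟩ := of_mem_S c ((hP _).mp hg)
    have hx' : (g : G) * c.ι a0 * (g : G)⁻¹ = c.ι x := hx.symm
    have hxV := hV x (Dz_of_conj c ha hx')
    rcases V_cases hxV with e | e | e | e
    · exact absurd e (Nm_ne_one c a0_ne_one hx')
    · left; apply Subtype.ext; show (g : G) * c.ι a0 * (g : G)⁻¹ = c.ι a0; rw [hx', e]
    · right; apply Subtype.ext; show (g : G) * c.ι a0 * (g : G)⁻¹ = c.ι a0 * c.ι z0
      rw [hx', e, ← map_mul, a0_mul_z0]
    · exfalso
      rw [e] at hx'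
      exact a0_ne_z0 (c.inj (conj_inj (hx'.trans ((mem_Cz c).mp g.2).symm)))
  obtain ⟨N', hN'n, hN'o, hN'⟩ := S0215.result P' (f a) hfa ((hP' _).mpr ⟨a, haP, rfl⟩) (by
    intro g hg
    obtain ⟨g, rfl⟩ := hfs g
    obtain ⟨x, hx, hxg⟩ := (hP' _).mp hg
    rw [← map_inv, ← map_mul, ← map_mul] at hxg
    have h1 : f (x⁻¹ * (g * a * g⁻¹)) = 1 := by
      rw [map_mul, map_inv, hxg, inv_mul_cancel]
    rw [hker] at h1
    have h2 : g * a * g⁻¹ ∈ P := by
      have h3 : x⁻¹ * (g * a * g⁻¹) ∈ P := by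
        rcases hZm _ h1 with h | h
        · rw [h]; exact one_mem _
        · rw [h]; exact hzP
      have h4 := mul_mem hx h3
      rwa [mul_inv_cancel_left] at h4
    rw [← map_inv, ← map_mul, ← map_mul]
    rcases hiso g h2 with h | h
    · rw [h]
    · rw [h, map_mul, (hker z).mpr hzZ, mul_one])
  set M : Subgroup X := N'.comap f with hM
  have hMn : M.Normal := hN'n.comap f
  obtain ⟨L, hLM, hLo, hLmem, hLdec⟩ := J2Sylow.Functor.exists_odd_part (Z := M) (J := Z)
    (fun j hj => by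
      rcases hZm j hj with rfl | rfl
      · rw [mul_one]
      · exact hz2) (fun j hj m _ => hZc j hj m) (by
      rintro m hm ⟨k, hk⟩
      rw [← hker]
      have h1 : (f m) ^ (2 ^ k) = 1 := by rw [← map_pow, hk, map_one]
      have h2 : orderOf (f m) ∣ 2 ^ k := orderOf_dvd_of_pow_eq_one h1
      have h3 : orderOf (f m) ∣ Nat.card N' := N'.orderOf_dvd_natCard hm
      have h4 : orderOf (f m) = 1 :=
        Nat.eq_one_of_dvd_coprimes (Nat.Coprime.pow_right k (Nat.coprime_two_right.mpr hN'o)) h3 h2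
      exact orderOf_eq_one_iff.mp h4)
  refine ⟨L.map X.subtype, ?_, ?_, ?_⟩
  · rw [Nat.card_congr (L.equivMapOfInjective _ X.subtype_injective).symm.toEquiv]
    exact hLo
  · rintro g hg _ ⟨l, hl, rfl⟩
    have h1 : (⟨g, hg⟩ : X) * l * (⟨g, hg⟩ : X)⁻¹ ∈ L := by
      refine hLmem _ (hMn.conj_mem l (hLM hl) ⟨g, hg⟩) ?_
      rw [TwoFusion.StronglyEmbeddedBasic.orderOf_conj]
      exact J2Sylow.Functor.odd_orderOf_of_mem hLo hl
    exact Subgroup.mem_map_of_mem X.subtype h1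
  · intro g' hg'
    let g : X := ⟨g', hg'⟩
    have h1 : a * g * a⁻¹ * g⁻¹ ∈ M := by
      show f (a * g * a⁻¹ * g⁻¹) ∈ N'
      rw [map_mul, map_mul, map_mul, map_inv, map_inv]
      exact hN' (f g)
    obtain ⟨j, hj, l, hl, hjl⟩ := hLdec _ h1
    refine ⟨(l⁻¹ : X), ⟨l⁻¹, inv_mem hl, rfl⟩, ?_⟩
    have h2 : g * a * g⁻¹ = (a * g * a⁻¹ * g⁻¹)⁻¹ * a := by group
    rw [hjl, mul_inv_rev] at h2
    rcases hZm j hj with rfl | rfl
    · left
      rw [inv_one, mul_one] at h2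
      exact congrArg Subtype.val h2
    · right
      rw [inv_eq_of_mul_eq_one_right hz2, mul_assoc (l⁻¹) z a, ← hz a] at h2
      have h3 := congrArg Subtype.val h2
      rw [← a0_mul_z0, map_mul]
      exact h3

/-- in the case `z^G ∩ S = V - 1` elements outside `R2` are not `C_G(z)`-conjugate into `R2` -/
theorem not_into_R2 [Finite G] {N : Subgroup G} (hNo : Odd (Nat.card N))
    (hNn : ∀ g ∈ Cz c, ∀ n ∈ N, g * n * g⁻¹ ∈ N)
    (hNA : ∀ g ∈ Cz c, ∃ n ∈ N, g * c.ι a0 * g⁻¹ = n * c.ι a0 ∨ g * c.ι a0 * g⁻¹ = n * c.ι a1)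
    {g : G} (hg : g ∈ Cz c) {x y : SM} (hx : x ∉ R2) (hy : y ∈ R2)
    (hxy : g * c.ι x * g⁻¹ = c.ι y) : False := by
  -- `x a x⁻¹ = a z`
  have hxa : x * a0 * x⁻¹ = a0 * z0 := by
    rcases V_cases (V_normal (g := x) a0_mem_V) with e | e | e | e
    · exfalso
      apply a0_ne_one
      have : a0 = x⁻¹ * (x * a0 * x⁻¹) * x := by group
      rw [this, e]; group
    · exfalso
      apply hx
      unfold R2
      rw [Subgroup.mem_centralizer_singleton_iff]
      rw [mul_inv_eq_iff_eq_mul] at e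
      exact e
    · rw [e, a0_mul_z0]
    · exfalso
      apply a0_ne_z0
      have h1 : a0 = x⁻¹ * (x * a0 * x⁻¹) * x := by group
      rw [h1, e, mul_assoc, ← z0_central, inv_mul_cancel_left]
  have hgz := (mem_Cz c).mp hg
  -- generic computation
  have key : ∀ d ∈ V, ∀ n ∈ N, g * c.ι a0 * g⁻¹ = n * c.ι d → c.ι z0 ∈ N := by
    intro d hd n hn h1
    have hyd : c.ι y * c.ι d * (c.ι y)⁻¹ = c.ι d := by
      rw [← map_mul, R2_cent hy hd, map_mul, mul_inv_cancel_right]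
    have h2 : g * c.ι (x * a0 * x⁻¹) * g⁻¹ = (c.ι y * n * (c.ι y)⁻¹) * c.ι d := by
      calc g * c.ι (x * a0 * x⁻¹) * g⁻¹
          = (g * c.ι x * g⁻¹) * (g * c.ι a0 * g⁻¹) * (g * c.ι x * g⁻¹)⁻¹ := by
            rw [map_mul, map_mul, map_inv]; group
        _ = (c.ι y * n * (c.ι y)⁻¹) * (c.ι y * c.ι d * (c.ι y)⁻¹) := by rw [hxy, h1]; group
        _ = _ := by rw [hyd]
    have h3 : g * c.ι (x * a0 * x⁻¹) * g⁻¹ = n * c.ι d * c.ι z0 := by
      rw [hxa, map_mul, conj_map_mul, h1, hgz]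
    have h4 : c.ι z0 = n⁻¹ * (c.ι y * n * (c.ι y)⁻¹) := by
      have h5 : n * c.ι d * c.ι z0 = c.ι y * n * (c.ι y)⁻¹ * c.ι d := by rw [← h3, h2]
      have h6 : c.ι d * c.ι z0 = c.ι z0 * c.ι d := by rw [← map_mul, z0_central, map_mul]
      rw [mul_assoc, h6, ← mul_assoc] at h5
      have h7 := mul_right_cancel h5
      rw [← h7]; group
    rw [h4]
    exact N.mul_mem (N.inv_mem hn) (hNn _ (range_le_Cz c ⟨y, rfl⟩) n hn)
  have hzN : c.ι z0 ∈ N := by
    obtain ⟨n, hn, h1 | h1⟩ := hNA g hg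
    · exact key a0 a0_mem_V n hn h1
    · exact key a1 a1_mem_V n hn h1
  have h1 : orderOf (c.ι z0) ∣ Nat.card N := N.orderOf_dvd_natCard hzN
  rw [order_z c] at h1
  exact (Nat.not_even_iff_odd.mpr hNo) (even_iff_two_dvd.mpr h1)

theorem relIndex_R2 : (R2.map c.ι).relIndex (c.S : Subgroup G) = 2 := by
  have hle : R2.map c.ι ≤ (c.S : Subgroup G) := by
    rw [c.range]
    rintro _ ⟨x, -, rfl⟩
    exact ⟨x, rfl⟩
  have h1 := ((R2.map c.ι).subgroupOf (c.S : Subgroup G)).card_mul_index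
  rw [Nat.card_congr (Subgroup.subgroupOfEquivOfLe hle).toEquiv, c.card_map, card_R2,
    c.card_S] at h1
  unfold Subgroup.relIndex
  omega

/-- `z^G ∩ S` is not `V - 1` -/
theorem not_V [Finite G] [IsSimpleGroup G] (hV : ∀ x : SM, Dz c x → x ∈ V) : False := by
  haveI : Fact (Nat.Prime 2) := ⟨Nat.prime_two⟩
  have ha := Dz_a0 c
  have hSw := swapV c ha
  obtain ⟨N, hNo, hNn, hNA⟩ := exists_NA c ha hV
  have hVD : ∀ x ∈ V, x ≠ 1 → Dz c x := by
    intro x hx h1
    rcases V_cases hx with e | e | e | e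
    · exact absurd e h1
    · rw [e]; exact ha
    · rw [e]; exact a1_of_a0 c ha
    · rw [e]; exact Dz_z0 c
  have hle : R2.map c.ι ≤ (c.S : Subgroup G) := by
    rw [c.range]
    rintro _ ⟨x, -, rfl⟩
    exact ⟨x, rfl⟩
  have hg0 : g0 * g0 = 1 := SM.ext (by decide +kernel)
  have hg0R : g0 ∉ R2 := by
    intro h; exact absurd (mem_R2.mp h) (by decide +kernel)
  rcases Transfer.ThompsonTransfer.thompson_transfer c.S (R2.map c.ι) hle (relIndex_R2 c)
    (c.ι g0) (by rw [pow_two, ← map_mul, hg0, map_one]) with ⟨M, hMn, hMi, hMg⟩ | ⟨x, hx⟩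
  · rcases hMn.eq_bot_or_eq_top with h1 | h1
    · rw [h1, Subgroup.index_bot] at hMi
      have h2 : Nat.card (c.S : Subgroup G) ∣ Nat.card G := Subgroup.card_subgroup_dvd_card _
      rw [c.card_S, hMi] at h2
      norm_num at h2
    · rw [h1, Subgroup.index_top] at hMi
      norm_num at hMi
  · obtain ⟨y, hy, hxy⟩ := hx
    -- Sylow subgroup of `C(y)` containing `V`
    set K : Subgroup G := Subgroup.centralizer {c.ι y} with hK
    have hVK : V.map c.ι ≤ K := by
      rintro _ ⟨w, hw, rfl⟩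
      rw [hK, Subgroup.mem_centralizer_singleton_iff, ← map_mul, ← map_mul, R2_cent hy hw]
    have hp1 : IsPGroup 2 ((V.map c.ι).subgroupOf K) :=
      (c.isPGroup_map V).comap_of_injective K.subtype K.subtype_injective
    obtain ⟨T, hT⟩ := hp1.exists_le_sylow
    have hT2 : IsPGroup 2 ((T : Subgroup K).map K.subtype) := T.2.map _
    have hTK : (T : Subgroup K).map K.subtype ≤ K := Subgroup.map_subtype_le _
    have hVT : V.map c.ι ≤ (T : Subgroup K).map K.subtype := by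
      intro w hw
      exact ⟨⟨w, hVK hw⟩, hT (by rw [Subgroup.mem_subgroupOf]; exact hw), rfl⟩
    have hTs : ¬ 2 ∣ ((T : Subgroup K).map K.subtype).relIndex K := by
      unfold Subgroup.relIndex
      have h1 : ((T : Subgroup K).map K.subtype).subgroupOf K = (T : Subgroup K) := by
        unfold Subgroup.subgroupOf
        exact Subgroup.comap_map_eq_self_of_injective K.subtype_injective _
      rw [h1]
      exact T.not_dvd_index
    have hzx : Subgroup.zpowers (x * c.ι z0 * x⁻¹) ≤ K := by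
      rw [Subgroup.zpowers_le, hK, Subgroup.mem_centralizer_singleton_iff, hxy, ← conj_map_mul,
        ← conj_map_mul, ← map_mul, ← z0_central, map_mul]
    have hzp : IsPGroup 2 (Subgroup.zpowers (x * c.ι z0 * x⁻¹)) := by
      have h2 : orderOf (x * c.ι z0 * x⁻¹) = 2 := by
        rw [TwoFusion.StronglyEmbeddedBasic.orderOf_conj, order_z c]
      apply IsPGroup.of_card (n := 1)
      rw [Nat.card_zpowers, h2, pow_one]
    obtain ⟨k, hk, hkT⟩ := rel_sylow hTK hT2 hTs hzx hzp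
    obtain ⟨d, hd⟩ := c.exists_conj hT2
    have hdV : Nm c V d := by
      intro w hw
      obtain ⟨s, hs⟩ := hd _ (hVT (Subgroup.mem_map_of_mem _ hw))
      by_cases hw1 : w = 1
      · rw [hw1]; exact ⟨1, V.one_mem, by rw [map_one]; group⟩
      · exact ⟨s, hV s (Dz_of_conj c (hVD w hw hw1) hs.symm), hs.symm⟩
    obtain ⟨w', hw'⟩ := hd _ (hkT _ (Subgroup.mem_zpowers _))
    have hw'D : Dz c w' := Dz_of_conj c (Dz_z0 c) (g := d * (k * x)) (by rw [hw']; group)
    obtain ⟨w, hw, hww⟩ := Nm_surj c hdV (hV w' hw'D)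
    have hwz : k * x * c.ι z0 * (k * x)⁻¹ = c.ι w := by
      apply conj_inj (g := d)
      rw [hww, hw']; group
    have hw1 : w ≠ 1 := Nm_ne_one c z0_ne_one hwz
    obtain ⟨m, -, hmR, -, hmw⟩ := hSw.toz w hw hw1
    obtain ⟨y', hy', hyy⟩ := hmR y hy
    have hky : k * c.ι y * k⁻¹ = c.ι y := by
      rw [Subgroup.mem_centralizer_singleton_iff.mp hk, mul_inv_cancel_right]
    refine not_into_R2 c hNo hNn hNA (g := m * (k * x)) ?_ hg0R hy' ?_
    · rw [mem_Cz]
      calc m * (k * x) * c.ι z0 * (m * (k * x))⁻¹ = m * (k * x * c.ι z0 * (k * x)⁻¹) * m⁻¹ := by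
            group
        _ = c.ι z0 := by rw [hwz, hmw]
    · calc m * (k * x) * c.ι g0 * (m * (k * x))⁻¹
          = m * (k * (x * c.ι g0 * x⁻¹) * k⁻¹) * m⁻¹ := by group
        _ = c.ι y' := by rw [← hxy, hky, hyy]

end Cfsg.Agent.HSType.Simple
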