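import Mathlib
import Cfsg.Agent.HSType.Simple

/-!
# Canonical lines; strong closure of `B` in `R1` with respect to `C_G(z)`
-/

set_option autoImplicit false
set_option linter.style.haveILetI false

namespace Cfsg.Agent.HSType.Lines

open Cfsg.Agent.HSType.Model Cfsg.Agent.HSType.Facts Cfsg.Agent.HSType.FactsU
  Cfsg.Agent.HSType.FactsJ Cfsg.Agent.HSType.FactsI Cfsg.Agent.HSType.Spec
  Cfsg.Agent.HSType.Basic Cfsg.Agent.HSType.Trans Cfsg.Agent.HSType.JFus
  Cfsg.Agent.HSType.InvFusion Cfsg.Agent.HSType.Inv5 Cfsg.Agent.HSType.Inv5b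
  Cfsg.Agent.HSType.Simple

variable {G : Type*} [Group G] (c : Ctx G)

theorem b0_Om : b0 ∈ Om ∧ b0 ∉ V ∧ b0 ≠ 1 := by
  refine ⟨(by decide +kernel : inOm 32 = true), fun h => ?_, fun h => ?_⟩
  · exact absurd (mem_V.mp h) (by decide +kernel)
  · have := congrArg SM.val h; exact absurd this (by decide)

theorem clA_of_V {x : SM} (hx : x ∈ V) (h1 : x ≠ 1) (hz : x ≠ z0) : clA x.1 = true := by
  rcases V_cases hx with e | e | e | e
  · exact absurd e h1
  · rw [e]; decide +kernel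
  · rw [e]; decide +kernel
  · exact absurd e hz

theorem clB_of {x : SM} (hx : x ∈ Om) (hV : x ∉ V) : clB x.1 = true :=
  andB_intro hx (notB_of hV)

theorem mul_mem_V {x y : SM} (hx : x ∈ Om) (hy : y ∈ Om) (hxV : x ∉ V) (hyV : y ∉ V) :
    x * y ∈ V := by
  have hd : allLT 64 (fun x => imp (andB (inOm x) (notB (inV x))) (allLT 64 (fun y =>
    imp (andB (inOm y) (notB (inV y))) (inV (mulN x y))))) = true := by decide +kernel
  have hlt : ∀ w : SM, w ∈ Om → w.1 < 64 := fun w hw => Nat.le_of_ble_eq_true (mem_Om_iff.mp hw).1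
  exact imp_spec (allLT_spec (imp_spec (allLT_spec hd x.1 (hlt x hx)) (clB_of hx hxV)) y.1
    (hlt y hy)) (clB_of hy hyV)

theorem Nm_Om [Finite G] {n : G} (hn : Nm c J n) : Nm c Om n := by
  intro x hx
  obtain ⟨y, hy, hxy⟩ := hn x (mem_Om_iff.mp hx).1
  refine ⟨y, mem_Om_iff.mpr ⟨hy, ?_⟩, hxy⟩
  apply c.inj
  rw [map_mul, ← hxy, ← conj_map_mul, ← map_mul, (mem_Om_iff.mp hx).2, map_one]; group

/-- **canonical lines**: if `Ω₁(J) - 1 ⊆ z^G` then `C_G(z)` is transitive on `Ω₁(J) - ⟨z⟩` -/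
theorem CC_b0 [Finite G] (hSw : SwapV c) (hOm : ∀ x ∈ Om, x ≠ 1 → Dz c x) : CC c b0 a0 := by
  by_contra h
  have hst : ∀ g ∈ Cz c, Nm c J g → Nm c V g := by
    intro g hg hJ w hw
    by_cases hw1 : w = 1
    · rw [hw1]; exact ⟨1, V.one_mem, by rw [map_one]; group⟩
    by_cases hwz : w = z0
    · rw [hwz]; exact ⟨z0, z0_mem_V, (mem_Cz c).mp hg⟩
    obtain ⟨y, hy, hxy⟩ := Nm_Om c hJ w (V_le_Om hw)
    refine ⟨y, ?_, hxy⟩
    by_contra hyV
    apply h
    rw [← pB c (clB_of hy hyV)]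
    exact CC_conj c hg hxy (pA c (clA_of_V hw hw1 hwz))
  obtain ⟨hbOm, hbV, hb1⟩ := b0_Om
  obtain ⟨g, hg⟩ := hOm b0 hbOm hb1
  obtain ⟨n, hn, hnb, -⟩ := burnside_J c (mem_Om_iff.mp hbOm).1 (V_le_J z0_mem_V) hg
  -- common point of `V` and `V^(n⁻¹)`
  have hw : ∃ w ∈ V, w ≠ 1 ∧ ∃ w' ∈ V, n * c.ι w * n⁻¹ = c.ι w' := by
    obtain ⟨x, hx, hxa⟩ := Nm_surj c (Nm_Om c hn) (V_le_Om a0_mem_V)
    have hx1 : x ≠ 1 := by
      rintro rfl
      apply a0_ne_one
      apply c.inj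
      rw [← hxa, map_one]; group
    by_cases hxV : x ∈ V
    · exact ⟨x, hxV, hx1, a0, a0_mem_V, hxa⟩
    · refine ⟨x * b0, mul_mem_V hx hbOm hxV hbV, ?_, a1, a1_mem_V, ?_⟩
      · intro h1
        apply a1_ne_one
        apply c.inj
        rw [← a0_mul_z0, map_mul, ← hxa, ← hnb, ← conj_map_mul, ← map_mul, h1, map_one]; group
      · rw [map_mul, conj_map_mul, hxa, hnb, ← map_mul, a0_mul_z0]
  obtain ⟨w, hwV, hw1, w', hw'V, hww⟩ := hw
  have hw'1 : w' ≠ 1 := Nm_ne_one c hw1 hww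
  obtain ⟨m, hmJ, -, hmV, hmw⟩ := hSw.toz w hwV hw1
  obtain ⟨m', hm'J, -, hm'V, hm'w⟩ := hSw.toz w' hw'V hw'1
  have hgC : m' * n * m⁻¹ ∈ Cz c := by
    rw [mem_Cz]
    calc m' * n * m⁻¹ * c.ι z0 * (m' * n * m⁻¹)⁻¹
        = m' * (n * (m⁻¹ * c.ι z0 * m) * n⁻¹) * m'⁻¹ := by group
      _ = m' * (n * c.ι w * n⁻¹) * m'⁻¹ := by
        have : m⁻¹ * c.ι z0 * m = c.ι w := by rw [← hmw]; group
        rw [this]
      _ = c.ι z0 := by rw [hww, hm'w]
  have hgV := hst _ hgC (Nm_mul c (Nm_mul c hm'J hn) (Nm_inv c hmJ))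
  have hnV : Nm c V n := by
    have h1 := Nm_mul c (Nm_mul c (Nm_inv c hm'V) hgV) hmV
    have h2 : m'⁻¹ * (m' * n * m⁻¹) * m = n := by group
    rwa [h2] at h1
  obtain ⟨v, hv, hvz⟩ := Nm_surj c hnV z0_mem_V
  have e : b0 = v := c.inj (conj_inj (hnb.trans hvz.symm))
  exact hbV (by rw [e]; exact hv)

/-- all of `Ω₁(J) - ⟨z⟩` is `C_G(z)`-conjugate to `a` -/
theorem CC_Om [Finite G] (hSw : SwapV c) (hOm : ∀ x ∈ Om, x ≠ 1 → Dz c x) {x : SM} (hx : x ∈ Om)
    (h1 : x ≠ 1) (hz : x ≠ z0) : CC c x a0 := by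
  by_cases hV : x ∈ V
  · exact pA c (clA_of_V hV h1 hz)
  · exact (pB c (clB_of hx hV)).mpr (CC_b0 c hSw hOm)

/-- involutions in the same coset of an odd normal subgroup are conjugate -/
theorem Dz_of_coset [Finite G] {N : Subgroup G} (hNo : Odd (Nat.card N)) {s : SM} {t n : G}
    (hs2 : s * s = 1) (hs1 : s ≠ 1) (ht : orderOf t = 2) (hn : n ∈ N) (h : t = c.ι s * n)
    (hD : ∃ g : G, g * t * g⁻¹ = c.ι z0) : Dz c s := by
  have hs : orderOf (c.ι s) = 2 := by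
    apply orderOf_eq_prime
    · rw [pow_two, ← map_mul, hs2, map_one]
    · rw [← map_one c.ι]; exact fun h => hs1 (c.inj h)
  have hst : c.ι s * t = n := by
    rw [h, ← mul_assoc, ← map_mul, hs2, map_one, one_mul]
  have hodd : Odd (orderOf (t * c.ι s)) := by
    have h1 : t * c.ι s = (c.ι s * t)⁻¹ := by
      rw [mul_inv_rev, TwoFusion.StronglyEmbeddedBasic.inv_eq_self_of_orderOf ht,
        TwoFusion.StronglyEmbeddedBasic.inv_eq_self_of_orderOf hs]
    rw [h1, orderOf_inv, hst]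
    exact J2Sylow.Functor.odd_orderOf_of_mem hNo hn
  obtain ⟨k, hk⟩ := hD
  obtain ⟨d, -, -, -, hd⟩ := TwoFusion.StronglyEmbeddedBasic.exists_swap t (c.ι s) ht hs hodd
  refine ⟨k * d, ?_⟩
  calc k * d * c.ι s * (k * d)⁻¹ = k * (d * c.ι s * d⁻¹) * k⁻¹ := by group
    _ = c.ι z0 := by rw [hd, hk]

theorem not_mem_odd [Finite G] {N : Subgroup G} (hNo : Odd (Nat.card N)) {s : SM}
    (h : c.ι s ∈ N) : s = 1 := by
  have h1 : orderOf (c.ι s) ∣ Nat.card N := N.orderOf_dvd_natCard h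
  have h2 : orderOf (c.ι s) = orderOf s := orderOf_injective c.ι c.inj s
  have h3 : orderOf s ∣ 2 ^ 9 := by
    have := orderOf_dvd_natCard s
    rw [card_SM] at this
    norm_num
    exact this
  obtain ⟨k, -, hk⟩ := (Nat.dvd_prime_pow Nat.prime_two).mp h3
  rw [h2, hk] at h1
  have hk0 : k = 0 := by
    by_contra hk0
    have h4 : 2 ∣ 2 ^ k := dvd_pow_self 2 hk0
    exact (Nat.not_even_iff_odd.mpr hNo) (even_iff_two_dvd.mpr (h4.trans h1))
  rw [hk0, pow_zero, orderOf_eq_one_iff] at hk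
  exact hk

/-- strong closure of `B` in `R1` with respect to `C_G(z)` -/
theorem hsc [Finite G] {N : Subgroup G} (hN : ZN c N) {B : Subgroup SM} (hBQ : B ≤ Q)
    (hUB : ∀ x : SM, inU x.1 = true → x ∈ B) (hD : ∀ x ∈ B, x * x = 1 → x ≠ 1 → Dz c x)
    (hR : ∀ x ∈ R1, Dz c x → x ∈ B) : ∀ x ∈ B, ∀ y ∈ R1, CC c x y → y ∈ B := by
  rintro x hx y hy ⟨g, hg, hxy⟩
  have hgz := (mem_Cz c).mp hg
  have hu0B : u0 ∈ B := hUB u0 (by decide +kernel)
  have hu0zB : u0 * z0 ∈ B := hUB (u0 * z0) (by decide +kernel)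
  have hsq : ∀ {v : SM}, x * x = v → g * c.ι v * g⁻¹ = c.ι (y * y) := by
    intro v hv
    rw [← hv, map_mul, conj_map_mul, hxy, map_mul]
  rcases sq_Q (hBQ hx) with h2 | h2
  · by_cases h1 : x = 1
    · have : y = 1 := by
        apply c.inj; rw [← hxy, h1, map_one]; group
      rw [this]; exact B.one_mem
    · exact hR y hy (Dz_of_conj c (hD x hx h2 h1) hxy)
  · -- `x² = z`
    have hy2 : y * y = z0 := by
      apply c.inj; rw [← hsq h2, hgz]
    have hyu : y * u0 = u0 * y := Subgroup.mem_centralizer_singleton_iff.mp hy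
    have hxu : x * u0 = u0 * x :=
      Subgroup.mem_centralizer_singleton_iff.mp (Q_le_R1 (hBQ hx))
    obtain ⟨t, ht⟩ : ∃ t, t = x * u0⁻¹ := ⟨_, rfl⟩
    have htB : t ∈ B := by rw [ht]; exact B.mul_mem hx (B.inv_mem hu0B)
    have ht2 : t * t = 1 := by
      have h3 : t * t = x * x * (u0 * u0)⁻¹ := by
        have h4 : u0⁻¹ * x = x * u0⁻¹ := by
          rw [inv_mul_eq_iff_eq_mul, ← mul_assoc, ← hxu, mul_inv_cancel_right]
        rw [ht]
        calc x * u0⁻¹ * (x * u0⁻¹) = x * (u0⁻¹ * x) * u0⁻¹ := by group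
          _ = x * x * (u0 * u0)⁻¹ := by rw [h4]; group
      rw [h3, h2, u0_sq, mul_inv_cancel]
    -- main claim
    have key : ∀ v : SM, v ∈ B → v * v = z0 → y * v = v * y → ∀ n ∈ N,
        g * c.ι u0 * g⁻¹ = n * c.ι v → y ∈ B := by
      intro v hv hv2 hyv n hn hgu
      obtain ⟨s, hs⟩ : ∃ s, s = y * v⁻¹ := ⟨_, rfl⟩
      have hs2 : s * s = 1 := by
        have h4 : v⁻¹ * y = y * v⁻¹ := by
          rw [inv_mul_eq_iff_eq_mul, ← mul_assoc, ← hyv, mul_inv_cancel_right]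
        have h3 : s * s = y * y * (v * v)⁻¹ := by
          rw [hs]
          calc y * v⁻¹ * (y * v⁻¹) = y * (v⁻¹ * y) * v⁻¹ := by group
            _ = y * y * (v * v)⁻¹ := by rw [h4]; group
        rw [h3, hy2, hv2, mul_inv_cancel]
      have hys : y = s * v := by rw [hs]; group
      have hgt : g * c.ι t * g⁻¹ = c.ι s * n⁻¹ := by
        rw [ht, map_mul, map_inv]
        calc g * (c.ι x * (c.ι u0)⁻¹) * g⁻¹ = g * c.ι x * g⁻¹ * (g * c.ι u0 * g⁻¹)⁻¹ := by group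
          _ = c.ι s * n⁻¹ := by rw [hxy, hgu, hs, map_mul, map_inv]; group
      by_cases ht1 : t = 1
      · have h5 : s = 1 := by
          apply not_mem_odd c hN.odd
          rw [ht1, map_one] at hgt
          have h6 : c.ι s = n := by
            calc c.ι s = c.ι s * n⁻¹ * n := by group
              _ = n := by rw [← hgt]; group
          rw [h6]; exact hn
        rw [hys, h5, one_mul]; exact hv
      · have htD := hD t htB ht2 ht1
        have ht2' : orderOf (g * c.ι t * g⁻¹) = 2 := by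
          rw [TwoFusion.StronglyEmbeddedBasic.orderOf_conj]
          apply orderOf_eq_prime
          · rw [pow_two, ← map_mul, ht2, map_one]
          · rw [← map_one c.ι]; exact fun h => ht1 (c.inj h)
        have hs1 : s ≠ 1 := by
          intro h6
          rw [h6, map_one, one_mul] at hgt
          have h7 : orderOf (n⁻¹) ∣ Nat.card N := N.orderOf_dvd_natCard (N.inv_mem hn)
          rw [← hgt, ht2'] at h7
          exact (Nat.not_even_iff_odd.mpr hN.odd) (even_iff_two_dvd.mpr h7)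
        have hsD : Dz c s := by
          apply Dz_of_coset c hN.odd hs2 hs1 ht2' (N.inv_mem hn) hgt
          obtain ⟨k, hk⟩ := htD
          exact ⟨k * g⁻¹, by rw [← hk]; group⟩
        have hsR : s ∈ R1 := by
          rw [hs]; exact R1.mul_mem hy (R1.inv_mem (Q_le_R1 (hBQ hv)))
        rw [hys]
        exact B.mul_mem (hR s hsR hsD) hv
    obtain ⟨n, hn, h3 | h3⟩ := hN.mv g hg
    · exact key u0 hu0B u0_sq hyu n hn h3
    · refine key (u0 * z0) hu0zB ?_ ?_ n hn h3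
      · calc u0 * z0 * (u0 * z0) = u0 * (z0 * u0) * z0 := by group
          _ = u0 * u0 * (z0 * z0) := by rw [← z0_central]; group
          _ = z0 := by rw [z0_sq, mul_one, u0_sq]
      · calc y * (u0 * z0) = u0 * y * z0 := by rw [← mul_assoc, hyu]
          _ = u0 * z0 * y := by rw [mul_assoc, z0_central, ← mul_assoc]

end Cfsg.Agent.HSType.Lines
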