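import Mathlib
import Cfsg.Agent.HSType.JFus
import Cfsg.Agent.HSType.ZStar
import Cfsg.Agent.TwoFusion.StronglyEmbeddedBasic

/-!
# No proper subgroup contains `C_G(z)` and `N_G(J)`  (S1777, step (8b))

`no_M`: if all involutions of `J` are conjugate to `z`, the set `D = z^G` is closed under products of
commuting distinct elements, and `S` contains an involution not conjugate to `z`, then there is no proper
subgroup `M` of `G` containing `C_G(z)` and `N_G(J)` which controls the fusion of `D ∩ S`.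
-/

set_option autoImplicit false
set_option maxHeartbeats 400000

namespace Cfsg.Agent.HSType.StrongEmb

open Cfsg.Agent.HSType.Model Cfsg.Agent.HSType.Facts Cfsg.Agent.HSType.FactsU
  Cfsg.Agent.HSType.FactsJ Cfsg.Agent.HSType.Basic Cfsg.Agent.HSType.Trans
  Cfsg.Agent.HSType.Spec Cfsg.Agent.HSType.JFus

/-! ### model facts -/

/-- the list of the conjugates of `u` in `J` (as a bit mask) -/
def Lmask : Nat := nat_lit 4378484139382884928
def inL (a : Nat) : Bool := Nat.beq (Nat.land (Nat.shiftRight Lmask a) (nat_lit 1)) (nat_lit 1)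

theorem mem_L {x : SM} (hx : x ∈ J) (h1 : x * x ≠ 1) (h2 : ∀ r : SM, r * r ≠ x)
    (h3 : ∀ s : SM, s * (x * x) = (x * x) * s → s * x = x * s ∨ s * x = x⁻¹ * s) :
    inL x.1 = true := by
  have hd : allLT 64 (fun x => orB (inL x) (orB (sqIs x 0) (orB (exLT 512 (fun r => sqIs r x))
    (exLT 512 (fun s => andB (com s (mulN x x)) (beqB false (orB (com s x)
      (Nat.beq (mulN s x) (mulN (invN x) s))))))))) = true := by decide +kernel
  have hlt : x.1 < 64 := Nat.le_of_ble_eq_true hx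
  rcases orB_spec (allLT_spec hd x.1 hlt) with h | h
  · exact h
  rcases orB_spec h with h | h
  · exact absurd (of_sqIs (y := 1) h) h1
  rcases orB_spec h with h | h
  · obtain ⟨r, hr, h4⟩ := exLT_spec h
    exact absurd (of_sqIs (x := ⟨r, hr⟩) h4) (h2 _)
  · obtain ⟨s, hs, h4⟩ := exLT_spec h
    obtain ⟨h5, h6⟩ := andB_spec h4
    have h7 : (⟨s, hs⟩ : SM) * (x * x) = (x * x) * ⟨s, hs⟩ := SM.ext (eq_of_beq h5)
    rcases h3 ⟨s, hs⟩ h7 with h8 | h8
    · have e : com s x.1 = true := com_of (x := ⟨s, hs⟩) h8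
      rw [e] at h6
      exact absurd (beqB_spec h6) Bool.false_ne_true
    · have e1 : mulN s x.1 = mulN (invN x.1) s := congrArg SM.val h8
      have e : Nat.beq (mulN s x.1) (mulN (invN x.1) s) = true := by
        rw [e1]
        exact Nat.beq_refl _
      rw [e] at h6
      revert h6
      cases com s x.1 <;> intro h6 <;> exact absurd (beqB_spec h6) Bool.false_ne_true

theorem exists_ww {y : SM} (h1 : y * y = 1) (hJ : y ∉ J) :
    (∃ w : SM, w ∈ Om ∧ w ≠ 1 ∧ y * w = w * y ∧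
      ∀ x ∈ J, inL x.1 = true → x * x = w → y * x = x * y) ∧
    (∃ w : SM, w ∈ Om ∧ w ≠ 1 ∧ y * w = w * y ∧
      ∀ x ∈ J, inL x.1 = true → x * x = w → y * x = x⁻¹ * y) := by
  have hd : allLT 512 (fun y => imp (sqIs y 0) (orB (inJ y) (andB
    (exLT 64 (fun w => andB (inOm w) (andB (beqB false (Nat.beq w 0)) (andB (com y w)
      (allLT 64 (fun x => imp (inL x) (imp (sqIs x w) (com y x))))))))
    (exLT 64 (fun w => andB (inOm w) (andB (beqB false (Nat.beq w 0)) (andB (com y w)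
      (allLT 64 (fun x => imp (inL x) (imp (sqIs x w)
        (Nat.beq (mulN y x) (mulN (invN x) y))))))))))))  = true := by decide +kernel
  rcases orB_spec (imp_spec (allLT_spec hd y.1 y.2) (sqIs_of (y := 1) h1)) with h | h
  · exact absurd h hJ
  obtain ⟨h2, h3⟩ := andB_spec h
  have hne : ∀ k (hk : k < 512), beqB false (Nat.beq k 0) = true → (⟨k, hk⟩ : SM) ≠ 1 := by
    intro k hk h e
    have e' : Nat.beq k 0 = true := beq_of_eq (x := ⟨k, hk⟩) (y := 1) e
    rw [e'] at h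
    exact Bool.false_ne_true (beqB_spec h)
  constructor
  · obtain ⟨k, hk, h4⟩ := exLT_spec h2
    obtain ⟨h5, h6⟩ := andB_spec h4
    obtain ⟨h7, h8⟩ := andB_spec h6
    obtain ⟨h9, h10⟩ := andB_spec h8
    refine ⟨⟨k, by omega⟩, h5, hne _ _ h7, of_com h9, fun x hx hL hxx => ?_⟩
    have hlt : x.1 < 64 := Nat.le_of_ble_eq_true hx
    exact of_com (imp_spec (imp_spec (allLT_spec h10 x.1 hlt) hL)
      (sqIs_of (y := ⟨k, by omega⟩) hxx))
  · obtain ⟨k, hk, h4⟩ := exLT_spec h3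
    obtain ⟨h5, h6⟩ := andB_spec h4
    obtain ⟨h7, h8⟩ := andB_spec h6
    obtain ⟨h9, h10⟩ := andB_spec h8
    refine ⟨⟨k, by omega⟩, h5, hne _ _ h7, of_com h9, fun x hx hL hxx => ?_⟩
    have hlt : x.1 < 64 := Nat.le_of_ble_eq_true hx
    have h11 := imp_spec (imp_spec (allLT_spec h10 x.1 hlt) hL)
      (sqIs_of (y := ⟨k, by omega⟩) hxx)
    exact SM.ext (eq_of_beq h11)

/-! ### two involutions -/

section Dih

variable {G : Type*} [Group G]

theorem conj_pow_of_mul {a b : G} (ha : a * a = 1) (hb : b * b = 1) (k : ℕ) :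
    a * (a * b) ^ k * a = ((a * b) ^ k)⁻¹ := by
  have h1 : a⁻¹ = a := inv_eq_of_mul_eq_one_right ha
  have h2 : b⁻¹ = b := inv_eq_of_mul_eq_one_right hb
  have h3 : a * (a * b) * a = (a * b)⁻¹ := by
    rw [mul_inv_rev, h1, h2, ← mul_assoc, ha, one_mul]
  calc a * (a * b) ^ k * a = a * (a * b) ^ k * a⁻¹ := by rw [h1]
    _ = (a * (a * b) * a⁻¹) ^ k := conj_pow.symm
    _ = ((a * b)⁻¹) ^ k := by rw [h1, h3]
    _ = ((a * b) ^ k)⁻¹ := inv_pow _ _

/-- `a (ab)^k` is conjugate to `a` or `b` inside any subgroup containing `ab` -/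
theorem mul_pow_conj {a b : G} (ha : a * a = 1) (hb : b * b = 1) (k : ℕ) :
    ∃ l : ℕ, a * (a * b) ^ k = ((a * b) ^ l)⁻¹ * a * (a * b) ^ l ∨
      a * (a * b) ^ k = ((a * b) ^ l)⁻¹ * b * (a * b) ^ l := by
  have h4 : ∀ l : ℕ, a * (a * b) ^ l = ((a * b) ^ l)⁻¹ * a := by
    intro l
    rw [← conj_pow_of_mul ha hb l, mul_assoc (a * (a * b) ^ l), ha, mul_one]
  rcases Nat.even_or_odd' k with ⟨l, rfl | rfl⟩
  · refine ⟨l, Or.inl ?_⟩
    rw [two_mul, pow_add, ← mul_assoc, h4 l]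
  · refine ⟨l, Or.inr ?_⟩
    have h5 : 2 * l + 1 = l + (1 + l) := by omega
    rw [h5, pow_add, pow_add, pow_one, ← mul_assoc, h4 l]
    calc ((a * b) ^ l)⁻¹ * a * (a * b * (a * b) ^ l) =
        ((a * b) ^ l)⁻¹ * (a * a) * b * (a * b) ^ l := by simp only [mul_assoc]
      _ = _ := by rw [ha, mul_one]

end Dih

variable {G : Type*} [Group G] (c : Ctx G)

/-! ### the theorem -/

theorem orderOf_two_of {x : G} (h : x * x = 1) (h1 : x ≠ 1) : orderOf x = 2 :=
  orderOf_eq_prime (by rw [pow_two]; exact h) h1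

theorem conj_sq {g x : G} (h : x * x = 1) : (g * x * g⁻¹) * (g * x * g⁻¹) = 1 := by
  rw [← conj_map_mul, h, mul_one, mul_inv_cancel]

theorem conj_ne {g x : G} (h : x ≠ 1) : g * x * g⁻¹ ≠ 1 := by
  intro e
  exact h (conj_inj (g := g) (by rw [e, mul_one, mul_inv_cancel]))

/-- the conjugates of `z` -/
def DG (x : G) : Prop := ∃ g : G, g * x * g⁻¹ = c.ι z0

theorem DG.conj {x : G} (h : DG c x) (g : G) : DG c (g * x * g⁻¹) := by
  obtain ⟨k, hk⟩ := h
  exact ⟨k * g⁻¹, by rw [← hk]; group⟩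

theorem DG.of_conj {x : G} {g : G} (h : DG c (g * x * g⁻¹)) : DG c x := by
  obtain ⟨k, hk⟩ := h
  exact ⟨k * g, by rw [← hk]; group⟩

theorem DG.sq {x : G} (h : DG c x) : x * x = 1 := by
  obtain ⟨g, hg⟩ := h
  apply conj_inj (g := g)
  rw [conj_map_mul, hg, ← map_mul, z0_sq, map_one, mul_one, mul_inv_cancel]

theorem DG.ne {x : G} (h : DG c x) : x ≠ 1 := by
  rintro rfl
  obtain ⟨g, hg⟩ := h
  rw [mul_one, mul_inv_cancel] at hg
  exact z0_ne_one (c.inj (by rw [← hg, map_one]))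

/-- involutions of a subgroup containing `S` are conjugate into `S` -/
theorem conj_to_S [Finite G] {M : Subgroup G} (hM : c.ι.range ≤ M) {x : G} (hx : x ∈ M)
    (h2 : x * x = 1) : ∃ k ∈ M, ∃ s : SM, c.ι s = k * x * k⁻¹ := by
  have hp : IsPGroup 2 (Subgroup.zpowers x) := by
    intro y
    obtain ⟨k, hk⟩ := y.2
    refine ⟨1, Subtype.ext ?_⟩
    have hk' : x ^ k = (y : G) := hk
    have h3 : ((y ^ 2 ^ 1 : Subgroup.zpowers x) : G) = (y : G) ^ 2 := by norm_num
    rw [h3, ← hk', ← zpow_natCast, ← zpow_mul, mul_comm, zpow_mul, zpow_natCast, pow_two, h2,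
      one_zpow]
    rfl
  obtain ⟨k, hk, h⟩ := c.exists_conj_in hM (P := Subgroup.zpowers x)
    (by rw [Subgroup.zpowers_le]; exact hx) hp
  exact ⟨k, hk, h x (Subgroup.mem_zpowers x)⟩

/-- the setting -/
structure Hyp (M : Subgroup G) : Prop where
  C : Cz c ≤ M
  prod : ∀ d : SM, Dz c d → d ≠ z0 → Dz c (d * z0)
  fus : ∀ d : SM, Dz c d → ∃ m ∈ M, m * c.ι d * m⁻¹ = c.ι z0

namespace Hyp

variable {c} {M : Subgroup G} (h : Hyp c M)

include h

theorem S_le : c.ι.range ≤ M := (range_le_Cz c).trans h.C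

theorem toz [Finite G] {x : G} (hx : x ∈ M) (hD : DG c x) : ∃ m ∈ M, m * x * m⁻¹ = c.ι z0 := by
  obtain ⟨k, hk, s, hs⟩ := conj_to_S c h.S_le hx (DG.sq c hD)
  have h1 : Dz c s := by
    have := DG.conj c hD k
    rw [← hs] at this
    exact this
  obtain ⟨m, hm, hmz⟩ := h.fus s h1
  refine ⟨m * k, M.mul_mem hm hk, ?_⟩
  rw [← hmz, hs]
  group

theorem cent_le [Finite G] {x g : G} (hx : x ∈ M) (hD : DG c x) (hg : g * x = x * g) : g ∈ M := by
  obtain ⟨m, hm, hmz⟩ := h.toz hx hD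
  have h1 : m * g * m⁻¹ ∈ Cz c := by
    rw [mem_Cz, ← hmz]
    calc m * g * m⁻¹ * (m * x * m⁻¹) * (m * g * m⁻¹)⁻¹ = m * (g * x) * g⁻¹ * m⁻¹ := by group
      _ = m * x * m⁻¹ := by rw [hg]; group
  have h2 := M.mul_mem (M.mul_mem (M.inv_mem hm) (h.C h1)) hm
  have h3 : m⁻¹ * (m * g * m⁻¹) * m = g := by group
  rwa [h3] at h2

theorem mem_of_conj [Finite G] {x g : G} (hx : x ∈ M) (hD : DG c x) (hg : g * x * g⁻¹ ∈ M) :
    g ∈ M := by
  obtain ⟨m, hm, hmz⟩ := h.toz hx hD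
  obtain ⟨m', hm', hmz'⟩ := h.toz hg (DG.conj c hD g)
  have h1 : m' * g * m⁻¹ ∈ Cz c := by
    rw [mem_Cz]
    calc m' * g * m⁻¹ * c.ι z0 * (m' * g * m⁻¹)⁻¹ = m' * g * (m⁻¹ * c.ι z0 * m) * g⁻¹ * m'⁻¹ := by
          group
      _ = m' * (g * x * g⁻¹) * m'⁻¹ := by rw [← hmz]; group
      _ = c.ι z0 := hmz'
  have h2 := M.mul_mem (M.mul_mem (M.inv_mem hm') (h.C h1)) hm
  have h3 : m'⁻¹ * (m' * g * m⁻¹) * m = g := by group
  rwa [h3] at h2

/-- (i) products of commuting elements of `D` -/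
theorem prod_mem [Finite G] {x y : G} (hx : DG c x) (hy : DG c y) (hxy : x * y = y * x)
    (hne : x ≠ y) : DG c (x * y) := by
  obtain ⟨g, hg⟩ := hx
  have h1 : g * y * g⁻¹ ∈ Cz c := by
    rw [mem_Cz, ← hg]
    calc g * y * g⁻¹ * (g * x * g⁻¹) * (g * y * g⁻¹)⁻¹ = g * (y * x) * y⁻¹ * g⁻¹ := by group
      _ = g * x * g⁻¹ := by rw [← hxy]; group
  obtain ⟨k, hk, s, hs⟩ := conj_to_S c (range_le_Cz c) h1 (conj_sq (DG.sq c hy))
  have hkz := (mem_Cz c).mp hk
  have hs' : c.ι s = (k * g) * y * (k * g)⁻¹ := by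
    rw [hs]
    group
  have hz' : c.ι z0 = (k * g) * x * (k * g)⁻¹ := by
    rw [← hkz, ← hg]
    group
  have h2 : Dz c s := by
    have := DG.conj c hy (k * g)
    rw [← hs'] at this
    exact this
  have h3 : s ≠ z0 := by
    rintro rfl
    rw [hz'] at hs'
    exact hne (conj_inj hs')
  have h4 : DG c (c.ι (s * z0)) := h.prod s h2 h3
  rw [map_mul, hs', hz', ← conj_map_mul] at h4
  rw [hxy]
  exact DG.of_conj c h4

/-- (ii) fusion in `C_G(y)` when `C_G(y)` is not contained in `M` -/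
theorem fusion [Finite G] {y g : G} (hg : g ∉ M) (hgy : g * y = y * g)
    {x x' : G} (hx : x ∈ M) (hxD : DG c x) (hxy : x * y = y * x)
    (hx' : x' ∈ M) (hxD' : DG c x') (hxy' : x' * y = y * x') :
    ∃ k : G, k * y = y * k ∧ k * x * k⁻¹ = x' := by
  -- key: an element of `D ∩ X ∩ M` is conjugate in `X` to an element of `D ∩ X - M`
  have key : ∀ a b : G, a ∈ M → DG c a → a * y = y * a → b ∉ M → DG c b → b * y = y * b →
      ∃ k : G, k * y = y * k ∧ k * a * k⁻¹ = b := by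
    intro a b ha haD hay hb hbD hby
    have ha2 := DG.sq c haD
    have hb2 := DG.sq c hbD
    have hab : orderOf (a * b) ≠ 0 := (orderOf_pos _).ne'
    have hyab : ∀ k : ℕ, (a * b) ^ k * y = y * (a * b) ^ k := by
      intro k
      have h1 : Commute (a * b) y := by
        change a * b * y = y * (a * b)
        rw [mul_assoc, hby, ← mul_assoc, hay, mul_assoc]
      exact (h1.pow_left k).eq
    by_cases hodd : Odd (orderOf (a * b))
    · obtain ⟨k, hk⟩ := hodd
      -- `b = a (ab) = a (ab)^{2(k+1)}`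
      have h1 : b = a * (a * b) ^ (2 * (k + 1)) := by
        have h2 : 2 * (k + 1) = orderOf (a * b) + 1 := by omega
        rw [h2, pow_succ, pow_orderOf_eq_one, one_mul, ← mul_assoc, ha2, one_mul]
      have h4 : a * (a * b) ^ (k + 1) = ((a * b) ^ (k + 1))⁻¹ * a := by
        rw [← conj_pow_of_mul ha2 hb2 (k + 1), mul_assoc (a * (a * b) ^ (k + 1)), ha2, mul_one]
      refine ⟨((a * b) ^ (k + 1))⁻¹, ?_, ?_⟩
      · have h5 : Commute ((a * b) ^ (k + 1)) y := hyab _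
        exact h5.inv_left.eq
      · rw [inv_inv]
        conv_rhs => rw [h1]
        generalize k + 1 = n at h4 ⊢
        rw [two_mul, pow_add, ← mul_assoc, h4]
    · exfalso
      rw [Nat.not_odd_iff_even] at hodd
      obtain ⟨k, hk⟩ := hodd
      set i : G := (a * b) ^ k with hi
      have hi2 : i * i = 1 := by rw [hi, ← pow_add, ← hk, pow_orderOf_eq_one]
      have hi1 : i ≠ 1 := by
        intro e
        have h1 := Nat.le_of_dvd (by omega) (orderOf_dvd_of_pow_eq_one e)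
        omega
      have hii : i⁻¹ = i := inv_eq_of_mul_eq_one_right hi2
      have hai : a * i = i * a := by
        have h1 : a * i * a = i⁻¹ := conj_pow_of_mul ha2 hb2 k
        rw [hii] at h1
        calc a * i = a * i * (a * a) := by rw [ha2, mul_one]
          _ = a * i * a * a := by group
          _ = i * a := by rw [h1]
      have hri : (a * b) * i = i * (a * b) := by
        rw [hi, ← pow_succ, ← pow_succ']
      have hbi : b * i = i * b := by
        have h1 : b = a * (a * b) := by rw [← mul_assoc, ha2, one_mul]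
        calc b * i = a * ((a * b) * i) := by
              conv_lhs => rw [h1]
              group
          _ = a * i * (a * b) := by rw [hri, mul_assoc]
          _ = i * b := by rw [hai, mul_assoc, ← h1]
      have haiD : DG c (a * i) := by
        obtain ⟨l, h1 | h1⟩ := mul_pow_conj ha2 hb2 k
        · rw [hi, h1]
          have := DG.conj c haD ((a * b) ^ l)⁻¹
          rwa [inv_inv] at this
        · rw [hi, h1]
          have := DG.conj c hbD ((a * b) ^ l)⁻¹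
          rwa [inv_inv] at this
      have hiD : DG c i := by
        have h1 := h.prod_mem haD haiD (by rw [mul_assoc, hai]) (by
          intro e
          have : a * 1 = a * i := by rw [mul_one]; exact e
          exact hi1 (mul_left_cancel this).symm)
        rwa [← mul_assoc, ha2, one_mul] at h1
      have hiM : i ∈ M := h.cent_le ha haD hai.symm
      exact hb (h.cent_le hiM hiD hbi)
  have hb : g * x * g⁻¹ ∉ M := fun e => hg (h.mem_of_conj hx hxD e)
  have hbD := DG.conj c hxD g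
  have hby : g * x * g⁻¹ * y = y * (g * x * g⁻¹) := by
    have h1 : Commute g y := hgy
    have h2 : Commute x y := hxy
    exact ((h1.mul_left h2).mul_left h1.inv_left).eq
  obtain ⟨k, hk, hkx⟩ := key x _ hx hxD hxy hb hbD hby
  obtain ⟨l, hl, hlx⟩ := key x' _ hx' hxD' hxy' hb hbD hby
  refine ⟨l⁻¹ * k, ?_, ?_⟩
  · have h1 : Commute l y := hl
    have h2 : Commute k y := hk
    exact (h1.inv_left.mul_left h2).eq
  · calc l⁻¹ * k * x * (l⁻¹ * k)⁻¹ = l⁻¹ * (k * x * k⁻¹) * l := by group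
      _ = x' := by rw [hkx, ← hlx]; group

end Hyp

/-- `n⁻¹ u n` for `n ∈ N_G(J)` moving `w` to `z` -/
theorem exists_x [Finite G] (hU : IsolU c) {w : SM} {n : G} (hnJ : Nm c J n)
    (hn : n * c.ι w * n⁻¹ = c.ι z0) :
    ∃ x ∈ J, n * c.ι x * n⁻¹ = c.ι u0 ∧ x * x = w ∧ inL x.1 = true := by
  have hu0J : u0 ∈ J := by
    show inJ 37 = true
    decide +kernel
  obtain ⟨x, hx, hxu⟩ := Nm_surj c hnJ hu0J
  have hxx : x * x = w := by
    apply c.inj
    apply conj_inj (g := n)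
    rw [map_mul, conj_map_mul, hxu, ← map_mul, u0_sq, hn]
  refine ⟨x, hx, hxu, hxx, mem_L hx ?_ ?_ ?_⟩
  · rw [hxx]
    rintro rfl
    rw [map_one, mul_one, mul_inv_cancel] at hn
    exact z0_ne_one (c.inj (by rw [← hn, map_one]))
  · -- no square root
    intro r hr
    have hP : IsPGroup 2 (((Subgroup.zpowers r).map c.ι).map (MulAut.conj n).toMonoidHom) :=
      (c.isPGroup_map _).map _
    have hrx : r * x = x * r := by rw [← hr, mul_assoc]
    have hPK : ((Subgroup.zpowers r).map c.ι).map (MulAut.conj n).toMonoidHom ≤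
        Subgroup.centralizer {c.ι u0} := by
      rintro _ ⟨_, ⟨_, ⟨k, rfl⟩, rfl⟩, rfl⟩
      rw [Subgroup.mem_centralizer_singleton_iff, ← hxu]
      show n * c.ι (r ^ k) * n⁻¹ * (n * c.ι x * n⁻¹) = n * c.ι x * n⁻¹ * (n * c.ι (r ^ k) * n⁻¹)
      have h1 : Commute (r ^ k) x := Commute.zpow_left hrx k
      rw [← conj_map_mul, ← conj_map_mul, ← map_mul, ← map_mul, h1.eq]
    have hR1K : R1.map c.ι ≤ Subgroup.centralizer {c.ι u0} := by
      rintro _ ⟨x, hx, rfl⟩
      rw [Subgroup.mem_centralizer_singleton_iff, ← map_mul, ← map_mul]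
      have h := Subgroup.mem_centralizer_singleton_iff.mp hx
      rw [h]
    obtain ⟨k, hk, hkP⟩ := rel_sylow hR1K (c.isPGroup_map R1) (UFusion.u_sylow c) hPK hP
    obtain ⟨y, hy, hyk⟩ := hkP (n * c.ι r * n⁻¹)
      ⟨c.ι r, ⟨r, Subgroup.mem_zpowers r, rfl⟩, rfl⟩
    apply no_sqrt_u0 y
    apply c.inj
    have h2 : k * c.ι u0 * k⁻¹ = c.ι u0 := by
      have h := Subgroup.mem_centralizer_singleton_iff.mp hk
      rw [h, mul_inv_cancel_right]
    rw [map_mul, hyk, ← conj_map_mul, ← conj_map_mul, ← map_mul, hr, hxu, h2]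
  · intro s hs
    rw [hxx] at hs
    have h1 : n * c.ι s * n⁻¹ ∈ Cz c := by
      rw [mem_Cz, ← hn]
      calc n * c.ι s * n⁻¹ * (n * c.ι w * n⁻¹) * (n * c.ι s * n⁻¹)⁻¹ =
          n * (c.ι s * c.ι w) * (c.ι s)⁻¹ * n⁻¹ := by group
        _ = n * c.ι w * n⁻¹ := by rw [← map_mul, hs, map_mul]; group
    have h2 : Nm c J (n * c.ι s * n⁻¹) := Nm_mul c (Nm_mul c hnJ (Nm_J_SM c s)) (Nm_inv c hnJ)
    obtain ⟨v, -, hv⟩ := h2 u0 hu0J
    have h3 : n * c.ι s * n⁻¹ * c.ι u0 * (n * c.ι s * n⁻¹)⁻¹ = n * c.ι (s * x * s⁻¹) * n⁻¹ := by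
      rw [← hxu, map_mul, map_mul, map_inv]
      group
    have hxi : n * c.ι x⁻¹ * n⁻¹ = c.ι (u0 * z0) := by
      rw [← u0_inv, map_inv, map_inv, ← hxu]
      group
    rcases hU _ h1 v hv with rfl | rfl
    · left
      have h4 : s * x * s⁻¹ = x := by
        apply c.inj
        apply conj_inj (g := n)
        rw [← h3, hv, hxu]
      rwa [mul_inv_eq_iff_eq_mul] at h4
    · right
      have h4 : s * x * s⁻¹ = x⁻¹ := by
        apply c.inj
        apply conj_inj (g := n)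
        rw [← h3, hv, hxi]
      rwa [mul_inv_eq_iff_eq_mul] at h4

theorem z0_notMem_of_odd [Finite G] {N : Subgroup G} (hN : Odd (Nat.card N)) : c.ι z0 ∉ N := by
  intro h
  refine TwoFusion.StronglyEmbeddedBasic.not_odd_of_mem N (c.ι z0) h ?_ hN
  apply orderOf_two_of
  · rw [← map_mul, z0_sq, map_one]
  · intro e
    exact z0_ne_one (c.inj (by rw [e, map_one]))

set_option linter.unusedVariables false in
/-- **(8b)** -/
theorem no_M [Finite G] (hU : IsolU c) {N : Subgroup G} (hN : ZN c N)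
    (hOm : ∀ w ∈ Om, w ≠ 1 → Dz c w) (hprod : ∀ d : SM, Dz c d → d ≠ z0 → Dz c (d * z0))
    (hf : ∃ t : SM, t * t = 1 ∧ t ≠ 1 ∧ ¬ Dz c t)
    (M : Subgroup G) (hM : M ≠ ⊤) (hC : Cz c ≤ M) (hJ : ∀ g, Nm c J g → g ∈ M)
    (hfus : ∀ d : SM, Dz c d → ∃ m ∈ M, m * c.ι d * m⁻¹ = c.ι z0) : False := by
  have h : Hyp c M := ⟨hC, hprod, hfus⟩
  have hSM : ∀ s : SM, c.ι s ∈ M := fun s => h.S_le ⟨s, rfl⟩
  -- centralizers of involutions of `S` lie in `M`
  have hcent : ∀ y : SM, y * y = 1 → y ≠ 1 → ∀ g : G, g * c.ι y = c.ι y * g → g ∈ M := by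
    intro y hy hy1 g hg
    by_cases hyD : Dz c y
    · exact h.cent_le (hSM y) hyD hg
    by_contra hgM
    have hyJ : y ∉ J := by
      intro hyJ
      exact hyD (hOm y (mem_Om_iff.mpr ⟨hyJ, hy⟩) hy1)
    obtain ⟨⟨w, hw, hw1, hyw, hA⟩, w', hw', hw1', hyw', hB⟩ := exists_ww hy hyJ
    have hz0J : z0 ∈ J := V_le_J z0_mem_V
    obtain ⟨g1, hg1⟩ := hOm w hw hw1
    obtain ⟨n, hnJ, hn, -⟩ := burnside_J c (mem_Om_iff.mp hw).1 hz0J hg1
    obtain ⟨g2, hg2⟩ := hOm w' hw' hw1'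
    obtain ⟨n', hnJ', hn', -⟩ := burnside_J c (mem_Om_iff.mp hw').1 hz0J hg2
    obtain ⟨x, hx, hxu, hxx, hxL⟩ := exists_x c hU hnJ hn
    obtain ⟨x', hx', hxu', hxx', hxL'⟩ := exists_x c hU hnJ' hn'
    have hyx : c.ι y * c.ι x = c.ι x * c.ι y := by
      rw [← map_mul, hA x hx hxL hxx, map_mul]
    have hyx' : c.ι y * c.ι x' = (c.ι x')⁻¹ * c.ι y := by
      rw [← map_mul, hB x' hx' hxL' hxx', map_mul, map_inv]
    obtain ⟨k, hk, hkw⟩ := h.fusion hgM hg (hSM w) (hOm w hw hw1)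
      (by rw [← map_mul, ← map_mul, hyw]) (hSM w') (hOm w' hw' hw1')
      (by rw [← map_mul, ← map_mul, hyw'])
    -- `e = n' k n⁻¹ ∈ C_G(z)`
    set e : G := n' * k * n⁻¹ with he
    have heC : e ∈ Cz c := by
      rw [mem_Cz]
      calc e * c.ι z0 * e⁻¹ = n' * k * (n⁻¹ * c.ι z0 * n) * k⁻¹ * n'⁻¹ := by rw [he]; group
        _ = n' * (k * c.ι w * k⁻¹) * n'⁻¹ := by rw [← hn]; group
        _ = c.ι z0 := by rw [hkw, hn']
    set Y : G := n * c.ι y * n⁻¹ with hY
    set Y' : G := n' * c.ι y * n'⁻¹ with hY'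
    have heY : e * Y * e⁻¹ = Y' := by
      calc e * Y * e⁻¹ = n' * (k * c.ι y) * k⁻¹ * n'⁻¹ := by rw [he, hY]; group
        _ = Y' := by rw [hk, hY']; group
    have hYu : Y * c.ι u0 = c.ι u0 * Y := by
      rw [hY, ← hxu, ← conj_map_mul, ← conj_map_mul, hyx]
    have hYu' : Y' * c.ι u0 * Y'⁻¹ = (c.ι u0)⁻¹ := by
      rw [hY', ← hxu']
      calc n' * c.ι y * n'⁻¹ * (n' * c.ι x' * n'⁻¹) * (n' * c.ι y * n'⁻¹)⁻¹ =
          n' * (c.ι y * c.ι x') * (c.ι y)⁻¹ * n'⁻¹ := by group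
        _ = (n' * c.ι x' * n'⁻¹)⁻¹ := by rw [hyx']; group
    have hYC' : Y' ∈ Cz c := by
      rw [mem_Cz, ← hn']
      have h1 : c.ι y * c.ι w' = c.ι w' * c.ι y := by rw [← map_mul, hyw', map_mul]
      calc Y' * (n' * c.ι w' * n'⁻¹) * Y'⁻¹ = n' * (c.ι y * c.ι w') * (c.ι y)⁻¹ * n'⁻¹ := by
            rw [hY']; group
        _ = n' * c.ι w' * n'⁻¹ := by rw [h1]; group
    have hYe : Y' * (e * c.ι u0 * e⁻¹) * Y'⁻¹ = e * c.ι u0 * e⁻¹ := by
      rw [← heY]
      calc e * Y * e⁻¹ * (e * c.ι u0 * e⁻¹) * (e * Y * e⁻¹)⁻¹ = e * (Y * c.ι u0) * Y⁻¹ * e⁻¹ := by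
            group
        _ = e * c.ι u0 * e⁻¹ := by rw [hYu]; group
    have hui : (c.ι u0)⁻¹ = c.ι u0 * c.ι z0 := by rw [← map_inv, u0_inv, map_mul]
    have huz : c.ι u0 * c.ι z0 = c.ι z0 * c.ι u0 := by rw [← map_mul, z0_central, map_mul]
    have hzz : c.ι z0 * c.ι z0 = 1 := by rw [← map_mul, z0_sq, map_one]
    have hYz : Y' * c.ι z0 * Y'⁻¹ = c.ι z0 := (mem_Cz c).mp hYC'
    obtain ⟨ν, hν, h1⟩ := hN.mv e heC
    have hν' := hN.norm Y' hYC' ν hν
    -- in both cases `Y' ν Y'⁻¹ * z = ν`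
    have h2 : Y' * ν * Y'⁻¹ * c.ι z0 = ν := by
      rcases h1 with h1 | h1
      · rw [h1, conj_map_mul, hYu', hui, huz, ← mul_assoc] at hYe
        exact mul_right_cancel hYe
      · rw [h1, map_mul, conj_map_mul, conj_map_mul, hYu', hYz, hui, mul_assoc (c.ι u0), hzz,
          mul_one, huz, ← mul_assoc] at hYe
        have h3 := mul_right_cancel hYe
        rw [h3, mul_assoc, hzz, mul_one]
    apply z0_notMem_of_odd c hN.odd
    have h3 : c.ι z0 = (Y' * ν * Y'⁻¹)⁻¹ * ν := by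
      rw [eq_inv_mul_iff_mul_eq]
      exact h2
    rw [h3]
    exact N.mul_mem (N.inv_mem hν') hν
  have hcent' : ∀ i : G, i ∈ M → i * i = 1 → i ≠ 1 → ∀ g : G, g * i = i * g → g ∈ M := by
    intro i hi hi2 hi1 g hg
    obtain ⟨k, hk, s, hs⟩ := conj_to_S c h.S_le hi hi2
    have h1 : k * g * k⁻¹ ∈ M := by
      apply hcent s
      · apply c.inj
        rw [map_mul, hs, conj_sq hi2, map_one]
      · rintro rfl
        rw [map_one] at hs
        exact conj_ne hi1 hs.symm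
      · rw [hs, ← conj_map_mul, ← conj_map_mul, hg]
    have h2 := M.mul_mem (M.mul_mem (M.inv_mem hk) h1) hk
    have h3 : k⁻¹ * (k * g * k⁻¹) * k = g := by group
    rwa [h3] at h2
  -- final contradiction
  obtain ⟨t, ht2, ht1, htD⟩ := hf
  obtain ⟨g, hg⟩ : ∃ g, g ∉ M := by
    by_contra hcon
    push Not at hcon
    exact hM ((Subgroup.eq_top_iff' M).mpr hcon)
  have hzD : DG c (c.ι z0) := ⟨1, by group⟩
  have hx' : g * c.ι z0 * g⁻¹ ∉ M := fun e => hg (h.mem_of_conj (hSM z0) hzD e)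
  have hxD := DG.conj c hzD g
  have ht2' : c.ι t * c.ι t = 1 := by rw [← map_mul, ht2, map_one]
  have ht1' : c.ι t ≠ 1 := fun e => ht1 (c.inj (by rw [e, map_one]))
  have hto := orderOf_two_of ht2' ht1'
  have hxo := orderOf_two_of (DG.sq c hxD) (DG.ne c hxD)
  by_cases hodd : Odd (orderOf (c.ι t * (g * c.ι z0 * g⁻¹)))
  · obtain ⟨j, -, -, hj, -⟩ := TwoFusion.StronglyEmbeddedBasic.exists_swap _ _ hto hxo hodd
    apply htD
    have h1 : DG c (j * c.ι t * j⁻¹) := by rw [hj]; exact hxD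
    exact DG.of_conj c h1
  · obtain ⟨i, -, hi2, hit, hix⟩ := TwoFusion.StronglyEmbeddedBasic.exists_commuting_involution _ _
      hto hxo (orderOf_pos _) hodd
    have hi2' := TwoFusion.StronglyEmbeddedBasic.mul_self_of_orderOf hi2
    have hi1 : i ≠ 1 := by
      rintro rfl
      rw [orderOf_one] at hi2
      omega
    have hiM : i ∈ M := hcent t ht2 ht1 i hit.eq
    exact hx' (hcent' i hiM hi2' hi1 _ hix.eq.symm)

end Cfsg.Agent.HSType.StrongEmb
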