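import Mathlib
import Cfsg.Agent.HSType.Lines
import Cfsg.Agent.HSType.StrongEmb

/-!
# Glue: the two cases `z^G ∩ S = Ω₁(J) - 1` (impossible) and `Q`
-/

set_option autoImplicit false
set_option linter.style.haveILetI false

namespace Cfsg.Agent.HSType.Glue

open Cfsg.Agent.HSType.Model Cfsg.Agent.HSType.Facts Cfsg.Agent.HSType.FactsU
  Cfsg.Agent.HSType.FactsJ Cfsg.Agent.HSType.FactsI Cfsg.Agent.HSType.Spec
  Cfsg.Agent.HSType.Basic Cfsg.Agent.HSType.Trans Cfsg.Agent.HSType.JFus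
  Cfsg.Agent.HSType.InvFusion Cfsg.Agent.HSType.Inv5 Cfsg.Agent.HSType.Inv5b
  Cfsg.Agent.HSType.Simple Cfsg.Agent.HSType.Lines

variable {G : Type*} [Group G] (c : Ctx G)

/-- the conclusion of the analysis of the cores -/
structure CoreData (M W : Subgroup G) : Prop where
  odd : Odd (Nat.card W)
  core : ∀ N : Subgroup G, N ≤ Cz c → Odd (Nat.card N) → (∀ g ∈ Cz c, ∀ n ∈ N, g * n * g⁻¹ ∈ N) →
    N ≤ W
  normC : ∀ g ∈ Cz c, ∀ w ∈ W, g * w * g⁻¹ ∈ W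
  normJ : ∀ g, Nm c J g → ∀ w ∈ W, g * w * g⁻¹ ∈ W
  le : M ≤ W

theorem hprod [Finite G] (d : SM) (hd : Dz c d) (hz : d ≠ z0) : Dz c (d * z0) := by
  obtain ⟨h2, h1⟩ := inv_of_Dz c hd
  obtain ⟨s, hs⟩ := smul_z h2 h1 hz
  rw [← hs]; exact Dz_smul c hd

theorem hf (hU : IsolU c) [Finite G] : ∃ t : SM, t * t = 1 ∧ t ≠ 1 ∧ ¬ Dz c t :=
  ⟨f0, f0_inv, fun h => f0_J (by rw [h]; exact J.one_mem), not_Dz_f0 c hU⟩

/-- a proper nontrivial subgroup normalized by `C_G(z)` and `N_G(J)` -/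
theorem no_X [Finite G] [IsSimpleGroup G] (hU : IsolU c) {N : Subgroup G} (hN : ZN c N)
    (hOm : ∀ w ∈ Om, w ≠ 1 → Dz c w)
    (hfus : ∀ d : SM, Dz c d → ∃ m n : G, m ∈ Cz c ∧ Nm c J n ∧ ∃ e : SM, ∃ k : G, Nm c J k ∧
      k * c.ι d * k⁻¹ = c.ι e ∧ (n * m) * c.ι e * (n * m)⁻¹ = c.ι z0)
    (X : Subgroup G) (hX : X ≠ ⊥) (hX' : X ≠ ⊤)
    (hC : ∀ g ∈ Cz c, ∀ w ∈ X, g * w * g⁻¹ ∈ X) (hJ : ∀ g, Nm c J g → ∀ w ∈ X, g * w * g⁻¹ ∈ X) :
    False := by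
  set M := Subgroup.normalizer (X : Set G) with hM
  have hCM : Cz c ≤ M := fun g hg => mem_normalizer_of_forall (hC g hg)
  have hJM : ∀ g, Nm c J g → g ∈ M := fun g hg => mem_normalizer_of_forall (hJ g hg)
  have hMt : M ≠ ⊤ := by
    intro h
    have hn : X.Normal := Subgroup.normalizer_eq_top_iff.mp h
    rcases hn.eq_bot_or_eq_top with h1 | h1
    · exact hX h1
    · exact hX' h1
  refine StrongEmb.no_M c hU hN hOm (hprod c) (hf c hU) M hMt hCM hJM ?_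
  intro d hd
  obtain ⟨m, n, hm, hn, e, k, hk, hde, hez⟩ := hfus d hd
  refine ⟨n * m * k, M.mul_mem (M.mul_mem (hJM n hn) (hCM hm)) (hJM k hk), ?_⟩
  calc n * m * k * c.ι d * (n * m * k)⁻¹ = n * m * (k * c.ι d * k⁻¹) * (n * m)⁻¹ := by group
    _ = c.ι z0 := by rw [hde, hez]

theorem Nm_one (X : Subgroup SM) : Nm c X 1 := fun x hx => ⟨x, hx, by group⟩

/-- fusion to `z` of an element `C_G(z)`-conjugate to `a` -/
theorem fus_of_CC [Finite G] (hSw : SwapV c) {d : SM} (h : d = z0 ∨ CC c d a0) :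
    ∃ m n : G, m ∈ Cz c ∧ Nm c J n ∧ (n * m) * c.ι d * (n * m)⁻¹ = c.ι z0 := by
  rcases h with rfl | ⟨m, hm, hma⟩
  · exact ⟨1, 1, (Cz c).one_mem, Nm_one c J, by group⟩
  · obtain ⟨n, hn, -, -, hna⟩ := hSw.toz a0 a0_mem_V a0_ne_one
    refine ⟨m, n, hm, hn, ?_⟩
    calc n * m * c.ι d * (n * m)⁻¹ = n * (m * c.ι d * m⁻¹) * n⁻¹ := by group
      _ = c.ι z0 := by rw [hma, hna]

include c in
theorem ne_top_of_odd [Finite G] {W : Subgroup G} (h : Odd (Nat.card W)) : W ≠ ⊤ := by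
  rintro rfl
  rw [Subgroup.card_top] at h
  exact (Nat.not_even_iff_odd.mpr h) (even_card c)

theorem OmU_spec {x : SM} (hx : x ∈ OmU) : x ∈ J := by
  have hd : allLT 512 (fun a => imp (andB (inQ a) (inQ' a)) (inJ a)) = true := by decide +kernel
  exact imp_spec (allLT_spec hd x.1 x.2) (andB_intro hx.1 hx.2)

/-- the case `z^G ∩ S = Ω₁(J) - 1` is impossible -/
theorem not_Om [Finite G] [IsSimpleGroup G] (hU : IsolU c) {N : Subgroup G} (hN : ZN c N)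
    (h1 : ∀ x : SM, Dz c x → x ∈ Om) (h2 : ∀ x ∈ Om, x ≠ 1 → Dz c x)
    {N' : Subgroup G} (hBN : BN c OmU N') {M W : Subgroup G} (hW : CoreData c M W) : False := by
  have hSw := swapV c (Dz_a0 c)
  have hfus : ∀ d : SM, Dz c d → ∃ m n : G, m ∈ Cz c ∧ Nm c J n ∧ ∃ e : SM, ∃ k : G, Nm c J k ∧
      k * c.ι d * k⁻¹ = c.ι e ∧ (n * m) * c.ι e * (n * m)⁻¹ = c.ι z0 := by
    intro d hd
    have hdOm := h1 d hd
    have hd1 := (inv_of_Dz c hd).2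
    obtain ⟨m, n, hm, hn, h⟩ := fus_of_CC c hSw (d := d) (by
      by_cases hz : d = z0
      · exact Or.inl hz
      · exact Or.inr (CC_Om c hSw h2 hdOm hd1 hz))
    exact ⟨m, n, hm, hn, d, 1, Nm_one c J, by group, h⟩
  by_cases hWb : W = ⊥
  · have hN' : N' = ⊥ := by
      rw [eq_bot_iff, ← hWb]; exact hW.core N' hBN.le hBN.odd hBN.norm
    refine no_X c hU hN h2 hfus (Om.map c.ι) ?_ ?_ ?_ ?_
    · intro h
      have h3 : c.ι z0 ∈ Om.map c.ι := Subgroup.mem_map_of_mem _ (V_le_Om z0_mem_V)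
      rw [h, Subgroup.mem_bot, ← map_one c.ι] at h3
      exact z0_ne_one (c.inj h3)
    · intro h
      have h3 : c.ι u0 ∈ Om.map c.ι := by rw [h]; trivial
      obtain ⟨x, hx, hxu⟩ := h3
      have e : x = u0 := c.inj hxu
      have h4 := (mem_Om_iff.mp hx).2
      rw [e, u0_sq] at h4
      exact z0_ne_one h4
    · rintro g hg _ ⟨x, hx, rfl⟩
      obtain ⟨n, hn, y, hy, hxy⟩ := hBN.mv g hg x ⟨(Om_le_Q hx).1, (Om_le_Q hx).2⟩
      rw [hN', Subgroup.mem_bot] at hn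
      rw [hn, one_mul] at hxy
      rw [hxy]
      apply Subgroup.mem_map_of_mem
      rw [mem_Om_iff]
      refine ⟨OmU_spec hy, ?_⟩
      apply c.inj
      rw [map_mul, ← hxy, ← conj_map_mul, ← map_mul, (mem_Om_iff.mp hx).2, map_one]; group
    · rintro g hg _ ⟨x, hx, rfl⟩
      obtain ⟨y, hy, hxy⟩ := Nm_Om c hg x hx
      rw [hxy]; exact Subgroup.mem_map_of_mem _ hy
  · exact no_X c hU hN h2 hfus W hWb (ne_top_of_odd c hW.odd) hW.normC hW.normJ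

/-- in the case `Q` the cores are trivial -/
theorem W_eq_bot [Finite G] [IsSimpleGroup G] (hU : IsolU c) {N : Subgroup G} (hN : ZN c N)
    (h1 : ∀ x ∈ Q, x * x = 1 → x ≠ 1 → x ≠ z0 → CC c x a0) (h2 : ∀ x ∈ R1, Dz c x → x ∈ Q)
    {M W : Subgroup G} (hW : CoreData c M W) : W = ⊥ := by
  have ha := Dz_a0 c
  have hSw := swapV c ha
  have hOm : ∀ x ∈ Om, x ≠ 1 → Dz c x := by
    intro x hx hx1
    by_cases hz : x = z0
    · rw [hz]; exact Dz_z0 c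
    · exact Dz_of_CC c (h1 x (Om_le_Q hx).1 (mem_Om_iff.mp hx).2 hx1 hz) ha
  have hR1 : ∀ x ∈ R1, Dz c x → x = z0 ∨ CC c x a0 := by
    intro x hx hxD
    by_cases hz : x = z0
    · exact Or.inl hz
    · exact Or.inr (h1 x (h2 x hx hxD) (inv_of_Dz c hxD).1 (inv_of_Dz c hxD).2 hz)
  by_contra hWb
  refine no_X c hU hN hOm ?_ W hWb (ne_top_of_odd c hW.odd) hW.normC hW.normJ
  intro d hd
  rcases inv_cases (inv_of_Dz c hd).1 with h | h
  · obtain ⟨m, n, hm, hn, h3⟩ := fus_of_CC c hSw (hR1 d h hd)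
    exact ⟨m, n, hm, hn, d, 1, Nm_one c J, by group, h3⟩
  · obtain ⟨k, hk, y, hyR, -, hdy⟩ := into_R1 c hSw h
    obtain ⟨m, n, hm, hn, h3⟩ := fus_of_CC c hSw (hR1 y hyR (Dz_of_conj c hd hdy))
    exact ⟨m, n, hm, hn, y, k, hk, hdy, h3⟩

end Cfsg.Agent.HSType.Glue
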