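import Mathlib
import Cfsg.Agent.HSType.Glue
import Cfsg.Agent.ClassificationK.SymplHS

/-!
# Output of the analysis: the structure of `C_G(z)` as `SymplHS.HSData`
-/

set_option autoImplicit false
set_option linter.style.haveILetI false

namespace Cfsg.Agent.HSType.Out

open Cfsg.Agent.HSType.Model Cfsg.Agent.HSType.Facts Cfsg.Agent.HSType.FactsU
  Cfsg.Agent.HSType.FactsJ Cfsg.Agent.HSType.FactsI Cfsg.Agent.HSType.Spec
  Cfsg.Agent.HSType.Basic Cfsg.Agent.HSType.Trans Cfsg.Agent.HSType.JFus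
  Cfsg.Agent.HSType.InvFusion Cfsg.Agent.HSType.Inv5 Cfsg.Agent.HSType.Inv5b
  Cfsg.Agent.HSType.Simple Cfsg.Agent.HSType.Lines Cfsg.Agent.HSType.Glue

section General

variable {G : Type*} [Group G]

/-- orbit-stabilizer for conjugation by a subgroup -/
theorem card_eq_orbit_mul (H : Subgroup G) (x : G) :
    Nat.card H = Nat.card {y : G // ∃ h ∈ H, h * x * h⁻¹ = y} *
      Nat.card (H ⊓ Subgroup.centralizer {x} : Subgroup G) := by
  letI : MulAction H G := MulAction.compHom G ((MulAut.conj (G := G)).comp H.subtype)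
  have hsm : ∀ (h : H) (y : G), h • y = (h : G) * y * (h : G)⁻¹ := fun _ _ => rfl
  have h1 := Nat.card_congr (MulAction.orbitProdStabilizerEquivGroup H x)
  rw [Nat.card_prod] at h1
  rw [← h1]
  congr 1
  · apply Nat.card_congr
    apply Equiv.subtypeEquivRight
    intro y
    constructor
    · rintro ⟨h, hh⟩
      exact ⟨h, h.2, hh⟩
    · rintro ⟨h, hH, hh⟩
      exact ⟨⟨h, hH⟩, hh⟩
  · apply Nat.card_congr
    refine ⟨fun h => ⟨h.1, h.1.2, ?_⟩, fun h => ⟨⟨h.1, h.2.1⟩, ?_⟩, fun _ => rfl, fun _ => rfl⟩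
    · show (h.1 : G) ∈ Subgroup.centralizer {x}
      rw [Subgroup.mem_centralizer_singleton_iff]
      have h2 : (h.1 : G) * x * (h.1 : G)⁻¹ = x := h.2
      rwa [mul_inv_eq_iff_eq_mul] at h2
    · show (h.1 : G) * x * (h.1 : G)⁻¹ = x
      rw [mul_inv_eq_iff_eq_mul]
      exact Subgroup.mem_centralizer_singleton_iff.mp h.2.2

end General

variable {G : Type*} [Group G] (c : Ctx G)

theorem ne_of_notB {x y : SM} (h : notB (Nat.beq x.1 y.1) = true) : x ≠ y := by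
  rintro rfl
  have h1 := notB_spec h
  have h2 : Nat.beq x.1 x.1 = true := Nat.beq_refl _
  rw [h2] at h1
  exact Bool.false_ne_true h1.symm

def p30 (a : Nat) : Bool :=
  andB (inQ a) (andB (sqIs a 0) (andB (notB (Nat.beq a 0)) (notB (Nat.beq a 10))))
def p6 (a : Nat) : Bool := andB (inOm a) (andB (notB (Nat.beq a 0)) (notB (Nat.beq a 10)))

/-- The result of the analysis of the fusion and of the cores. -/
structure Res : Prop where
  isolU : IsolU c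
  swap : SwapV c
  da : Dz c a0
  norm : ∀ g ∈ Cz c, ∀ x ∈ Q, ∃ y ∈ Q, g * c.ι x * g⁻¹ = c.ι y
  cc : ∀ x ∈ Q, x * x = 1 → x ≠ 1 → x ≠ z0 → CC c x a0
  kv : KV c = R2.map c.ι

variable {c}

theorem Res.sq_one {g : G} {x y : SM} (h : g * c.ι x * g⁻¹ = c.ι y) (hx : x * x = 1) :
    y * y = 1 := by
  apply c.inj
  rw [map_mul, ← h, ← conj_map_mul, ← map_mul, hx, map_one]; group

theorem Res.ne_z {g : G} (hg : g ∈ Cz c) {x y : SM} (h : g * c.ι x * g⁻¹ = c.ι y) (hx : x ≠ z0) :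
    y ≠ z0 := by
  rintro rfl
  exact hx (c.inj (conj_inj (h.trans ((mem_Cz c).mp hg).symm)))

theorem inf_cent : Cz c ⊓ Subgroup.centralizer {c.ι a0} = KV c := by
  ext g
  rw [KNil.mem_KV, Subgroup.mem_inf, Subgroup.mem_centralizer_singleton_iff]
  unfold Cz
  rw [Subgroup.mem_centralizer_singleton_iff]

theorem Res.card_kv (h : Res c) : Nat.card (KV c) = 256 := by
  rw [h.kv, c.card_map, card_R2]

/-- `|C_G(z)| = 7680` -/
theorem Res.card_C [Finite G] (h : Res c) : Nat.card (Cz c) = 7680 := by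
  rw [card_eq_orbit_mul (Cz c) (c.ι a0), inf_cent, h.card_kv]
  have h1 : Nat.card {y : G // ∃ g ∈ Cz c, g * c.ι a0 * g⁻¹ = y} = 30 := by
    have e : {y : G // ∃ g ∈ Cz c, g * c.ι a0 * g⁻¹ = y} ≃
        {x : SM // p30 x.1 = true} := by
      refine Equiv.symm (Equiv.ofBijective (fun x => ⟨c.ι x.1, ?_⟩) ⟨?_, ?_⟩)
      · obtain ⟨h2, h3⟩ := andB_spec x.2
        obtain ⟨h4, h5⟩ := andB_spec h3
        obtain ⟨h6, h7⟩ := andB_spec h5
        obtain ⟨g, hg, hga⟩ := CC_symm c (h.cc x.1 h2 (of_sqIs (y := 1) h4)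
          (ne_of_notB (y := 1) h6) (ne_of_notB (y := z0) h7))
        exact ⟨g, hg, hga⟩
      · intro x y hxy
        exact Subtype.ext (c.inj (congrArg Subtype.val hxy))
      · rintro ⟨y, g, hg, rfl⟩
        obtain ⟨x, hx, hxy⟩ := h.norm g hg a0 (Om_le_Q (V_le_Om a0_mem_V)).1
        have h2 := Res.sq_one hxy a0_sq
        have h3 := Nm_ne_one c a0_ne_one hxy
        have h4 := Res.ne_z hg hxy a0_ne_z0
        exact ⟨⟨x, andB_intro hx (andB_intro (sqIs_of (y := 1) h2) (andB_intro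
          (notB_of fun h5 => h3 (ext_beq (y := 1) h5))
          (notB_of fun h5 => h4 (ext_beq (y := z0) h5))))⟩, Subtype.ext hxy.symm⟩
    rw [Nat.card_congr e, card_eq_cnt]
    decide +kernel
  rw [h1]

/-- the stabilizer of `Ω₁(J)` in `C_G(z)` -/
def LL (c : Ctx G) : Subgroup G := Cz c ⊓ Subgroup.normalizer ((Om.map c.ι : Subgroup G) : Set G)

theorem mem_LL [Finite G] {g : G} : g ∈ LL c ↔ g ∈ Cz c ∧ Nm c Om g := by
  unfold LL
  rw [Subgroup.mem_inf, Nm_iff c]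

theorem S_le_LL [Finite G] (s : SM) : c.ι s ∈ LL c := by
  rw [mem_LL]
  exact ⟨range_le_Cz c ⟨s, rfl⟩, Nm_Om c (Nm_J_SM c s)⟩

/-- canonical lines, version in `N_G(J)` -/
theorem Res.lines [Finite G] (h : Res c) : ∃ g ∈ Cz c, Nm c J g ∧ g * c.ι b0 * g⁻¹ = c.ι a0 := by
  by_contra hcon
  have hOm : ∀ x ∈ Om, x ≠ 1 → Dz c x := by
    intro x hx hx1
    by_cases hz : x = z0
    · rw [hz]; exact Dz_z0 c
    · exact Dz_of_CC c (h.cc x (Om_le_Q hx).1 (mem_Om_iff.mp hx).2 hx1 hz) h.da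
  have hst : ∀ g ∈ Cz c, Nm c J g → Nm c V g := by
    intro g hg hJ w hw
    by_cases hw1 : w = 1
    · rw [hw1]; exact ⟨1, V.one_mem, by rw [map_one]; group⟩
    by_cases hwz : w = z0
    · rw [hwz]; exact ⟨z0, z0_mem_V, (mem_Cz c).mp hg⟩
    obtain ⟨y, hy, hxy⟩ := Nm_Om c hJ w (V_le_Om hw)
    refine ⟨y, ?_, hxy⟩
    by_contra hyV
    apply hcon
    -- `b0 → y → w → a0`
    obtain ⟨s, hs⟩ := conj_b b0_Om.1 b0_Om.2.1 hy hyV
    obtain ⟨r, hr⟩ := repA (clA_of_V hw hw1 hwz)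
    refine ⟨c.ι r * g⁻¹ * c.ι s, (Cz c).mul_mem ((Cz c).mul_mem (range_le_Cz c ⟨r, rfl⟩)
      ((Cz c).inv_mem hg)) (range_le_Cz c ⟨s, rfl⟩), Nm_mul c (Nm_mul c (Nm_J_SM c r)
      (Nm_inv c hJ)) (Nm_J_SM c s), ?_⟩
    calc c.ι r * g⁻¹ * c.ι s * c.ι b0 * (c.ι r * g⁻¹ * c.ι s)⁻¹
        = c.ι r * (g⁻¹ * c.ι (s * b0 * s⁻¹) * g) * (c.ι r)⁻¹ := by
          rw [map_mul, map_mul, map_inv]; group
      _ = c.ι r * c.ι w * (c.ι r)⁻¹ := by
          have h2 : g⁻¹ * c.ι y * g = c.ι w := by rw [← hxy]; group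
          rw [hs, h2]
      _ = c.ι a0 := by rw [← map_inv, ← map_mul, ← map_mul, hr]
  obtain ⟨hbOm, hbV, hb1⟩ := b0_Om
  obtain ⟨g, hg⟩ := hOm b0 hbOm hb1
  obtain ⟨n, hn, hnb, -⟩ := burnside_J c (mem_Om_iff.mp hbOm).1 (V_le_J z0_mem_V) hg
  have hw : ∃ w ∈ V, w ≠ 1 ∧ ∃ w' ∈ V, n * c.ι w * n⁻¹ = c.ι w' := by
    obtain ⟨x, hx, hxa⟩ := Nm_surj c (Nm_Om c hn) (V_le_Om a0_mem_V)
    have hx1 : x ≠ 1 := by
      rintro rfl
      apply a0_ne_one
      apply c.inj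
      rw [← hxa, map_one]; group
    by_cases hxV : x ∈ V
    · exact ⟨x, hxV, hx1, a0, a0_mem_V, hxa⟩
    · refine ⟨x * b0, Lines.mul_mem_V hx hbOm hxV hbV, ?_, a1, a1_mem_V, ?_⟩
      · intro h1
        apply a1_ne_one
        apply c.inj
        rw [← a0_mul_z0, map_mul, ← hxa, ← hnb, ← conj_map_mul, ← map_mul, h1, map_one]; group
      · rw [map_mul, conj_map_mul, hxa, hnb, ← map_mul, a0_mul_z0]
  obtain ⟨w, hwV, hw1, w', hw'V, hww⟩ := hw
  have hw'1 : w' ≠ 1 := Nm_ne_one c hw1 hww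
  obtain ⟨m, hmJ, -, hmV, hmw⟩ := h.swap.toz w hwV hw1
  obtain ⟨m', hm'J, -, hm'V, hm'w⟩ := h.swap.toz w' hw'V hw'1
  have hgC : m' * n * m⁻¹ ∈ Cz c := by
    rw [mem_Cz]
    calc m' * n * m⁻¹ * c.ι z0 * (m' * n * m⁻¹)⁻¹
        = m' * (n * (m⁻¹ * c.ι z0 * m) * n⁻¹) * m'⁻¹ := by group
      _ = m' * (n * c.ι w * n⁻¹) * m'⁻¹ := by
        have : m⁻¹ * c.ι z0 * m = c.ι w := by rw [← hmw]; group
        rw [this]
      _ = c.ι z0 := by rw [hww, hm'w]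
  have hgV := hst _ hgC (Nm_mul c (Nm_mul c hm'J hn) (Nm_inv c hmJ))
  have hnV : Nm c V n := by
    have h1 := Nm_mul c (Nm_mul c (Nm_inv c hm'V) hgV) hmV
    have h2 : m'⁻¹ * (m' * n * m⁻¹) * m = n := by group
    rwa [h2] at h1
  obtain ⟨v, hv, hvz⟩ := Nm_surj c hnV z0_mem_V
  have e : b0 = v := c.inj (conj_inj (hnb.trans hvz.symm))
  exact hbV (by rw [e]; exact hv)

/-- `N_{C(z)}(Ω₁(J))` is transitive on `Ω₁(J) - ⟨z⟩` -/
theorem Res.trans_LL [Finite G] (h : Res c) {x : SM} (hx : x ∈ Om) (h1 : x ≠ 1) (hz : x ≠ z0) :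
    ∃ g ∈ LL c, g * c.ι a0 * g⁻¹ = c.ι x := by
  by_cases hV : x ∈ V
  · obtain ⟨r, hr⟩ := repA (clA_of_V hV h1 hz)
    refine ⟨(c.ι r)⁻¹, (LL c).inv_mem (S_le_LL r), ?_⟩
    rw [← hr, map_mul, map_mul, map_inv]; group
  · obtain ⟨g, hg, hgJ, hgb⟩ := h.lines
    obtain ⟨s, hs⟩ := conj_b b0_Om.1 b0_Om.2.1 hx hV
    refine ⟨c.ι s * g⁻¹, (LL c).mul_mem (S_le_LL s) ((LL c).inv_mem (mem_LL.mpr
      ⟨hg, Nm_Om c hgJ⟩)), ?_⟩
    rw [← hs, ← hgb, map_mul, map_mul, map_inv]; group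

theorem Res.card_LL [Finite G] (h : Res c) : Nat.card (LL c) = 1536 := by
  rw [card_eq_orbit_mul (LL c) (c.ι a0)]
  have h0 : LL c ⊓ Subgroup.centralizer {c.ι a0} = KV c := by
    apply le_antisymm
    · rw [← inf_cent]
      exact inf_le_inf_right _ inf_le_left
    · rw [h.kv]
      rintro _ ⟨r, hr, rfl⟩
      refine ⟨S_le_LL r, ?_⟩
      show c.ι r ∈ Subgroup.centralizer {c.ι a0}
      rw [Subgroup.mem_centralizer_singleton_iff, ← map_mul, R2_cent hr a0_mem_V, map_mul]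
  rw [h0, h.card_kv]
  have h1 : Nat.card {y : G // ∃ g ∈ LL c, g * c.ι a0 * g⁻¹ = y} = 6 := by
    have e : {y : G // ∃ g ∈ LL c, g * c.ι a0 * g⁻¹ = y} ≃
        {x : SM // p6 x.1 = true} := by
      refine Equiv.symm (Equiv.ofBijective (fun x => ⟨c.ι x.1, ?_⟩) ⟨?_, ?_⟩)
      · obtain ⟨h2, h3⟩ := andB_spec x.2
        obtain ⟨h6, h7⟩ := andB_spec h3
        obtain ⟨g, hg, hga⟩ := h.trans_LL (x := x.1) h2
          (ne_of_notB (y := 1) h6) (ne_of_notB (y := z0) h7)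
        exact ⟨g, hg, hga⟩
      · intro x y hxy
        exact Subtype.ext (c.inj (congrArg Subtype.val hxy))
      · rintro ⟨y, g, hg, rfl⟩
        obtain ⟨hgC, hgN⟩ := mem_LL.mp hg
        obtain ⟨x, hx, hxy⟩ := hgN a0 (V_le_Om a0_mem_V)
        have h3 := Nm_ne_one c a0_ne_one hxy
        have h4 := Res.ne_z hgC hxy a0_ne_z0
        exact ⟨⟨x, andB_intro hx (andB_intro
          (notB_of fun h5 => h3 (ext_beq (y := 1) h5))
          (notB_of fun h5 => h4 (ext_beq (y := z0) h5)))⟩, Subtype.ext hxy.symm⟩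
    rw [Nat.card_congr e, card_eq_cnt]
    decide +kernel
  rw [h1]

end Cfsg.Agent.HSType.Out
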