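import Mathlib
import Cfsg.Agent.HSType.Out

/-!
# Output of the analysis (II): `C_G(z) / Q ≅ S₅`, `HSData`
-/

set_option autoImplicit false
set_option linter.style.haveILetI false

namespace Cfsg.Agent.HSType.OutB

open Cfsg.Agent.HSType.Model Cfsg.Agent.HSType.Facts Cfsg.Agent.HSType.FactsU
  Cfsg.Agent.HSType.FactsJ Cfsg.Agent.HSType.FactsI Cfsg.Agent.HSType.Spec
  Cfsg.Agent.HSType.Basic Cfsg.Agent.HSType.Trans Cfsg.Agent.HSType.JFus
  Cfsg.Agent.HSType.InvFusion Cfsg.Agent.HSType.Inv5 Cfsg.Agent.HSType.Inv5b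
  Cfsg.Agent.HSType.Simple Cfsg.Agent.HSType.Lines Cfsg.Agent.HSType.Glue Cfsg.Agent.HSType.Out

def r2 : SM := el 130

/-- fixed points of `s1` on the involutions of `Q` modulo `z` -/
theorem s1_fix {x : SM} (hx : x ∈ Q) (h2 : x * x = 1) (h1 : x ≠ 1) (hz : x ≠ z0)
    (hs : s1 * x * s1⁻¹ = x ∨ s1 * x * s1⁻¹ = x * z0) :
    (x = a0 ∨ x = a0 * z0) ∨ (x = e0 ∨ x = e0 * z0) ∨ (x = r2 ∨ x = r2 * z0) := by
  have hd : allLT 512 (fun a => imp (inQ a) (imp (sqIs a 0) (orB (Nat.beq a 0) (orB (Nat.beq a 10)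
    (imp (orB (Nat.beq (mulN 320 a) (mulN a 320)) (Nat.beq (mulN 320 a) (mulN (mulN a 10) 320)))
      (orB (orB (Nat.beq a 2) (Nat.beq a (mulN 2 10))) (orB (orB (Nat.beq a 128)
        (Nat.beq a (mulN 128 10))) (orB (Nat.beq a 130) (Nat.beq a (mulN 130 10))))))))))
      = true := by decide +kernel
  have h3 : orB (Nat.beq (mulN 320 x.1) (mulN x.1 320)) (Nat.beq (mulN 320 x.1)
      (mulN (mulN x.1 10) 320)) = true := by
    apply orB_intro
    rcases hs with h | h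
    · left; rw [mul_inv_eq_iff_eq_mul] at h; exact beq_of_eq h
    · right; rw [mul_inv_eq_iff_eq_mul] at h; exact beq_of_eq h
  rcases orB_spec (imp_spec (imp_spec (allLT_spec hd x.1 x.2) hx) (sqIs_of (y := 1) h2)) with h | h
  · exact absurd (ext_beq (y := 1) h) h1
  rcases orB_spec h with h | h
  · exact absurd (ext_beq (y := z0) h) hz
  rcases orB_spec (imp_spec h h3) with h | h
  · left
    rcases orB_spec h with h | h
    · exact Or.inl (ext_beq (y := a0) h)
    · exact Or.inr (SM.ext (eq_of_beq h))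
  right
  rcases orB_spec h with h | h
  · left
    rcases orB_spec h with h | h
    · exact Or.inl (ext_beq (y := e0) h)
    · exact Or.inr (SM.ext (eq_of_beq h))
  · right
    rcases orB_spec h with h | h
    · exact Or.inl (ext_beq (y := r2) h)
    · exact Or.inr (SM.ext (eq_of_beq h))

theorem s1_sq : s1 * s1 = 1 := SM.ext (by decide +kernel)
theorem s1_a0 : s1 * a0 * s1⁻¹ = a0 := SM.ext (by decide +kernel)
theorem s1_e0 : s1 * e0 * s1⁻¹ = e0 ∨ s1 * e0 * s1⁻¹ = e0 * z0 := by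
  have h : orB (Nat.beq (mulN (mulN 320 128) (invN 320)) 128)
      (Nat.beq (mulN (mulN 320 128) (invN 320)) (mulN 128 10)) = true := by decide +kernel
  rcases orB_spec h with h | h
  · exact Or.inl (SM.ext (Model.eq_of_beq h))
  · exact Or.inr (SM.ext (Model.eq_of_beq h))

theorem e0_props : e0 ∈ Q ∧ e0 * e0 = 1 ∧ e0 ≠ 1 ∧ e0 ≠ z0 ∧ e0 ∉ Om := by
  have h := clE_spec (x := e0) (by decide +kernel)
  refine ⟨h.1, h.2.1, h.2.2.1, h.2.2.2, ?_⟩
  intro h2; exact absurd (mem_Om.mp h2) (by decide +kernel)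
theorem r2_props : r2 ∈ Q ∧ r2 * r2 = 1 ∧ r2 ≠ 1 ∧ r2 ≠ z0 := clE_spec (by decide +kernel)

/-- centralizer of `Q` in the model -/
theorem cent_Q_SM {r : SM} (h : ∀ x ∈ Q, r * x = x * r) : r = 1 ∨ r = u0 ∨ r = z0 ∨ r = u0 * z0 := by
  apply inU_spec
  have hd : allLT 512 (fun a => imp (allLT 512 (fun b => imp (inQ b) (com a b))) (inU a)) = true := by
    decide +kernel
  apply imp_spec (allLT_spec hd r.1 r.2)
  apply allLT_of
  intro k hk
  cases hq : inQ k with
  | false => rfl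
  | true => exact com_of (y := ⟨k, hk⟩) (h ⟨k, hk⟩ hq)

/-- elements acting trivially on the involutions of `Q` modulo `z` -/
theorem mem_Q_of_triv {r : SM} (h : ∀ x ∈ Q, x * x = 1 → x ≠ 1 → x ≠ z0 →
    (r * x * r⁻¹ = x ∨ r * x * r⁻¹ = x * z0)) : r ∈ Q := by
  have hd : allLT 512 (fun a => imp (allLT 512 (fun b => imp (p30 b)
    (orB (Nat.beq (mulN a b) (mulN b a)) (Nat.beq (mulN a b) (mulN (mulN b 10) a))))) (inQ a))
      = true := by decide +kernel
  apply imp_spec (allLT_spec hd r.1 r.2)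
  apply allLT_of
  intro k hk
  cases hq : p30 k with
  | false => rfl
  | true =>
    show orB _ _ = true
    apply orB_intro
    obtain ⟨h2, h3⟩ := andB_spec hq
    obtain ⟨h4, h5⟩ := andB_spec h3
    obtain ⟨h6, h7⟩ := andB_spec h5
    rcases h ⟨k, hk⟩ h2 (of_sqIs (y := 1) h4) (ne_of_notB (x := ⟨k, hk⟩) (y := 1) h6)
      (ne_of_notB (x := ⟨k, hk⟩) (y := z0) h7) with h8 | h8
    · left; rw [mul_inv_eq_iff_eq_mul] at h8; exact beq_of_eq h8
    · right; rw [mul_inv_eq_iff_eq_mul] at h8; exact beq_of_eq h8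

variable {G : Type*} [Group G] {c : Ctx G}

theorem mem_Cz_iff {g : G} : g ∈ Cz c ↔ g * c.ι z0 = c.ι z0 * g := by
  unfold Cz; rw [Subgroup.mem_centralizer_singleton_iff]

/-- `h⁻¹ k ∈ N(Ω)` when `k`, `h` move `a` to the same point modulo `z` -/
theorem mk_eq [Finite G] (hR : Res c) {k h : G} {x r : SM} (hk : k ∈ Cz c) (hh : h ∈ Cz c)
    (hkx : k * c.ι a0 * k⁻¹ = c.ι x) (hhr : h * c.ι a0 * h⁻¹ = c.ι r) (hx : x = r ∨ x = r * z0) :
    h⁻¹ * k ∈ LL c := by
  have gen : ∀ h : G, h ∈ Cz c → h * c.ι a0 * h⁻¹ = c.ι x → h⁻¹ * k ∈ LL c := by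
    intro h hh hhx
    have h1 : h⁻¹ * k ∈ KV c := by
      rw [KNil.mem_KV]
      refine ⟨mem_Cz_iff.mp ((Cz c).mul_mem ((Cz c).inv_mem hh) hk), ?_⟩
      rw [← mul_inv_eq_iff_eq_mul]
      calc h⁻¹ * k * c.ι a0 * (h⁻¹ * k)⁻¹ = h⁻¹ * (k * c.ι a0 * k⁻¹) * h := by group
        _ = h⁻¹ * (h * c.ι a0 * h⁻¹) * h := by rw [hkx, hhx]
        _ = c.ι a0 := by group
    rw [hR.kv] at h1
    obtain ⟨r, -, hr⟩ := h1
    rw [← hr]; exact S_le_LL r
  rcases hx with rfl | rfl
  · exact gen h hh hhr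
  · have h1 := gen (h * c.ι s0) ((Cz c).mul_mem hh (range_le_Cz c ⟨s0, rfl⟩)) (by
      calc h * c.ι s0 * c.ι a0 * (h * c.ι s0)⁻¹ = h * c.ι (s0 * a0 * s0⁻¹) * h⁻¹ := by
            rw [map_mul, map_mul, map_inv]; group
        _ = c.ι (r * z0) := by
          rw [s0_swap.1, ← a0_mul_z0, map_mul, conj_map_mul, hhr, (mem_Cz c).mp hh, map_mul])
    have h2 : h⁻¹ * k = c.ι s0 * ((h * c.ι s0)⁻¹ * k) := by group
    rw [h2]
    exact (LL c).mul_mem (S_le_LL s0) h1

theorem index_LL [Finite G] (h : Res c) : ((LL c).subgroupOf (Cz c)).index = 5 := by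
  have h1 := ((LL c).subgroupOf (Cz c)).card_mul_index
  have hle : LL c ≤ Cz c := inf_le_left
  rw [Nat.card_congr (Subgroup.subgroupOfEquivOfLe hle).toEquiv, h.card_LL, h.card_C] at h1
  omega

/-- `C_G(z) → Sym(C_G(z) / N(Ω)) ` is onto with kernel `Q` -/
theorem quot_aux [Finite G] (h : Res c) :
    Function.Surjective (MulAction.toPermHom (Cz c) ((Cz c) ⧸ (LL c).subgroupOf (Cz c))) := by
  classical
  set L := (LL c).subgroupOf (Cz c) with hL
  have hind := index_LL h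
  have hcard : Nat.card ((Cz c) ⧸ L) = 5 := hind
  haveI : Finite ((Cz c) ⧸ L) := Nat.finite_of_card_ne_zero (by rw [hcard]; norm_num)
  letI : Fintype ((Cz c) ⧸ L) := Fintype.ofFinite _
  have hfc : Fintype.card ((Cz c) ⧸ L) = 5 := by rw [← Nat.card_eq_fintype_card, hcard]
  set ρ := MulAction.toPermHom (Cz c) ((Cz c) ⧸ L) with hρ
  have hρa : ∀ (g k : Cz c), ρ g (QuotientGroup.mk k) = QuotientGroup.mk (g * k) := fun _ _ => rfl
  have hmk : ∀ k k' : Cz c, (QuotientGroup.mk k : (Cz c) ⧸ L) = QuotientGroup.mk k' ↔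
      (k' : G)⁻¹ * k ∈ LL c := by
    intro k k'
    rw [eq_comm, QuotientGroup.eq, hL, Subgroup.mem_subgroupOf]
    rfl
  -- the permutation induced by `s1`
  set σ1 : Cz c := ⟨c.ι s1, range_le_Cz c ⟨s1, rfl⟩⟩ with hσ1
  set τ := ρ σ1 with hτ
  have hτ2 : τ ^ 2 = 1 := by
    rw [hτ, ← map_pow]
    have : σ1 ^ 2 = 1 := by
      apply Subtype.ext
      show (c.ι s1) ^ 2 = 1
      rw [pow_two, ← map_mul, s1_sq, map_one]
    rw [this, map_one]
  -- points
  obtain ⟨he1, he2, he3, he4, he5⟩ := e0_props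
  obtain ⟨hr1, hr2, hr3, hr4⟩ := r2_props
  obtain ⟨ke, hke, hkea⟩ := CC_symm c (h.cc e0 he1 he2 he3 he4)
  obtain ⟨kr, hkr, hkra⟩ := CC_symm c (h.cc r2 hr1 hr2 hr3 hr4)
  set q0 : (Cz c) ⧸ L := QuotientGroup.mk 1 with hq0
  set q1 : (Cz c) ⧸ L := QuotientGroup.mk ⟨ke, hke⟩ with hq1
  set q2 : (Cz c) ⧸ L := QuotientGroup.mk ⟨kr, hkr⟩ with hq2
  have hs1C : c.ι s1 ∈ Cz c := range_le_Cz c ⟨s1, rfl⟩
  have hf0 : τ q0 = q0 := by
    rw [hτ, hq0, hρa, hmk]
    have : ((1 : Cz c) : G)⁻¹ * ((σ1 * 1 : Cz c) : G) = c.ι s1 := by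
      show (1 : G)⁻¹ * (c.ι s1 * 1) = c.ι s1
      group
    rw [this]; exact S_le_LL s1
  have hf1 : τ q1 = q1 := by
    rw [hτ, hq1, hρa, hmk]
    refine mk_eq h (x := s1 * e0 * s1⁻¹) (r := e0) ((Cz c).mul_mem hs1C hke) hke ?_ hkea s1_e0
    calc c.ι s1 * ke * c.ι a0 * (c.ι s1 * ke)⁻¹ = c.ι s1 * (ke * c.ι a0 * ke⁻¹) * (c.ι s1)⁻¹ := by
          group
      _ = _ := by rw [hkea, ← map_inv, ← map_mul, ← map_mul]
  have h01 : q1 ≠ q0 := by
    intro h1
    rw [hq1, hq0, hmk] at h1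
    have h2 : ((1 : Cz c) : G)⁻¹ * ke = ke := by
      show (1 : G)⁻¹ * ke = ke
      group
    have h3 : ke ∈ LL c := by rw [← h2]; exact h1
    obtain ⟨y, hy, hxy⟩ := (mem_LL.mp h3).2 a0 (V_le_Om a0_mem_V)
    have e : e0 = y := c.inj (hkea.symm.trans hxy)
    exact he5 (by rw [e]; exact hy)
  have hfix : ∀ q, τ q = q → q = q0 ∨ q = q1 ∨ q = q2 := by
    intro q
    refine QuotientGroup.induction_on q ?_
    rintro ⟨g, hg⟩ hq
    rw [hτ, hρa, hmk] at hq
    have hl : g⁻¹ * (c.ι s1 * g) ∈ LL c := hq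
    obtain ⟨l, hldef⟩ : ∃ l, l = g⁻¹ * (c.ι s1 * g) := ⟨_, rfl⟩
    rw [← hldef] at hl
    have hll : l * l = 1 := by
      rw [hldef]
      calc g⁻¹ * (c.ι s1 * g) * (g⁻¹ * (c.ι s1 * g)) = g⁻¹ * c.ι (s1 * s1) * g := by
            rw [map_mul]; group
        _ = 1 := by rw [s1_sq, map_one]; group
    have hlinv : l⁻¹ = l := inv_eq_of_mul_eq_one_left hll
    obtain ⟨hlC, hlN⟩ := mem_LL.mp hl
    have hlz := (mem_Cz c).mp hlC
    -- a point of `Ω - ⟨z⟩` fixed by `l` modulo `z`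
    have hx' : ∃ x' ∈ Om, x' ≠ 1 ∧ x' ≠ z0 ∧ (l * c.ι x' * l⁻¹ = c.ι x' ∨
        l * c.ι x' * l⁻¹ = c.ι (x' * z0)) := by
      obtain ⟨y, hy, hxy⟩ := hlN a0 (V_le_Om a0_mem_V)
      have hyy : l * c.ι y * l⁻¹ = c.ι a0 := by
        rw [← hxy]
        calc l * (l * c.ι a0 * l⁻¹) * l⁻¹ = (l * l) * c.ι a0 * (l * l)⁻¹ := by group
          _ = c.ι a0 := by rw [hll]; group
      by_cases h1 : y = a0
      · exact ⟨a0, V_le_Om a0_mem_V, a0_ne_one, a0_ne_z0, Or.inl (by rw [hxy, h1])⟩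
      by_cases h2 : y = a1
      · exact ⟨a0, V_le_Om a0_mem_V, a0_ne_one, a0_ne_z0,
          Or.inr (by rw [hxy, h2, a0_mul_z0])⟩
      refine ⟨a0 * y, Om.mul_mem (V_le_Om a0_mem_V) hy, ?_, ?_, Or.inl ?_⟩
      · intro h3
        apply h1
        calc y = a0 * (a0 * y) := by rw [← mul_assoc, a0_sq, one_mul]
          _ = a0 := by rw [h3, mul_one]
      · intro h3
        apply h2
        calc y = a0 * (a0 * y) := by rw [← mul_assoc, a0_sq, one_mul]
          _ = a1 := by rw [h3, a0_mul_z0]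
      · rw [map_mul, conj_map_mul, hxy, hyy, ← map_mul, ← map_mul,
          comm_J (mem_Om_iff.mp hy).1 (V_le_J a0_mem_V)]
    obtain ⟨x', hx'Om, hx'1, hx'z, hx'l⟩ := hx'
    obtain ⟨l', hl', hl'x⟩ := h.trans_LL hx'Om hx'1 hx'z
    obtain ⟨x, hx, hgx⟩ := h.norm g hg x' (Om_le_Q hx'Om).1
    have hk : g * l' ∈ Cz c := (Cz c).mul_mem hg (mem_LL.mp hl').1
    have hkx : g * l' * c.ι a0 * (g * l')⁻¹ = c.ι x := by
      calc g * l' * c.ι a0 * (g * l')⁻¹ = g * (l' * c.ι a0 * l'⁻¹) * g⁻¹ := by group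
        _ = c.ι x := by rw [hl'x, hgx]
    have hgz := (mem_Cz c).mp hg
    have hsx : s1 * x * s1⁻¹ = x ∨ s1 * x * s1⁻¹ = x * z0 := by
      have h1 : c.ι (s1 * x * s1⁻¹) = g * (l * c.ι x' * l⁻¹) * g⁻¹ := by
        rw [map_mul, map_mul, map_inv, ← hgx, hldef]; group
      rcases hx'l with h2 | h2
      · left; apply c.inj; rw [h1, h2, hgx]
      · right; apply c.inj; rw [h1, h2, map_mul, conj_map_mul, hgx, hgz, map_mul]
    have hgk : (QuotientGroup.mk (⟨g, hg⟩ : Cz c) : (Cz c) ⧸ L) =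
        QuotientGroup.mk (⟨g * l', hk⟩ : Cz c) := by
      rw [hmk]
      have : (g * l')⁻¹ * g = l'⁻¹ := by group
      show (g * l')⁻¹ * g ∈ LL c
      rw [this]; exact (LL c).inv_mem hl'
    rw [hgk]
    rcases s1_fix hx (Res.sq_one hgx (mem_Om_iff.mp hx'Om).2) (Nm_ne_one c hx'1 hgx)
      (Res.ne_z hg hgx hx'z) hsx with h1 | h1 | h1
    · left
      rw [hq0, hmk]
      exact mk_eq h hk (Cz c).one_mem hkx (r := a0) (by simp) h1
    · right; left
      rw [hq1, hmk]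
      exact mk_eq h hk hke hkx hkea h1
    · right; right
      rw [hq2, hmk]
      exact mk_eq h hk hkr hkx hkra h1
  -- `τ` is a transposition
  have hsup2 : 2 ∣ τ.support.card := Equiv.Perm.two_dvd_card_support hτ2
  have hle3 : τ.support.card ≤ 3 := by
    have h1 : τ.support ⊆ Finset.univ \ {q0, q1} := by
      intro q hq
      rw [Equiv.Perm.mem_support] at hq
      simp only [Finset.mem_sdiff, Finset.mem_univ, true_and, Finset.mem_insert,
        Finset.mem_singleton, not_or]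
      exact ⟨fun e => hq (by rw [e]; exact hf0), fun e => hq (by rw [e]; exact hf1)⟩
    have h2 := Finset.card_le_card h1
    rw [Finset.card_sdiff_of_subset (Finset.subset_univ _), Finset.card_univ, hfc,
      Finset.card_pair h01.symm] at h2
    exact h2
  have hge2 : 2 ≤ τ.support.card := by
    have h1 : Finset.univ \ {q0, q1, q2} ⊆ τ.support := by
      intro q hq
      rw [Equiv.Perm.mem_support]
      intro hq'
      simp only [Finset.mem_sdiff, Finset.mem_univ, true_and, Finset.mem_insert,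
        Finset.mem_singleton, not_or] at hq
      rcases hfix q hq' with e | e | e
      · exact hq.1 e
      · exact hq.2.1 e
      · exact hq.2.2 e
    have h2 := Finset.card_le_card h1
    rw [Finset.card_sdiff_of_subset (Finset.subset_univ _), Finset.card_univ, hfc] at h2
    have h3 : ({q0, q1, q2} : Finset ((Cz c) ⧸ L)).card ≤ 3 := Finset.card_le_three
    omega
  have hswap : τ.IsSwap := by
    rw [← Equiv.Perm.card_support_eq_two]
    omega
  -- an element of order 5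
  have h5 : 5 ∣ Nat.card ρ.range := by
    rw [← Subgroup.index_ker, ← hind]
    apply Subgroup.index_dvd_of_le
    intro g hg
    rw [MonoidHom.mem_ker] at hg
    have h1 : ρ g q0 = q0 := by rw [hg]; rfl
    rw [hq0, hρa, hmk] at h1
    rw [Subgroup.mem_subgroupOf]
    have h2 : ((1 : Cz c) : G)⁻¹ * ((g * 1 : Cz c) : G) = g := by
      show (1 : G)⁻¹ * ((g : G) * 1) = g
      group
    rw [h2] at h1
    exact h1
  haveI : Fact (Nat.Prime 5) := ⟨by norm_num⟩
  obtain ⟨σ, hσ⟩ := exists_prime_orderOf_dvd_card' 5 h5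
  have hσ' : orderOf (σ : Equiv.Perm ((Cz c) ⧸ L)) = 5 := by
    rw [← hσ]; exact (orderOf_injective (Subgroup.subtype _) (Subgroup.subtype_injective _) σ)
  have hcyc : (σ : Equiv.Perm ((Cz c) ⧸ L)).IsCycle :=
    Equiv.Perm.isCycle_of_prime_order'' (by rw [hfc]; norm_num) (by rw [hσ', hfc])
  have hsup : (σ : Equiv.Perm ((Cz c) ⧸ L)).support = Finset.univ := by
    rw [← Finset.card_eq_iff_eq_univ, ← hcyc.orderOf, hσ', hfc]
  have htop := Equiv.Perm.closure_prime_cycle_swap (by rw [hfc]; norm_num) hcyc hsup hswap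
  rw [← MonoidHom.range_eq_top, eq_top_iff, ← htop, Subgroup.closure_le]
  rintro x (rfl | hx)
  · exact σ.2
  · rw [Set.mem_singleton_iff] at hx
    rw [hx]
    exact ⟨σ1, rfl⟩

/-- `C_G(z) / Q ≅ S₅` -/
theorem quot [Finite G] (h : Res c) :
    ∃ ρ : Subgroup.centralizer ({c.ι z0} : Set G) →* Equiv.Perm (Fin 5),
      Function.Surjective ρ ∧ ∀ g, ρ g = 1 ↔ (g : G) ∈ Q.map c.ι := by
  classical
  have hsurj := quot_aux h
  have hcard : Nat.card ((Cz c) ⧸ (LL c).subgroupOf (Cz c)) = 5 := index_LL h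
  haveI : Finite ((Cz c) ⧸ (LL c).subgroupOf (Cz c)) :=
    Nat.finite_of_card_ne_zero (by rw [hcard]; norm_num)
  obtain ⟨ρ, hρ⟩ : ∃ ρ, ρ = MulAction.toPermHom (Cz c) ((Cz c) ⧸ (LL c).subgroupOf (Cz c)) :=
    ⟨_, rfl⟩
  rw [← hρ] at hsurj
  have hQle : Q.map c.ι ≤ Cz c := by
    rintro _ ⟨x, -, rfl⟩; exact range_le_Cz c ⟨x, rfl⟩
  have hker : ∀ g : Cz c, ρ g = 1 ↔ (g : G) ∈ Q.map c.ι := by
    have hle : (Q.map c.ι).subgroupOf (Cz c) ≤ ρ.ker := by
      intro g hg
      rw [Subgroup.mem_subgroupOf] at hg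
      rw [MonoidHom.mem_ker]
      apply Equiv.ext
      intro q
      refine QuotientGroup.induction_on q ?_
      intro k
      rw [hρ]
      show (QuotientGroup.mk (g * k) : (Cz c) ⧸ (LL c).subgroupOf (Cz c)) = QuotientGroup.mk k
      rw [eq_comm, QuotientGroup.eq, Subgroup.mem_subgroupOf]
      obtain ⟨x, hx, hxg⟩ := hg
      obtain ⟨y, hy, hxy⟩ := h.norm (k : G)⁻¹ ((Cz c).inv_mem k.2) x hx
      have h1 : ((k⁻¹ * (g * k) : Cz c) : G) = c.ι y := by
        show (k : G)⁻¹ * ((g : G) * (k : G)) = c.ι y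
        rw [← hxy, ← hxg]; group
      rw [h1]; exact S_le_LL y
    have h1 : Nat.card ρ.ker * 120 = 7680 := by
      have h2 := ρ.ker.card_mul_index
      rw [Subgroup.index_ker, MonoidHom.range_eq_top.mpr hsurj, Subgroup.card_top, h.card_C] at h2
      rw [Nat.card_perm, hcard] at h2
      exact h2
    have h3 : (Q.map c.ι).subgroupOf (Cz c) = ρ.ker := by
      apply Subgroup.eq_of_le_of_card_ge hle
      rw [Nat.card_congr (Subgroup.subgroupOfEquivOfLe hQle).toEquiv, c.card_map, card_Q]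
      omega
    intro g
    rw [← MonoidHom.mem_ker, ← h3, Subgroup.mem_subgroupOf]
  have e : (Cz c) ⧸ (LL c).subgroupOf (Cz c) ≃ Fin 5 := by
    letI : Fintype ((Cz c) ⧸ (LL c).subgroupOf (Cz c)) := Fintype.ofFinite _
    exact Fintype.equivFinOfCardEq (by rw [← Nat.card_eq_fintype_card, hcard])
  refine ⟨(e.permCongrHom.toMonoidHom).comp ρ, ?_, ?_⟩
  · exact e.permCongrHom.surjective.comp hsurj
  · intro g
    rw [← hker g]
    show e.permCongrHom (ρ g) = 1 ↔ _
    rw [EmbeddingLike.map_eq_one_iff]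

/-- `HSData` -/
theorem hsData [Finite G] (h : Res c) :
    ClassificationK.SymplHS.HSData (Q.map c.ι) (c.ι z0) (c.ι u0) where
  symp :=
    { u_mem := Subgroup.mem_map_of_mem _ ((U_le.1 u0) (by decide +kernel))
      u_sq := by rw [← map_mul, u0_sq]
      z_ne := by rw [← map_one c.ι]; exact fun e => z0_ne_one (c.inj e)
      z_sq := by rw [← map_mul, z0_sq, map_one]
      comm_u := by
        rintro _ ⟨x, hx, rfl⟩
        rw [← map_mul, ← map_mul, Subgroup.mem_centralizer_singleton_iff.mp (Q_le_R1 hx)]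
      conj_mem := by
        rintro g hg _ ⟨x, hx, rfl⟩
        obtain ⟨y, hy, hxy⟩ := h.norm g (mem_Cz_iff.mpr hg) x hx
        rw [hxy]; exact Subgroup.mem_map_of_mem _ hy
      sq := by
        rintro _ ⟨x, hx, rfl⟩
        rcases sq_Q hx with h1 | h1
        · left; rw [← map_mul, h1, map_one]
        · right; rw [← map_mul, h1]
      comm := by
        rintro _ ⟨x, hx, rfl⟩ _ ⟨y, hy, rfl⟩
        rcases comm_Q hx hy with h1 | h1
        · left; rw [← map_mul, ← map_mul, h1]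
        · right; rw [← map_mul, ← map_mul, ← map_mul, h1]
      self := by
        intro g hg hx
        have h1 : g ∈ KV c := by
          rw [KNil.mem_KV]
          exact ⟨hg, hx _ (Subgroup.mem_map_of_mem _ (Om_le_Q (V_le_Om a0_mem_V)).1)⟩
        rw [h.kv] at h1
        obtain ⟨r, -, rfl⟩ := h1
        rcases cent_Q_SM (r := r) (fun x hxQ => by
          apply c.inj; rw [map_mul, map_mul]
          exact hx _ (Subgroup.mem_map_of_mem _ hxQ)) with e | e | e | e
        · left; rw [e, map_one]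
        · right; right; left; rw [e]
        · right; left; rw [e]
        · right; right; right; rw [e, map_mul]
      core := by
        intro N hNC hNn hN2 n hn
        have hNle : N ≤ Cz c := fun x hx => mem_Cz_iff.mpr (hNC x hx)
        -- `N ≤ S`
        have hNS : ∀ n ∈ N, ∃ s : SM, c.ι s = n := by
          intro n hn
          obtain ⟨k, hk, hks⟩ := c.exists_conj_in (range_le_Cz c) hNle hN2
          have h1 : k⁻¹ * n * k⁻¹⁻¹ ∈ N := hNn _ (mem_Cz_iff.mp ((Cz c).inv_mem hk)) n hn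
          obtain ⟨s, hs⟩ := hks _ h1
          refine ⟨s, ?_⟩
          rw [hs]; group
        obtain ⟨s, rfl⟩ := hNS n hn
        apply Subgroup.mem_map_of_mem
        apply mem_Q_of_triv
        intro x hx hx2 hx1 hxz
        obtain ⟨g, hg, hga⟩ := CC_symm c (h.cc x hx hx2 hx1 hxz)
        have h1 : g⁻¹ * c.ι s * g⁻¹⁻¹ ∈ N := hNn _ (mem_Cz_iff.mp ((Cz c).inv_mem hg)) _ hn
        obtain ⟨t, ht⟩ := hNS _ h1
        have hgz := (mem_Cz c).mp hg
        have h2 : c.ι (s * x * s⁻¹) = g * c.ι (t * a0 * t⁻¹) * g⁻¹ := by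
          rw [map_mul, map_mul, map_inv, map_mul, map_mul, map_inv, ← hga, ht]; group
        rcases V_cases (V_normal (g := t) a0_mem_V) with e | e | e | e
        · exfalso
          apply a0_ne_one
          calc a0 = t⁻¹ * (t * a0 * t⁻¹) * t := by group
            _ = 1 := by rw [e]; group
        · left; apply c.inj; rw [h2, e, hga]
        · right; apply c.inj; rw [h2, e, ← a0_mul_z0, map_mul, conj_map_mul, hga, hgz, map_mul]
        · exfalso
          apply a0_ne_z0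
          calc a0 = t⁻¹ * (t * a0 * t⁻¹) * t := by group
            _ = z0 := by rw [e, mul_assoc, ← z0_central, inv_mul_cancel_left]
      nonab := by
        refine ⟨c.ι a0, Subgroup.mem_map_of_mem _ (Om_le_Q (V_le_Om a0_mem_V)).1, c.ι g0,
          Subgroup.mem_map_of_mem _ (clG_spec (x := g0) (by decide +kernel)).1, ?_⟩
        rw [← map_mul, ← map_mul]
        intro e
        exact absurd (com_of (c.inj e)) (by decide +kernel) }
  card_Q := by rw [c.card_map, card_Q]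
  card_C := h.card_C
  quot := quot h
  conj := by
    rintro _ ⟨x, hx, rfl⟩ h2 h1
    have h2' : x * x = 1 := c.inj (by rw [map_mul, h2, map_one])
    have h1' : x ≠ 1 := fun e => h1 (by rw [e, map_one])
    have hD : Dz c x := by
      by_cases hz : x = z0
      · rw [hz]; exact Dz_z0 c
      · exact Dz_of_CC c (h.cc x hx h2' h1' hz) h.da
    obtain ⟨g, hg⟩ := hD
    exact ⟨g⁻¹, by rw [← hg]; group⟩
  conj_C := by
    rintro _ ⟨x, hx, rfl⟩ _ ⟨y, hy, rfl⟩ hx2 hx1 hxz hy2 hy1 hyz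
    have h1 : CC c x y := CC_trans c (h.cc x hx (c.inj (by rw [map_mul, hx2, map_one]))
      (fun e => hx1 (by rw [e, map_one])) (fun e => hxz (by rw [e])))
      (CC_symm c (h.cc y hy (c.inj (by rw [map_mul, hy2, map_one]))
      (fun e => hy1 (by rw [e, map_one])) (fun e => hyz (by rw [e]))))
    obtain ⟨g, hg, hxy⟩ := h1
    exact ⟨g, mem_Cz_iff.mp hg, hxy⟩
  inv := by
    refine ⟨c.ι s1, ?_, ?_⟩
    · rw [← map_mul, z0_central, map_mul]
    · rw [← map_inv, ← map_mul, ← map_mul, ← map_mul]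
      congr 1

end Cfsg.Agent.HSType.OutB
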