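import Mathlib
import Cfsg.Agent.HSType.OutB
import Cfsg.Agent.HSU.Base

/-!
# The gluing data `HSU.Base.Dat` for `C_G(z)`
-/

set_option autoImplicit false
set_option linter.style.haveILetI false

namespace Cfsg.Agent.HSType.DatRes

open Cfsg.Agent.HSType.Model Cfsg.Agent.HSType.Facts Cfsg.Agent.HSType.FactsU
  Cfsg.Agent.HSType.FactsJ Cfsg.Agent.HSType.FactsI Cfsg.Agent.HSType.Spec
  Cfsg.Agent.HSType.Basic Cfsg.Agent.HSType.Trans Cfsg.Agent.HSType.JFus
  Cfsg.Agent.HSType.InvFusion Cfsg.Agent.HSType.Inv5 Cfsg.Agent.HSType.Inv5b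
  Cfsg.Agent.HSType.Simple Cfsg.Agent.HSType.Lines Cfsg.Agent.HSType.Glue Cfsg.Agent.HSType.Out
  Cfsg.Agent.HSType.OutB Cfsg.Agent.HSU.Base

variable {G : Type*} [Group G] {c : Ctx G}

/-- `OmU = Ω₁(J)⟨u⟩` -/
theorem OmU_decomp {x : SM} (hx : x ∈ OmU) : x ∈ Om ∨ x * u0 ∈ Om := by
  have hd : allLT 512 (fun a => imp (andB (inQ a) (inQ' a)) (orB (inOm a) (inOm (mulN a 37))))
      = true := by decide +kernel
  exact orB_spec (imp_spec (allLT_spec hd x.1 x.2) (andB_intro hx.1 hx.2))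

theorem u0_OmU : u0 ∈ OmU := ⟨U_le.1 u0 (by decide +kernel), U_le.2 u0 (by decide +kernel)⟩
theorem z0_OmU : z0 ∈ OmU := ⟨(Om_le_Q (V_le_Om z0_mem_V)).1, (Om_le_Q (V_le_Om z0_mem_V)).2⟩
theorem Om_OmU {x : SM} (h : x ∈ Om) : x ∈ OmU := ⟨(Om_le_Q h).1, (Om_le_Q h).2⟩

theorem card_OmU : Nat.card OmU = 16 := by
  rw [card_sub OmU (fun a => andB (inQ a) (inQ' a)) (fun x =>
    ⟨fun h => andB_intro h.1 h.2, fun h => andB_spec h⟩)]
  decide +kernel

theorem JQ : J.map c.ι ⊓ Q.map c.ι = OmU.map c.ι := by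
  have h : J ⊓ Q = OmU := by
    ext x
    constructor
    · rintro ⟨h1, h2⟩
      refine ⟨h2, ?_⟩
      have hd : allLT 512 (fun a => imp (andB (inJ a) (inQ a)) (inQ' a)) = true := by decide +kernel
      exact imp_spec (allLT_spec hd x.1 x.2) (andB_intro h1 h2)
    · intro h1
      exact ⟨OmU_spec h1, h1.1⟩
  rw [← Subgroup.map_inf_eq _ _ _ c.inj, h]

/-- elements of `Q` outside `⟨u⟩` are noncentral involutions up to `u` -/
theorem Q_decomp {x : SM} (hx : x ∈ Q) : x * x = 1 ∨ (x * u0) * (x * u0) = 1 := by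
  have hd : allLT 512 (fun a => imp (inQ a) (orB (sqIs a 0) (sqIs (mulN a 37) 0))) = true := by
    decide +kernel
  rcases orB_spec (imp_spec (allLT_spec hd x.1 x.2) hx) with h | h
  · exact Or.inl (of_sqIs (y := 1) h)
  · exact Or.inr (of_sqIs (x := x * u0) (y := 1) h)

theorem conj_u [Finite G] (h : Res c) {g : G} (hg : g ∈ Cz c) :
    g * c.ι u0 * g⁻¹ = c.ι u0 ∨ g * c.ι u0 * g⁻¹ = c.ι (u0 * z0) := by
  obtain ⟨y, hy, hxy⟩ := h.norm g hg u0 u0_OmU.1
  rcases h.isolU g hg y hxy with e | e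
  · left; rw [hxy, e]
  · right; rw [hxy, e]

/-- `C_G(z)` acts faithfully on `Q / ⟨u⟩` modulo `Q` -/
theorem faith [Finite G] (h : Res c) {g : G} (hg : g ∈ Cz c)
    (hx : ∀ x ∈ Q.map c.ι, g * x * g⁻¹ = x ∨ g * x * g⁻¹ = x * c.ι z0 ∨ g * x * g⁻¹ = x * c.ι u0 ∨
      g * x * g⁻¹ = x * (c.ι u0 * c.ι z0)) : g ∈ Q.map c.ι := by
  -- involutions are fixed modulo `z`
  have hinv : ∀ x ∈ Q, x * x = 1 → g * c.ι x * g⁻¹ = c.ι x ∨ g * c.ι x * g⁻¹ = c.ι (x * z0) := by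
    intro x hxQ hx2
    obtain ⟨y, hy, hxy⟩ := h.norm g hg x hxQ
    have hy2 := Res.sq_one hxy hx2
    have hxu : x * u0 = u0 * x := Subgroup.mem_centralizer_singleton_iff.mp (Q_le_R1 hxQ)
    have hbad : ∀ v : SM, v * v = z0 → x * v = v * x → y = x * v → False := by
      intro v hv hxv e
      apply z0_ne_one
      rw [e] at hy2
      calc z0 = x * x * (v * v) := by rw [hx2, one_mul, hv]
        _ = x * (x * v) * v := by group
        _ = x * (v * x) * v := by rw [hxv]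
        _ = x * v * (x * v) := by group
        _ = 1 := hy2
    rcases hx _ (Subgroup.mem_map_of_mem _ hxQ) with h1 | h1 | h1 | h1
    · exact Or.inl h1
    · right; rw [h1, map_mul]
    · exfalso
      exact hbad u0 u0_sq hxu (c.inj (by rw [← hxy, h1, map_mul]))
    · exfalso
      refine hbad (u0 * z0) ?_ ?_ (c.inj (by rw [← hxy, h1, map_mul, map_mul]))
      · calc u0 * z0 * (u0 * z0) = u0 * (z0 * u0) * z0 := by group
          _ = u0 * u0 * (z0 * z0) := by rw [← z0_central]; group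
          _ = z0 := by rw [z0_sq, mul_one, u0_sq]
      · calc x * (u0 * z0) = u0 * (x * z0) := by rw [← mul_assoc, hxu, mul_assoc]
          _ = u0 * z0 * x := by rw [z0_central, mul_assoc]
  have hSM : ∀ k : G, k ∈ Cz c → k * c.ι a0 * k⁻¹ = c.ι a0 → ∃ r, k = c.ι r := by
    intro k hk hka
    have h1 : k ∈ KV c := by
      rw [KNil.mem_KV]
      exact ⟨mem_Cz_iff.mp hk, mul_inv_eq_iff_eq_mul.mp hka⟩
    rw [h.kv] at h1
    obtain ⟨r, -, hr⟩ := h1
    exact ⟨r, hr.symm⟩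
  have hr : ∃ r, g = c.ι r := by
    rcases hinv a0 (Om_OmU (V_le_Om a0_mem_V)).1 a0_sq with h1 | h1
    · exact hSM g hg h1
    · obtain ⟨r, hr⟩ := hSM (c.ι s0 * g) ((Cz c).mul_mem (range_le_Cz c ⟨s0, rfl⟩) hg) (by
        calc c.ι s0 * g * c.ι a0 * (c.ι s0 * g)⁻¹ = c.ι s0 * (g * c.ι a0 * g⁻¹) * (c.ι s0)⁻¹ := by
              group
          _ = c.ι (s0 * a1 * s0⁻¹) := by rw [h1, a0_mul_z0, map_mul, map_mul, map_inv]
          _ = c.ι a0 := by rw [s0_swap.2])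
      exact ⟨s0⁻¹ * r, by rw [map_mul, ← hr, map_inv]; group⟩
  obtain ⟨r, rfl⟩ := hr
  apply Subgroup.mem_map_of_mem
  apply mem_Q_of_triv
  intro x hxQ hx2 _ _
  rcases hinv x hxQ hx2 with h1 | h1
  · left; apply c.inj; rw [map_mul, map_mul, map_inv, h1]
  · right; apply c.inj; rw [map_mul, map_mul, map_inv, h1]

theorem sw [Finite G] (h : Res c) : SW (Q.map c.ι) (c.ι z0) (c.ι u0) := by
  have hs := (hsData h).symp
  exact ⟨hs.u_mem, hs.u_sq, hs.z_ne, hs.z_sq, hs.comm_u, hs.conj_mem, hs.sq, hs.comm, hs.self,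
    fun g hg hx => faith h (mem_Cz_iff.mpr hg) hx⟩

/-- a line: conjugate of `OmU` -/
def line (c : Ctx G) (g : G) : Subgroup G := (OmU.map c.ι).map (MulAut.conj g).toMonoidHom

theorem mem_line {g x : G} : x ∈ line c g ↔ ∃ y ∈ OmU, g * c.ι y * g⁻¹ = x := by
  unfold line
  constructor
  · rintro ⟨_, ⟨y, hy, rfl⟩, rfl⟩; exact ⟨y, hy, rfl⟩
  · rintro ⟨y, hy, rfl⟩; exact ⟨c.ι y, Subgroup.mem_map_of_mem _ hy, rfl⟩

theorem u_mem_line [Finite G] (h : Res c) {g : G} (hg : g ∈ Cz c) : c.ι u0 ∈ line c g := by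
  rw [mem_line]
  rcases conj_u h hg with h1 | h1
  · exact ⟨u0, u0_OmU, h1⟩
  · refine ⟨u0 * z0, OmU.mul_mem u0_OmU z0_OmU, ?_⟩
    rw [map_mul, conj_map_mul, h1, (mem_Cz c).mp hg, ← map_mul, mul_assoc, z0_sq, mul_one]

/-- a noncentral involution of a line determines it -/
theorem line_eq [Finite G] (h : Res c) {g k : G} (hg : g ∈ Cz c) (hk : k ∈ Cz c) {x : SM}
    (hxg : c.ι x ∈ line c g) (hxk : c.ι x ∈ line c k) (h2 : x * x = 1) (h1 : x ≠ 1) (hz : x ≠ z0) :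
    line c g = line c k := by
  have key : ∀ g : G, g ∈ Cz c → c.ι x ∈ line c g → ∃ l ∈ LL c, g * l * c.ι a0 * (g * l)⁻¹ = c.ι x := by
    intro g hg hxg
    obtain ⟨y, hy, hyx⟩ := mem_line.mp hxg
    have hy2 : y * y = 1 := by
      apply c.inj
      apply conj_inj (g := g)
      rw [map_mul, conj_map_mul, hyx, ← map_mul, h2, map_one]; group
    have hy1 : y ≠ 1 := by
      rintro rfl
      apply h1
      apply c.inj
      rw [← hyx, map_one]; group
    have hyz : y ≠ z0 := by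
      rintro rfl
      apply hz
      apply c.inj
      rw [← hyx, (mem_Cz c).mp hg]
    obtain ⟨l, hl, hla⟩ := h.trans_LL (mem_Om_iff.mpr ⟨OmU_spec hy, hy2⟩) hy1 hyz
    refine ⟨l, hl, ?_⟩
    calc g * l * c.ι a0 * (g * l)⁻¹ = g * (l * c.ι a0 * l⁻¹) * g⁻¹ := by group
      _ = c.ι x := by rw [hla, hyx]
  obtain ⟨l, hl, hlx⟩ := key g hg hxg
  obtain ⟨m, hm, hmx⟩ := key k hk hxk
  have h3 := mk_eq h ((Cz c).mul_mem hg (mem_LL.mp hl).1) ((Cz c).mul_mem hk (mem_LL.mp hm).1)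
    hlx hmx (Or.inl rfl)
  have h4 : k⁻¹ * g ∈ LL c := by
    have : k⁻¹ * g = m * ((k * m)⁻¹ * (g * l)) * l⁻¹ := by group
    rw [this]
    exact (LL c).mul_mem ((LL c).mul_mem hm h3) ((LL c).inv_mem hl)
  -- `LL` preserves `OmU`
  have hLL : ∀ n ∈ LL c, ∀ y ∈ OmU, ∃ y' ∈ OmU, n * c.ι y * n⁻¹ = c.ι y' := by
    intro n hn y hy
    obtain ⟨hnC, hnN⟩ := mem_LL.mp hn
    rcases OmU_decomp hy with h5 | h5
    · obtain ⟨y', hy', hyy⟩ := hnN y h5
      exact ⟨y', Om_OmU hy', hyy⟩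
    · obtain ⟨y', hy', hyy⟩ := hnN _ h5
      have h6 : y = (y * u0) * u0⁻¹ := by group
      obtain ⟨u', hu', hnu⟩ : ∃ u' ∈ OmU, n * c.ι u0 * n⁻¹ = c.ι u' := by
        rcases conj_u h hnC with h7 | h7
        · exact ⟨u0, u0_OmU, h7⟩
        · exact ⟨u0 * z0, OmU.mul_mem u0_OmU z0_OmU, h7⟩
      refine ⟨y' * u'⁻¹, OmU.mul_mem (Om_OmU hy') (OmU.inv_mem hu'), ?_⟩
      rw [h6, map_mul, map_inv, conj_map_mul, hyy, map_mul, map_inv, ← hnu]; group
  have hle : ∀ g k : G, k⁻¹ * g ∈ LL c → line c g ≤ line c k := by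
    intro g k h4 w hw
    obtain ⟨y, hy, hyw⟩ := mem_line.mp hw
    obtain ⟨y', hy', hyy⟩ := hLL _ h4 y hy
    rw [mem_line]
    refine ⟨y', hy', ?_⟩
    rw [← hyy, ← hyw]; group
  refine le_antisymm (hle g k h4) (hle k g ?_)
  have : g⁻¹ * k = (k⁻¹ * g)⁻¹ := by group
  rw [this]; exact (LL c).inv_mem h4

theorem dat_of_res [Finite G] (h : Res c) :
    Dat (Q.map c.ι) (J.map c.ι) (c.ι z0) (c.ι u0) (c.ι s1) where
  sw := sw h
  card_Q := by rw [c.card_map, card_Q]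
  card_C := h.card_C
  lines := by
    refine ⟨{B | ∃ g ∈ Cz c, B = line c g}, ?_, ?_, ?_, ?_, ?_⟩
    · refine ⟨1, (Cz c).one_mem, ?_⟩
      rw [JQ]
      ext x
      rw [mem_line]
      constructor
      · rintro ⟨y, hy, rfl⟩; exact ⟨y, hy, by group⟩
      · rintro ⟨y, hy, rfl⟩
        have : (1 : G) * c.ι y * 1⁻¹ = c.ι y := by group
        rw [this]; exact Subgroup.mem_map_of_mem _ hy
    · rintro _ ⟨g, hg, rfl⟩
      refine ⟨?_, u_mem_line h hg, ?_, ?_⟩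
      · intro x hx
        obtain ⟨y, hy, rfl⟩ := mem_line.mp hx
        obtain ⟨w, hw, hyw⟩ := h.norm g hg y hy.1
        rw [hyw]; exact Subgroup.mem_map_of_mem _ hw
      · unfold line
        rw [Subgroup.card_map_of_injective (MulAut.conj g).injective, c.card_map, card_OmU]
      · intro x hx y hy
        obtain ⟨x', hx', rfl⟩ := mem_line.mp hx
        obtain ⟨y', hy', rfl⟩ := mem_line.mp hy
        rw [← conj_map_mul, ← conj_map_mul, ← map_mul, ← map_mul,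
          comm_J (OmU_spec hx') (OmU_spec hy')]
    · rintro _ ⟨g, hg, rfl⟩ _ ⟨k, hk, rfl⟩ x hxg hxk hx1 hxz hxu hxuz
      obtain ⟨y, hy, hyx⟩ := mem_line.mp hxg
      obtain ⟨x', hx', hxx⟩ := h.norm g hg y hy.1
      have hxx' : c.ι x' = x := by rw [← hxx, hyx]
      rcases Q_decomp hx' with h2 | h2
      · refine line_eq h hg hk (x := x') (by rw [hxx']; exact hxg) (by rw [hxx']; exact hxk) h2 ?_ ?_
        · rintro rfl; exact hx1 (by rw [← hxx', map_one])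
        · rintro rfl; exact hxz hxx'.symm
      · refine line_eq h hg hk (x := x' * u0) ?_ ?_ h2 ?_ ?_
        · rw [map_mul, hxx']; exact (line c g).mul_mem hxg (u_mem_line h hg)
        · rw [map_mul, hxx']; exact (line c k).mul_mem hxk (u_mem_line h hk)
        · intro e
          apply hxuz
          have h3 : x' = u0⁻¹ := mul_eq_one_iff_eq_inv.mp e
          rw [← hxx', h3, u0_inv, map_mul]
        · intro e
          apply hxu
          have h3 : x' = z0 * u0⁻¹ := by rw [← e]; group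
          rw [← hxx', h3, u0_inv]
          congr 1
    · rintro _ ⟨x, hx, rfl⟩
      have hinv : ∀ y ∈ Q, y * y = 1 → ∃ g ∈ Cz c, c.ι y ∈ line c g := by
        intro y hy hy2
        by_cases hy1 : y = 1
        · exact ⟨1, (Cz c).one_mem, by rw [hy1, map_one]; exact (line c 1).one_mem⟩
        by_cases hyz : y = z0
        · refine ⟨1, (Cz c).one_mem, ?_⟩
          rw [mem_line]; exact ⟨z0, z0_OmU, by rw [hyz]; group⟩
        obtain ⟨g, hg, hga⟩ := CC_symm c (h.cc y hy hy2 hy1 hyz)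
        exact ⟨g, hg, mem_line.mpr ⟨a0, Om_OmU (V_le_Om a0_mem_V), hga⟩⟩
      rcases Q_decomp hx with h2 | h2
      · obtain ⟨g, hg, hx⟩ := hinv x hx h2
        exact ⟨_, ⟨g, hg, rfl⟩, hx⟩
      · obtain ⟨g, hg, hxg⟩ := hinv (x * u0) (Q.mul_mem hx u0_OmU.1) h2
        refine ⟨_, ⟨g, hg, rfl⟩, ?_⟩
        have : c.ι x = c.ι (x * u0) * (c.ι u0)⁻¹ := by rw [map_mul]; group
        rw [this]
        exact (line c g).mul_mem hxg ((line c g).inv_mem (u_mem_line h hg))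
    · rintro g hg _ ⟨k, hk, rfl⟩
      refine ⟨_, ⟨g * k, (Cz c).mul_mem (mem_Cz_iff.mpr hg) hk, rfl⟩, ?_⟩
      intro x hx
      obtain ⟨y, hy, rfl⟩ := mem_line.mp hx
      rw [mem_line]
      exact ⟨y, hy, by group⟩
  comm_A := by
    rintro _ ⟨x, hx, rfl⟩ _ ⟨y, hy, rfl⟩
    rw [← map_mul, ← map_mul, comm_J hx hy]
  exp_A := by
    rintro _ ⟨x, hx, rfl⟩
    have hd : allLT 64 (fun a => sqIs (mulN a a) 0) = true := by decide +kernel
    have h1 : x.1 < 64 := Nat.le_of_ble_eq_true hx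
    have h2 : x * x * (x * x) = 1 := of_sqIs (x := x * x) (y := 1) (allLT_spec hd x.1 h1)
    rw [← map_mul, ← map_mul, h2, map_one]
  card_A := by rw [c.card_map, card_J]
  s_sq := by rw [← map_mul, s1_sq, map_one]
  s_u := by
    rw [← map_inv, ← map_mul, ← map_mul, ← map_mul]
    congr 1
  s_A := by
    rintro _ ⟨x, hx, rfl⟩
    rw [← map_inv, ← map_mul, ← map_mul]
    exact Subgroup.mem_map_of_mem _ (J_normal.conj_mem x hx s1)

end Cfsg.Agent.HSType.DatRes
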