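import Mathlib
import Cfsg.Agent.HSType.JFus
import Cfsg.Agent.HSType.KNil
import Cfsg.Agent.HSType.LemmaH
import Cfsg.Agent.Lib.ThompsonPQ
import Cfsg.Agent.Lib.KleinGen

/-!
# The cores of the centralizers of involutions (S1777, step (8a))
-/

set_option autoImplicit false
set_option maxHeartbeats 400000
set_option linter.style.haveILetI false
set_option linter.unusedSectionVars false

namespace Cfsg.Agent.HSType.Cores

open Cfsg.Agent.J2Sylow.Functor

/-! ### abstract part -/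

section Abs

variable {X : Type*} [Group X]

/-- lifting fixed points of an involution through an odd order subgroup -/
theorem fixed_lift [Finite X] {N : Subgroup X} (hodd : Odd (Nat.card N)) {t b : X} (ht : t * t = 1)
    (h : t * b * t⁻¹ * b⁻¹ ∈ N) : ∃ s ∈ N, t * (s * b) = (s * b) * t := by
  obtain ⟨k, hk⟩ := Lib.KleinGen.exists_sqrt_exponent N hodd
  have hti : t⁻¹ = t := inv_eq_of_mul_eq_one_right ht
  set n := t * b * t⁻¹ * b⁻¹ with hn
  have h1 : t * n * t⁻¹ = n⁻¹ := by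
    have h2 : n = t * b * t * b⁻¹ := by rw [hn, hti]
    rw [eq_inv_iff_mul_eq_one, h2, hti]
    calc t * (t * b * t * b⁻¹) * t * (t * b * t * b⁻¹) = (t * t) * b * t * b⁻¹ * (t * t) * b * t * b⁻¹ := by
          group
      _ = 1 * b * t * b⁻¹ * 1 * b * t * b⁻¹ := by rw [ht]
      _ = b * (t * t) * b⁻¹ := by group
      _ = 1 := by rw [ht]; group
  refine ⟨n ^ k, N.pow_mem h k, ?_⟩
  have h2 : t * n ^ k * t⁻¹ = (n ^ k)⁻¹ := by
    rw [← conj_pow, h1, inv_pow]
  have h3 := (hk n h).1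
  have h4 : t * (n ^ k * b) * t⁻¹ = n ^ k * b := by
    calc t * (n ^ k * b) * t⁻¹ = (t * n ^ k * t⁻¹) * n * b := by rw [hn]; group
      _ = (n ^ k)⁻¹ * (n ^ k * n ^ k) * b := by rw [h2, h3]
      _ = n ^ k * b := by group
  rwa [mul_inv_eq_iff_eq_mul] at h4

variable [Finite X] (N B L : Subgroup X) [N.Normal]

theorem inf_eq_bot {N B : Subgroup X} (hN : Odd (Nat.card N)) (hB : IsPGroup 2 B) {x : X}
    (h1 : x ∈ N) (h2 : x ∈ B) : x = 1 := by
  haveI : Fact (Nat.Prime 2) := ⟨Nat.prime_two⟩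
  have ho := odd_orderOf_of_mem hN h1
  obtain ⟨k, hk⟩ := hB ⟨x, h2⟩
  have hk' : x ^ 2 ^ k = 1 := by
    have := congrArg Subtype.val hk
    simpa using this
  have h3 := orderOf_dvd_of_pow_eq_one hk'
  have h4 : Nat.Coprime (orderOf x) (2 ^ k) := Nat.Coprime.pow_right _ ((Nat.coprime_two_right).2 ho)
  have h5 := Nat.eq_one_of_dvd_coprimes h4 dvd_rfl h3
  exact orderOf_eq_one_iff.1 h5

theorem frattini (hN : Odd (Nat.card N)) (hB : IsPGroup 2 B)
    (hBN : ∀ g : X, ∀ b ∈ B, ∃ n ∈ N, ∃ b' ∈ B, g * b * g⁻¹ = n * b') (g : X) :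
    ∃ n ∈ N, ∀ b ∈ B, (n * g) * b * (n * g)⁻¹ ∈ B := by
  haveI : Fact (Nat.Prime 2) := ⟨Nat.prime_two⟩
  have hidx : ¬ 2 ∣ B.relIndex (B ⊔ N) := by
    have h1 : Nat.card B * B.relIndex (B ⊔ N) = Nat.card ((B ⊔ N : Subgroup X)) := by
      have := Subgroup.relIndex_mul_relIndex (⊥ : Subgroup X) B (B ⊔ N) bot_le le_sup_left
      rwa [Subgroup.relIndex_bot_left, Subgroup.relIndex_bot_left] at this
    have h2 : Nat.card N * N.relIndex (B ⊔ N) = Nat.card ((B ⊔ N : Subgroup X)) := by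
      have := Subgroup.relIndex_mul_relIndex (⊥ : Subgroup X) N (B ⊔ N) bot_le le_sup_right
      rwa [Subgroup.relIndex_bot_left, Subgroup.relIndex_bot_left] at this
    have h3 : N.relIndex (B ⊔ N) = N.relIndex B := Subgroup.relIndex_sup_right _ _
    obtain ⟨s, hs⟩ : N.relIndex B ∣ Nat.card B := Subgroup.relIndex_dvd_card _ _
    have h4 : 0 < N.relIndex B := by
      have : 0 < Nat.card B := Nat.card_pos
      rcases Nat.eq_zero_or_pos (N.relIndex B) with h | h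
      · rw [h, zero_mul] at hs; omega
      · exact h
    have h5 : s * B.relIndex (B ⊔ N) = Nat.card N := by
      apply Nat.eq_of_mul_eq_mul_left h4
      rw [← mul_assoc, ← hs, h1, ← h2, h3, mul_comm]
    intro h6
    have h7 : 2 ∣ Nat.card N := by rw [← h5]; exact dvd_mul_of_dvd_right h6 s
    exact (Nat.not_even_iff_odd.mpr hN) (even_iff_two_dvd.mpr h7)
  have hP : IsPGroup 2 (B.map (MulAut.conj g).toMonoidHom) := hB.map _
  have hPK : B.map (MulAut.conj g).toMonoidHom ≤ B ⊔ N := by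
    rintro _ ⟨b, hb, rfl⟩
    obtain ⟨n, hn, b', hb', h⟩ := hBN g b hb
    show g * b * g⁻¹ ∈ B ⊔ N
    rw [h]
    exact mul_mem (Subgroup.mem_sup_right hn) (Subgroup.mem_sup_left hb')
  obtain ⟨k, hk, hkP⟩ := Basic.rel_sylow le_sup_left hB hidx hPK hP
  rw [Subgroup.mem_sup_of_normal_right] at hk
  obtain ⟨b0, hb0, n, hn, rfl⟩ := hk
  refine ⟨n, hn, fun b hb => ?_⟩
  have h1 := hkP (g * b * g⁻¹) ⟨b, hb, rfl⟩
  have h2 : n * g * b * (n * g)⁻¹ = b0⁻¹ * (b0 * n * (g * b * g⁻¹) * (b0 * n)⁻¹) * b0 := by group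
  rw [h2]
  exact B.mul_mem (B.mul_mem (B.inv_mem hb0) h1) hb0

/-- the centralizer of `B N / N` -/
def Y : Subgroup X :=
  (Subgroup.centralizer ((B.map (QuotientGroup.mk' N) : Subgroup (X ⧸ N)) : Set (X ⧸ N))).comap
    (QuotientGroup.mk' N)

variable {N B L}

theorem mem_Y {y : X} : y ∈ Y N B ↔ ∀ b ∈ B, y * b * y⁻¹ * b⁻¹ ∈ N := by
  unfold Y
  rw [Subgroup.mem_comap, Subgroup.mem_centralizer_iff]
  constructor
  · intro h b hb
    have h1 := h _ (Subgroup.mem_map_of_mem _ hb)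
    rw [← map_mul, ← map_mul] at h1
    rw [← QuotientGroup.eq_one_iff]
    change (QuotientGroup.mk' N) (y * b * y⁻¹ * b⁻¹) = 1
    rw [map_mul, map_mul (QuotientGroup.mk' N) (y * b), ← h1, map_mul, map_inv, map_inv]
    group
  · rintro h _ ⟨b, hb, rfl⟩
    have h1 := h b hb
    rw [← QuotientGroup.eq_one_iff] at h1
    change (QuotientGroup.mk' N) (y * b * y⁻¹ * b⁻¹) = 1 at h1
    rw [map_mul, map_mul, map_mul, map_inv, map_inv, mul_inv_eq_one, mul_inv_eq_iff_eq_mul] at h1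
    exact h1.symm

theorem Y_normal (hBN : ∀ g : X, ∀ b ∈ B, ∃ n ∈ N, ∃ b' ∈ B, g * b * g⁻¹ = n * b') {y : X}
    (hy : y ∈ Y N B) (g : X) : g * y * g⁻¹ ∈ Y N B := by
  have hUn : (B.map (QuotientGroup.mk' N)).Normal := by
    constructor
    rintro _ ⟨b, hb, rfl⟩ x
    obtain ⟨x, rfl⟩ := QuotientGroup.mk'_surjective N x
    obtain ⟨n, hn, b', hb', h⟩ := hBN x b hb
    refine ⟨b', hb', ?_⟩
    rw [← map_mul, ← map_inv, ← map_mul, h, map_mul]
    have : (QuotientGroup.mk' N) n = 1 := (QuotientGroup.eq_one_iff n).2 hn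
    rw [this, one_mul]
  have : (Y N B).Normal := by
    unfold Y
    infer_instance
  exact this.conj_mem y hy g

theorem exists_cent (hN : Odd (Nat.card N)) (hB : IsPGroup 2 B)
    (hBN : ∀ g : X, ∀ b ∈ B, ∃ n ∈ N, ∃ b' ∈ B, g * b * g⁻¹ = n * b') {y : X}
    (hy : y ∈ Y N B) : ∃ n ∈ N, ∀ b ∈ B, (n * y) * b = b * (n * y) := by
  obtain ⟨n, hn, h⟩ := frattini N B hN hB hBN y
  refine ⟨n, hn, fun b hb => ?_⟩
  have h1 := B.mul_mem (h b hb) (B.inv_mem hb)
  have h2 : n * y ∈ Y N B := by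
    refine Subgroup.mul_mem _ ?_ hy
    rw [mem_Y]
    intro b hb
    have hnn : N.Normal := inferInstance
    have h3 := N.mul_mem hn (hnn.conj_mem _ (N.inv_mem hn) b)
    have h4 : n * (b * n⁻¹ * b⁻¹) = n * b * n⁻¹ * b⁻¹ := by group
    rwa [h4] at h3
  have h5 := inf_eq_bot hN hB (mem_Y.1 h2 b hb) h1
  rw [mul_inv_eq_one, mul_inv_eq_iff_eq_mul] at h5
  exact h5

structure LHyp (N B L : Subgroup X) : Prop where
  hN : Odd (Nat.card N)
  hB : IsPGroup 2 B
  hBN : ∀ g : X, ∀ b ∈ B, ∃ n ∈ N, ∃ b' ∈ B, g * b * g⁻¹ = n * b'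
  hL : ∀ l ∈ L, ∀ b ∈ B, l * b = b * l
  hLo : Odd (Nat.card L)
  hL2 : ∀ g : X, (∀ b ∈ B, g * b = b * g) → ∃ k : ℕ, g ^ (2 ^ k) ∈ L

namespace LHyp

variable (h : LHyp N B L)

include h

theorem mem_of_odd {y : X} (hy : y ∈ Y N B) (ho : Odd (orderOf y)) : y ∈ N ⊔ L := by
  obtain ⟨n, hn, hc⟩ := exists_cent h.hN h.hB h.hBN hy
  obtain ⟨k, hk⟩ := h.hL2 _ hc
  have hnn : N.Normal := inferInstance
  have h1 : (n⁻¹ * (n * y)) ^ (2 ^ k) * ((n * y) ^ (2 ^ k))⁻¹ ∈ N :=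
    pow_mul_inv_mem (N.inv_mem hn) (fun x hx => hnn.conj_mem x hx _) _
  rw [inv_mul_cancel_left] at h1
  have h2 : y ^ (2 ^ k) ∈ N ⊔ L := by
    have h3 := mul_mem (Subgroup.mem_sup_left (T := L) h1) (Subgroup.mem_sup_right (S := N) hk)
    rwa [inv_mul_cancel_right] at h3
  have h4 : Nat.Coprime (orderOf y) (2 ^ k) :=
    Nat.Coprime.pow_right _ ((Nat.coprime_two_right).2 ho)
  obtain ⟨m, hm⟩ := exists_pow_eq_self_of_coprime h4.symm
  rw [← hm]
  exact pow_mem h2 m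

theorem sup_le_Y : N ⊔ L ≤ Y N B := by
  refine sup_le ?_ ?_
  · intro n hn
    rw [mem_Y]
    intro b hb
    have hnn : N.Normal := inferInstance
    have h3 := N.mul_mem hn (hnn.conj_mem _ (N.inv_mem hn) b)
    have h4 : n * (b * n⁻¹ * b⁻¹) = n * b * n⁻¹ * b⁻¹ := by group
    rwa [h4] at h3
  · intro l hl
    rw [mem_Y]
    intro b hb
    rw [h.hL l hl b hb]
    have : b * l * l⁻¹ * b⁻¹ = 1 := by group
    rw [this]
    exact N.one_mem

theorem odd_sup : Odd (Nat.card ((N ⊔ L : Subgroup X))) := by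
  have h2 : Nat.card N * N.relIndex (L ⊔ N) = Nat.card ((L ⊔ N : Subgroup X)) := by
    have := Subgroup.relIndex_mul_relIndex (⊥ : Subgroup X) N (L ⊔ N) bot_le le_sup_right
    rwa [Subgroup.relIndex_bot_left, Subgroup.relIndex_bot_left] at this
  rw [sup_comm, ← h2, Subgroup.relIndex_sup_right]
  exact h.hN.mul (h.hLo.of_dvd_nat (Subgroup.relIndex_dvd_card _ _))

theorem normal_sup {y : X} (hy : y ∈ N ⊔ L) (g : X) : g * y * g⁻¹ ∈ N ⊔ L := by
  apply h.mem_of_odd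
  · exact Y_normal h.hBN (h.sup_le_Y hy) g
  · rw [TwoFusion.StronglyEmbeddedBasic.orderOf_conj]
    exact odd_orderOf_of_mem h.odd_sup hy

/-- cores of centralizers of involutions -/
theorem le_sup {t : X} (ht : t * t = 1) {R : Subgroup X} (hRt : ∀ r ∈ R, r * t = t * r)
    (hR : Odd (Nat.card R)) (hRn : ∀ g, g * t = t * g → ∀ r ∈ R, g * r * g⁻¹ ∈ R) :
    R ≤ N ⊔ L := by
  haveI : Fact (Nat.Prime 2) := ⟨Nat.prime_two⟩
  have hti : t⁻¹ = t := inv_eq_of_mul_eq_one_right ht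
  set π := QuotientGroup.mk' N with hπ
  have hUn : (B.map π).Normal := by
    constructor
    rintro _ ⟨b, hb, rfl⟩ x
    obtain ⟨x, rfl⟩ := QuotientGroup.mk'_surjective N x
    obtain ⟨n, hn, b', hb', h⟩ := h.hBN x b hb
    refine ⟨b', hb', ?_⟩
    rw [← map_mul, ← map_inv, ← map_mul, h, map_mul]
    have : π n = 1 := (QuotientGroup.eq_one_iff n).2 hn
    rw [this, one_mul]
  have hUtop : Subgroup.normalizer ((B.map π : Subgroup (X ⧸ N)) : Set (X ⧸ N)) = ⊤ :=
    Subgroup.normalizer_eq_top _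
  have hRm : Odd (Nat.card (R.map π)) := hR.of_dvd_nat (Subgroup.card_dvd_of_surjective (π.subgroupMap R) (π.subgroupMap_surjective R))
  have hU2 : IsPGroup 2 (B.map π) := h.hB.map _
  have key := Lib.ThompsonPQ.thompson_p_times_q 2 (Subgroup.zpowers (π t)) (R.map π) (B.map π)
    (by
      intro x
      obtain ⟨x, k, rfl⟩ := x
      refine ⟨1, Subtype.ext ?_⟩
      show ((π t) ^ k) ^ (2 ^ 1) = 1
      rw [pow_one, ← zpow_natCast, ← zpow_mul, mul_comm, zpow_mul, zpow_natCast, pow_two, ← map_mul,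
        ht, map_one, one_zpow])
    ((Nat.coprime_two_right).2 hRm) hU2
    (by
      rw [Subgroup.zpowers_le, Subgroup.mem_centralizer_iff]
      rintro _ ⟨r, hr, rfl⟩
      rw [← map_mul, hRt r hr, map_mul])
    (by rw [hUtop]; exact le_top) (by rw [hUtop]; exact le_top)
    (by
      rintro x ⟨⟨b, hb, rfl⟩, hx⟩
      rw [Subgroup.mem_centralizer_iff]
      have h1 := Subgroup.mem_centralizer_iff.1 hx (π t) (Subgroup.mem_zpowers _)
      have h2 : t * b * t⁻¹ * b⁻¹ ∈ N := by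
        rw [← QuotientGroup.eq_one_iff]
        change π (t * b * t⁻¹ * b⁻¹) = 1
        rw [map_mul, map_mul, map_mul, h1, map_inv, map_inv]
        group
      obtain ⟨s, hs, hst⟩ := fixed_lift h.hN ht h2
      rintro _ ⟨r, hr, rfl⟩
      have h3 : π (s * b) = π b := by
        have : π s = 1 := (QuotientGroup.eq_one_iff s).2 hs
        rw [map_mul, this, one_mul]
      rw [← h3]
      -- `[sb, r] ∈ R`, its image lies in `B`
      have h4 : (s * b) * r * (s * b)⁻¹ ∈ R := hRn _ hst.symm r hr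
      have h5 : π ((s * b) * r * (s * b)⁻¹ * r⁻¹) = 1 := by
        apply inf_eq_bot hRm hU2
        · exact Subgroup.mem_map_of_mem _ (R.mul_mem h4 (R.inv_mem hr))
        · have h6 : π (s * b) ∈ B.map π := by rw [h3]; exact Subgroup.mem_map_of_mem _ hb
          have h7 := (B.map π).mul_mem h6
            (hUn.conj_mem _ ((B.map π).inv_mem h6) (π r))
          have h8 : π (s * b) * (π r * (π (s * b))⁻¹ * (π r)⁻¹) =
              π ((s * b) * r * (s * b)⁻¹ * r⁻¹) := by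
            rw [map_mul π ((s * b) * r * (s * b)⁻¹), map_mul π ((s * b) * r), map_mul π (s * b),
              map_inv, map_inv]
            group
          rwa [h8] at h7
      rw [map_mul π ((s * b) * r * (s * b)⁻¹), map_mul π ((s * b) * r), map_mul π (s * b),
        map_inv, map_inv, mul_inv_eq_one, mul_inv_eq_iff_eq_mul] at h5
      exact h5.symm)
  intro r hr
  apply h.mem_of_odd
  · unfold Y
    rw [Subgroup.mem_comap]
    exact key (Subgroup.mem_map_of_mem _ hr)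
  · exact odd_orderOf_of_mem hR hr

end LHyp

end Abs

/-! ### model facts -/

section Model

open Cfsg.Agent.HSType.Model Cfsg.Agent.HSType.Facts Cfsg.Agent.HSType.FactsU
  Cfsg.Agent.HSType.FactsJ Cfsg.Agent.HSType.Spec

theorem Om_le_Q {x : SM} (hx : x ∈ Om) : x ∈ Q := by
  have hd : allLT 512 (fun a => imp (inOm a) (inQ a)) = true := by decide +kernel
  exact imp_spec (allLT_spec hd x.1 x.2) hx

theorem Om_le_Q' {x : SM} (hx : x ∈ Om) : x ∈ Q' := by
  have hd : allLT 512 (fun a => imp (inOm a) (inQ' a)) = true := by decide +kernel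
  exact imp_spec (allLT_spec hd x.1 x.2) hx

theorem Om_le_OmU {x : SM} (hx : x ∈ Om) : x ∈ OmU := ⟨Om_le_Q hx, Om_le_Q' hx⟩

theorem inv_OmU {x : SM} (hx : x ∈ OmU) (h : x * x = 1) : x ∈ Om := by
  have hd : allLT 512 (fun a => imp (inQ a) (imp (inQ' a) (imp (sqIs a 0) (inOm a)))) = true := by
    decide +kernel
  exact imp_spec (imp_spec (imp_spec (allLT_spec hd x.1 x.2) hx.1) hx.2) (sqIs_of (y := 1) h)

theorem exists_y {x : SM} (hx : x ∈ Q) (h : x * x = 1) :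
    ∃ y ∈ Q, y * y = 1 ∧ y ≠ 1 ∧ y ≠ z0 ∧ y * x = x * y ∧ y * a0 = a0 * y := by
  have hd : allLT 512 (fun a => imp (inQ a) (imp (sqIs a 0) (exLT 512 (fun y => andB (inQ y)
    (andB (sqIs y 0) (andB (beqB false (orB (Nat.beq y 0) (Nat.beq y 10)))
      (andB (com y a) (com y 2)))))))) = true := by decide +kernel
  obtain ⟨k, hk, h1⟩ := exLT_spec (imp_spec (imp_spec (allLT_spec hd x.1 x.2) hx)
    (sqIs_of (y := 1) h))
  obtain ⟨h2, h3⟩ := andB_spec h1
  obtain ⟨h4, h5⟩ := andB_spec h3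
  obtain ⟨h6, h7⟩ := andB_spec h5
  obtain ⟨h8, h9⟩ := andB_spec h7
  have h6' := beqB_spec h6
  refine ⟨⟨k, hk⟩, h2, of_sqIs (y := 1) h4, ?_, ?_, of_com h8, of_com (y := a0) h9⟩
  · intro e
    have e' : Nat.beq k 0 = true := beq_of_eq (x := ⟨k, hk⟩) (y := 1) e
    rw [e'] at h6'; exact Bool.false_ne_true h6'
  · intro e
    have e' : Nat.beq k 10 = true := beq_of_eq (x := ⟨k, hk⟩) (y := z0) e
    rw [e'] at h6'; revert h6'; cases Nat.beq k 0 <;> intro h6' <;> exact Bool.false_ne_true h6'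

theorem card_Om : Nat.card Om = 8 := by
  rw [card_sub Om inOm (fun x => Iff.rfl)]
  decide +kernel

end Model

/-! ### the theorem -/

universe u

open Cfsg.Agent.HSType.Model Cfsg.Agent.HSType.Facts Cfsg.Agent.HSType.FactsU
  Cfsg.Agent.HSType.FactsJ Cfsg.Agent.HSType.Basic Cfsg.Agent.HSType.Trans
  Cfsg.Agent.HSType.Spec Cfsg.Agent.HSType.JFus

section Main

variable {G : Type*} [Group G] [Finite G] (c : Ctx G)

/-- the conjugates of `z` -/
def DG (x : G) : Prop := ∃ g : G, g * x * g⁻¹ = c.ι z0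

theorem card_subgroupOf {N C : Subgroup G} (h : N ≤ C) : Nat.card (N.subgroupOf C) = Nat.card N :=
  Nat.card_congr (Subgroup.subgroupOfEquivOfLe h).toEquiv

/-- the odd part of `C_G(B)` -/
def LL (M : Subgroup G) (B : Subgroup SM) : Subgroup G :=
  Cz c ⊓ (Subgroup.centralizer ((B.map c.ι : Subgroup G) : Set G) ⊓ M)

variable {c}

theorem lhyp {M : Subgroup G} (hM : KN c M) {B : Subgroup SM} (hVB : V ≤ B) {N' : Subgroup G}
    (hN' : BN c B N') (hn : (N'.subgroupOf (Cz c)).Normal) :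
    LHyp (N'.subgroupOf (Cz c)) ((B.map c.ι).subgroupOf (Cz c)) ((LL c M B).subgroupOf (Cz c)) where
  hN := by rw [card_subgroupOf hN'.le]; exact hN'.odd
  hB := (c.isPGroup_map B).comap_of_injective _ (Cz c).subtype_injective
  hBN := by
    rintro g b ⟨x, hx, hxb⟩
    obtain ⟨n, hn, y, hy, h⟩ := hN'.mv g g.2 x hx
    refine ⟨⟨n, hN'.le hn⟩, hn, ⟨c.ι y, range_le_Cz c ⟨y, rfl⟩⟩, ⟨y, hy, rfl⟩, ?_⟩
    apply Subtype.ext
    show (g : G) * b * (g : G)⁻¹ = n * c.ι y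
    rw [← h, hxb]
    rfl
  hL := by
    intro l hl b hb
    apply Subtype.ext
    have h1 := Subgroup.mem_centralizer_iff.1 (Subgroup.mem_subgroupOf.1 hl).2.1 _
      (Subgroup.mem_subgroupOf.1 hb)
    exact h1.symm
  hLo := by
    have h1 : LL c M B ≤ Cz c := inf_le_left
    have h2 : LL c M B ≤ M := inf_le_right.trans inf_le_right
    rw [card_subgroupOf h1]
    exact hM.odd.of_dvd_nat (Subgroup.card_dvd_of_le h2)
  hL2 := by
    intro g hg
    have h1 : ∀ x ∈ B, (g : G) * c.ι x = c.ι x * g := by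
      intro x hx
      have h2 := hg ⟨c.ι x, range_le_Cz c ⟨x, rfl⟩⟩ ⟨x, hx, rfl⟩
      exact congrArg Subtype.val h2
    have h2 : (g : G) ∈ KV c := by
      rw [KNil.mem_KV]
      exact ⟨h1 z0 (hVB z0_mem_V), h1 a0 (hVB a0_mem_V)⟩
    obtain ⟨n, hn, r, hr, h3⟩ := hM.prod g h2
    refine ⟨9, ?_⟩
    rw [Subgroup.mem_subgroupOf]
    refine ⟨(g ^ 2 ^ 9).2, Subgroup.mem_centralizer_iff.2 ?_, ?_⟩
    · rintro _ ⟨x, hx, rfl⟩
      have h4 : Commute ((g : G)) (c.ι x) := h1 x hx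
      rw [Subgroup.coe_pow]
      exact (h4.pow_left _).eq.symm
    · rw [Subgroup.coe_pow, h3]
      have hrK : c.ι r ∈ KV c := by
        rw [KNil.mem_KV, ← map_mul, ← map_mul, ← map_mul, ← map_mul]
        rw [R2_cent hr z0_mem_V, R2_cent hr a0_mem_V]
        exact ⟨rfl, rfl⟩
      have h4 := pow_mul_inv_mem hn (hM.norm _ hrK) (2 ^ 9)
      have h5 : (c.ι r) ^ (2 ^ 9) = 1 := by
        rw [← map_pow]
        have : r ^ (2 ^ 9) = 1 := by
          have h6 : r ^ Nat.card SM = 1 := pow_card_eq_one'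
          rwa [card_SM] at h6
        rw [this, map_one]
      rwa [h5, inv_one, mul_one] at h4

/-- (ii) -/
theorem core_le {M : Subgroup G} (hM : KN c M) {B : Subgroup SM} (hVB : V ≤ B) {N' : Subgroup G}
    (hN' : BN c B N') {t : G} (ht : t * t = 1) (htC : t ∈ Cz c) {R : Subgroup G} (hRC : R ≤ Cz c)
    (hRt : ∀ r ∈ R, r * t = t * r) (hR : Odd (Nat.card R))
    (hRn : ∀ g ∈ Cz c, g * t = t * g → ∀ r ∈ R, g * r * g⁻¹ ∈ R) : R ≤ K (c.ι z0) := by
  have hn : (N'.subgroupOf (Cz c)).Normal := by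
    refine ⟨fun x hx g => ?_⟩
    rw [Subgroup.mem_subgroupOf] at hx ⊢
    exact hN'.norm g g.2 x hx
  have h := lhyp hM hVB hN' hn
  have h1 := h.le_sup (t := ⟨t, htC⟩) (Subtype.ext ht) (R := R.subgroupOf (Cz c))
    (fun r hr => Subtype.ext (hRt _ (Subgroup.mem_subgroupOf.1 hr)))
    (by rw [card_subgroupOf hRC]; exact hR)
    (by
      intro g hg r hr
      rw [Subgroup.mem_subgroupOf] at hr ⊢
      exact hRn g g.2 (congrArg Subtype.val hg) r hr)
  set W0 := (N'.subgroupOf (Cz c) ⊔ (LL c M B).subgroupOf (Cz c)).map (Cz c).subtype with hW0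
  have h2 : W0 ≤ K (c.ι z0) := by
    refine le_K (Subgroup.map_subtype_le _) ?_ ?_
    · rw [hW0, Subgroup.card_map_of_injective (Cz c).subtype_injective]
      exact h.odd_sup
    · rintro g hg _ ⟨y, hy, rfl⟩
      exact ⟨_, h.normal_sup hy ⟨g, hg⟩, rfl⟩
  intro r hr
  exact h2 ⟨⟨r, hRC hr⟩, h1 (Subgroup.mem_subgroupOf.2 hr), rfl⟩

/-- the balance hypothesis -/
def Bal (c : Ctx G) : Prop := ∀ x y : G, DG c x → DG c y → x * y = y * x → ∀ k ∈ K x,
  k * y = y * k → k ∈ K y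

theorem DG.conj {x : G} (h : DG c x) (g : G) : DG c (g * x * g⁻¹) := by
  obtain ⟨k, hk⟩ := h
  exact ⟨k * g⁻¹, by rw [← hk]; group⟩

theorem DG.sq {x : G} (h : DG c x) : x * x = 1 := by
  obtain ⟨g, hg⟩ := h
  apply conj_inj (g := g)
  rw [conj_map_mul, hg, ← map_mul, z0_sq, map_one, mul_one, mul_inv_cancel]

/-- (iii) -/
theorem bal {M : Subgroup G} (hM : KN c M) {B : Subgroup SM} (hVB : V ≤ B) {N' : Subgroup G}
    (hN' : BN c B N') : Bal c := by
  intro x y hx hy hxy k hk hky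
  obtain ⟨g, hg⟩ := hy
  set R : Subgroup G := (K x ⊓ Subgroup.centralizer {y}).map (MulAut.conj g).toMonoidHom with hR
  have hRm : ∀ r ∈ R, ∃ l ∈ K x, l * y = y * l ∧ r = g * l * g⁻¹ := by
    rintro _ ⟨l, ⟨hl1, hl2⟩, rfl⟩
    exact ⟨l, hl1, Subgroup.mem_centralizer_singleton_iff.1 hl2, rfl⟩
  have hRmem : ∀ l ∈ K x, l * y = y * l → g * l * g⁻¹ ∈ R := fun l h1 h2 =>
    ⟨l, ⟨h1, Subgroup.mem_centralizer_singleton_iff.2 h2⟩, rfl⟩
  have hcz : ∀ l : G, l * y = y * l → g * l * g⁻¹ ∈ Cz c := by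
    intro l hl
    rw [mem_Cz, mul_inv_eq_iff_eq_mul, ← hg, ← conj_map_mul, ← conj_map_mul, hl]
  have hcz' : ∀ h ∈ Cz c, (g⁻¹ * h * g) * y = y * (g⁻¹ * h * g) := by
    intro h hh
    apply conj_inj (g := g)
    rw [conj_map_mul g (g⁻¹ * h * g) y, conj_map_mul g y (g⁻¹ * h * g), hg]
    have h1 := (mem_Cz c).1 hh
    rw [mul_inv_eq_iff_eq_mul] at h1
    have h2 : g * (g⁻¹ * h * g) * g⁻¹ = h := by group
    rw [h2, h1]
  have h1 : R ≤ K (c.ι z0) := by
    refine core_le hM hVB hN' (t := g * x * g⁻¹) (DG.sq (DG.conj hx g)) (hcz x hxy) ?_ ?_ ?_ ?_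
    · intro r hr
      obtain ⟨l, hl, hly, rfl⟩ := hRm r hr
      exact hcz l hly
    · intro r hr
      obtain ⟨l, hl, hly, rfl⟩ := hRm r hr
      have h2 := Subgroup.mem_centralizer_singleton_iff.1 (K_le x hl)
      rw [← conj_map_mul, ← conj_map_mul, h2]
    · rw [hR, Subgroup.card_map_of_injective (MulAut.conj g).injective]
      exact (K_odd x).of_dvd_nat (Subgroup.card_dvd_of_le inf_le_left)
    · intro h hh hht r hr
      obtain ⟨l, hl, hly, rfl⟩ := hRm r hr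
      have h2 := hcz' h hh
      have h3 : (g⁻¹ * h * g) * x = x * (g⁻¹ * h * g) := by
        apply conj_inj (g := g)
        rw [conj_map_mul g (g⁻¹ * h * g) x, conj_map_mul g x (g⁻¹ * h * g)]
        have h4 : g * (g⁻¹ * h * g) * g⁻¹ = h := by group
        rw [h4, hht]
      have h5 : h * (g * l * g⁻¹) * h⁻¹ = g * ((g⁻¹ * h * g) * l * (g⁻¹ * h * g)⁻¹) * g⁻¹ := by
        group
      rw [h5]
      refine hRmem _ (K_conj (Subgroup.mem_centralizer_singleton_iff.2 h3) hl) ?_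
      have h6 : Commute (g⁻¹ * h * g) y := h2
      have h7 : Commute l y := hly
      exact ((h6.mul_left h7).mul_left h6.inv_left).eq
  have h2 := K_map g⁻¹ (c.ι z0) (h1 (hRmem k hk hky))
  have h3 : g⁻¹ * (g * k * g⁻¹) * g⁻¹⁻¹ = k := by group
  have h4 : g⁻¹ * c.ι z0 * g⁻¹⁻¹ = y := by rw [← hg]; group
  rwa [h3, h4] at h2

/-- (iv) -/
theorem K_le_W (hb : Bal c) {x v w : G} (hx : DG c x) (hv : DG c v) (hw : DG c w)
    (hvw' : DG c (v * w)) (hvw : v * w = w * v) (hxv : x * v = v * x) (hxw : x * w = w * x) :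
    K x ≤ K v ⊔ K w ⊔ K (v * w) := by
  have hn : ∀ y : G, x * y = y * x → ∀ h ∈ K x, y * h * y⁻¹ ∈ K x := fun y hy h hh =>
    K_conj (Subgroup.mem_centralizer_singleton_iff.2 hy.symm) hh
  refine Lib.KleinGen.le_of_klein (K x) _ (K_odd x) v w (DG.sq hv) (DG.sq hw) hvw (hn v hxv)
    (hn w hxw) ?_ ?_ ?_
  · rintro k ⟨h1, h2⟩
    exact Subgroup.mem_sup_left (Subgroup.mem_sup_left
      (hb x v hx hv hxv k h1 (Subgroup.mem_centralizer_singleton_iff.1 h2)))
  · rintro k ⟨h1, h2⟩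
    exact Subgroup.mem_sup_left (Subgroup.mem_sup_right
      (hb x w hx hw hxw k h1 (Subgroup.mem_centralizer_singleton_iff.1 h2)))
  · rintro k ⟨h1, h2⟩
    exact Subgroup.mem_sup_right
      (hb x (v * w) hx hvw' (by rw [← mul_assoc, hxv, mul_assoc, hxw, mul_assoc]) k h1
        (Subgroup.mem_centralizer_singleton_iff.1 h2))

end Main

/-- **(8a)** -/
theorem cores (hSF : SolvFun.{u}) (hFT : OddSolv.{u}) {G : Type u} [Group G] [Finite G] (c : Ctx G)
    {M : Subgroup G} (hM : KN c M) {B : Subgroup SM} (hB : B = OmU ∨ B = Q) {N' : Subgroup G}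
    (hN' : BN c B N') (hD : ∀ x ∈ B, x * x = 1 → x ≠ 1 → Dz c x) :
    ∃ W : Subgroup G, Odd (Nat.card W) ∧
      (∀ N : Subgroup G, N ≤ Cz c → Odd (Nat.card N) →
        (∀ g ∈ Cz c, ∀ n ∈ N, g * n * g⁻¹ ∈ N) → N ≤ W) ∧
      (∀ g ∈ Cz c, ∀ w ∈ W, g * w * g⁻¹ ∈ W) ∧
      (∀ g, Nm c J g → ∀ w ∈ W, g * w * g⁻¹ ∈ W) ∧ M ≤ W := by
  have hOmB : ∀ x ∈ Om, x ∈ B := by
    intro x hx
    rcases hB with rfl | rfl
    · exact Om_le_OmU hx
    · exact Om_le_Q hx
  have hVB : V ≤ B := fun x hx => hOmB x (V_le_Om hx)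
  have hb := bal hM hVB hN'
  have hDG : ∀ x ∈ B, x * x = 1 → x ≠ 1 → DG c (c.ι x) := hD
  have hOmD : ∀ x ∈ Om, x ≠ 1 → DG c (c.ι x) := fun x hx h1 =>
    hDG x (hOmB x hx) (mem_Om_iff.1 hx).2 h1
  have hinj1 : ∀ x : SM, c.ι x ≠ 1 → x ≠ 1 := by
    rintro x h rfl
    exact h (map_one _)
  have hOmc : ∀ x ∈ Om, ∀ y ∈ Om, x * y = y * x := fun x hx y hy =>
    comm_J (mem_Om_iff.1 hx).1 (mem_Om_iff.1 hy).1
  -- the signalizer functor theorem
  set W : Subgroup G := ⨆ a : {a : G // a ∈ Om.map c.ι ∧ a ≠ 1}, K (a : G) with hW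
  have hWodd : Odd (Nat.card W) := by
    have h1 := hSF G (Om.map c.ι) (fun a => K a) ?_ ?_ ?_ ?_ ?_ ?_ ?_ ?_
    · rwa [← Nat.not_even_iff_odd, even_iff_two_dvd]
    · rintro _ ⟨x, hx, rfl⟩ _ ⟨y, hy, rfl⟩
      rw [← map_mul, ← map_mul, hOmc x hx y hy]
    · rintro _ ⟨x, hx, rfl⟩
      rw [pow_two, ← map_mul, (mem_Om_iff.1 hx).2, map_one]
    · rw [c.card_map, card_Om]
      norm_num
    · intro a _ _
      exact K_le a
    · intro a _ _
      rw [← even_iff_two_dvd, Nat.not_even_iff_odd]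
      exact K_odd a
    · rintro _ ⟨x, hx, rfl⟩ _ _ ⟨y, hy, rfl⟩ k hk
      refine K_conj ?_ hk
      rw [Subgroup.mem_centralizer_singleton_iff, ← map_mul, ← map_mul, hOmc x hx y hy]
    · intro a _ _
      exact hFT _ (K_odd a)
    · rintro _ ⟨x, hx, rfl⟩ h1 _ ⟨y, hy, rfl⟩ h2 k ⟨hk, hk2⟩
      exact hb _ _ (hOmD x hx (hinj1 x h1)) (hOmD y hy (hinj1 y h2))
        (by rw [← map_mul, ← map_mul, hOmc x hx y hy]) k hk
        (Subgroup.mem_centralizer_singleton_iff.1 hk2)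
  have hOmW : ∀ x ∈ Om, x ≠ 1 → K (c.ι x) ≤ W := by
    intro x hx h1
    exact le_iSup (fun a : {a : G // a ∈ Om.map c.ι ∧ a ≠ 1} => K (a : G))
      ⟨c.ι x, ⟨x, hx, rfl⟩, fun e => h1 (c.inj (by rw [e, map_one]))⟩
  have hz0Om : z0 ∈ Om := V_le_Om z0_mem_V
  have ha0Om : a0 ∈ Om := V_le_Om a0_mem_V
  have ha1Om : z0 * a0 ∈ Om := Om.mul_mem hz0Om ha0Om
  have ha1 : z0 * a0 ≠ 1 := by
    intro e
    have h1 : a0 = z0 := by
      have h2 : z0 * a0 = z0 * z0 := by rw [e, z0_sq]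
      exact mul_left_cancel h2
    exact a0_ne_z0 h1
  have hzW := hOmW z0 hz0Om z0_ne_one
  -- `g` mapping `Om#` to itself normalizes `W`
  have hperm : ∀ g : G, (∀ x ∈ Om, x ≠ 1 → ∃ y ∈ Om, y ≠ 1 ∧ g * c.ι x * g⁻¹ = c.ι y) →
      ∀ w ∈ W, g * w * g⁻¹ ∈ W := by
    intro g hg
    have h1 : W ≤ W.comap (MulAut.conj g).toMonoidHom := by
      rw [hW]
      refine iSup_le ?_
      rintro ⟨_, ⟨x, hx, rfl⟩, hx1⟩ k hk
      obtain ⟨y, hy, hy1, h2⟩ := hg x hx (hinj1 x hx1)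
      rw [Subgroup.mem_comap]
      have h3 := K_map g (c.ι x) hk
      rw [h2] at h3
      exact hOmW y hy hy1 h3
    exact h1
  refine ⟨W, hWodd, ?_, ?_, ?_, ?_⟩
  · intro N h1 h2 h3
    exact (le_K h1 h2 h3).trans hzW
  · intro g hg w hw
    -- Frattini
    have hn : (N'.subgroupOf (Cz c)).Normal := by
      refine ⟨fun x hx g => ?_⟩
      rw [Subgroup.mem_subgroupOf] at hx ⊢
      exact hN'.norm g g.2 x hx
    have hl := lhyp hM hVB hN' hn
    obtain ⟨n, hnN, hnB⟩ := frattini _ _ hl.hN hl.hB hl.hBN ⟨g, hg⟩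
    rw [Subgroup.mem_subgroupOf] at hnN
    have hnB' : ∀ x ∈ B, ∃ y ∈ B, ((n : G) * g) * c.ι x * ((n : G) * g)⁻¹ = c.ι y := by
      intro x hx
      have h1 := hnB ⟨c.ι x, range_le_Cz c ⟨x, rfl⟩⟩ ⟨x, hx, rfl⟩
      obtain ⟨y, hy, hy'⟩ := Subgroup.mem_subgroupOf.1 h1
      exact ⟨y, hy, hy'.symm⟩
    set m : G := (n : G) * g with hm
    have hmC : m ∈ Cz c := (Cz c).mul_mem n.2 hg
    have hnK : (n : G) ∈ W := hzW (le_K hN'.le hN'.odd hN'.norm hnN)
    have hmW : ∀ w ∈ W, m * w * m⁻¹ ∈ W := by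
      have hinv : ∀ x : SM, x * x = 1 → x ≠ 1 → ∀ y : SM, m * c.ι x * m⁻¹ = c.ι y →
          y * y = 1 ∧ y ≠ 1 := by
        intro x hx hx1 y hy
        constructor
        · apply c.inj
          rw [map_mul, ← hy, ← conj_map_mul, ← map_mul, hx, map_one, mul_one, mul_inv_cancel]
        · rintro rfl
          apply hx1
          apply c.inj
          apply conj_inj (g := m)
          rw [hy, map_one, mul_one, mul_inv_cancel]
      rcases hB with hB | hB
      · -- `B = OmU`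
        apply hperm
        intro x hx hx1
        obtain ⟨y, hy, hxy⟩ := hnB' x (hOmB x hx)
        obtain ⟨hy2, hy1⟩ := hinv x (mem_Om_iff.1 hx).2 hx1 y hxy
        rw [hB] at hy
        exact ⟨y, inv_OmU hy hy2, hy1, hxy⟩
      · -- `B = Q`
        -- all `K x`, `x` an involution of `Q`, lie in `W`
        have hV3 : K (c.ι z0) ⊔ K (c.ι a0) ⊔ K (c.ι z0 * c.ι a0) ≤ W := by
          refine sup_le (sup_le hzW (hOmW a0 ha0Om a0_ne_one)) ?_
          rw [← map_mul]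
          exact hOmW _ ha1Om ha1
        have hzD : DG c (c.ι z0) := hOmD z0 hz0Om z0_ne_one
        have haD : DG c (c.ι a0) := hOmD a0 ha0Om a0_ne_one
        have hzaD : DG c (c.ι z0 * c.ι a0) := by
          rw [← map_mul]
          exact hOmD _ ha1Om ha1
        have hza : c.ι z0 * c.ι a0 = c.ι a0 * c.ι z0 := by rw [← map_mul, ← map_mul, z0_central]
        have hcz : ∀ x : SM, c.ι x * c.ι z0 = c.ι z0 * c.ι x := fun x => by
          rw [← map_mul, ← map_mul, z0_central]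
        have hQ1 : ∀ x : SM, x ∈ Q → x * x = 1 → x ≠ 1 → x * a0 = a0 * x → K (c.ι x) ≤ W := by
          intro x hx hx2 hx1 hxa
          refine (K_le_W hb (hDG x (by rw [hB]; exact hx) hx2 hx1) hzD haD hzaD hza (hcz x) ?_).trans
            hV3
          rw [← map_mul, ← map_mul, hxa]
        have hzQ : z0 ∈ Q := Om_le_Q hz0Om
        have hQ2 : ∀ x : SM, x ∈ Q → x * x = 1 → x ≠ 1 → K (c.ι x) ≤ W := by
          intro x hx hx2 hx1
          obtain ⟨y, hy, hy2, hy1, hyz, hyx, hya⟩ := exists_y hx hx2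
          have hzy2 : (z0 * y) * (z0 * y) = 1 := by
            calc (z0 * y) * (z0 * y) = z0 * (y * z0) * y := by group
              _ = (z0 * z0) * (y * y) := by rw [z0_central]; group
              _ = 1 := by rw [z0_sq, hy2, one_mul]
          have hzy1 : z0 * y ≠ 1 := by
            intro e
            apply hyz
            have h2 : z0 * y = z0 * z0 := by rw [e, z0_sq]
            exact mul_left_cancel h2
          have hzyQ : z0 * y ∈ Q := Q.mul_mem hzQ hy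
          refine (K_le_W hb (hDG x (by rw [hB]; exact hx) hx2 hx1) hzD
            (hDG y (by rw [hB]; exact hy) hy2 hy1) ?_ ?_ (hcz x) ?_).trans
            (sup_le (sup_le hzW (hQ1 y hy hy2 hy1 hya)) ?_)
          · rw [← map_mul]
            exact hDG _ (by rw [hB]; exact hzyQ) hzy2 hzy1
          · exact (hcz y).symm
          · rw [← map_mul, ← map_mul, hyx]
          · rw [← map_mul]
            refine hQ1 _ hzyQ hzy2 hzy1 ?_
            rw [mul_assoc, hya, ← mul_assoc, ← mul_assoc, z0_central]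
        have hWV : W ≤ K (c.ι z0) ⊔ K (c.ι a0) ⊔ K (c.ι z0 * c.ι a0) := by
          rw [hW]
          refine iSup_le ?_
          rintro ⟨_, ⟨x, hx, rfl⟩, hx1⟩
          refine K_le_W hb (hOmD x hx (hinj1 x hx1)) hzD haD hzaD hza (hcz x) ?_
          rw [← map_mul, ← map_mul, hOmc x hx a0 ha0Om]
        have h1 : W ≤ W.comap (MulAut.conj m).toMonoidHom := by
          refine hWV.trans (sup_le (sup_le ?_ ?_) ?_)
          · intro k hk
            have h3 := K_map m (c.ι z0) hk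
            rw [(mem_Cz c).1 hmC] at h3
            exact hzW h3
          · intro k hk
            have h3 := K_map m (c.ι a0) hk
            obtain ⟨y, hy, hxy⟩ := hnB' a0 (hOmB a0 ha0Om)
            obtain ⟨hy2, hy1⟩ := hinv a0 a0_sq a0_ne_one y hxy
            rw [hxy] at h3
            rw [hB] at hy
            exact hQ2 y hy hy2 hy1 h3
          · intro k hk
            rw [← map_mul] at hk
            have h3 := K_map m (c.ι (z0 * a0)) hk
            obtain ⟨y, hy, hxy⟩ := hnB' (z0 * a0) (hOmB _ ha1Om)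
            obtain ⟨hy2, hy1⟩ := hinv _ (mem_Om_iff.1 ha1Om).2 ha1 y hxy
            rw [hxy] at h3
            rw [hB] at hy
            exact hQ2 y hy hy2 hy1 h3
        exact h1
    have h2 := hmW w hw
    have h3 : g * w * g⁻¹ = (n : G)⁻¹ * (m * w * m⁻¹) * (n : G) := by
      rw [hm]
      group
    rw [h3]
    exact W.mul_mem (W.mul_mem (W.inv_mem hnK) h2) hnK
  · intro g hg
    apply hperm
    intro x hx hx1
    obtain ⟨y, hy, hxy⟩ := hg x (mem_Om_iff.1 hx).1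
    have hy2 : y * y = 1 := by
      apply c.inj
      rw [map_mul, ← hxy, ← conj_map_mul, ← map_mul, (mem_Om_iff.1 hx).2, map_one, mul_one,
        mul_inv_cancel]
    refine ⟨y, mem_Om_iff.2 ⟨hy, hy2⟩, ?_, hxy⟩
    rintro rfl
    apply hx1
    apply c.inj
    apply conj_inj (g := g)
    rw [hxy, map_one, mul_one, mul_inv_cancel]
  · have hKC : ∀ g ∈ KV c, g ∈ Cz c := by
      intro g hg
      rw [mem_Cz, mul_inv_eq_iff_eq_mul]
      exact ((KNil.mem_KV c).1 hg).1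
    refine (core_le hM hVB hN' (t := c.ι a0) ?_ (range_le_Cz c ⟨a0, rfl⟩)
      (fun m hm => hKC m (hM.le hm)) ?_ hM.odd ?_).trans hzW
    · rw [← map_mul, a0_sq, map_one]
    · intro m hm
      exact ((KNil.mem_KV c).1 (hM.le hm)).2
    · intro g hg hga m hm
      refine hM.norm g ((KNil.mem_KV c).2 ⟨?_, hga⟩) m hm
      have := (mem_Cz c).1 hg
      rwa [mul_inv_eq_iff_eq_mul] at this

end Cfsg.Agent.HSType.Cores
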