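import Mathlib
import Cfsg.Agent.HSType.OutB
import Cfsg.Agent.HSType.Cores
import Cfsg.Agent.HSType.LemmaH

/-!
# Main theorem of the analysis of simple groups with a Sylow 2-subgroup of HS type
-/

set_option autoImplicit false
set_option linter.style.haveILetI false

namespace Cfsg.Agent.HSType.Main

open Cfsg.Agent.HSType.Model Cfsg.Agent.HSType.Facts Cfsg.Agent.HSType.FactsU
  Cfsg.Agent.HSType.FactsJ Cfsg.Agent.HSType.FactsI Cfsg.Agent.HSType.Spec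
  Cfsg.Agent.HSType.Basic Cfsg.Agent.HSType.Trans Cfsg.Agent.HSType.JFus
  Cfsg.Agent.HSType.InvFusion Cfsg.Agent.HSType.Inv5 Cfsg.Agent.HSType.Inv5b
  Cfsg.Agent.HSType.Simple Cfsg.Agent.HSType.Lines Cfsg.Agent.HSType.Glue Cfsg.Agent.HSType.Out
  Cfsg.Agent.J2Sylow.Functor

universe u

/-- the structure of `C_G(z)` modulo its core -/
def StructHyp : Prop := ∀ (G : Type u) [Group G] [Finite G] (c : Ctx G), WJ c →
  ∀ N : Subgroup G, ZN c N → ∀ M : Subgroup G, KN c M →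
  ∀ B : Subgroup SM, (B = OmU ∨ B = Q) → (∀ x ∈ B, x * x = 1 → x ≠ 1 → x ≠ z0 → CC c x a0) →
  (∀ x ∈ B, ∀ y ∈ R1, CC c x y → y ∈ B) → ∃ N' : Subgroup G, BN c B N'

theorem inU_OmU (x : SM) (h : inU x.1 = true) : x ∈ OmU := ⟨U_le.1 x h, U_le.2 x h⟩

theorem OmU_inv {x : SM} (hx : x ∈ OmU) (h2 : x * x = 1) : x ∈ Om :=
  mem_Om_iff.mpr ⟨OmU_spec hx, h2⟩

theorem Om_le_OmU {x : SM} (hx : x ∈ Om) : x ∈ OmU := ⟨(Om_le_Q hx).1, (Om_le_Q hx).2⟩

theorem coreData {G : Type u} [Group G] [Finite G] (hSF : SolvFun.{u}) (hFT : OddSolv.{u})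
    (c : Ctx G) {M : Subgroup G} (hM : KN c M) {B : Subgroup SM} (hB : B = OmU ∨ B = Q)
    {N' : Subgroup G} (hN' : BN c B N') (hD : ∀ x ∈ B, x * x = 1 → x ≠ 1 → Dz c x) :
    ∃ W : Subgroup G, CoreData c M W := by
  obtain ⟨W, h1, h2, h3, h4, h5⟩ := Cores.cores hSF hFT c hM hB hN' hD
  exact ⟨W, h1, h2, h3, h4, h5⟩

/-- **Main theorem.** -/
theorem main {G : Type u} [Group G] [Finite G] [IsSimpleGroup G] (hSF : SolvFun.{u})
    (hFT : OddSolv.{u}) (hSt : StructHyp.{u}) (c : Ctx G) : Res c := by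
  have hU := UIsol.u_isolated c
  have ha := Dz_a0 c
  have hSw := swapV c ha
  have hJ := wJ c
  obtain ⟨N, hN⟩ := ZStar.exists_ZN c hU
  obtain ⟨M, hM⟩ := KNil.exists_KN c hSw hN
  rcases trichotomy c hU ha with h | ⟨h1, h2⟩ | ⟨h1, h2⟩
  · exact (not_V c h).elim
  · exfalso
    have hcl : ∀ x ∈ OmU, x * x = 1 → x ≠ 1 → x ≠ z0 → CC c x a0 := fun x hx hx2 hx1 hxz =>
      CC_Om c hSw h2 (OmU_inv hx hx2) hx1 hxz
    have hD : ∀ x ∈ OmU, x * x = 1 → x ≠ 1 → Dz c x := fun x hx hx2 hx1 =>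
      h2 x (OmU_inv hx hx2) hx1
    have hsc' := hsc c hN (B := OmU) inf_le_left inU_OmU hD
      (fun x hx hxD => Om_le_OmU (h1 x hxD))
    obtain ⟨N', hN'⟩ := hSt G c hJ N hN M hM OmU (Or.inl rfl) hcl hsc'
    obtain ⟨W, hW⟩ := coreData hSF hFT c hM (Or.inl rfl) hN' hD
    exact not_Om c hU hN h1 h2 hN' hW
  · have hD : ∀ x ∈ Q, x * x = 1 → x ≠ 1 → Dz c x := by
      intro x hx hx2 hx1
      by_cases hz : x = z0
      · rw [hz]; exact Dz_z0 c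
      · exact Dz_of_CC c (h1 x hx hx2 hx1 hz) ha
    have hsc' := hsc c hN (B := Q) le_rfl U_le.1 hD h2
    obtain ⟨N', hN'⟩ := hSt G c hJ N hN M hM Q (Or.inr rfl) h1 hsc'
    obtain ⟨W, hW⟩ := coreData hSF hFT c hM (Or.inr rfl) hN' hD
    have hWb := W_eq_bot c hU hN h1 h2 hW
    have hN'b : N' = ⊥ := by
      rw [eq_bot_iff, ← hWb]; exact hW.core N' hN'.le hN'.odd hN'.norm
    have hMb : M = ⊥ := by rw [eq_bot_iff, ← hWb]; exact hW.le
    refine ⟨hU, hSw, ha, ?_, h1, ?_⟩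
    · intro g hg x hx
      obtain ⟨n, hn, y, hy, hxy⟩ := hN'.mv g hg x hx
      rw [hN'b, Subgroup.mem_bot] at hn
      rw [hn, one_mul] at hxy
      exact ⟨y, hy, hxy⟩
    · apply le_antisymm
      · intro g hg
        obtain ⟨n, hn, r, hr, hgr⟩ := hM.prod g hg
        rw [hMb, Subgroup.mem_bot] at hn
        rw [hgr, hn, one_mul]
        exact Subgroup.mem_map_of_mem _ hr
      · exact KNil.map_R2_le c

end Cfsg.Agent.HSType.Main
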