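import Mathlib
import Cfsg.Agent.HSType.FactsJ

/-!
# Kernel-checked facts on the model group `SM`, for the structure of `C(u)/⟨u⟩`
-/

set_option autoImplicit false

namespace Cfsg.Agent.HSType.StructFacts

open Cfsg.Agent.HSType.Model Cfsg.Agent.HSType.Facts Cfsg.Agent.HSType.FactsU
  Cfsg.Agent.HSType.Spec Cfsg.Agent.HSType.FactsJ

/-- commutator code -/
def cmN (a b : Nat) : Nat := mulN (mulN (mulN a b) (invN a)) (invN b)

theorem cm_val (x y : SM) : (x * y * x⁻¹ * y⁻¹).1 = cmN x.1 y.1 := rfl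

/-- membership in `Ω₁(J)⟨u⟩` -/
def inOmU (a : Nat) : Bool := andB (inQ a) (inQ' a)

theorem mem_OmU {x : SM} : x ∈ OmU ↔ inOmU x.1 = true := by
  constructor
  · rintro ⟨h1, h2⟩
    exact andB_intro h1 h2
  · intro h
    exact ⟨(andB_spec h).1, (andB_spec h).2⟩

theorem mem_U {x : SM} : x ∈ U ↔ inU x.1 = true := Iff.rfl

theorem U_cases {x : SM} (h : x ∈ U) : x = 1 ∨ x = u0 ∨ x = z0 ∨ x = u0 * z0 := inU_spec h

theorem u0_mem_U : u0 ∈ U := (by decide +kernel : inU 37 = true)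
theorem z0_mem_U : z0 ∈ U := (by decide +kernel : inU 10 = true)

theorem U_le_OmU : U ≤ OmU := fun x hx => ⟨U_le.1 x hx, U_le.2 x hx⟩
theorem OmU_le_Q : OmU ≤ Q := inf_le_left
theorem OmU_le_Q' : OmU ≤ Q' := inf_le_right
theorem U_le_R1 : U ≤ R1 := fun _ hx => Q_le_R1 (U_le.1 _ hx)

theorem OmU_le_J : OmU ≤ J := by
  intro x hx
  have hd : allLT 512 (fun a => imp (inOmU a) (inJ a)) = true := by decide +kernel
  exact imp_spec (allLT_spec hd x.1 x.2) (mem_OmU.mp hx)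

theorem Q_inf_J {x : SM} (h1 : x ∈ Q) (h2 : x ∈ J) : x ∈ OmU := by
  have hd : allLT 512 (fun a => imp (inQ a) (imp (inJ a) (inOmU a))) = true := by decide +kernel
  exact mem_OmU.mpr (imp_spec (imp_spec (allLT_spec hd x.1 x.2) h1) h2)

theorem Q'_inf_J {x : SM} (h1 : x ∈ Q') (h2 : x ∈ J) : x ∈ OmU := by
  have hd : allLT 512 (fun a => imp (inQ' a) (imp (inJ a) (inOmU a))) = true := by decide +kernel
  exact mem_OmU.mpr (imp_spec (imp_spec (allLT_spec hd x.1 x.2) h1) h2)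

theorem card_OmU : Nat.card OmU = 16 := by
  rw [card_sub OmU inOmU (fun _ => mem_OmU)]; decide +kernel

theorem card_U : Nat.card U = 4 := by
  rw [card_sub U inU (fun _ => Iff.rfl)]; decide +kernel

/-- `Ω₁(J)⟨u⟩` is central in `R1` modulo `⟨u⟩` -/
theorem cm_OmU {t a : SM} (ht : t ∈ R1) (ha : a ∈ OmU) : t * a * t⁻¹ * a⁻¹ ∈ U := by
  have hd : allLT 64 (fun a => imp (inOmU a) (allLT 512 (fun t => imp (inR1 t)
    (inU (cmN t a))))) = true := by decide +kernel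
  have h1 : a.1 < 64 := Nat.le_of_ble_eq_true (OmU_le_J ha)
  exact imp_spec (allLT_spec (imp_spec (allLT_spec hd a.1 h1) (mem_OmU.mp ha)) t.1 t.2)
    (mem_R1.mp ht)

theorem k1 {t a : SM} (ha : a ∈ Q) (haO : a ∉ OmU) (ht : t ∈ R1) (h : t * a * t⁻¹ * a⁻¹ ∈ U) :
    t ∈ Q := by
  have hd : allLT 512 (fun a => imp (inQ a) (orB (inOmU a) (allLT 512 (fun t => imp (inR1 t)
    (imp (inU (cmN t a)) (inQ t)))))) = true := by decide +kernel
  rcases orB_spec (imp_spec (allLT_spec hd a.1 a.2) ha) with h1 | h1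
  · exact absurd (mem_OmU.mpr h1) haO
  · exact imp_spec (imp_spec (allLT_spec h1 t.1 t.2) (mem_R1.mp ht)) h

theorem k2 {t a : SM} (ha : a ∈ Q') (haO : a ∉ OmU) (ht : t ∈ R1) (h : t * a * t⁻¹ * a⁻¹ ∈ U) :
    t ∈ Q' := by
  have hd : allLT 512 (fun a => imp (inQ' a) (orB (inOmU a) (allLT 512 (fun t => imp (inR1 t)
    (imp (inU (cmN t a)) (inQ' t)))))) = true := by decide +kernel
  rcases orB_spec (imp_spec (allLT_spec hd a.1 a.2) ha) with h1 | h1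
  · exact absurd (mem_OmU.mpr h1) haO
  · exact imp_spec (imp_spec (allLT_spec h1 t.1 t.2) (mem_R1.mp ht)) h

theorem cm_QQ' {x y : SM} (hx : x ∈ Q) (hy : y ∈ Q') : x * y * x⁻¹ * y⁻¹ ∈ OmU := by
  have hd : allLT 512 (fun a => imp (inQ a) (allLT 512 (fun b => imp (inQ' b)
    (inOmU (cmN a b))))) = true := by decide +kernel
  exact mem_OmU.mpr (imp_spec (allLT_spec (imp_spec (allLT_spec hd x.1 x.2) hx) y.1 y.2) hy)

/-- every element of `Ω₁(J)⟨u⟩` is a commutator modulo `⟨u⟩` -/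
theorem exists_cm {w : SM} (hw : w ∈ OmU) : ∃ x ∈ Q, ∃ y ∈ Q', (x * y * x⁻¹ * y⁻¹)⁻¹ * w ∈ U := by
  have hd : allLT 64 (fun w => imp (inOmU w) (exLT 512 (fun a => andB (inQ a) (exLT 512 (fun b =>
    andB (inQ' b) (inU (mulN (invN (cmN a b)) w))))))) = true := by decide +kernel
  have h1 : w.1 < 64 := Nat.le_of_ble_eq_true (OmU_le_J hw)
  obtain ⟨k, hk, h2⟩ := exLT_spec (imp_spec (allLT_spec hd w.1 h1) (mem_OmU.mp hw))
  obtain ⟨h3, h4⟩ := andB_spec h2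
  obtain ⟨l, hl, h5⟩ := exLT_spec h4
  obtain ⟨h6, h7⟩ := andB_spec h5
  exact ⟨⟨k, hk⟩, h3, ⟨l, hl⟩, h6, h7⟩

/-- `R1 = Q J = Q' J` -/
theorem exists_QJ {a : SM} (ha : a ∈ R1) : ∃ q ∈ Q, ∃ j ∈ J, a = q * j := by
  have hd : allLT 512 (fun a => imp (inR1 a) (exLT 512 (fun q => andB (inQ q)
    (inJ (mulN (invN q) a))))) = true := by decide +kernel
  obtain ⟨k, hk, h2⟩ := exLT_spec (imp_spec (allLT_spec hd a.1 a.2) (mem_R1.mp ha))
  obtain ⟨h3, h4⟩ := andB_spec h2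
  exact ⟨⟨k, hk⟩, h3, (⟨k, hk⟩ : SM)⁻¹ * a, h4, by group⟩

theorem exists_Q'J {a : SM} (ha : a ∈ R1) : ∃ q ∈ Q', ∃ j ∈ J, a = q * j := by
  have hd : allLT 512 (fun a => imp (inR1 a) (exLT 512 (fun q => andB (inQ' q)
    (inJ (mulN (invN q) a))))) = true := by decide +kernel
  obtain ⟨k, hk, h2⟩ := exLT_spec (imp_spec (allLT_spec hd a.1 a.2) (mem_R1.mp ha))
  obtain ⟨h3, h4⟩ := andB_spec h2
  exact ⟨⟨k, hk⟩, h3, (⟨k, hk⟩ : SM)⁻¹ * a, h4, by group⟩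

theorem Q_ne_Q' : ¬ Q ≤ Q' := by
  intro h
  have hd : exLT 512 (fun a => andB (inQ a) (beqB (inQ' a) false)) = true := by decide +kernel
  obtain ⟨k, hk, h2⟩ := exLT_spec hd
  obtain ⟨h3, h4⟩ := andB_spec h2
  have h5 : inQ' k = true := h (show (⟨k, hk⟩ : SM) ∈ Q from h3)
  rw [beqB_spec h4] at h5
  exact Bool.false_ne_true h5

theorem Q_normal {g x : SM} (hx : x ∈ Q) : g * x * g⁻¹ ∈ Q := by
  have hd : allLT 512 (fun g => allLT 512 (fun a => imp (inQ a)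
    (inQ (mulN (mulN g a) (invN g))))) = true := by decide +kernel
  exact imp_spec (allLT_spec (allLT_spec hd g.1 g.2) x.1 x.2) hx

theorem Q'_normal {g x : SM} (hx : x ∈ Q') : g * x * g⁻¹ ∈ Q' := by
  have hd : allLT 512 (fun g => allLT 512 (fun a => imp (inQ' a)
    (inQ' (mulN (mulN g a) (invN g))))) = true := by decide +kernel
  exact imp_spec (allLT_spec (allLT_spec hd g.1 g.2) x.1 x.2) hx

theorem OmU_normal {g x : SM} (hx : x ∈ OmU) : g * x * g⁻¹ ∈ OmU :=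
  ⟨Q_normal hx.1, Q'_normal hx.2⟩

theorem R1_normal {g x : SM} (hx : x ∈ R1) : g * x * g⁻¹ ∈ R1 := by
  have hd : allLT 512 (fun g => allLT 512 (fun a => imp (inR1 a)
    (inR1 (mulN (mulN g a) (invN g))))) = true := by decide +kernel
  exact mem_R1.mpr (imp_spec (allLT_spec (allLT_spec hd g.1 g.2) x.1 x.2) (mem_R1.mp hx))

theorem sq_OmU {x : SM} (hx : x ∈ OmU) : x * x ∈ U := by
  rcases sq_Q hx.1 with h | h
  · rw [h]; exact one_mem _
  · rw [h]; exact z0_mem_U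

theorem sq_Q_U {x : SM} (hx : x ∈ Q) : x * x ∈ U := by
  rcases sq_Q hx with h | h
  · rw [h]; exact one_mem _
  · rw [h]; exact z0_mem_U

theorem sq_Q'_U {x : SM} (hx : x ∈ Q') : x * x ∈ U := by
  rcases sq_Q' hx with h | h
  · rw [h]; exact one_mem _
  · rw [h]; exact z0_mem_U

theorem u0_comm {x : SM} (hx : x ∈ R1) : x * u0 = u0 * x :=
  Subgroup.mem_centralizer_singleton_iff.mp hx

/-- an element of `R1` moving `a` to `a z` -/
theorem exists_r : ∃ r ∈ R1, r * a0 * r⁻¹ = a0 * z0 := by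
  have hd : exLT 512 (fun r => andB (inR1 r) (Nat.beq (mulN r 2) (mulN (mulN 2 10) r))) = true := by
    decide +kernel
  obtain ⟨k, hk, h2⟩ := exLT_spec hd
  obtain ⟨h3, h4⟩ := andB_spec h2
  refine ⟨⟨k, hk⟩, mem_R1.mpr h3, ?_⟩
  rw [mul_inv_eq_iff_eq_mul]
  exact SM.ext (eq_of_beq h4)

/-- an element of `R2` inverting `u` -/
theorem exists_s : ∃ s ∈ R2, s * u0 * s⁻¹ = u0 * z0 := by
  have hd : exLT 512 (fun r => andB (inR2 r) (Nat.beq (mulN r 37) (mulN (mulN 37 10) r))) = true := by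
    decide +kernel
  obtain ⟨k, hk, h2⟩ := exLT_spec hd
  obtain ⟨h3, h4⟩ := andB_spec h2
  refine ⟨⟨k, hk⟩, mem_R2.mpr h3, ?_⟩
  rw [mul_inv_eq_iff_eq_mul]
  exact SM.ext (eq_of_beq h4)

theorem a0_mem_OmU : a0 ∈ OmU := mem_OmU.mpr (by decide +kernel : inOmU 2 = true)
theorem a0_not_mem_U : a0 ∉ U := by
  intro h
  have h1 : inU 2 = true := h
  exact absurd h1 (by decide +kernel)

end Cfsg.Agent.HSType.StructFacts
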