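import Mathlib
import Cfsg.Agent.HSType.KNil

/-!
# Tools for the application of Lemma H
-/

set_option autoImplicit false

namespace Cfsg.Agent.HSType.StructTools

open Subgroup Cfsg.Agent.HSType.Basic Cfsg.Agent.HSType.KNil

section gen

variable {X : Type*} [Group X]

/-- factorisation of `N U`, `U` normalising `N` -/
theorem mem_sup_fac {N U : Subgroup X} (h : ∀ u ∈ U, ∀ x ∈ N, u * x * u⁻¹ ∈ N) {x : X}
    (hx : x ∈ N ⊔ U) : ∃ a ∈ N, ∃ b ∈ U, x = a * b := by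
  let M : Subgroup X :=
    { carrier := {x | ∃ a ∈ N, ∃ b ∈ U, x = a * b}
      one_mem' := ⟨1, one_mem _, 1, one_mem _, by group⟩
      mul_mem' := by
        rintro _ _ ⟨a, ha, b, hb, rfl⟩ ⟨a', ha', b', hb', rfl⟩
        exact ⟨a * (b * a' * b⁻¹), mul_mem ha (h b hb a' ha'), b * b', mul_mem hb hb', by group⟩
      inv_mem' := by
        rintro _ ⟨a, ha, b, hb, rfl⟩
        refine ⟨b⁻¹ * a⁻¹ * b⁻¹⁻¹, h _ (inv_mem hb) _ (inv_mem ha), b⁻¹, inv_mem hb, by group⟩ }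
  have h1 : N ⊔ U ≤ M := sup_le (fun a ha => ⟨a, ha, 1, one_mem _, by group⟩)
    (fun b hb => ⟨1, one_mem _, b, hb, by group⟩)
  exact h1 hx

theorem zpowers_conj_mem [Finite X] {N : Subgroup X} {u : X} (huN : ∀ x ∈ N, u * x * u⁻¹ ∈ N) :
    ∀ v ∈ zpowers u, ∀ x ∈ N, v * x * v⁻¹ ∈ N := by
  intro v hv x hx
  have h1 : zpowers u ≤ normalizer (N : Set X) := by
    rw [zpowers_le]
    exact mem_normalizer_of_forall huN
  exact conj_mem_of_mem_normalizer (h1 hv) hx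

/-- the core of a quotient by a central 2-subgroup. -/
theorem core_lift [Finite X] (U : Subgroup X) [U.Normal] (hU : ∀ x ∈ U, ∀ y : X, y * x = x * y)
    (hU2 : IsPGroup 2 U) {g : X} (hg : (QuotientGroup.mk' U g) ∈ Cfsg.oddCore (X ⧸ U)) :
    ∃ k ∈ Cfsg.oddCore X, ∃ w ∈ U, g = k * w := by
  have : Fact (Nat.Prime 2) := ⟨Nat.prime_two⟩
  have hOn : (Cfsg.oddCore (X ⧸ U)).Normal := Lib.Cores.pPrimeCore_normal (G := X ⧸ U) 2
  have hOc := Lib.Cores.pPrimeCore_coprime (G := X ⧸ U) 2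
  set Y : Subgroup X := (Cfsg.oddCore (X ⧸ U)).comap (QuotientGroup.mk' U) with hY
  have hYn : Y.Normal := hOn.comap _
  have hUY : U ≤ Y := by
    intro x hx
    rw [hY, mem_comap]
    have : QuotientGroup.mk' U x = 1 := (QuotientGroup.eq_one_iff x).mpr hx
    rw [this]
    exact one_mem _
  have hrel : ¬ 2 ∣ U.relIndex Y := by
    have h1 : U.relIndex Y = Nat.card (Cfsg.oddCore (X ⧸ U)) := by
      have h2 := relIndex_ker Y (QuotientGroup.mk' U)
      rw [QuotientGroup.ker_mk'] at h2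
      rw [h2, hY, map_comap_eq_self_of_surjective (QuotientGroup.mk'_surjective U)]
    rw [h1]
    exact (Nat.Prime.coprime_iff_not_dvd Nat.prime_two).mp hOc.symm
  obtain ⟨L, hLY, hLodd, -, hodd, hfac⟩ := burnside_gen hU2 hUY hrel
    (fun r _ _ a ha => by rw [hU a ha r, mul_inv_cancel_right])
  have hLn : L.Normal := by
    refine ⟨fun l hl h => hodd _ (hYn.conj_mem l (hLY hl) h) ?_⟩
    have h1 : orderOf (h * l * h⁻¹) = orderOf l :=
      orderOf_injective (MulAut.conj h).toMonoidHom (MulAut.conj h).injective l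
    rw [h1]
    exact Odd.of_dvd_nat hLodd (Subgroup.orderOf_dvd_natCard L hl)
  have hLO : L ≤ Cfsg.oddCore X := by
    apply le_sSup
    exact ⟨hLn, Nat.coprime_two_right.mpr hLodd⟩
  obtain ⟨l, hl, a, ha, hg'⟩ := hfac g hg
  exact ⟨l, hLO hl, a, ha, hg'⟩

/-- a 2-element `n u`, with `n` in an odd group normalised by the 2-element `u`, is conjugate to
`u`. -/
theorem conj_of_mul [Finite X] {N : Subgroup X} (hN : ¬ 2 ∣ Nat.card N) {u w n : X} (hn : n ∈ N)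
    (huN : ∀ x ∈ N, u * x * u⁻¹ ∈ N) (hw : w = n * u) {m m' : ℕ} (hu2 : u ^ (2 ^ m) = 1)
    (hw2 : w ^ (2 ^ m') = 1) : ∃ k ∈ N, k * w * k⁻¹ = u := by
  have : Fact (Nat.Prime 2) := ⟨Nat.prime_two⟩
  have hp : ∀ {x : X} {m : ℕ}, x ^ (2 ^ m) = 1 → IsPGroup 2 (zpowers x) := by
    intro x m hx
    obtain ⟨j, -, hj⟩ := (Nat.dvd_prime_pow Nat.prime_two).mp (orderOf_dvd_of_pow_eq_one hx)
    rw [IsPGroup.iff_card]
    exact ⟨j, by rw [Nat.card_zpowers, hj]⟩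
  have hup := hp hu2
  have hwp := hp hw2
  -- factorisation of `N ⊔ ⟨u⟩`
  have hfac : ∀ x ∈ N ⊔ zpowers u, ∃ a ∈ N, ∃ b ∈ zpowers u, x = a * b := fun x hx =>
    mem_sup_fac (zpowers_conj_mem huN) hx
  have hinf' : ∀ P : Subgroup X, IsPGroup 2 P → ∀ x ∈ N, x ∈ P → x = 1 := by
    intro P hP x hx hxu
    obtain ⟨j, hj⟩ := hP ⟨x, hxu⟩
    have h1 : x ^ (2 ^ j) = 1 := congrArg Subtype.val hj
    have h2 : orderOf x ∣ 2 ^ j := orderOf_dvd_of_pow_eq_one h1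
    have h3 : orderOf x ∣ Nat.card N := Subgroup.orderOf_dvd_natCard N hx
    have h4 : (2 ^ j).Coprime (Nat.card N) :=
      Nat.Coprime.pow_left j ((Nat.Prime.coprime_iff_not_dvd Nat.prime_two).2 hN)
    exact orderOf_eq_one_iff.1 (Nat.eq_one_of_dvd_coprimes h4 h2 h3)
  have hinf := hinf' (zpowers u) hup
  have hidx : ¬ 2 ∣ (zpowers u).relIndex (N ⊔ zpowers u) := by
    have h1 : IsPGroup 2 ((zpowers u).subgroupOf (N ⊔ zpowers u)) :=
      hup.comap_of_injective _ (N ⊔ zpowers u).subtype_injective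
    obtain ⟨S, hS⟩ := h1.exists_le_sylow
    have h2 : (zpowers u).subgroupOf (N ⊔ zpowers u) = (S : Subgroup ↥(N ⊔ zpowers u)) := by
      refine le_antisymm hS ?_
      intro x hx
      obtain ⟨a, ha, b, hb, hab⟩ := hfac x x.2
      have h3 : (⟨b, mem_sup_right hb⟩ : ↥(N ⊔ zpowers u)) ∈ S := hS (mem_subgroupOf.mpr hb)
      have h4 : x * (⟨b, mem_sup_right hb⟩ : ↥(N ⊔ zpowers u))⁻¹ ∈ (S : Subgroup _) :=
        mul_mem hx (inv_mem h3)
      have h5 : a = 1 := hinf' ((S : Subgroup ↥(N ⊔ zpowers u)).map (N ⊔ zpowers u).subtype)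
        (S.2.map _) a ha ⟨_, h4, by
          show (x : X) * b⁻¹ = a
          rw [hab, mul_inv_cancel_right]⟩
      rw [mem_subgroupOf, hab, h5, one_mul]
      exact hb
    unfold Subgroup.relIndex
    rw [h2]
    exact S.not_dvd_index
  obtain ⟨k, hk, hkw⟩ := rel_sylow (K := N ⊔ zpowers u) (R0 := zpowers u) le_sup_right hup hidx
    (P := zpowers w) (by
      rw [zpowers_le, hw]
      exact mul_mem (mem_sup_left hn) (mem_sup_right (mem_zpowers u))) hwp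
  have h1 := hkw w (mem_zpowers w)
  -- write `k⁻¹ = a b`
  obtain ⟨a, ha, b, hb, hab⟩ := hfac k⁻¹ (inv_mem hk)
  have hk' : k = b⁻¹ * a⁻¹ := by rw [← mul_inv_rev, ← hab, inv_inv]
  have h2 : a⁻¹ * w * a⁻¹⁻¹ ∈ zpowers u := by
    have h3 : a⁻¹ * w * a⁻¹⁻¹ = b * (k * w * k⁻¹) * b⁻¹ := by rw [hk']; group
    rw [h3]
    exact mul_mem (mul_mem hb h1) (inv_mem hb)
  refine ⟨a⁻¹, inv_mem ha, ?_⟩
  have h3 : a⁻¹ * w * a⁻¹⁻¹ * u⁻¹ ∈ N := by
    rw [hw]
    have h4 : a⁻¹ * (n * u) * a⁻¹⁻¹ * u⁻¹ = a⁻¹ * n * (u * a * u⁻¹) := by group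
    rw [h4]
    exact mul_mem (mul_mem (inv_mem ha) hn) (huN a ha)
  have h4 := hinf _ h3 (mul_mem h2 (inv_mem (mem_zpowers u)))
  rwa [mul_inv_eq_one] at h4

end gen

end Cfsg.Agent.HSType.StructTools
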