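import Mathlib
import Cfsg.Agent.HSType.KNil
import Cfsg.Agent.HSType.StructTools
import Cfsg.Agent.HSType.StructFacts

/-!
# The quotient `C_G(u)/⟨u⟩` and its Sylow 2-subgroup
-/

set_option autoImplicit false
set_option maxHeartbeats 400000

namespace Cfsg.Agent.HSType.StructQ

open Subgroup Cfsg.Agent.HSType.Model Cfsg.Agent.HSType.Facts Cfsg.Agent.HSType.FactsU
  Cfsg.Agent.HSType.Basic Cfsg.Agent.HSType.Trans Cfsg.Agent.HSType.Spec
  Cfsg.Agent.HSType.StructFacts Cfsg.Agent.HSType.StructTools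

universe u

variable {G : Type u} [Group G] (c : Ctx G)

/-- `C_G(u)` -/
abbrev CU : Subgroup G := centralizer ({c.ι u0} : Set G)

theorem mem_CU {g : G} : g ∈ CU c ↔ g * c.ι u0 * g⁻¹ = c.ι u0 := by
  rw [mem_centralizer_singleton_iff, mul_inv_eq_iff_eq_mul]

theorem CU_le_Cz : CU c ≤ Cz c := by
  intro g hg
  rw [mem_Cz, ← u0_sq, map_mul, conj_map_mul, (mem_CU c).mp hg]

theorem ι_mem_CU {x : SM} (hx : x ∈ R1) : c.ι x ∈ CU c := by
  rw [mem_CU, mul_inv_eq_iff_eq_mul, ← map_mul, ← map_mul, u0_comm hx]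

/-- `⟨u⟩` in `C(u)` -/
def UU : Subgroup (CU c) := (U.map c.ι).subgroupOf (CU c)

theorem mem_UU {g : CU c} : g ∈ UU c ↔ ∃ w ∈ U, c.ι w = g := by
  rw [UU, mem_subgroupOf, mem_map]

theorem UU_central : ∀ x ∈ UU c, ∀ y : CU c, y * x = x * y := by
  intro x hx y
  obtain ⟨w, hw, hwx⟩ := (mem_UU c).mp hx
  apply Subtype.ext
  show (y : G) * x = x * y
  rw [← hwx]
  have h1 : (y : G) * c.ι u0 = c.ι u0 * y := mem_centralizer_singleton_iff.mp y.2
  have h2 : (y : G) * c.ι z0 = c.ι z0 * y := by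
    rw [← u0_sq, map_mul, ← mul_assoc, h1, mul_assoc, h1, ← mul_assoc]
  rcases U_cases hw with rfl | rfl | rfl | rfl
  · rw [map_one, mul_one, one_mul]
  · exact h1
  · exact h2
  · rw [map_mul, ← mul_assoc, h1, mul_assoc, h2, ← mul_assoc]

instance UU_normal : (UU c).Normal := ⟨fun x hx g => by
  rw [UU_central c x hx g, mul_inv_cancel_right]; exact hx⟩

theorem UU_pgroup : IsPGroup 2 (UU c) :=
  (c.isPGroup_map U).comap_of_injective (CU c).subtype (CU c).subtype_injective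

/-- the quotient -/
abbrev HH : Type u := CU c ⧸ UU c

/-- the projection -/
abbrev pr : CU c →* HH c := QuotientGroup.mk' (UU c)

theorem pr_surj : Function.Surjective (pr c) := QuotientGroup.mk'_surjective _

theorem pr_eq_one {g : CU c} : pr c g = 1 ↔ ∃ w ∈ U, c.ι w = g := by
  rw [← mem_UU]; exact QuotientGroup.eq_one_iff g

/-- the homomorphism `R1 → C(u)` -/
def fc : R1 →* CU c := (c.ι.comp R1.subtype).codRestrict (CU c) (fun x => ι_mem_CU c x.2)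

theorem fc_coe (x : R1) : (fc c x : G) = c.ι x := rfl

/-- the homomorphism `R1 → C(u)/⟨u⟩` -/
def ff : R1 →* HH c := (pr c).comp (fc c)

theorem ff_apply (x : R1) : ff c x = pr c (fc c x) := rfl

theorem ff_eq_one {x : R1} : ff c x = 1 ↔ (x : SM) ∈ U := by
  rw [ff_apply, pr_eq_one]
  constructor
  · rintro ⟨w, hw, h⟩
    rw [fc_coe] at h
    rwa [← c.inj h]
  · intro h; exact ⟨x, h, rfl⟩

/-- the subgroup of the quotient -/
def bar (X : Subgroup SM) : Subgroup (HH c) := (X.subgroupOf R1).map (ff c)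

theorem pr_mem_bar {X : Subgroup SM} (hU : U ≤ X) (hX : X ≤ R1) {g : CU c} :
    pr c g ∈ bar c X ↔ ∃ x ∈ X, c.ι x = g := by
  constructor
  · rintro ⟨x, hx, hxg⟩
    have h1 : pr c ((fc c x)⁻¹ * g) = 1 := by
      rw [map_mul, map_inv, ← hxg, ff_apply]
      exact inv_mul_cancel _
    obtain ⟨w, hw, hwg⟩ := (pr_eq_one c).mp h1
    refine ⟨x * w, X.mul_mem hx (hU hw), ?_⟩
    rw [map_mul, hwg]
    show c.ι x * ((c.ι x)⁻¹ * g) = g
    group
  · rintro ⟨x, hx, hxg⟩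
    refine ⟨⟨x, hX hx⟩, hx, ?_⟩
    rw [ff_apply]
    congr 1
    exact Subtype.ext hxg

theorem ff_mem_bar {X : Subgroup SM} (hU : U ≤ X) (hX : X ≤ R1) {x : R1} :
    ff c x ∈ bar c X ↔ (x : SM) ∈ X := by
  rw [ff_apply, pr_mem_bar c hU hX]
  constructor
  · rintro ⟨y, hy, hyx⟩
    rw [fc_coe] at hyx
    rwa [← c.inj hyx]
  · intro h; exact ⟨x, h, rfl⟩

theorem exists_of_mem {X : Subgroup SM} {h : HH c} (hh : h ∈ bar c X) :
    ∃ x : R1, (x : SM) ∈ X ∧ ff c x = h := hh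

theorem card_bar [Finite G] {X : Subgroup SM} (hU : U ≤ X) (hX : X ≤ R1) :
    4 * Nat.card (bar c X) = Nat.card X := by
  have h1 := relIndex_ker (X.subgroupOf R1) (ff c)
  have hker : (ff c).ker = U.subgroupOf R1 := by
    ext x
    rw [MonoidHom.mem_ker, ff_eq_one, mem_subgroupOf]
  rw [hker] at h1
  have hle : U.subgroupOf R1 ≤ X.subgroupOf R1 := fun x hx => hU hx
  have h2 := relIndex_mul_relIndex (⊥ : Subgroup R1) (U.subgroupOf R1) (X.subgroupOf R1) bot_le hle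
  rw [relIndex_bot_left, relIndex_bot_left, h1,
    Nat.card_congr (subgroupOfEquivOfLe (U_le_R1)).toEquiv,
    Nat.card_congr (subgroupOfEquivOfLe hX).toEquiv, card_U] at h2
  exact h2

theorem bar_mono {X Y : Subgroup SM} (h : X ≤ Y) : bar c X ≤ bar c Y :=
  Subgroup.map_mono (fun _ hx => h hx)

theorem isPGroup_bar (X : Subgroup SM) : IsPGroup 2 (bar c X) :=
  ((Ctx.isPGroup_SM.to_subgroup R1).to_subgroup _).map _

theorem bar_index [Finite G] : ¬ 2 ∣ (bar c R1).index := by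
  have h1 : (bar c R1).comap (pr c) = (R1.map c.ι).subgroupOf (CU c) := by
    ext g
    rw [mem_comap, pr_mem_bar c U_le_R1 le_rfl, mem_subgroupOf, mem_map]
  have h2 : ((bar c R1).comap (pr c)).index = (bar c R1).index :=
    index_comap_of_surjective _ (pr_surj c)
  rw [← h2, h1]
  exact UFusion.u_sylow c

/-- the Sylow 2-subgroup -/
noncomputable def TT [Finite G] : Sylow 2 (HH c) :=
  haveI : Fact (Nat.Prime 2) := ⟨Nat.prime_two⟩
  (isPGroup_bar c R1).toSylow (bar_index c)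

theorem coe_TT [Finite G] : ((TT c : Sylow 2 (HH c)) : Subgroup (HH c)) = bar c R1 := rfl

/-! ### the element normalising `R1` -/

/-- the abstract facts about `Q`, `Q'` -/
structure Pair (A A' : Subgroup SM) : Prop where
  OmA : OmU ≤ A
  AR : A ≤ R1
  A'R : A' ≤ R1
  fac : ∀ a ∈ R1, ∃ q ∈ A, ∃ j ∈ J, a = q * j
  nle : ¬ A' ≤ A
  sq : ∀ x ∈ A', x * x = 1 ∨ x * x = z0
  cov : ∀ x ∈ R1, (x * x = 1 ∨ x * x = z0) → x ∈ A ∨ x ∈ A'
  inf : ∀ x ∈ A', x ∈ J → x ∈ OmU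

theorem pair_QQ' : Pair Q Q' where
  OmA := OmU_le_Q
  AR := Q_le_R1
  A'R := Q'_le_R1
  fac := fun _ h => exists_QJ h
  nle := fun h => Q_ne_Q' (eq_of_le_of_card_ge h (by rw [card_Q, card_Q'])).ge
  sq := fun _ h => sq_Q' h
  cov := fun _ h1 h2 => mem_Q_or_Q' h1 (by rcases h2 with h | h <;> simp [h])
  inf := fun _ h1 h2 => Q'_inf_J h1 h2

theorem pair_Q'Q : Pair Q' Q where
  OmA := OmU_le_Q'
  AR := Q'_le_R1
  A'R := Q_le_R1
  fac := fun _ h => exists_Q'J h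
  nle := Q_ne_Q'
  sq := fun _ h => sq_Q h
  cov := fun _ h1 h2 => (mem_Q_or_Q' h1 (by rcases h2 with h | h <;> simp [h])).symm
  inf := fun _ h1 h2 => Q_inf_J h1 h2

theorem half [Finite G] (hWJ : WJ c) {g : G} (hgu : g ∈ CU c)
    (hgR : ∀ x ∈ R1, ∃ y ∈ R1, g * c.ι x * g⁻¹ = c.ι y) {A A' : Subgroup SM} (hP : Pair A A')
    (h : ∀ x ∈ A, ∃ y ∈ OmU, c.ι y = g * c.ι x * g⁻¹ * (c.ι x)⁻¹) :
    ∀ x ∈ A', ∃ y ∈ OmU, c.ι y = g * c.ι x * g⁻¹ * (c.ι x)⁻¹ := by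
  -- `g` normalises `A`
  have hA : ∀ x ∈ A, ∃ y ∈ A, g * c.ι x * g⁻¹ = c.ι y := by
    intro x hx
    obtain ⟨y, hy, hyx⟩ := h x hx
    refine ⟨y * x, A.mul_mem (hP.OmA hy) hx, ?_⟩
    rw [map_mul, hyx, inv_mul_cancel_right]
  have htrA : tr c g A = A := by
    refine eq_of_le_of_card_ge ?_ ?_
    · intro y hy
      obtain ⟨x, hx, hxy⟩ := (mem_tr c).mp hy
      obtain ⟨y', hy', hxy'⟩ := hA x hx
      rwa [c.inj (hxy.symm.trans hxy')]
    · rw [card_tr c (fun x hx => by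
        obtain ⟨y, -, hy⟩ := hA x hx
        exact ⟨y, hy⟩)]
  have hgz := (mem_Cz c).mp (CU_le_Cz c hgu)
  -- `g` normalises `A'`
  have hA' : ∀ x ∈ A', ∃ y ∈ A', g * c.ι x * g⁻¹ = c.ι y := by
    have h1 : tr c g A' ≤ A ∨ tr c g A' ≤ A' := by
      rw [← SubgroupClass.subset_union]
      intro y hy
      obtain ⟨x, hx, hxy⟩ := (mem_tr c).mp hy
      obtain ⟨y', hy', hxy'⟩ := hgR x (hP.A'R hx)
      have e : y = y' := c.inj (by rw [← hxy, hxy'])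
      subst e
      refine hP.cov y hy' ?_
      rcases hP.sq x hx with h1 | h1
      · left; apply c.inj
        rw [map_mul, ← hxy, ← conj_map_mul, ← map_mul, h1, map_one]; group
      · right; apply c.inj
        rw [map_mul, ← hxy, ← conj_map_mul, ← map_mul, h1]
        exact hgz
    rcases h1 with h1 | h1
    · exfalso
      apply hP.nle
      intro x hx
      obtain ⟨y, -, hy⟩ := hgR x (hP.A'R hx)
      have h2 : y ∈ tr c g A := by
        rw [htrA]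
        exact h1 ((mem_tr c).mpr ⟨x, hx, hy⟩)
      obtain ⟨x', hx', hxy'⟩ := (mem_tr c).mp h2
      rwa [c.inj (conj_inj (hy.trans hxy'.symm))]
    · intro x hx
      obtain ⟨y, -, hy⟩ := hgR x (hP.A'R hx)
      exact ⟨y, h1 ((mem_tr c).mpr ⟨x, hx, hy⟩), hy⟩
  -- `g` normalises `J`
  have hJ := hWJ g (fun x hx => by
    obtain ⟨y, -, hy⟩ := hgR x (FactsJ.J_le_R1 hx)
    exact ⟨y, hy⟩)
  intro a ha
  obtain ⟨q, hq, j, hj, rfl⟩ := hP.fac a (hP.A'R ha)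
  obtain ⟨y₁, hy₁, hy₁'⟩ := h q hq
  obtain ⟨j', hj', hjj'⟩ := hJ j hj
  obtain ⟨y, hy, hyy⟩ := hA' (q * j) ha
  have h1 : y * (q * j)⁻¹ ∈ A' := A'.mul_mem hy (A'.inv_mem ha)
  have h2 : y * (q * j)⁻¹ = y₁ * (q * (j' * j⁻¹) * q⁻¹) := by
    apply c.inj
    rw [map_mul, ← hyy, map_mul c.ι y₁, hy₁']
    simp only [map_mul, map_inv, ← hjj']
    group
  have h3 : y * (q * j)⁻¹ ∈ J := by
    rw [h2]
    exact J.mul_mem (OmU_le_J hy₁) (FactsJ.J_normal.conj_mem _ (J.mul_mem hj' (J.inv_mem hj)) q)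
  refine ⟨y * (q * j)⁻¹, hP.inf _ h1 h3, ?_⟩
  rw [map_mul, ← hyy, map_inv]

/-- the condition `hJ` of Lemma H -/
theorem hJ_iff [Finite G] (hWJ : WJ c) {n : HH c} (hn : n ∈ normalizer ((TT c : Subgroup (HH c)) :
    Set (HH c))) : (∀ a ∈ bar c Q, n * a * n⁻¹ * a⁻¹ ∈ bar c OmU) ↔
      (∀ a ∈ bar c Q', n * a * n⁻¹ * a⁻¹ ∈ bar c OmU) := by
  obtain ⟨g, rfl⟩ := pr_surj c n
  have hOR : OmU ≤ R1 := OmU_le_Q.trans Q_le_R1
  have hgR : ∀ x ∈ R1, ∃ y ∈ R1, (g : G) * c.ι x * (g : G)⁻¹ = c.ι y := by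
    intro x hx
    have h1 : pr c g * ff c ⟨x, hx⟩ * (pr c g)⁻¹ ∈ bar c R1 := by
      rw [← coe_TT c]
      refine (mem_normalizer_iff.mp hn _).mp ?_
      rw [coe_TT c]
      exact (ff_mem_bar c U_le_R1 le_rfl).mpr hx
    rw [ff_apply, ← map_mul, ← map_inv, ← map_mul, pr_mem_bar c U_le_R1 le_rfl] at h1
    obtain ⟨y, hy, hyg⟩ := h1
    exact ⟨y, hy, hyg.symm⟩
  have key : ∀ {A : Subgroup SM}, U ≤ A → A ≤ R1 →
      ((∀ a ∈ bar c A, pr c g * a * (pr c g)⁻¹ * a⁻¹ ∈ bar c OmU) ↔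
        ∀ x ∈ A, ∃ y ∈ OmU, c.ι y = g * c.ι x * (g : G)⁻¹ * (c.ι x)⁻¹) := by
    intro A hUA hAR
    constructor
    · intro h x hx
      have h1 := h (ff c ⟨x, hAR hx⟩) ((ff_mem_bar c hUA hAR).mpr hx)
      rw [ff_apply, ← map_mul, ← map_inv, ← map_mul, ← map_inv, ← map_mul,
        pr_mem_bar c U_le_OmU hOR] at h1
      exact h1
    · intro h a ha
      obtain ⟨x, hx, rfl⟩ := exists_of_mem c ha
      rw [ff_apply, ← map_mul, ← map_inv, ← map_mul, ← map_inv, ← map_mul,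
        pr_mem_bar c U_le_OmU hOR]
      exact h x hx
  rw [key (U_le_OmU.trans OmU_le_Q) Q_le_R1, key (U_le_OmU.trans OmU_le_Q') Q'_le_R1]
  exact ⟨half c hWJ g.2 hgR pair_QQ', half c hWJ g.2 hgR pair_Q'Q⟩

/-! ### the configuration -/

theorem bar_inf : bar c OmU = bar c Q ⊓ bar c Q' := by
  apply le_antisymm
  · exact le_inf (bar_mono c OmU_le_Q) (bar_mono c OmU_le_Q')
  · rintro h ⟨h1, h2⟩
    obtain ⟨x, hx, rfl⟩ := exists_of_mem c h1
    have h3 : (x : SM) ∈ Q' := (ff_mem_bar c (U_le_OmU.trans OmU_le_Q') Q'_le_R1).mp h2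
    rw [ff_mem_bar c U_le_OmU (OmU_le_Q.trans Q_le_R1)]
    exact ⟨hx, h3⟩

theorem ff_sq {X : Subgroup SM} (hX : ∀ x ∈ X, x * x ∈ U) : ∀ a ∈ bar c X, a * a = 1 := by
  intro a ha
  obtain ⟨x, hx, rfl⟩ := exists_of_mem c ha
  rw [← map_mul, ff_eq_one]
  exact hX _ hx

theorem ff_comm_iff {x y : R1} :
    ff c x * ff c y = ff c y * ff c x ↔ (x : SM) * y * (x : SM)⁻¹ * (y : SM)⁻¹ ∈ U := by
  have h1 : ff c x * ff c y = ff c y * ff c x ↔ ff c (x * y * x⁻¹ * y⁻¹) = 1 := by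
    simp only [map_mul, map_inv]
    rw [mul_inv_eq_one, mul_inv_eq_iff_eq_mul]
  rw [h1, ff_eq_one]
  rfl

open scoped commutatorElement in
theorem commutator_bar : ⁅bar c Q, bar c Q'⁆ = bar c OmU := by
  have hOR : OmU ≤ R1 := OmU_le_Q.trans Q_le_R1
  apply le_antisymm
  · rw [commutator_le]
    intro a ha b hb
    obtain ⟨x, hx, rfl⟩ := exists_of_mem c ha
    obtain ⟨y, hy, rfl⟩ := exists_of_mem c hb
    rw [commutatorElement_def, ← map_inv, ← map_inv, ← map_mul, ← map_mul, ← map_mul,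
      ff_mem_bar c U_le_OmU hOR]
    exact cm_QQ' hx hy
  · intro a ha
    obtain ⟨w, hw, rfl⟩ := exists_of_mem c ha
    obtain ⟨x, hx, y, hy, h1⟩ := exists_cm hw
    have h2 : ff c w = ⁅ff c ⟨x, Q_le_R1 hx⟩, ff c ⟨y, Q'_le_R1 hy⟩⁆ := by
      rw [commutatorElement_def, ← map_inv, ← map_inv, ← map_mul, ← map_mul, ← map_mul,
        eq_comm, ← inv_mul_eq_one, ← map_inv, ← map_mul, ff_eq_one]
      exact h1
    rw [h2]
    exact commutator_mem_commutator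
      ((ff_mem_bar c (x := ⟨x, Q_le_R1 hx⟩) (U_le_OmU.trans OmU_le_Q) Q_le_R1).mpr hx)
      ((ff_mem_bar c (x := ⟨y, Q'_le_R1 hy⟩) (U_le_OmU.trans OmU_le_Q') Q'_le_R1).mpr hy)

end Cfsg.Agent.HSType.StructQ
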