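import Mathlib
import Cfsg.Agent.HSType.KNil
import Cfsg.Agent.HSType.StructTools
import Cfsg.Agent.HSType.StructFacts
import Cfsg.Agent.HSType.StructQ

/-!
# From `C_G(u)` to `C_G(z)`
-/

set_option autoImplicit false
set_option maxHeartbeats 400000

namespace Cfsg.Agent.HSType.StructBN

open Subgroup Cfsg.Agent.HSType.Model Cfsg.Agent.HSType.Facts Cfsg.Agent.HSType.FactsU
  Cfsg.Agent.HSType.Basic Cfsg.Agent.HSType.Trans Cfsg.Agent.HSType.Spec
  Cfsg.Agent.HSType.StructFacts Cfsg.Agent.HSType.StructTools Cfsg.Agent.HSType.StructQ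

section gen

variable {X : Type*} [Group X]

/-- the product of two odd groups, one normalising the other, is odd. -/
theorem odd_sup [Finite X] {N O : Subgroup X} (hN : Odd (Nat.card N)) (hO : Odd (Nat.card O))
    (h : ∀ u ∈ O, ∀ x ∈ N, u * x * u⁻¹ ∈ N) : Odd (Nat.card ↥(N ⊔ O)) := by
  have : Fact (Nat.Prime 2) := ⟨Nat.prime_two⟩
  by_contra hcon
  rw [Nat.not_odd_iff_even, even_iff_two_dvd] at hcon
  obtain ⟨x, hx⟩ := exists_prime_orderOf_dvd_card' 2 hcon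
  have hx2 : (x : X) * x = 1 := by
    have h1 : x ^ 2 = 1 := by rw [← hx, pow_orderOf_eq_one]
    have h2 := congrArg Subtype.val h1
    rw [pow_two] at h2
    exact h2
  obtain ⟨a, ha, b, hb, hab⟩ := mem_sup_fac h x.2
  -- `b * b ∈ N`
  have h1 : b * b ∈ N := by
    have h2 : a * (b * a * b⁻¹) * (b * b) = 1 := by
      rw [← hx2, hab]; group
    have h3 : b * b = (a * (b * a * b⁻¹))⁻¹ := (inv_eq_of_mul_eq_one_right h2).symm
    rw [h3]
    exact inv_mem (mul_mem ha (h b hb a ha))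
  have h2 : b ∈ N := by
    have h3 : Odd (orderOf b) := Odd.of_dvd_nat hO (Subgroup.orderOf_dvd_natCard O hb)
    obtain ⟨k, hk⟩ := h3
    have h4 : b = ((b * b) ^ k)⁻¹ := by
      have h5 : b ^ (2 * k + 1) = 1 := by rw [← hk, pow_orderOf_eq_one]
      rw [pow_succ, pow_mul, pow_two] at h5
      exact (inv_eq_of_mul_eq_one_right h5).symm
    rw [h4]
    exact inv_mem (pow_mem h1 k)
  have h3 : (x : X) ∈ N := by rw [hab]; exact mul_mem ha h2
  have h4 : orderOf (x : X) ∣ Nat.card N := Subgroup.orderOf_dvd_natCard N h3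
  rw [Subgroup.orderOf_coe, hx] at h4
  exact (Nat.not_even_iff_odd.mpr hN) (even_iff_two_dvd.mpr h4)

end gen

universe u

variable {G : Type u} [Group G] (c : Ctx G)

theorem u0_pow : c.ι u0 ^ (2 ^ 2) = 1 := by
  have h : u0 ^ (2 ^ 2) = 1 := by
    have h1 : u0 ^ (2 ^ 2) = (u0 * u0) * (u0 * u0) := by
      norm_num [pow_succ, mul_assoc]
    rw [h1, u0_sq, z0_sq]
  rw [← map_pow, h, map_one]

theorem u0z0_pow : c.ι (u0 * z0) ^ (2 ^ 2) = 1 := by
  have h : (u0 * z0) ^ (2 ^ 2) = 1 := by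
    rw [← u0_inv, inv_pow, inv_eq_one]
    have h1 : u0 ^ (2 ^ 2) = (u0 * u0) * (u0 * u0) := by
      norm_num [pow_succ, mul_assoc]
    rw [h1, u0_sq, z0_sq]
  rw [← map_pow, h, map_one]

theorem conj_pow_two {g x : G} (hx : x ^ (2 ^ 2) = 1) : (g * x * g⁻¹) ^ (2 ^ 2) = 1 := by
  rw [conj_pow, hx, mul_one, mul_inv_cancel]

theorem s_conj {s : SM} (hs : s * u0 * s⁻¹ = u0 * z0) :
    c.ι s * c.ι (u0 * z0) * (c.ι s)⁻¹ = c.ι u0 := by
  rw [← map_mul, ← map_inv, ← map_mul]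
  congr 1
  have h1 : s * (u0 * z0) * s⁻¹ = (s * u0 * s⁻¹) * (s * z0 * s⁻¹) := by group
  rw [h1, hs, z0_central s, mul_inv_cancel_right, mul_assoc, z0_sq, mul_one]

/-- Frattini: `C_G(z) = N C_G(u) ⟨s⟩` -/
theorem frattini [Finite G] {N : Subgroup G} (hN : ZN c N) {s : SM}
    (hs : s * u0 * s⁻¹ = u0 * z0) {g : G} (hg : g ∈ Cz c) :
    ∃ k ∈ N, ∃ h ∈ CU c, g = k * h ∨ g = (c.ι s)⁻¹ * (k * h) := by
  have hNodd : ¬ 2 ∣ Nat.card N := fun h =>
    (Nat.not_even_iff_odd.mpr hN.odd) (even_iff_two_dvd.mpr h)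
  have huC : c.ι u0 ∈ Cz c := range_le_Cz c ⟨u0, rfl⟩
  have key : ∀ g ∈ Cz c, ∀ n ∈ N, g * c.ι u0 * g⁻¹ = n * c.ι u0 → ∃ k ∈ N, ∃ h ∈ CU c,
      g = k * h := by
    intro g hg n hn h1
    obtain ⟨k, hk, hk'⟩ := conj_of_mul hNodd hn (fun x hx => hN.norm _ huC x hx) h1
      (u0_pow c) (conj_pow_two (u0_pow c))
    refine ⟨k⁻¹, inv_mem hk, k * g, ?_, by group⟩
    rw [mem_CU]
    have h2 : k * g * c.ι u0 * (k * g)⁻¹ = k * (g * c.ι u0 * g⁻¹) * k⁻¹ := by group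
    rw [h2]
    exact hk'
  obtain ⟨n, hn, h1 | h1⟩ := hN.mv g hg
  · obtain ⟨k, hk, h, hh, e⟩ := key g hg n hn h1
    exact ⟨k, hk, h, hh, Or.inl e⟩
  · have hsC : c.ι s ∈ Cz c := range_le_Cz c ⟨s, rfl⟩
    have h2 : (c.ι s * g) * c.ι u0 * (c.ι s * g)⁻¹ = (c.ι s * n * (c.ι s)⁻¹) * c.ι u0 := by
      have h3 : (c.ι s * g) * c.ι u0 * (c.ι s * g)⁻¹ = c.ι s * (g * c.ι u0 * g⁻¹) * (c.ι s)⁻¹ := by
        group
      rw [h3, h1]
      have h4 : c.ι s * (n * c.ι (u0 * z0)) * (c.ι s)⁻¹ =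
        (c.ι s * n * (c.ι s)⁻¹) * (c.ι s * c.ι (u0 * z0) * (c.ι s)⁻¹) := by group
      rw [h4, s_conj c hs]
    obtain ⟨k, hk, h, hh, e⟩ := key (c.ι s * g) ((Cz c).mul_mem hsC hg) _
      (hN.norm _ hsC n hn) h2
    refine ⟨k, hk, h, hh, Or.inr ?_⟩
    rw [← e]; group

/-- `N O(C(u))` -/
theorem bn_of_cu [Finite G] {N : Subgroup G} (hN : ZN c N) {B : Subgroup SM}
    (hBn : ∀ s x : SM, x ∈ B → s * x * s⁻¹ ∈ B)
    (hCU : ∀ g ∈ CU c, ∀ x ∈ B, ∃ n ∈ (Cfsg.oddCore (CU c)).map (CU c).subtype, ∃ y ∈ B,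
      g * c.ι x * g⁻¹ = n * c.ι y) : ∃ N', BN c B N' := by
  obtain ⟨s, -, hs⟩ := exists_s
  set O : Subgroup G := (Cfsg.oddCore (CU c)).map (CU c).subtype with hO
  have hOn : (Cfsg.oddCore (CU c)).Normal := Lib.Cores.pPrimeCore_normal (G := CU c) 2
  have hOc := Lib.Cores.pPrimeCore_coprime (G := CU c) 2
  have hOle : O ≤ CU c := Subgroup.map_subtype_le _
  have hOodd : Odd (Nat.card O) := by
    rw [hO, card_map_of_injective (CU c).subtype_injective]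
    exact Nat.coprime_two_right.mp hOc
  have hNO : ∀ u ∈ O, ∀ x ∈ N, u * x * u⁻¹ ∈ N := fun u hu x hx =>
    hN.norm u (CU_le_Cz c (hOle hu)) x hx
  -- elements normalising `N'`
  have hfacN : ∀ x ∈ N ⊔ O, ∃ a ∈ N, ∃ b ∈ O, x = a * b := fun x hx => mem_sup_fac hNO hx
  -- `ι t` normalises `O`
  have hOt : ∀ t : SM, ∀ x ∈ O, c.ι t * x * (c.ι t)⁻¹ ∈ O := by
    intro t
    -- `ι t` normalises `C(u)`
    have hC : ∀ x ∈ CU c, c.ι t * x * (c.ι t)⁻¹ ∈ CU c := by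
      intro x hx
      by_cases ht : t ∈ R1
      · exact (CU c).mul_mem ((CU c).mul_mem (ι_mem_CU c ht) hx) ((CU c).inv_mem (ι_mem_CU c ht))
      · have h1 := inverts ht
        have h2 : t⁻¹ * u0 * t = u0 * z0 := by
          have h3 : t * (u0 * z0) = u0 * t := by
            rw [← mul_assoc, h1, mul_assoc, z0_central t, ← mul_assoc, mul_assoc u0, z0_sq, mul_one]
          rw [mul_assoc, ← h3, inv_mul_cancel_left]
        have hxz : x * c.ι z0 * x⁻¹ = c.ι z0 := (mem_Cz c).mp (CU_le_Cz c hx)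
        have hxu := (mem_CU c).mp hx
        rw [mem_CU]
        have h4 : c.ι t * x * (c.ι t)⁻¹ * c.ι u0 * (c.ι t * x * (c.ι t)⁻¹)⁻¹ =
            c.ι t * (x * ((c.ι t)⁻¹ * c.ι u0 * c.ι t) * x⁻¹) * (c.ι t)⁻¹ := by group
        rw [h4, ← map_inv, ← map_mul, ← map_mul, h2, map_mul, conj_map_mul, hxu, hxz, ← map_mul,
          ← map_mul, ← map_mul]
        congr 1
        rw [← h2]; group
    have hCi : ∀ x ∈ CU c, (c.ι t)⁻¹ * x * c.ι t ∈ CU c := by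
      have h1 : c.ι t ∈ normalizer ((CU c : Subgroup G) : Set G) := mem_normalizer_of_forall hC
      intro x hx
      have h2 := conj_mem_of_mem_normalizer (inv_mem h1) hx
      rwa [inv_inv] at h2
    let e : CU c ≃* CU c :=
      { toFun := fun x => ⟨_, hC x x.2⟩
        invFun := fun x => ⟨_, hCi x x.2⟩
        left_inv := fun x => Subtype.ext (by
          show (c.ι t)⁻¹ * (c.ι t * (x : G) * (c.ι t)⁻¹) * c.ι t = x
          group)
        right_inv := fun x => Subtype.ext (by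
          show c.ι t * ((c.ι t)⁻¹ * (x : G) * c.ι t) * (c.ι t)⁻¹ = x
          group)
        map_mul' := fun x y => Subtype.ext (by
          show c.ι t * ((x : G) * y) * (c.ι t)⁻¹ = c.ι t * x * (c.ι t)⁻¹ * (c.ι t * y * (c.ι t)⁻¹)
          group) }
    rintro _ ⟨x, hx, rfl⟩
    have h1 : (Cfsg.oddCore (CU c)).map e.toMonoidHom ≤ Cfsg.oddCore (CU c) := by
      apply le_sSup
      refine ⟨hOn.map _ e.surjective, ?_⟩
      rw [card_map_of_injective e.injective]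
      exact hOc
    exact ⟨e x, h1 ⟨x, hx, rfl⟩, rfl⟩
  -- the predicate
  let Good : G → Prop := fun g => (∀ x ∈ N ⊔ O, g * x * g⁻¹ ∈ N ⊔ O) ∧
    ∀ x ∈ B, ∃ n ∈ N ⊔ O, ∃ y ∈ B, g * c.ι x * g⁻¹ = n * c.ι y
  have hmul : ∀ g h : G, Good g → Good h → Good (g * h) := by
    rintro g h ⟨hg1, hg2⟩ ⟨hh1, hh2⟩
    refine ⟨fun x hx => ?_, fun x hx => ?_⟩
    · have h1 := hg1 _ (hh1 x hx)
      have h2 : g * (h * x * h⁻¹) * g⁻¹ = g * h * x * (g * h)⁻¹ := by group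
      rwa [h2] at h1
    · obtain ⟨n, hn, y, hy, h1⟩ := hh2 x hx
      obtain ⟨n', hn', y', hy', h2⟩ := hg2 y hy
      refine ⟨g * n * g⁻¹ * n', mul_mem (hg1 n hn) hn', y', hy', ?_⟩
      have h3 : g * h * c.ι x * (g * h)⁻¹ = g * (h * c.ι x * h⁻¹) * g⁻¹ := by group
      rw [h3, h1]
      have h4 : g * (n * c.ι y) * g⁻¹ = g * n * g⁻¹ * (g * c.ι y * g⁻¹) := by group
      rw [h4, h2]; group
  have hgN : ∀ k ∈ N, Good k := by
    intro k hk
    refine ⟨fun x hx => mul_mem (mul_mem (mem_sup_left hk) hx) (inv_mem (mem_sup_left hk)),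
      fun x hx => ?_⟩
    refine ⟨k * (c.ι x * k⁻¹ * (c.ι x)⁻¹), mem_sup_left (mul_mem hk
      (hN.norm _ (range_le_Cz c ⟨x, rfl⟩) _ (inv_mem hk))), x, hx, by group⟩
  have hgU : ∀ h ∈ CU c, Good h := by
    intro h hh
    refine ⟨fun x hx => ?_, fun x hx => ?_⟩
    · obtain ⟨a, ha, b, hb, rfl⟩ := hfacN x hx
      have h1 : h * (a * b) * h⁻¹ = (h * a * h⁻¹) * (h * b * h⁻¹) := by group
      rw [h1]
      refine mul_mem (mem_sup_left (hN.norm h (CU_le_Cz c hh) a ha)) (mem_sup_right ?_)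
      obtain ⟨b', hb', rfl⟩ := hb
      exact ⟨_, hOn.conj_mem b' hb' ⟨h, hh⟩, rfl⟩
    · obtain ⟨n, hn, y, hy, h1⟩ := hCU h hh x hx
      exact ⟨n, mem_sup_right hn, y, hy, h1⟩
  have hgS : ∀ t : SM, Good (c.ι t) := by
    intro t
    refine ⟨fun x hx => ?_, fun x hx => ?_⟩
    · obtain ⟨a, ha, b, hb, rfl⟩ := hfacN x hx
      have h1 : c.ι t * (a * b) * (c.ι t)⁻¹ =
        (c.ι t * a * (c.ι t)⁻¹) * (c.ι t * b * (c.ι t)⁻¹) := by group
      rw [h1]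
      exact mul_mem (mem_sup_left (hN.norm _ (range_le_Cz c ⟨t, rfl⟩) a ha))
        (mem_sup_right (hOt t b hb))
    · refine ⟨1, one_mem _, t * x * t⁻¹, hBn t x hx, ?_⟩
      rw [one_mul, map_mul, map_mul, map_inv]
  have hall : ∀ g ∈ Cz c, Good g := by
    intro g hg
    obtain ⟨k, hk, h, hh, e | e⟩ := frattini c hN hs hg
    · rw [e]; exact hmul _ _ (hgN k hk) (hgU h hh)
    · rw [e, ← map_inv]; exact hmul _ _ (hgS _) (hmul _ _ (hgN k hk) (hgU h hh))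
  exact ⟨N ⊔ O,
    { le := sup_le hN.le (hOle.trans (CU_le_Cz c))
      odd := odd_sup hN.odd hOodd hNO
      norm := fun g hg n hn => (hall g hg).1 n hn
      mv := fun g hg x hx => (hall g hg).2 x hx }⟩

end Cfsg.Agent.HSType.StructBN
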