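import Mathlib
import Cfsg.Agent.HSType.KNil
import Cfsg.Agent.HSType.LemmaH
import Cfsg.Agent.HSType.StructTools
import Cfsg.Agent.HSType.StructFacts
import Cfsg.Agent.HSType.StructQ
import Cfsg.Agent.HSType.StructBN

/-!
# The structure of `C_G(z)` from Lemma H
-/

set_option autoImplicit false
set_option maxHeartbeats 400000

namespace Cfsg.Agent.HSType.Struct

open Subgroup Cfsg.Agent.HSType.Model Cfsg.Agent.HSType.Facts Cfsg.Agent.HSType.FactsU
  Cfsg.Agent.HSType.Basic Cfsg.Agent.HSType.Trans Cfsg.Agent.HSType.Spec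
  Cfsg.Agent.HSType.StructFacts Cfsg.Agent.HSType.StructTools Cfsg.Agent.HSType.StructQ
  Cfsg.Agent.HSType.StructBN
open Cfsg.Agent.J2Sylow.Functor (SolvFun OddSolv)

universe u

variable {G : Type u} [Group G] (c : Ctx G)

theorem OmU_le_R1 : OmU ≤ R1 := OmU_le_Q.trans Q_le_R1

theorem a0_R1 : a0 ∈ R1 := OmU_le_R1 a0_mem_OmU

/-- the image of `a` -/
def aa : HH c := ff c ⟨a0, a0_R1⟩

/-! ### `C(u)` modulo `⟨u⟩`: the centralizer of the image of `a` is 2-nilpotent -/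

/-- elements of odd order of `C(V)` lie in `M` -/
theorem odd_mem [Finite G] {M : Subgroup G} (hM : KN c M) {x : G} (hx : x ∈ KV c)
    (hodd : Odd (orderOf x)) : x ∈ M := by
  obtain ⟨n, hn, r, hr, e⟩ := hM.prod x hx
  -- powers of `x` modulo `M`
  have hnK := hM.le hn
  have hrK : c.ι r ∈ KV c := by
    have h1 : c.ι r = n⁻¹ * x := by rw [e]; group
    rw [h1]; exact mul_mem (inv_mem hnK) hx
  have hpow : ∀ k : ℕ, ∃ m ∈ M, x ^ k = m * c.ι r ^ k := by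
    intro k
    induction k with
    | zero => exact ⟨1, one_mem _, by simp⟩
    | succ k ih =>
      obtain ⟨m, hm, hk⟩ := ih
      refine ⟨m * (c.ι r ^ k * n * (c.ι r ^ k)⁻¹), mul_mem hm
        (hM.norm _ (pow_mem hrK k) n hn), ?_⟩
      rw [pow_succ, hk, e, pow_succ]; group
  have h512 : r ^ 512 = 1 := by
    have h1 : orderOf r ∣ Nat.card SM := orderOf_dvd_natCard r
    rw [card_SM] at h1
    exact orderOf_dvd_iff_pow_eq_one.mp h1
  obtain ⟨m, hm, h1⟩ := hpow 512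
  rw [← map_pow, h512, map_one, mul_one] at h1
  -- `x` is a power of `x ^ 512`
  have hcop : Nat.Coprime 512 (orderOf x) := by
    have : (512 : ℕ) = 2 ^ 9 := by norm_num
    rw [this]
    exact Nat.Coprime.pow_left 9 (Nat.coprime_two_left.mpr hodd)
  obtain ⟨k, hk⟩ := exists_pow_eq_self_of_coprime hcop
  rw [← hk, h1]
  exact pow_mem hm k

/-- the group `{g ∈ C(u) : aᵍ ∈ {a, az}}` -/
theorem conj_M [Finite G] {M : Subgroup G} (hM : KN c M) {g : G} (hgz : g ∈ Cz c)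
    (hga : g * c.ι a0 * g⁻¹ = c.ι a0 ∨ g * c.ι a0 * g⁻¹ = c.ι (a0 * z0)) {x : G} (hx : x ∈ M) :
    g * x * g⁻¹ ∈ M := by
  have hxK := (KNil.mem_KV c).mp (hM.le hx)
  have hgz' := (mem_Cz c).mp hgz
  have hxz : x * c.ι z0 * x⁻¹ = c.ι z0 := by rw [hxK.1, mul_inv_cancel_right]
  have hxa : x * c.ι a0 * x⁻¹ = c.ι a0 := by rw [hxK.2, mul_inv_cancel_right]
  have h1 : g * x * g⁻¹ ∈ KV c := by
    rw [KNil.mem_KV]
    constructor
    · rw [← mul_inv_eq_iff_eq_mul]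
      have h2 : g * x * g⁻¹ * c.ι z0 * (g * x * g⁻¹)⁻¹ = g * (x * (g⁻¹ * c.ι z0 * g) * x⁻¹) * g⁻¹ := by
        group
      have h3 : g⁻¹ * c.ι z0 * g = c.ι z0 := by
        conv_lhs => rw [← hgz']
        group
      rw [h2, h3, hxz, hgz']
    · rw [← mul_inv_eq_iff_eq_mul]
      have h2 : g * x * g⁻¹ * c.ι a0 * (g * x * g⁻¹)⁻¹ = g * (x * (g⁻¹ * c.ι a0 * g) * x⁻¹) * g⁻¹ := by
        group
      rcases hga with h3 | h3
      · have h4 : g⁻¹ * c.ι a0 * g = c.ι a0 := by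
          conv_lhs => rw [← h3]
          group
        rw [h2, h4, hxa, h3]
      · have h4 : g⁻¹ * c.ι a0 * g = c.ι (a0 * z0) := by
          have h5 : g⁻¹ * c.ι (a0 * z0) * g = c.ι a0 := by
            rw [← h3]; group
          have h6 : g⁻¹ * c.ι z0 * g = c.ι z0 := by
            conv_lhs => rw [← hgz']
            group
          have h7 : g⁻¹ * c.ι (a0 * z0) * g = g⁻¹ * c.ι a0 * g * (g⁻¹ * c.ι z0 * g) := by
            rw [map_mul]; group
          rw [h7, h6] at h5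
          have h8 : c.ι z0 * c.ι z0 = 1 := by rw [← map_mul, z0_sq, map_one]
          calc g⁻¹ * c.ι a0 * g = g⁻¹ * c.ι a0 * g * (c.ι z0 * c.ι z0) := by rw [h8, mul_one]
            _ = (g⁻¹ * c.ι a0 * g * c.ι z0) * c.ι z0 := (mul_assoc _ _ _).symm
            _ = c.ι (a0 * z0) := by rw [h5, map_mul]
        rw [h2, h4]
        have h5 : x * c.ι (a0 * z0) * x⁻¹ = c.ι (a0 * z0) := by
          rw [map_mul, conj_map_mul, hxa, hxz]
        rw [h5, map_mul, conj_map_mul, h3, hgz', ← map_mul, mul_assoc, z0_sq, mul_one]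
  refine odd_mem c hM h1 ?_
  have h2 : orderOf (g * x * g⁻¹) = orderOf x :=
    orderOf_injective (MulAut.conj g).toMonoidHom (MulAut.conj g).injective x
  rw [h2]
  exact Odd.of_dvd_nat hM.odd (Subgroup.orderOf_dvd_natCard M hx)

theorem a0z0_sq : (a0 * z0) * (a0 * z0) = 1 := SM.ext (by decide +kernel)

/-- elements of `C(u)` centralising the image of `a` -/
theorem cent_aa {g : CU c} (hg : pr c g * aa c = aa c * pr c g) :
    (g : G) * c.ι a0 * (g : G)⁻¹ = c.ι a0 ∨ (g : G) * c.ι a0 * (g : G)⁻¹ = c.ι (a0 * z0) := by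
  have h1 : pr c (g * fc c ⟨a0, a0_R1⟩ * g⁻¹ * (fc c ⟨a0, a0_R1⟩)⁻¹) = 1 := by
    rw [map_mul, map_mul, map_mul, map_inv, map_inv, ← ff_apply]
    show pr c g * aa c * (pr c g)⁻¹ * (aa c)⁻¹ = 1
    rw [hg]; group
  obtain ⟨w, hw, hwg⟩ := (pr_eq_one c).mp h1
  have h2 : (g : G) * c.ι a0 * (g : G)⁻¹ = c.ι (w * a0) := by
    rw [map_mul, hwg]
    show (g : G) * c.ι a0 * (g : G)⁻¹ = (g : G) * c.ι a0 * (g : G)⁻¹ * (c.ι a0)⁻¹ * c.ι a0
    group
  have h3 : (w * a0) * (w * a0) = 1 := by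
    apply c.inj
    rw [map_mul, ← h2, ← conj_map_mul, ← map_mul, KNil.a0_sq, map_one]
    group
  have hu : u0 * a0 * (u0 * a0) ≠ 1 := by
    intro h
    have := congrArg SM.val h
    exact absurd this (by decide +kernel)
  have huz : u0 * z0 * a0 * (u0 * z0 * a0) ≠ 1 := by
    intro h
    have := congrArg SM.val h
    exact absurd this (by decide +kernel)
  rcases U_cases hw with rfl | rfl | rfl | rfl
  · left; rw [h2, one_mul]
  · exact absurd h3 hu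
  · right; rw [h2, z0_central a0]
  · exact absurd h3 huz

/-- `C_H(ā)` is 2-nilpotent -/
theorem nil_aa [Finite G] {M : Subgroup G} (hM : KN c M) : ∃ N₀ : Subgroup (HH c),
    N₀ ≤ centralizer ({aa c} : Set (HH c)) ∧ Odd (Nat.card N₀) ∧
    (∀ x ∈ centralizer ({aa c} : Set (HH c)), ∀ n ∈ N₀, x * n * x⁻¹ ∈ N₀) ∧
    ∀ x ∈ centralizer ({aa c} : Set (HH c)), ∃ n ∈ N₀, ∃ t ∈ bar c R1, x = n * t := by
  obtain ⟨r₁, hr₁, hr₁a⟩ := exists_r
  have hMle := hM.le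
  refine ⟨(M.subgroupOf (CU c)).map (pr c), ?_, ?_, ?_, ?_⟩
  · rintro _ ⟨m, hm, rfl⟩
    rw [mem_centralizer_singleton_iff]
    show pr c m * pr c (fc c ⟨a0, a0_R1⟩) = pr c (fc c ⟨a0, a0_R1⟩) * pr c m
    rw [← map_mul, ← map_mul]
    congr 1
    exact Subtype.ext ((KNil.mem_KV c).mp (hMle hm)).2
  · refine Odd.of_dvd_nat (n := Nat.card (M.subgroupOf (CU c))) ?_ (card_map_dvd _ _)
    have h1 : Nat.card (M.subgroupOf (CU c)) ∣ Nat.card M := by
      have h2 : (M.subgroupOf (CU c)).map (CU c).subtype ≤ M := by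
        rintro _ ⟨x, hx, rfl⟩; exact hx
      rw [← card_map_of_injective (f := (CU c).subtype) (CU c).subtype_injective]
      exact card_dvd_of_le h2
    exact Odd.of_dvd_nat hM.odd h1
  · rintro x hx _ ⟨m, hm, rfl⟩
    obtain ⟨g, rfl⟩ := pr_surj c x
    rw [mem_centralizer_singleton_iff] at hx
    refine ⟨g * m * g⁻¹, ?_, by rw [map_mul, map_mul, map_inv]⟩
    exact conj_M c hM (CU_le_Cz c g.2) (cent_aa c hx) hm
  · intro x hx
    obtain ⟨g, rfl⟩ := pr_surj c x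
    rw [mem_centralizer_singleton_iff] at hx
    -- the case where `g` centralises `a`
    have key : ∀ g ∈ CU c, g * c.ι a0 * g⁻¹ = c.ι a0 → ∃ m ∈ M, m ∈ CU c ∧ ∃ r ∈ R1,
        g = m * c.ι r := by
      intro g hg hga
      have hgz := (mem_Cz c).mp (CU_le_Cz c hg)
      have hgK : g ∈ KV c := by
        rw [KNil.mem_KV]
        exact ⟨mul_inv_eq_iff_eq_mul.mp hgz, mul_inv_eq_iff_eq_mul.mp hga⟩
      obtain ⟨m, hm, r, hr, e⟩ := hM.prod g hgK
      have huK : ∀ {x : SM}, x ∈ J → c.ι x ∈ KV c := fun hx =>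
        KNil.map_R2_le c ⟨_, FactsJ.J_le_R2 hx, rfl⟩
      have hrJ : r * u0 * r⁻¹ ∈ J := FactsJ.J_normal.conj_mem _ KNil.u0_mem_J r
      -- `m ι(r u r⁻¹) m⁻¹ = u`
      have h1 : m * c.ι (r * u0 * r⁻¹) * m⁻¹ = c.ι u0 := by
        have h2 := (mem_CU c).mp hg
        rw [e] at h2
        calc m * c.ι (r * u0 * r⁻¹) * m⁻¹ = (m * c.ι r) * c.ι u0 * (m * c.ι r)⁻¹ := by
              rw [map_mul, map_mul, map_inv]; group
          _ = c.ι u0 := h2
      have h2 : c.ι (r * u0 * r⁻¹ * u0⁻¹) ∈ M := by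
        have h3 : c.ι (r * u0 * r⁻¹ * u0⁻¹) =
            (c.ι (r * u0 * r⁻¹) * m * (c.ι (r * u0 * r⁻¹))⁻¹) * m⁻¹ := by
          rw [map_mul c.ι _ u0⁻¹, map_inv, ← h1]; group
        rw [h3]
        exact mul_mem (hM.norm _ (huK hrJ) m hm) (inv_mem hm)
      have h3 : r * u0 * r⁻¹ * u0⁻¹ = 1 := by
        apply c.inj
        rw [map_one]
        have h4 : orderOf (c.ι (r * u0 * r⁻¹ * u0⁻¹)) ∣ Nat.card M :=
          Subgroup.orderOf_dvd_natCard M h2
        have h5 : orderOf (c.ι (r * u0 * r⁻¹ * u0⁻¹)) ∣ 2 ^ 9 := by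
          rw [orderOf_injective c.ι c.inj]
          have := orderOf_dvd_natCard (r * u0 * r⁻¹ * u0⁻¹)
          rw [card_SM] at this
          norm_num
          exact this
        have h6 : (2 ^ 9).Coprime (Nat.card M) :=
          Nat.Coprime.pow_left 9 (Nat.coprime_two_left.mpr hM.odd)
        exact orderOf_eq_one_iff.1 (Nat.eq_one_of_dvd_coprimes h6 h5 h4)
      have hrR : r ∈ R1 := by
        show r ∈ centralizer ({u0} : Set SM)
        rw [mem_centralizer_singleton_iff, ← mul_inv_eq_iff_eq_mul]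
        exact mul_inv_eq_one.mp h3
      refine ⟨m, hm, ?_, r, hrR, e⟩
      have h4 : m = g * (c.ι r)⁻¹ := by rw [e]; group
      rw [h4]
      exact (CU c).mul_mem hg ((CU c).inv_mem (ι_mem_CU c hrR))
    have fin : ∀ (m r : G) (hm : m ∈ M) (hmC : m ∈ CU c) (t : SM) (ht : t ∈ R1),
        (g : G) = m * c.ι t → ∃ n ∈ (M.subgroupOf (CU c)).map (pr c), ∃ t ∈ bar c R1,
          pr c g = n * t := by
      intro m _ hm hmC t ht e
      refine ⟨pr c ⟨m, hmC⟩, ⟨⟨m, hmC⟩, hm, rfl⟩, ff c ⟨t, ht⟩,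
        (ff_mem_bar c U_le_R1 le_rfl).mpr ht, ?_⟩
      rw [ff_apply, ← map_mul]
      congr 1
      exact Subtype.ext e
    rcases cent_aa c hx with h1 | h1
    · obtain ⟨m, hm, hmC, r, hr, e⟩ := key g g.2 h1
      exact fin m 1 hm hmC r hr e
    · -- multiply by `r₁⁻¹`
      have hr₁C := ι_mem_CU c hr₁
      have hr₁z := (mem_Cz c).mp (CU_le_Cz c hr₁C)
      have hr₁a' : c.ι r₁ * c.ι a0 * (c.ι r₁)⁻¹ = c.ι (a0 * z0) := by
        rw [← hr₁a, map_mul, map_mul, map_inv]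
      have h2 : ((c.ι r₁)⁻¹ * (g : G)) * c.ι a0 * ((c.ι r₁)⁻¹ * (g : G))⁻¹ = c.ι a0 := by
        have h3 : ((c.ι r₁)⁻¹ * (g : G)) * c.ι a0 * ((c.ι r₁)⁻¹ * (g : G))⁻¹ =
          (c.ι r₁)⁻¹ * ((g : G) * c.ι a0 * (g : G)⁻¹) * c.ι r₁ := by group
        rw [h3, h1, ← hr₁a']; group
      obtain ⟨m, hm, hmC, r, hr, e⟩ := key _ ((CU c).mul_mem ((CU c).inv_mem hr₁C) g.2) h2
      refine fin (c.ι r₁ * m * (c.ι r₁)⁻¹) 1
        (conj_M c hM (CU_le_Cz c hr₁C) (Or.inr hr₁a') hm)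
        ((CU c).mul_mem ((CU c).mul_mem hr₁C hmC) ((CU c).inv_mem hr₁C)) (r₁ * r)
        (R1.mul_mem hr₁ hr) ?_
      rw [map_mul]
      have h3 : (g : G) = c.ι r₁ * ((c.ι r₁)⁻¹ * (g : G)) := by group
      rw [h3, e]; group

/-! ### transport of 2-nilpotence -/

/-- 2-nilpotence of the centralizer of a conjugate of `ā` lying in `Z(T)` -/
theorem nil_conj {H : Type*} [Group H] [Finite H] (T : Sylow 2 H) {a b h : H}
    (hb : h * b * h⁻¹ = a) (hTb : ∀ t ∈ T, t * b = b * t)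
    (hnil : ∃ N : Subgroup H, N ≤ centralizer ({a} : Set H) ∧
      Odd (Nat.card N) ∧ (∀ c ∈ centralizer ({a} : Set H), ∀ x ∈ N, c * x * c⁻¹ ∈ N) ∧
      ∀ c ∈ centralizer ({a} : Set H), ∃ n ∈ N, ∃ t ∈ T, c = n * t) :
    ∃ N : Subgroup H, N ≤ centralizer ({b} : Set H) ∧
      Odd (Nat.card N) ∧ (∀ c ∈ centralizer ({b} : Set H), ∀ x ∈ N, c * x * c⁻¹ ∈ N) ∧
      ∀ c ∈ centralizer ({b} : Set H), ∃ n ∈ N, ∃ t ∈ T, c = n * t := by
  have : Fact (Nat.Prime 2) := ⟨Nat.prime_two⟩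
  obtain ⟨N, hN1, hN2, hN3, hN4⟩ := hnil
  have hcent : ∀ x : H, x ∈ centralizer ({b} : Set H) ↔ h * x * h⁻¹ ∈ centralizer ({a} : Set H) := by
    intro x
    rw [mem_centralizer_singleton_iff, mem_centralizer_singleton_iff, ← hb]
    constructor
    · intro h1
      calc h * x * h⁻¹ * (h * b * h⁻¹) = h * (x * b) * h⁻¹ := by group
        _ = h * (b * x) * h⁻¹ := by rw [h1]
        _ = _ := by group
    · intro h1
      have h2 : h * (x * b) * h⁻¹ = h * (b * x) * h⁻¹ := by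
        calc h * (x * b) * h⁻¹ = h * x * h⁻¹ * (h * b * h⁻¹) := by group
          _ = _ := by rw [h1]; group
      exact mul_left_cancel (mul_right_cancel h2)
  set N' : Subgroup H := N.map (MulAut.conj h⁻¹).toMonoidHom with hN'
  have hmem : ∀ x : H, x ∈ N' ↔ h * x * h⁻¹ ∈ N := by
    intro x
    constructor
    · rintro ⟨n, hn, rfl⟩
      have : h * (h⁻¹ * n * h⁻¹⁻¹) * h⁻¹ = n := by group
      show h * (h⁻¹ * n * h⁻¹⁻¹) * h⁻¹ ∈ N
      rw [this]; exact hn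
    · intro hx
      refine ⟨_, hx, ?_⟩
      show h⁻¹ * (h * x * h⁻¹) * h⁻¹⁻¹ = x
      group
  have hC : N' ≤ centralizer ({b} : Set H) := fun x hx => (hcent x).mpr (hN1 ((hmem x).mp hx))
  have hodd : Odd (Nat.card N') := by
    rw [hN', card_map_of_injective (MulAut.conj h⁻¹).injective]; exact hN2
  have hnorm : ∀ c ∈ centralizer ({b} : Set H), ∀ x ∈ N', c * x * c⁻¹ ∈ N' := by
    intro c hc x hx
    rw [hmem] at hx ⊢
    have h1 := hN3 _ ((hcent c).mp hc) _ hx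
    have h2 : h * c * h⁻¹ * (h * x * h⁻¹) * (h * c * h⁻¹)⁻¹ = h * (c * x * c⁻¹) * h⁻¹ := by group
    rwa [h2] at h1
  refine ⟨N', hC, hodd, hnorm, ?_⟩
  -- `C(b) = N' T` by indices
  have hTC : (T : Subgroup H) ≤ centralizer ({b} : Set H) := fun t ht =>
    mem_centralizer_singleton_iff.mpr (hTb t ht)
  have hsup : N' ⊔ (T : Subgroup H) ≤ centralizer ({b} : Set H) := sup_le hC hTC
  have h1 : Odd ((N' ⊔ (T : Subgroup H)).relIndex (centralizer ({b} : Set H))) := by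
    have h2 : (N' ⊔ (T : Subgroup H)).relIndex (centralizer ({b} : Set H)) ∣
        (T : Subgroup H).relIndex (centralizer ({b} : Set H)) :=
      relIndex_dvd_of_le_left _ le_sup_right
    have h3 : (T : Subgroup H).relIndex (centralizer ({b} : Set H)) ∣ (T : Subgroup H).index :=
      relIndex_dvd_index_of_le hTC
    rw [← Nat.not_even_iff_odd, even_iff_two_dvd]
    exact fun h4 => T.not_dvd_index ((h4.trans h2).trans h3)
  have h2 : ∃ k : ℕ, (N' ⊔ (T : Subgroup H)).relIndex (centralizer ({b} : Set H)) ∣ 2 ^ k := by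
    have h3 : (N' ⊔ (T : Subgroup H)).relIndex (centralizer ({b} : Set H)) ∣
        N'.relIndex (centralizer ({b} : Set H)) := relIndex_dvd_of_le_left _ le_sup_left
    -- the quotient by `N'` is a 2-group
    have h4 : N'.relIndex (centralizer ({b} : Set H)) =
        N.relIndex (centralizer ({a} : Set H)) := by
      have h5 : centralizer ({b} : Set H) =
          (centralizer ({a} : Set H)).map (MulAut.conj h⁻¹).toMonoidHom := by
        ext x
        rw [hcent]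
        constructor
        · intro hx
          refine ⟨_, hx, ?_⟩
          show h⁻¹ * (h * x * h⁻¹) * h⁻¹⁻¹ = x
          group
        · rintro ⟨y, hy, rfl⟩
          have : h * (h⁻¹ * y * h⁻¹⁻¹) * h⁻¹ = y := by group
          show h * (h⁻¹ * y * h⁻¹⁻¹) * h⁻¹ ∈ _
          rw [this]; exact hy
      rw [h5, hN']
      exact relIndex_map_map_of_injective _ _ (MulAut.conj h⁻¹).injective
    have h5 : ∃ k : ℕ, N.relIndex (centralizer ({a} : Set H)) = 2 ^ k := by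
      set C := centralizer ({a} : Set H) with hCdef
      have hNn : (N.subgroupOf C).Normal := ⟨fun x hx g => hN3 g g.2 x hx⟩
      have hP : IsPGroup 2 (C ⧸ N.subgroupOf C) := by
        intro x
        obtain ⟨x, rfl⟩ := QuotientGroup.mk_surjective x
        obtain ⟨n, hn, t, ht, e⟩ := hN4 x x.2
        obtain ⟨k, hk⟩ := T.2 ⟨t, ht⟩
        have htk : t ^ 2 ^ k = 1 := congrArg Subtype.val hk
        have htC : t ∈ C := by
          have h6 : t = n⁻¹ * x := by rw [e]; group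
          rw [h6]; exact mul_mem (inv_mem (hN1 hn)) x.2
        refine ⟨k, ?_⟩
        have h7 : (QuotientGroup.mk x : C ⧸ N.subgroupOf C) = QuotientGroup.mk ⟨t, htC⟩ := by
          rw [eq_comm, QuotientGroup.eq]
          show (t⁻¹ * (x : H)) ∈ N
          rw [e]
          have h8 : t⁻¹ * (n * t) = t⁻¹ * n * t⁻¹⁻¹ := by group
          rw [h8]
          exact hN3 _ (inv_mem htC) n hn
        rw [h7, ← QuotientGroup.mk_pow]
        have h8 : (⟨t, htC⟩ : C) ^ 2 ^ k = 1 := Subtype.ext htk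
        rw [h8]; rfl
      obtain ⟨k, hk⟩ := IsPGroup.iff_card.mp hP
      exact ⟨k, hk⟩
    obtain ⟨k, hk⟩ := h5
    exact ⟨k, by rw [← hk, ← h4]; exact h3⟩
  have h3 : (N' ⊔ (T : Subgroup H)).relIndex (centralizer ({b} : Set H)) = 1 := by
    obtain ⟨k, hk⟩ := h2
    exact Nat.Coprime.eq_one_of_dvd ((Nat.coprime_two_right.mpr h1).pow_right k) hk
  intro x hx
  have h4 : x ∈ N' ⊔ (T : Subgroup H) := relIndex_eq_one.mp h3 hx
  obtain ⟨n, hn, t, ht, e⟩ := mem_sup_fac (fun t ht x hx => hnorm t (hTC ht) x hx) h4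
  exact ⟨n, hn, t, ht, e⟩

/-! ### the main theorem -/

/-- an involution of `B` is conjugate to `a` in `C(u)` -/
theorem to_a0 [Finite G] {N : Subgroup G} (hN : ZN c N) {x : SM} (hx : x ∈ R1)
    (hxa : CC c x a0) : ∃ g ∈ CU c, g * c.ι x * g⁻¹ = c.ι a0 := by
  obtain ⟨g, hgC, hg⟩ := hxa
  obtain ⟨s, hs2, hs⟩ := exists_s
  have hsC : c.ι s ∈ Cz c := range_le_Cz c ⟨s, rfl⟩
  have huC : c.ι u0 ∈ Cz c := range_le_Cz c ⟨u0, rfl⟩
  -- `N ∩ C(a)`
  set N1 : Subgroup G := N ⊓ centralizer ({c.ι a0} : Set G) with hN1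
  have hN1odd : ¬ 2 ∣ Nat.card N1 := fun h => by
    have h1 : Nat.card N1 ∣ Nat.card N := card_dvd_of_le inf_le_left
    exact (Nat.not_even_iff_odd.mpr hN.odd) (even_iff_two_dvd.mpr (h.trans h1))
  have hua : ∀ y ∈ U, c.ι y * c.ι a0 = c.ι a0 * c.ι y := by
    intro y hy
    rw [← map_mul, ← map_mul]
    congr 1
    exact FactsJ.comm_J (OmU_le_J (U_le_OmU hy)) (OmU_le_J a0_mem_OmU)
  have hnor : ∀ y ∈ U, ∀ n ∈ N1, c.ι y * n * (c.ι y)⁻¹ ∈ N1 := by
    intro y hy n hn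
    refine mem_inf.mpr ⟨hN.norm _ (range_le_Cz c ⟨y, rfl⟩) n (mem_inf.mp hn).1, ?_⟩
    have h1 : c.ι y ∈ centralizer ({c.ι a0} : Set G) :=
      mem_centralizer_singleton_iff.mpr (hua y hy)
    exact mul_mem (mul_mem h1 (mem_inf.mp hn).2) (inv_mem h1)
  have hxu : x * u0 = u0 * x := u0_comm hx
  -- the image of `u` commutes with `a`
  have hcomm : (g * c.ι u0 * g⁻¹) ∈ centralizer ({c.ι a0} : Set G) := by
    rw [mem_centralizer_singleton_iff, ← hg]
    calc g * c.ι u0 * g⁻¹ * (g * c.ι x * g⁻¹) = g * (c.ι u0 * c.ι x) * g⁻¹ := by group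
      _ = g * (c.ι x * c.ι u0) * g⁻¹ := by rw [← map_mul, ← hxu, map_mul]
      _ = _ := by group
  have key : ∀ v ∈ U, ∀ n ∈ N, c.ι v ^ (2 ^ 2) = 1 → g * c.ι u0 * g⁻¹ = n * c.ι v →
      ∃ k : G, k ∈ centralizer ({c.ι a0} : Set G) ∧ (k * g) * c.ι u0 * (k * g)⁻¹ = c.ι v := by
    intro v hv n hn hv4 h1
    have hn1 : n ∈ N1 := by
      refine mem_inf.mpr ⟨hn, ?_⟩
      have h2 : n = g * c.ι u0 * g⁻¹ * (c.ι v)⁻¹ := by rw [h1]; group
      rw [h2]
      exact mul_mem hcomm (inv_mem (mem_centralizer_singleton_iff.mpr (hua v hv)))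
    obtain ⟨k, hk, hk'⟩ := conj_of_mul hN1odd hn1 (hnor v hv) h1 hv4 (conj_pow_two (u0_pow c))
    refine ⟨k, hk.2, ?_⟩
    rw [← hk']; group
  obtain ⟨n, hn, h1 | h1⟩ := hN.mv g hgC
  · obtain ⟨k, hk, hk'⟩ := key u0 u0_mem_U n hn (u0_pow c) h1
    refine ⟨k * g, (mem_CU c).mpr hk', ?_⟩
    have h2 : k * g * c.ι x * (k * g)⁻¹ = k * (g * c.ι x * g⁻¹) * k⁻¹ := by group
    rw [h2, hg, mem_centralizer_singleton_iff.mp hk, mul_inv_cancel_right]
  · have huz : u0 * z0 ∈ U := U.mul_mem u0_mem_U z0_mem_U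
    obtain ⟨k, hk, hk'⟩ := key (u0 * z0) huz n hn (u0z0_pow c) h1
    refine ⟨c.ι s * (k * g), ?_, ?_⟩
    · rw [mem_CU]
      have h2 : c.ι s * (k * g) * c.ι u0 * (c.ι s * (k * g))⁻¹ =
        c.ι s * (k * g * c.ι u0 * (k * g)⁻¹) * (c.ι s)⁻¹ := by group
      rw [h2, hk', s_conj c hs]
    · have h2 : c.ι s * (k * g) * c.ι x * (c.ι s * (k * g))⁻¹ =
        c.ι s * (k * (g * c.ι x * g⁻¹) * k⁻¹) * (c.ι s)⁻¹ := by group
      have h3 : s * a0 = a0 * s := mem_centralizer_singleton_iff.mp hs2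
      rw [h2, hg, mem_centralizer_singleton_iff.mp hk, mul_inv_cancel_right, ← map_mul, h3,
        map_mul, mul_inv_cancel_right]

/-- **Step (7)**: `B N'` is normal in `C_G(z)`. -/
theorem exists_BN (hSF : SolvFun.{u}) (hFT : OddSolv.{u}) [Finite G] (hJ : WJ c)
    {N : Subgroup G} (hN : ZN c N) {M : Subgroup G} (hM : KN c M) {B : Subgroup SM}
    (hB : B = OmU ∨ B = Q) (hcl : ∀ x ∈ B, x * x = 1 → x ≠ 1 → x ≠ z0 → CC c x a0)
    (hsc : ∀ x ∈ B, ∀ y ∈ R1, CC c x y → y ∈ B) : ∃ N', BN c B N' := by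
  have hOB : OmU ≤ B := by
    rcases hB with h | h
    · exact h.ge
    · rw [h]; exact OmU_le_Q
  have hUB : U ≤ B := U_le_OmU.trans hOB
  have hBR : B ≤ R1 := by
    rcases hB with h | h
    · rw [h]; exact OmU_le_R1
    · rw [h]; exact Q_le_R1
  have hBsq : ∀ x ∈ B, x * x = 1 ∨ x * x = z0 := by
    intro x hx
    rcases hB with h | h
    · rw [h] at hx; exact sq_Q hx.1
    · rw [h] at hx; exact sq_Q hx
  have hBn : ∀ s x : SM, x ∈ B → s * x * s⁻¹ ∈ B := by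
    intro s x hx
    rcases hB with h | h
    · rw [h] at hx ⊢; exact OmU_normal hx
    · rw [h] at hx ⊢; exact Q_normal hx
  -- everything outside `⟨u⟩` goes to `ā`
  have htoa : ∀ x (hx : x ∈ B), x ∉ U → ∃ h : HH c, h * ff c ⟨x, hBR hx⟩ * h⁻¹ = aa c := by
    intro x hx hxU
    -- the case of an involution
    have h1 : ∀ y (hy : y ∈ B), y ∉ U → y * y = 1 →
        ∃ h : HH c, h * ff c ⟨y, hBR hy⟩ * h⁻¹ = aa c := by
      intro y hy hyU hy2
      obtain ⟨g, hg, hga⟩ := to_a0 c hN (hBR hy) (hcl y hy hy2 (fun e => hyU (e ▸ one_mem _))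
        (fun e => hyU (e ▸ z0_mem_U)))
      refine ⟨pr c ⟨g, hg⟩, ?_⟩
      rw [ff_apply, ← map_inv, ← map_mul, ← map_mul]
      show _ = pr c (fc c ⟨a0, a0_R1⟩)
      congr 1
      exact Subtype.ext hga
    rcases hBsq x hx with h2 | h2
    · exact h1 x hx hxU h2
    · have hxu := u0_comm (hBR hx)
      have h3 : x * u0 ∈ B := B.mul_mem hx (hUB u0_mem_U)
      have h4 : x * u0 ∉ U := by
        intro h
        apply hxU
        have h5 := U.mul_mem h (U.inv_mem u0_mem_U)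
        rwa [mul_inv_cancel_right] at h5
      have h5 : x * u0 * (x * u0) = 1 := by
        rw [mul_assoc, ← mul_assoc u0, ← hxu, mul_assoc x, ← mul_assoc, h2, u0_sq, z0_sq]
      obtain ⟨h, hh⟩ := h1 (x * u0) h3 h4 h5
      refine ⟨h, ?_⟩
      have h6 : ff c ⟨x * u0, hBR h3⟩ = ff c ⟨x, hBR hx⟩ := by
        have h7 : (⟨x * u0, hBR h3⟩ : R1) = ⟨x, hBR hx⟩ * ⟨u0, U_le_R1 u0_mem_U⟩ := rfl
        rw [h7, map_mul, (ff_eq_one c (x := ⟨u0, U_le_R1 u0_mem_U⟩)).mpr u0_mem_U, mul_one]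
      rw [← h6]; exact hh
  have htr : ∀ a ∈ bar c B, ∀ b ∈ bar c B, a ≠ 1 → b ≠ 1 → ∃ h : HH c, h * a * h⁻¹ = b := by
    intro a ha b hb ha1 hb1
    obtain ⟨x, hx, rfl⟩ := exists_of_mem c ha
    obtain ⟨y, hy, rfl⟩ := exists_of_mem c hb
    obtain ⟨h, hh⟩ := htoa x hx (fun e => ha1 ((ff_eq_one c).mpr e))
    obtain ⟨k, hk⟩ := htoa y hy (fun e => hb1 ((ff_eq_one c).mpr e))
    refine ⟨k⁻¹ * h, ?_⟩
    have h1 : k⁻¹ * h * ff c x * (k⁻¹ * h)⁻¹ = k⁻¹ * (h * ff c x * h⁻¹) * k := by group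
    have h2 : h * ff c x * h⁻¹ = k * ff c y * k⁻¹ := hh.trans hk.symm
    rw [h1, h2]; group
  have hZc : ∀ a ∈ bar c OmU, ∀ t ∈ TT c, t * a = a * t := by
    intro a ha t ht
    obtain ⟨x, hx, rfl⟩ := exists_of_mem c ha
    have ht' : t ∈ bar c R1 := ht
    obtain ⟨y, hy, rfl⟩ := exists_of_mem c ht'
    exact (ff_comm_iff c).mpr (cm_OmU hy hx)
  have hk : ∀ {A : Subgroup SM} (hUA : U ≤ A) (hAR : A ≤ R1)
      (_ : ∀ {t a : SM}, a ∈ A → a ∉ OmU → t ∈ R1 → t * a * t⁻¹ * a⁻¹ ∈ U → t ∈ A),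
      ∀ a ∈ bar c A, a ∉ bar c OmU → ∀ t ∈ TT c, t * a = a * t → t ∈ bar c A := by
    intro A hUA hAR hf a ha haO t ht hta
    obtain ⟨x, hx, rfl⟩ := exists_of_mem c ha
    have ht' : t ∈ bar c R1 := ht
    obtain ⟨y, hy, rfl⟩ := exists_of_mem c ht'
    rw [ff_mem_bar c U_le_OmU OmU_le_R1] at haO
    rw [ff_mem_bar c hUA hAR]
    exact hf hx haO hy ((ff_comm_iff c).mp hta)
  have hnil : ∀ a ∈ bar c OmU, a ≠ 1 → ∃ N : Subgroup (HH c), N ≤ centralizer ({a} : Set (HH c)) ∧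
      Odd (Nat.card N) ∧ (∀ c' ∈ centralizer ({a} : Set (HH c)), ∀ x ∈ N, c' * x * c'⁻¹ ∈ N) ∧
      ∀ c' ∈ centralizer ({a} : Set (HH c)), ∃ n ∈ N, ∃ t ∈ TT c, c' = n * t := by
    intro a ha ha1
    obtain ⟨x, hx, rfl⟩ := exists_of_mem c ha
    obtain ⟨h, hh⟩ := htoa x (hOB hx) (fun e => ha1 ((ff_eq_one c).mpr e))
    exact nil_conj (TT c) hh (hZc _ ha) (nil_aa c hM)
  have hmain := LemmaH.lemmaH hSF hFT (TT c) (bar c Q) (bar c Q') (bar c OmU) (bar c B)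
    (bar_mono c Q_le_R1) (bar_mono c Q'_le_R1) (bar_inf c)
    (by
      have h1 := card_bar c U_le_R1 le_rfl
      rw [card_R1] at h1
      show Nat.card (bar c R1) = 64
      omega)
    (by
      have h1 := card_bar c (U_le_OmU.trans OmU_le_Q) Q_le_R1
      rw [card_Q] at h1
      omega)
    (by
      have h1 := card_bar c (U_le_OmU.trans OmU_le_Q') Q'_le_R1
      rw [card_Q'] at h1
      omega)
    (by
      have h1 := card_bar c U_le_OmU OmU_le_R1
      rw [card_OmU] at h1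
      omega)
    (ff_sq c (fun _ h => sq_Q_U h)) (ff_sq c (fun _ h => sq_Q'_U h)) hZc
    (by
      intro x hx hx2
      have hx' : x ∈ bar c R1 := hx
      obtain ⟨y, hy, rfl⟩ := exists_of_mem c hx'
      rw [← map_mul, ff_eq_one] at hx2
      have h1 : (y : SM) * y = 1 ∨ (y : SM) * y = z0 ∨ (y : SM) * y = u0 ∨
          (y : SM) * y = u0 * z0 := by
        rcases U_cases hx2 with h | h | h | h
        · exact Or.inl h
        · exact Or.inr (Or.inr (Or.inl h))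
        · exact Or.inr (Or.inl h)
        · exact Or.inr (Or.inr (Or.inr h))
      rcases mem_Q_or_Q' hy h1 with h2 | h2
      · exact Or.inl ((ff_mem_bar c (U_le_OmU.trans OmU_le_Q) Q_le_R1).mpr h2)
      · exact Or.inr ((ff_mem_bar c (U_le_OmU.trans OmU_le_Q') Q'_le_R1).mpr h2))
    (hk (U_le_OmU.trans OmU_le_Q) Q_le_R1 k1) (hk (U_le_OmU.trans OmU_le_Q') Q'_le_R1 k2)
    (commutator_bar c) (fun n hn => hJ_iff c hJ hn)
    (by
      rcases hB with h | h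
      · left; rw [h]
      · right; rw [h])
    (by
      intro a ha h hh
      obtain ⟨x, hx, rfl⟩ := exists_of_mem c ha
      obtain ⟨g, rfl⟩ := pr_surj c h
      have h1 : pr c (g * fc c x * g⁻¹) ∈ bar c R1 := by
        rw [map_mul, map_mul, map_inv, ← ff_apply]
        exact hh
      rw [pr_mem_bar c U_le_R1 le_rfl] at h1
      obtain ⟨y, hy, hyg⟩ := h1
      rw [ff_apply, ← map_inv, ← map_mul, ← map_mul, pr_mem_bar c hUB hBR]
      exact ⟨y, hsc x hx y hy ⟨g, CU_le_Cz c g.2, hyg.symm⟩, hyg⟩)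
    htr hnil
  refine bn_of_cu c hN hBn ?_
  intro g hg x hx
  obtain ⟨b', hb', n, hn, h1⟩ := hmain (pr c ⟨g, hg⟩) (ff c ⟨x, hBR hx⟩)
    ((ff_mem_bar c hUB hBR).mpr hx)
  obtain ⟨y, hy, rfl⟩ := exists_of_mem c hb'
  obtain ⟨n', rfl⟩ := pr_surj c n
  obtain ⟨k, hk, w, hw, e⟩ := core_lift (UU c) (UU_central c) (UU_pgroup c) hn
  -- `g x g⁻¹ = n' y w'`
  have h2 : pr c ((n' * fc c y)⁻¹ * ((⟨g, hg⟩ : CU c) * fc c ⟨x, hBR hx⟩ * (⟨g, hg⟩ : CU c)⁻¹)) = 1 := by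
    rw [map_mul, map_inv, map_mul (pr c) n', map_mul, map_mul, map_inv, ← ff_apply, ← ff_apply,
      h1]
    exact inv_mul_cancel _
  obtain ⟨w1, hw1, hw1'⟩ := (pr_eq_one c).mp h2
  obtain ⟨w2, hw2, hw2'⟩ := (mem_UU c).mp hw
  refine ⟨k, ⟨k, hk, rfl⟩, w2 * (y * w1), B.mul_mem (hUB hw2) (B.mul_mem hy (hUB hw1)), ?_⟩
  have h3 : (n' : G) = k * w := congrArg Subtype.val e
  have h4 : c.ι w1 = ((n' : G) * c.ι y)⁻¹ * (g * c.ι x * g⁻¹) := hw1'
  rw [map_mul, map_mul, h4, hw2', h3]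
  group

end Cfsg.Agent.HSType.Struct
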