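import Cfsg.Agent.HSType.SylData
import Cfsg.Agent.Lib.NormalAbelian

/-!
# The Sylow 2-subgroups of the Higman–Sims group are isomorphic to `SM` (S1777, helper577)
-/

set_option autoImplicit false

namespace Cfsg.Agent.HSType.SylHS

open Cfsg Cfsg.Agent.SporadicStructure.PermChain Cfsg.Agent.LeechPack.X100 Cfsg.Agent.HSType.Model
  Cfsg.Agent.HSType.SylLift Cfsg.Agent.HSType.SylData

/-- evaluation of a word in the tables -/
def ev : List (Fin 5) → ℕ → ℕ
  | [], i => i
  | k :: l, i => look 7 (tabs k) (ev l i)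

theorem ev_spec (l : List (Fin 5)) (i : Fin 100) : (((l.map σ).prod i : Fin 100) : ℕ) = ev l i := by
  induction l with
  | nil => rfl
  | cons k l ih =>
    rw [List.map_cons, List.prod_cons, Equiv.Perm.mul_apply, σ_spec, ih]
    rfl

def same (l l' : List (Fin 5)) : Bool := allBelow (fun i => Nat.beq (ev l i) (ev l' i)) 100

theorem prod_eq {l l' : List (Fin 5)} (h : same l l' = true) : (l.map σ).prod = (l'.map σ).prod := by
  apply Equiv.ext
  intro i
  apply Fin.ext
  rw [ev_spec, ev_spec]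
  exact Nat.eq_of_beq_eq_true (allBelow_spec _ _ h i i.2)

/-- the five elements -/
noncomputable def g (k : Fin 5) : G2 := (exists_gen k).choose

theorem ψ_g (k : Fin 5) : ψ (g k) = σ k := (exists_gen k).choose_spec

theorem prod_g {l l' : List (Fin 5)} (h : same l l' = true) : (l.map g).prod = (l'.map g).prod := by
  apply ψ_injective
  rw [map_list_prod, map_list_prod, List.map_map, List.map_map]
  have : (⇑ψ ∘ g) = σ := funext ψ_g
  rw [this]
  exact prod_eq h

theorem rel : Rel (g 0) (g 1) (g 2) (g 3) (g 4) where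
  c12 := by simpa using prod_g (l := [0, 1]) (l' := [1, 0]) (by decide +kernel)
  c13 := by simpa using prod_g (l := [0, 2]) (l' := [2, 0]) (by decide +kernel)
  c23 := by simpa using prod_g (l := [1, 2]) (l' := [2, 1]) (by decide +kernel)
  o1 := by simpa [pow_succ, mul_assoc] using prod_g (l := [0, 0, 0, 0]) (l' := []) (by decide +kernel)
  o2 := by simpa [pow_succ, mul_assoc] using prod_g (l := [1, 1, 1, 1]) (l' := []) (by decide +kernel)
  o3 := by simpa [pow_succ, mul_assoc] using prod_g (l := [2, 2, 2, 2]) (l' := []) (by decide +kernel)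
  r1 := by simpa [pow_succ, mul_assoc] using prod_g (l := [3, 0]) (l' := [1, 1, 1, 3]) (by decide +kernel)
  r2 := by simpa [pow_succ, mul_assoc] using prod_g (l := [3, 1]) (l' := [0, 3]) (by decide +kernel)
  r3 := by simpa [pow_succ, mul_assoc] using prod_g (l := [3, 2]) (l' := [0, 0, 0, 2, 3]) (by decide +kernel)
  s1 := by simpa [pow_succ, mul_assoc] using prod_g (l := [4, 0]) (l' := [1, 4]) (by decide +kernel)
  s2 := by simpa [pow_succ, mul_assoc] using prod_g (l := [4, 1]) (l' := [0, 4]) (by decide +kernel)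
  s3 := by simpa [pow_succ, mul_assoc] using prod_g (l := [4, 2]) (l' := [2, 2, 2, 4]) (by decide +kernel)
  r4 := by simpa [pow_succ, mul_assoc] using prod_g (l := [3, 3, 3, 3]) (l' := []) (by decide +kernel)
  ss := by simpa [pow_succ, mul_assoc] using prod_g (l := [4, 4]) (l' := []) (by decide +kernel)
  sr := by simpa [pow_succ, mul_assoc] using prod_g (l := [4, 3]) (l' := [3, 3, 3, 4]) (by decide +kernel)

/-- the embedding -/
noncomputable def φ : SM →* G2 := rel.lift

/-- the central involution of `SM` -/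
def zz : SM := el 10

theorem center_SM : ∀ x : SM, x ∈ Subgroup.center SM → x = 1 ∨ x = zz := by
  have key : ∀ x : SM, (mulN x.1 1 = mulN 1 x.1 ∧ mulN x.1 4 = mulN 4 x.1 ∧ mulN x.1 16 = mulN 16 x.1 ∧
      mulN x.1 64 = mulN 64 x.1 ∧ mulN x.1 256 = mulN 256 x.1) → x.1 = 0 ∨ x.1 = 10 := by
    refine forall_SM (fun a => (Nat.beq a 0 || Nat.beq a 10 || !(Nat.beq (mulN a 1) (mulN 1 a) &&
      Nat.beq (mulN a 4) (mulN 4 a) && Nat.beq (mulN a 16) (mulN 16 a) && Nat.beq (mulN a 64) (mulN 64 a) &&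
      Nat.beq (mulN a 256) (mulN 256 a)))) (by decide +kernel) ?_
    intro x hx ⟨h1, h2, h3, h4, h5⟩
    rw [h1, h2, h3, h4, h5] at hx
    simp only [Nat.beq_refl, Bool.and_self, Bool.not_true, Bool.or_false, Bool.or_eq_true] at hx
    rcases hx with h | h
    · exact Or.inl (Nat.eq_of_beq_eq_true h)
    · exact Or.inr (Nat.eq_of_beq_eq_true h)
  intro x hx
  rw [Subgroup.mem_center_iff] at hx
  have hc : ∀ y : SM, mulN x.1 y.1 = mulN y.1 x.1 := fun y => (congrArg SM.val (hx y)).symm
  rcases key x ⟨hc (el 1), hc (el 4), hc (el 16), hc (el 64), hc (el 256)⟩ with h | h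
  · exact Or.inl (SM.ext h)
  · exact Or.inr (SM.ext h)

theorem φ_zz : φ zz ≠ 1 := by
  intro h
  have h1 : φ zz = ([0, 0, 1, 1].map g).prod := by
    rw [φ, Rel.lift_apply]
    show B (g 0) (g 1) (g 2) 10 * D (g 3) (g 4) 0 = _
    simp [B, D, pow_succ, mul_assoc]
  rw [h1] at h
  have h2 : ψ (([0, 0, 1, 1].map g).prod) = (([0, 0, 1, 1] : List (Fin 5)).map σ).prod := by
    rw [map_list_prod, List.map_map]
    have : (⇑ψ ∘ g) = σ := funext ψ_g
    rw [this]
  rw [h, map_one] at h2
  have h3 : ∀ i : Fin 100, ev [0, 0, 1, 1] i = i := by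
    intro i
    rw [← ev_spec, ← h2]
    rfl
  have h4 : ¬ (allBelow (fun i => Nat.beq (ev [0, 0, 1, 1] i) i) 100 = true) := by decide +kernel
  apply h4
  have h5 : ∀ n ≤ 100, allBelow (fun i => Nat.beq (ev [0, 0, 1, 1] i) i) n = true := by
    intro n
    induction n with
    | zero => intro _; rfl
    | succ n ih =>
      intro hn
      rw [allBelow, ih (by omega), Bool.and_true]
      have h6 : ev [0, 0, 1, 1] n = n := h3 ⟨n, by omega⟩
      show Nat.beq (ev [0, 0, 1, 1] n) n = true
      rw [h6]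
      exact Nat.beq_refl n
  exact h5 100 le_rfl

theorem isPGroup_SM : IsPGroup 2 SM := IsPGroup.of_card (n := 9) (by rw [card_SM]; norm_num)

theorem φ_injective : Function.Injective φ := by
  have : Fact (Nat.Prime 2) := ⟨Nat.prime_two⟩
  have : Finite SM := Nat.finite_of_card_ne_zero (by rw [card_SM]; norm_num)
  rw [← MonoidHom.ker_eq_bot_iff]
  by_contra hne
  have hnil : Group.IsNilpotent SM := isPGroup_SM.isNilpotent
  have h1 := Cfsg.Agent.Lib.NormalAbelian.normal_inf_center_ne_bot φ.ker hne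
  obtain ⟨⟨x, hx⟩, hx1⟩ := Subgroup.ne_bot_iff_exists_ne_one.1 h1
  have hx1' : x ≠ 1 := fun h => hx1 (Subtype.ext h)
  rcases center_SM x hx.2 with h | h
  · exact hx1' h
  · have h2 : φ x = 1 := hx.1
    rw [h] at h2
    exact φ_zz h2

/-- **Every Sylow 2-subgroup of `HS` is isomorphic to `SM`.** -/
theorem exists_equiv (P : Sylow 2 ↥Cfsg.Spor.HS) : Nonempty (SM ≃* ↥(P : Subgroup ↥Cfsg.Spor.HS)) := by
  have : Fact (Nat.Prime 2) := ⟨Nat.prime_two⟩
  obtain ⟨e⟩ := isoHS_G2
  have hcard : Nat.card ↥Cfsg.Spor.HS = 44352000 := by rw [← Nat.card_congr e.toEquiv, card_G2]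
  have : Finite ↥Cfsg.Spor.HS := Nat.finite_of_card_ne_zero (by rw [hcard]; norm_num)
  let f : SM →* ↥Cfsg.Spor.HS := e.toMonoidHom.comp φ
  have hf : Function.Injective f := e.injective.comp φ_injective
  have h1 : Nat.card f.range = 512 := by
    rw [← card_SM]
    exact (Nat.card_congr (MonoidHom.ofInjective hf).toEquiv).symm
  have h2 : IsPGroup 2 f.range := IsPGroup.of_card (n := 9) (by rw [h1]; norm_num)
  obtain ⟨P', hP'⟩ := h2.exists_le_sylow
  have h3 : Nat.card P' = 512 := by
    rw [P'.card_eq_multiplicity, hcard]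
    have : (44352000 : ℕ).factorization 2 = 9 := by
      rw [show (44352000 : ℕ) = 2 ^ 9 * 86625 by norm_num, Nat.factorization_mul (by norm_num) (by norm_num),
        Finsupp.add_apply, Nat.Prime.factorization_pow Nat.prime_two, Finsupp.single_eq_same,
        Nat.factorization_eq_zero_of_not_dvd (by norm_num)]
    rw [this]; norm_num
  have h4 : f.range = (P' : Subgroup ↥Cfsg.Spor.HS) := by
    apply Subgroup.eq_of_le_of_card_ge hP'
    rw [h1]; exact h3.le
  exact ⟨((MonoidHom.ofInjective hf).trans (MulEquiv.subgroupCongr h4)).trans (P'.equiv P)⟩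

end Cfsg.Agent.HSType.SylHS
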