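import Cfsg.Statements.S1777
import Cfsg.Agent.HSType.Main
import Cfsg.Agent.HSType.Struct
import Cfsg.Agent.HSType.DatRes
import Cfsg.Agent.HSType.SylHS
import Cfsg.Agent.HSU.Final

/-!
# Assembly of S1777

`main : SolvFun → OddSolv → IsoOfCtx → (literal conclusion of S1777)`.
`SolvFun` (S0217) and `OddSolv` (S0205) are proved; `IsoOfCtx` is `HSType/Final.lean` (`isoHS_of_ctx`).
-/

set_option autoImplicit false
open Cfsg

namespace Cfsg.Agent.HSType.Assemble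

open Cfsg.Agent.HSType.Basic Cfsg.Agent.HSType.Model Cfsg.Agent.HSType.Facts
  Cfsg.Agent.HSType.Letters Cfsg.Agent.J2Sylow.Functor

universe u

/-- the recognition of `HS` from the centralizer of an involution (helper896) -/
def IsoOfCtx : Prop := ∀ (G : Type u) [Group G] [Finite G] (z : G) (φ : ↥C0 →* G),
  NormA.Ctx z φ → IsConj (φ (NormA.cA * NormA.cA)) z → Cfsg.Spor.IsoHS G

theorem structHyp (hSF : SolvFun.{u}) (hFT : OddSolv.{u}) : Main.StructHyp.{u} :=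
  fun _ _ _ c hJ _ hN _ hM _ hB hcl hsc => Struct.exists_BN c hSF hFT hJ hN hM hB hcl hsc

theorem ctx {G : Type*} [Group G] [Finite G]
    (S : Sylow 2 G) (P : Sylow 2 ↥Cfsg.Spor.HS)
    (hS : Nonempty (↥(S : Subgroup G) ≃* ↥(P : Subgroup ↥Cfsg.Spor.HS))) : Nonempty (Ctx G) := by
  obtain ⟨e⟩ := hS
  obtain ⟨f⟩ := SylHS.exists_equiv P
  refine ⟨⟨(S : Subgroup G).subtype.comp (f.trans e.symm).toMonoidHom, ?_, S, ?_⟩⟩
  · intro x y hxy
    exact (f.trans e.symm).injective ((S : Subgroup G).subtype_injective hxy)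
  · ext x
    constructor
    · intro hx
      refine ⟨f.symm (e ⟨x, hx⟩), ?_⟩
      show ((e.symm (f (f.symm (e ⟨x, hx⟩))) : ↥(S : Subgroup G)) : G) = x
      rw [MulEquiv.apply_symm_apply, MulEquiv.symm_apply_apply]
    · rintro ⟨s, rfl⟩
      exact (e.symm (f s)).2

/-- S1777 -/
theorem main (hSF : SolvFun.{u}) (hFT : OddSolv.{u}) (hiso : IsoOfCtx.{u})
    {G : Type u} [Group G] [Finite G] [IsSimpleGroup G]
    (S : Sylow 2 G) (P : Sylow 2 ↥Cfsg.Spor.HS)
    (hS : Nonempty (↥(S : Subgroup G) ≃* ↥(P : Subgroup ↥Cfsg.Spor.HS))) : Cfsg.Spor.IsoHS G := by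
  obtain ⟨c⟩ := ctx S P hS
  have hR := Main.main hSF hFT (structHyp hSF hFT) c
  obtain ⟨φ, hφ, hc⟩ := HSU.Final.ctx_of_dat (DatRes.dat_of_res hR) (OutB.hsData hR).conj
  exact hiso G _ φ hφ hc

end Cfsg.Agent.HSType.Assemble
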