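import Cfsg.Agent.HSType.NormD

set_option autoImplicit false

/-!
Recognition of the Higman–Sims group: the two relations `(h u)^5 = (h u a⁻¹ h a⁻¹ h u⁻¹)^5 = 1` hold, because both
elements act on the elementary abelian group `E = ⟨t, a², i², k t k⁻¹ t k⟩` of order 16 without fixed points and
with order 5, and `C_G(E) = E`.
-/

namespace Cfsg.Agent.HSType.ERel

open Cfsg.Agent.HSType.Letters hiding cK cT cI cA cB cH
open Cfsg.Agent.HSType.MFacts
  Cfsg.Agent.HSType.AffData Cfsg.Agent.HSType.NormA Cfsg.Agent.HSType.NormD Equiv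
open Cfsg.Agent.SporadicA.PermTab (allB allB_iff)
open Cfsg.Agent.HSType.Affine (band band_iff)

/-- vectors modulo 2 -/
structure W where
  a : ℕ
  b : ℕ
  c : ℕ
  d : ℕ

/-- matrices modulo 2, by columns -/
structure M4 where
  a : W
  b : W
  c : W
  d : W

/-- one coordinate -/
def co (v : W) (p q r s : ℕ) : ℕ :=
  Nat.mod (Nat.add (Nat.add (Nat.add (Nat.mul v.a p) (Nat.mul v.b q)) (Nat.mul v.c r)) (Nat.mul v.d s)) 2

/-- image of a vector -/
def M4.app (m : M4) (v : W) : W :=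
  ⟨co v m.a.a m.b.a m.c.a m.d.a, co v m.a.b m.b.b m.c.b m.d.b, co v m.a.c m.b.c m.c.c m.d.c,
    co v m.a.d m.b.d m.c.d m.d.d⟩

/-- product -/
def M4.mul (m n : M4) : M4 := ⟨m.app n.a, m.app n.b, m.app n.c, m.app n.d⟩

/-- unit matrix -/
def M4.one : M4 := ⟨⟨1, 0, 0, 0⟩, ⟨0, 1, 0, 0⟩, ⟨0, 0, 1, 0⟩, ⟨0, 0, 0, 1⟩⟩

def W.beq (v w : W) : Bool := band (Nat.beq v.a w.a) (band (Nat.beq v.b w.b) (band (Nat.beq v.c w.c) (Nat.beq v.d w.d)))
def M4.beq (m n : M4) : Bool := band (W.beq m.a n.a) (band (W.beq m.b n.b) (band (W.beq m.c n.c) (W.beq m.d n.d)))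

theorem W.eq_of_beq {v w : W} (h : W.beq v w = true) : v = w := by
  rw [W.beq, band_iff, band_iff, band_iff] at h
  obtain ⟨h1, h2, h3, h4⟩ := h
  cases v; cases w
  have h1 := Nat.eq_of_beq_eq_true h1
  have h2 := Nat.eq_of_beq_eq_true h2
  have h3 := Nat.eq_of_beq_eq_true h3
  have h4 := Nat.eq_of_beq_eq_true h4
  simp_all

theorem W.beq_self (v : W) : W.beq v v = true := by
  rw [W.beq, band_iff, band_iff, band_iff]
  exact ⟨Nat.beq_refl _, Nat.beq_refl _, Nat.beq_refl _, Nat.beq_refl _⟩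

theorem M4.eq_of_beq {m n : M4} (h : M4.beq m n = true) : m = n := by
  rw [M4.beq, band_iff, band_iff, band_iff] at h
  obtain ⟨h1, h2, h3, h4⟩ := h
  cases m; cases n
  have h1 := W.eq_of_beq h1
  have h2 := W.eq_of_beq h2
  have h3 := W.eq_of_beq h3
  have h4 := W.eq_of_beq h4
  simp_all

section group

variable {G : Type*} [Group G] (p q r s : G)

/-- the element with given exponents -/
def f (v : W) : G := p ^ v.a * q ^ v.b * r ^ v.c * s ^ v.d

/-- commuting involutions -/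
structure El : Prop where
  pq : p * q = q * p
  pr : p * r = r * p
  ps : p * s = s * p
  qr : q * r = r * q
  qs : q * s = s * q
  rs : r * s = s * r
  p2 : p ^ 2 = 1
  q2 : q ^ 2 = 1
  r2 : r ^ 2 = 1
  s2 : s ^ 2 = 1

variable {p q r s}

theorem f_mul (h : El p q r s) (a b c d a' b' c' d' : ℕ) :
    f p q r s ⟨a, b, c, d⟩ * f p q r s ⟨a', b', c', d'⟩ = f p q r s ⟨a + a', b + b', c + c', d + d'⟩ := by
  have h1 : Commute (q ^ b) (p ^ a') := (Commute.symm h.pq).pow_pow _ _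
  have h2 : Commute (r ^ c) (p ^ a') := (Commute.symm h.pr).pow_pow _ _
  have h3 : Commute (s ^ d) (p ^ a') := (Commute.symm h.ps).pow_pow _ _
  have h4 : Commute (r ^ c) (q ^ b') := (Commute.symm h.qr).pow_pow _ _
  have h5 : Commute (s ^ d) (q ^ b') := (Commute.symm h.qs).pow_pow _ _
  have h6 : Commute (s ^ d) (r ^ c') := (Commute.symm h.rs).pow_pow _ _
  simp only [f, pow_add]
  calc p ^ a * q ^ b * r ^ c * s ^ d * (p ^ a' * q ^ b' * r ^ c' * s ^ d')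
      = p ^ a * q ^ b * r ^ c * (s ^ d * p ^ a') * q ^ b' * r ^ c' * s ^ d' := by group
    _ = p ^ a * q ^ b * (r ^ c * p ^ a') * (s ^ d * q ^ b') * r ^ c' * s ^ d' := by rw [h3.eq]; group
    _ = p ^ a * (q ^ b * p ^ a') * (r ^ c * q ^ b') * (s ^ d * r ^ c') * s ^ d' := by rw [h2.eq, h5.eq]; group
    _ = p ^ a * p ^ a' * (q ^ b * q ^ b') * (r ^ c * r ^ c') * (s ^ d * s ^ d') := by
      rw [h1.eq, h4.eq, h6.eq]; group

theorem f_mod (h : El p q r s) (a b c d : ℕ) :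
    f p q r s ⟨a % 2, b % 2, c % 2, d % 2⟩ = f p q r s ⟨a, b, c, d⟩ := by
  simp only [f]
  rw [← pow_eq_pow_mod a h.p2, ← pow_eq_pow_mod b h.q2, ← pow_eq_pow_mod c h.r2, ← pow_eq_pow_mod d h.s2]

theorem f_pow (h : El p q r s) (a b c d k : ℕ) :
    (f p q r s ⟨a, b, c, d⟩) ^ k = f p q r s ⟨k * a, k * b, k * c, k * d⟩ := by
  induction k with
  | zero => simp [f]
  | succ k ih =>
    rw [pow_succ, ih, f_mul h]
    congr 2 <;> ring

theorem f_zero : f p q r s ⟨0, 0, 0, 0⟩ = 1 := by simp [f]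

/-- conjugation acts as the matrix `m` -/
structure Ac (p q r s n : G) (m : M4) : Prop where
  hp : n * p * n⁻¹ = f p q r s m.a
  hq : n * q * n⁻¹ = f p q r s m.b
  hr : n * r * n⁻¹ = f p q r s m.c
  hs : n * s * n⁻¹ = f p q r s m.d

theorem Ac.app (h : El p q r s) {n : G} {m : M4} (hn : Ac p q r s n m) (v : W) :
    n * f p q r s v * n⁻¹ = f p q r s (m.app v) := by
  obtain ⟨x, y, z, w⟩ := v
  have h1 : n * f p q r s ⟨x, y, z, w⟩ * n⁻¹ =
      (n * p * n⁻¹) ^ x * (n * q * n⁻¹) ^ y * (n * r * n⁻¹) ^ z * (n * s * n⁻¹) ^ w := by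
    simp only [f, conj_pow]; group
  rw [h1, hn.hp, hn.hq, hn.hr, hn.hs]
  obtain ⟨⟨a1, a2, a3, a4⟩, ⟨b1, b2, b3, b4⟩, ⟨c1, c2, c3, c4⟩, ⟨d1, d2, d3, d4⟩⟩ := m
  rw [f_pow h, f_pow h, f_pow h, f_pow h, f_mul h, f_mul h, f_mul h,
    ← f_mod h (x * a1 + y * b1 + z * c1 + w * d1)]
  rfl

theorem Ac.mul (h : El p q r s) {n n' : G} {m m' : M4} (hn : Ac p q r s n m) (hn' : Ac p q r s n' m') :
    Ac p q r s (n * n') (m.mul m') := by
  have key : ∀ x : G, n * n' * x * (n * n')⁻¹ = n * (n' * x * n'⁻¹) * n⁻¹ := by intro x; group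
  refine ⟨?_, ?_, ?_, ?_⟩
  · rw [key, hn'.hp, hn.app h]; rfl
  · rw [key, hn'.hq, hn.app h]; rfl
  · rw [key, hn'.hr, hn.app h]; rfl
  · rw [key, hn'.hs, hn.app h]; rfl

theorem Ac.one : Ac p q r s 1 M4.one := by
  constructor <;> simp [f, M4.one]

theorem f1 : f p q r s ⟨1, 0, 0, 0⟩ = p := by simp [f]
theorem f2 : f p q r s ⟨0, 1, 0, 0⟩ = q := by simp [f]
theorem f3 : f p q r s ⟨0, 0, 1, 0⟩ = r := by simp [f]
theorem f4 : f p q r s ⟨0, 0, 0, 1⟩ = s := by simp [f]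

theorem Ac.inv (h : El p q r s) {n : G} {m m' : M4} (hn : Ac p q r s n m) (hm : M4.mul m m' = M4.one) :
    Ac p q r s n⁻¹ m' := by
  have ha : m.app m'.a = ⟨1, 0, 0, 0⟩ := congrArg M4.a hm
  have hb : m.app m'.b = ⟨0, 1, 0, 0⟩ := congrArg M4.b hm
  have hc : m.app m'.c = ⟨0, 0, 1, 0⟩ := congrArg M4.c hm
  have hd : m.app m'.d = ⟨0, 0, 0, 1⟩ := congrArg M4.d hm
  refine ⟨?_, ?_, ?_, ?_⟩
  · have := hn.app h m'.a
    rw [ha, f1] at this
    have h3 : n⁻¹ * (n * f p q r s m'.a * n⁻¹) * n⁻¹⁻¹ = f p q r s m'.a := by group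
    rwa [this] at h3
  · have := hn.app h m'.b
    rw [hb, f2] at this
    have h3 : n⁻¹ * (n * f p q r s m'.b * n⁻¹) * n⁻¹⁻¹ = f p q r s m'.b := by group
    rwa [this] at h3
  · have := hn.app h m'.c
    rw [hc, f3] at this
    have h3 : n⁻¹ * (n * f p q r s m'.c * n⁻¹) * n⁻¹⁻¹ = f p q r s m'.c := by group
    rwa [this] at h3
  · have := hn.app h m'.d
    rw [hd, f4] at this
    have h3 : n⁻¹ * (n * f p q r s m'.d * n⁻¹) * n⁻¹⁻¹ = f p q r s m'.d := by group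
    rwa [this] at h3

/-- order 5 and no fixed vectors -/
def five (m : M4) : Bool :=
  band (M4.beq (M4.mul m (M4.mul m (M4.mul m (M4.mul m (M4.mul m M4.one))))) M4.one)
    (allB (fun a => allB (fun b => allB (fun c => allB (fun d =>
      cond (W.beq (m.app ⟨a, b, c, d⟩) ⟨a, b, c, d⟩) (W.beq ⟨a, b, c, d⟩ ⟨0, 0, 0, 0⟩) true) 2) 2) 2) 2)

theorem pow_five (h : El p q r s) (hj : ∀ v : W, f p q r s v = 1 → v.a % 2 = 0 ∧ v.b % 2 = 0 ∧ v.c % 2 = 0 ∧ v.d % 2 = 0)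
    (hcen : ∀ g : G, g * p = p * g → g * q = q * g → g * r = r * g → g * s = s * g → ∃ v, g = f p q r s v)
    {y : G} {m : M4} (hy : Ac p q r s y m) (h5 : five m = true) : y * (y * (y * (y * (y * 1)))) = 1 := by
  rw [five, band_iff] at h5
  obtain ⟨h5, h6⟩ := h5
  have hy5 : Ac p q r s (y * (y * (y * (y * (y * 1))))) M4.one := by
    rw [← M4.eq_of_beq h5]
    exact hy.mul h (hy.mul h (hy.mul h (hy.mul h (hy.mul h Ac.one))))
  set Y := y * (y * (y * (y * (y * 1)))) with hY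
  obtain ⟨v0, hv0⟩ := hcen Y (mul_inv_eq_iff_eq_mul.1 (hy5.hp.trans f1)) (mul_inv_eq_iff_eq_mul.1 (hy5.hq.trans f2))
    (mul_inv_eq_iff_eq_mul.1 (hy5.hr.trans f3)) (mul_inv_eq_iff_eq_mul.1 (hy5.hs.trans f4))
  obtain ⟨a0, b0, c0, d0⟩ := v0
  rw [← f_mod h] at hv0
  have h7 : y * Y * y⁻¹ = Y := by rw [hY]; group
  rw [hv0, hy.app h] at h7
  have hinj : ∀ v w : W, v.a < 2 → v.b < 2 → v.c < 2 → v.d < 2 → w.a < 2 → w.b < 2 → w.c < 2 → w.d < 2 →
      f p q r s v = f p q r s w → v = w := by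
    rintro ⟨v1, v2, v3, v4⟩ ⟨w1, w2, w3, w4⟩ p1 p2 p3 p4 q1 q2 q3 q4 hvw
    have h8 : f p q r s ⟨v1 + w1, v2 + w2, v3 + w3, v4 + w4⟩ = 1 := by
      rw [← f_mul h, hvw, f_mul h, ← f_mod h]
      have h9 : ∀ n : ℕ, (n + n) % 2 = 0 := by intro n; omega
      rw [h9, h9, h9, h9, f_zero]
    obtain ⟨k1, k2, k3, k4⟩ := hj _ h8
    dsimp only at p1 p2 p3 p4 q1 q2 q3 q4 k1 k2 k3 k4
    have e1 : v1 = w1 := by omega
    have e2 : v2 = w2 := by omega
    have e3 : v3 = w3 := by omega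
    have e4 : v4 = w4 := by omega
    rw [e1, e2, e3, e4]
  have ml : ∀ n : ℕ, n % 2 < 2 := fun n => Nat.mod_lt _ (by norm_num)
  have h8 := hinj _ _ (ml _) (ml _) (ml _) (ml _) (ml _) (ml _) (ml _) (ml _) h7
  have h9 := (allB_iff _ _).1 ((allB_iff _ _).1 ((allB_iff _ _).1 ((allB_iff _ _).1 h6 _ (ml a0)) _ (ml b0)) _
    (ml c0)) _ (ml d0)
  rw [h8, W.beq_self, cond_true] at h9
  rw [hv0, W.eq_of_beq h9, f_zero]

end group

noncomputable section

/-- `k t k⁻¹ t k` -/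
def cS : ↥C0 := cK * cT * cK⁻¹ * cT * cK

/-- the centraliser of `E` in `C0` -/
def CenE : Prop := ∀ c ∈ C0, c * pt = pt * c → c * (pa * pa) = (pa * pa) * c → c * (pi * pi) = (pi * pi) * c →
    c * evw [0, 2, 1, 2, 0] = evw [0, 2, 1, 2, 0] * c →
    ∃ x y z w : ℕ, c = pt ^ x * (pa * pa) ^ y * (pi * pi) ^ z * (evw [0, 2, 1, 2, 0]) ^ w

theorem coe_cS : ((cS : ↥C0) : Perm (Fin 100)) = evw [0, 2, 1, 2, 0] := by
  change pk * pt * pk⁻¹ * pt * pk = _
  simp [evw, Cfsg.Agent.SporadicRecognition.CosetCert.ev, gl, mul_assoc]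

/-- model words as words in `C0` -/
def clt (n : ℕ) : ↥C0 :=
  match n with
  | 0 => cK | 1 => cK⁻¹ | 2 => cT | 3 => cI | 4 => cI⁻¹ | 5 => cA | 6 => cA⁻¹ | 7 => cB | 8 => cB⁻¹ | 9 => cH | _ => 1

theorem clt_eq {v w : List ℕ} (hv : ∀ l ∈ v, l < 10) (hw : ∀ l ∈ w, l < 10) (h : chkEq v w = true) :
    (v.map clt).prod = (w.map clt).prod := by
  have key : ∀ w : List ℕ, (∀ l ∈ w, l < 10) → (((w.map clt).prod : ↥C0) : Perm (Fin 100)) = evw w := by
    intro w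
    induction w with
    | nil => intro _; rfl
    | cons l w ih =>
      intro hw
      rw [List.map_cons, List.prod_cons, Subgroup.coe_mul, ih fun y hy => hw y (List.mem_cons_of_mem _ hy),
        evw, evw, Cfsg.Agent.SporadicRecognition.CosetCert.ev_cons]
      congr 1
      have hl := hw l List.mem_cons_self
      match l with
      | 0 | 1 | 2 | 3 | 4 | 5 | 6 | 7 | 8 | 9 => rfl
      | n + 10 => omega
  apply Subtype.ext
  rw [key v hv, key w hw, ev_eq h]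

/-- all letters are letters of `C0` -/
def allLt (w : List ℕ) : Bool := w.all fun l => Nat.blt l 10

theorem allLt_iff {w : List ℕ} (h : allLt w = true) : ∀ l ∈ w, l < 10 := by
  intro l hl
  have := List.all_eq_true.1 h l hl
  exact Nat.le_of_ble_eq_true this

theorem wC {v w : List ℕ} (h : (allLt v && allLt w && chkEq v w) = true) :
    (v.map clt).prod = (w.map clt).prod := by
  rw [Bool.and_eq_true, Bool.and_eq_true] at h
  exact clt_eq (allLt_iff h.1.1) (allLt_iff h.1.2) h.2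

theorem elC : El cT (cA * cA) (cI * cI) cS := by
  constructor
  · simpa [clt, mul_assoc] using wC (v := [2, 5, 5]) (w := [5, 5, 2]) (by decide +kernel)
  · simpa [clt, mul_assoc] using wC (v := [2, 3, 3]) (w := [3, 3, 2]) (by decide +kernel)
  · simpa [clt, cS, mul_assoc] using wC (v := [2, 0, 2, 1, 2, 0]) (w := [0, 2, 1, 2, 0, 2]) (by decide +kernel)
  · simpa [clt, mul_assoc] using wC (v := [5, 5, 3, 3]) (w := [3, 3, 5, 5]) (by decide +kernel)
  · simpa [clt, cS, mul_assoc] using wC (v := [5, 5, 0, 2, 1, 2, 0]) (w := [0, 2, 1, 2, 0, 5, 5]) (by decide +kernel)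
  · simpa [clt, cS, mul_assoc] using wC (v := [3, 3, 0, 2, 1, 2, 0]) (w := [0, 2, 1, 2, 0, 3, 3]) (by decide +kernel)
  · simpa [clt, pow_two] using wC (v := [2, 2]) (w := []) (by decide +kernel)
  · simpa [clt, pow_two, mul_assoc] using wC (v := [5, 5, 5, 5]) (w := []) (by decide +kernel)
  · simpa [clt, pow_two, mul_assoc] using wC (v := [3, 3, 3, 3]) (w := []) (by decide +kernel)
  · simpa [clt, cS, pow_two, mul_assoc] using
      wC (v := [0, 2, 1, 2, 0, 0, 2, 1, 2, 0]) (w := []) (by decide +kernel)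

/-- matrices of `h`, `u`, `a⁻¹ h a⁻¹ h` -/
def mH : M4 := ⟨⟨1, 0, 1, 0⟩, ⟨0, 1, 1, 1⟩, ⟨0, 0, 1, 0⟩, ⟨0, 0, 0, 1⟩⟩
def mU : M4 := ⟨⟨0, 0, 0, 1⟩, ⟨0, 1, 1, 0⟩, ⟨0, 1, 0, 0⟩, ⟨1, 0, 0, 1⟩⟩
def mV : M4 := ⟨⟨1, 1, 1, 1⟩, ⟨0, 1, 1, 1⟩, ⟨0, 0, 1, 0⟩, ⟨0, 1, 1, 0⟩⟩
def mUi : M4 := M4.mul mU mU

/-- `a⁻¹ h a⁻¹ h` -/
def cV : ↥C0 := cA⁻¹ * (cH * (cA⁻¹ * cH))

theorem acH : Ac cT (cA * cA) (cI * cI) cS cH mH := by
  have hh : cH⁻¹ = cH := by
    rw [inv_eq_iff_mul_eq_one]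
    simpa [clt] using wC (v := [9, 9]) (w := []) (by decide +kernel)
  refine ⟨?_, ?_, ?_, ?_⟩
  · rw [hh]
    simpa [clt, f, mH, mul_assoc] using
      wC (v := [9, 2, 9]) (w := [2, 3, 3]) (by decide +kernel)
  · rw [hh]
    simpa [clt, f, mH, cS, mul_assoc] using
      wC (v := [9, 5, 5, 9]) (w := [5, 5, 3, 3, 0, 2, 1, 2, 0]) (by decide +kernel)
  · rw [hh]
    simpa [clt, f, mH, mul_assoc] using
      wC (v := [9, 3, 3, 9]) (w := [3, 3]) (by decide +kernel)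
  · rw [hh]
    simpa [clt, f, mH, cS, mul_assoc] using
      wC (v := [9, 0, 2, 1, 2, 0, 9]) (w := [0, 2, 1, 2, 0]) (by decide +kernel)

theorem acV : Ac cT (cA * cA) (cI * cI) cS cV mV := by
  have hh : cH⁻¹ = cH := by
    rw [inv_eq_iff_mul_eq_one]
    simpa [clt] using wC (v := [9, 9]) (w := []) (by decide +kernel)
  refine ⟨?_, ?_, ?_, ?_⟩
  · simpa [clt, f, mV, cV, cS, hh, mul_assoc] using
      wC (v := [6, 9, 6, 9, 2, 9, 5, 9, 5]) (w := [2, 5, 5, 3, 3, 0, 2, 1, 2, 0]) (by decide +kernel)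
  · simpa [clt, f, mV, cV, cS, hh, mul_assoc] using
      wC (v := [6, 9, 6, 9, 5, 5, 9, 5, 9, 5]) (w := [5, 5, 3, 3, 0, 2, 1, 2, 0]) (by decide +kernel)
  · simpa [clt, f, mV, cV, cS, hh, mul_assoc] using
      wC (v := [6, 9, 6, 9, 3, 3, 9, 5, 9, 5]) (w := [3, 3]) (by decide +kernel)
  · simpa [clt, f, mV, cV, cS, hh, mul_assoc] using
      wC (v := [6, 9, 6, 9, 0, 2, 1, 2, 0, 9, 5, 9, 5]) (w := [5, 5, 3, 3]) (by decide +kernel)

/-- injectivity in the model -/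
theorem inj_ok : (allB (fun a => allB (fun b => allB (fun c => allB (fun d =>
    cond (chkOne (List.append (Nat.rec [] (fun _ _ => [2]) a) (List.append (Nat.rec [] (fun _ _ => [5, 5]) b)
      (List.append (Nat.rec [] (fun _ _ => [3, 3]) c) (Nat.rec [] (fun _ _ => [0, 2, 1, 2, 0]) d)))))
      (W.beq ⟨a, b, c, d⟩ ⟨0, 0, 0, 0⟩) true) 2) 2) 2) 2) = true := by decide +kernel

theorem injE (v : W) (hv : f cT (cA * cA) (cI * cI) cS v = 1) :
    v.a % 2 = 0 ∧ v.b % 2 = 0 ∧ v.c % 2 = 0 ∧ v.d % 2 = 0 := by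
  obtain ⟨a, b, c, d⟩ := v
  rw [← f_mod elC] at hv
  dsimp only
  have ml : ∀ n : ℕ, n % 2 < 2 := fun n => Nat.mod_lt _ (by norm_num)
  have h9 := (allB_iff _ _).1 ((allB_iff _ _).1 ((allB_iff _ _).1 ((allB_iff _ _).1 inj_ok _ (ml a)) _ (ml b)) _
    (ml c)) _ (ml d)
  have hcoe := congrArg Subtype.val hv
  have key : ∀ a b c d : ℕ, a < 2 → b < 2 → c < 2 → d < 2 →
      ((f cT (cA * cA) (cI * cI) cS ⟨a, b, c, d⟩ : ↥C0) : Perm (Fin 100)) =
      evw (List.append (Nat.rec [] (fun _ _ => [2]) a) (List.append (Nat.rec [] (fun _ _ => [5, 5]) b)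
      (List.append (Nat.rec [] (fun _ _ => [3, 3]) c) (Nat.rec [] (fun _ _ => [0, 2, 1, 2, 0]) d)))) := by
    intro a b c d ha hb hc hd
    have h1 : ∀ u v : List ℕ, evw (List.append u v) = evw u * evw v := fun u v =>
      Cfsg.Agent.SporadicRecognition.CosetCert.ev_append gl u v
    rw [h1, h1, h1]
    simp only [f, Subgroup.coe_mul, Subgroup.coe_pow, coe_cS]
    rw [mul_assoc, mul_assoc]
    congr 1
    · interval_cases a
      · rfl
      · rw [pow_one]; simp [evw, Cfsg.Agent.SporadicRecognition.CosetCert.ev, gl]; rfl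
    congr 1
    · interval_cases b
      · rfl
      · rw [pow_one]; simp [evw, Cfsg.Agent.SporadicRecognition.CosetCert.ev, gl]; rfl
    congr 1
    · interval_cases c
      · rfl
      · rw [pow_one]; simp [evw, Cfsg.Agent.SporadicRecognition.CosetCert.ev, gl]; rfl
    · interval_cases d
      · rfl
      · rw [pow_one]; rfl
  rw [key _ _ _ _ (ml a) (ml b) (ml c) (ml d)] at hcoe
  have h10 := chkOne_of_eq hcoe
  have h11 : (cond (chkOne (List.append (Nat.rec [] (fun _ _ => [2]) (a % 2)) (List.append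
      (Nat.rec [] (fun _ _ => [5, 5]) (b % 2)) (List.append (Nat.rec [] (fun _ _ => [3, 3]) (c % 2))
      (Nat.rec [] (fun _ _ => [0, 2, 1, 2, 0]) (d % 2))))))
      (W.beq ⟨a % 2, b % 2, c % 2, d % 2⟩ ⟨0, 0, 0, 0⟩) true) = true := h9
  rw [h10, cond_true] at h11
  have := W.eq_of_beq h11
  rw [W.mk.injEq] at this
  exact this

theorem mapEl {G H : Type*} [Group G] [Group H] (φ : G →* H) {p q r s : G} (h : El p q r s) :
    El (φ p) (φ q) (φ r) (φ s) where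
  pq := by rw [← map_mul, h.pq, map_mul]
  pr := by rw [← map_mul, h.pr, map_mul]
  ps := by rw [← map_mul, h.ps, map_mul]
  qr := by rw [← map_mul, h.qr, map_mul]
  qs := by rw [← map_mul, h.qs, map_mul]
  rs := by rw [← map_mul, h.rs, map_mul]
  p2 := by rw [← map_pow, h.p2, map_one]
  q2 := by rw [← map_pow, h.q2, map_one]
  r2 := by rw [← map_pow, h.r2, map_one]
  s2 := by rw [← map_pow, h.s2, map_one]

theorem map_f {G H : Type*} [Group G] [Group H] (φ : G →* H) (p q r s : G) (v : W) :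
    φ (f p q r s v) = f (φ p) (φ q) (φ r) (φ s) v := by
  simp [f]

theorem mapAc {G H : Type*} [Group G] [Group H] (φ : G →* H) {p q r s n : G} {m : M4} (h : Ac p q r s n m) :
    Ac (φ p) (φ q) (φ r) (φ s) (φ n) m where
  hp := by rw [← map_f, ← h.hp]; simp
  hq := by rw [← map_f, ← h.hq]; simp
  hr := by rw [← map_f, ← h.hr]; simp
  hs := by rw [← map_f, ← h.hs]; simp

theorem five1 : five (M4.mul mH mU) = true := by decide +kernel
theorem five2 : five (M4.mul mH (M4.mul mU (M4.mul mV mUi))) = true := by decide +kernel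
theorem chkUi : M4.mul mU mUi = M4.one := M4.eq_of_beq (by decide +kernel)

variable {G : Type*} [Group G] {z : G} {φ : ↥C0 →* G}

/-- **The E-relations.** -/
theorem relE_of (hE : CenE) (h : Ctx z φ) {r : G} (hr : ∀ w ∈ relNN, (w.map (letters φ r)).prod = 1) :
    ∀ w ∈ relE, (w.map (letters φ r)).prod = 1 := by
  have hel : El (φ cT) (φ (cA * cA)) (φ (cI * cI)) (φ cS) := mapEl φ elC
  have hj : ∀ v : W, f (φ cT) (φ (cA * cA)) (φ (cI * cI)) (φ cS) v = 1 →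
      v.a % 2 = 0 ∧ v.b % 2 = 0 ∧ v.c % 2 = 0 ∧ v.d % 2 = 0 := by
    intro v hv
    rw [← map_f] at hv
    exact injE v (h.inj (by rw [hv, map_one]))
  have hcen : ∀ g : G, g * φ cT = φ cT * g → g * φ (cA * cA) = φ (cA * cA) * g →
      g * φ (cI * cI) = φ (cI * cI) * g → g * φ cS = φ cS * g →
      ∃ v, g = f (φ cT) (φ (cA * cA)) (φ (cI * cI)) (φ cS) v := by
    intro g h1 h2 h3 h4
    rw [h.hz] at h3
    obtain ⟨c, rfl⟩ := h.cen g h3
    rw [← map_mul, ← map_mul] at h1 h2 h4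
    have e1 := congrArg Subtype.val (h.inj h1)
    have e2 := congrArg Subtype.val (h.inj h2)
    have e4 := congrArg Subtype.val (h.inj h4)
    rw [Subgroup.coe_mul, Subgroup.coe_mul, coe_cS] at e4
    obtain ⟨x, y, z', w, hc⟩ := hE c c.2 e1 e2 (comm_z0 c.2) e4
    refine ⟨⟨x, y, z', w⟩, ?_⟩
    rw [← map_f]
    congr 1
    apply Subtype.ext
    rw [hc]
    simp only [f, Subgroup.coe_mul, Subgroup.coe_pow, coe_cS]
    rfl
  -- the action of u
  set u := r * φ cK with hu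
  have hti : (φ cT)⁻¹ = φ cT := by
    rw [← map_inv, show cT⁻¹ = cT from Subtype.ext tt]
  have n1 := hr [12, 2, 13, 1, 2, 0, 2, 1] (by decide)
  have n2 := hr [12, 5, 5, 13, 4, 4, 6, 6] (by decide)
  have n3 := hr [12, 3, 3, 13, 6, 6] (by decide)
  have n4 := hr [12, 0, 2, 1, 2, 0, 13, 1, 2, 0, 2, 1, 2] (by decide)
  simp only [List.map_cons, List.map_nil, List.prod_cons, List.prod_nil, letters, mul_one, ← hu] at n1 n2 n3 n4
  have hU : Ac (φ cT) (φ (cA * cA)) (φ (cI * cI)) (φ cS) u mU := by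
    refine ⟨?_, ?_, ?_, ?_⟩
    · have e1 : f (φ cT) (φ (cA * cA)) (φ (cI * cI)) (φ cS) mU.a =
          φ cK * φ cT * (φ cK)⁻¹ * φ cT * φ cK := by
        simp [f, mU, cS]
      have e2 : u * φ cT * u⁻¹ * ((φ cK)⁻¹ * (φ cT * (φ cK * (φ cT * (φ cK)⁻¹)))) = 1 := by
        rw [← n1]; group
      rw [e1, eq_inv_of_mul_eq_one_left e2]
      simp only [mul_inv_rev, inv_inv, hti, mul_assoc]
    · have e1 : f (φ cT) (φ (cA * cA)) (φ (cI * cI)) (φ cS) mU.b = φ cA * φ cA * (φ cI * φ cI) := by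
        simp [f, mU]
      have e2 : u * φ (cA * cA) * u⁻¹ * ((φ cI)⁻¹ * ((φ cI)⁻¹ * ((φ cA)⁻¹ * (φ cA)⁻¹))) = 1 := by
        rw [← n2, map_mul]; group
      rw [e1, eq_inv_of_mul_eq_one_left e2]
      simp only [mul_inv_rev, inv_inv, mul_assoc]
    · have e1 : f (φ cT) (φ (cA * cA)) (φ (cI * cI)) (φ cS) mU.c = φ cA * φ cA := by
        simp [f, mU]
      have e2 : u * φ (cI * cI) * u⁻¹ * ((φ cA)⁻¹ * (φ cA)⁻¹) = 1 := by
        rw [← n3, map_mul]; group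
      rw [e1, eq_inv_of_mul_eq_one_left e2]
      simp only [mul_inv_rev, inv_inv]
    · have e1 : f (φ cT) (φ (cA * cA)) (φ (cI * cI)) (φ cS) mU.d =
          φ cT * (φ cK * φ cT * (φ cK)⁻¹ * φ cT * φ cK) := by
        simp [f, mU, cS]
      have e2 : u * φ cS * u⁻¹ * ((φ cK)⁻¹ * (φ cT * (φ cK * (φ cT * ((φ cK)⁻¹ * φ cT))))) = 1 := by
        rw [← n4, cS, map_mul, map_mul, map_mul, map_mul, map_inv]; group
      rw [e1, eq_inv_of_mul_eq_one_left e2]
      simp only [mul_inv_rev, inv_inv, hti, mul_assoc]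
  have hUi : Ac (φ cT) (φ (cA * cA)) (φ (cI * cI)) (φ cS) u⁻¹ mUi := Ac.inv hel hU chkUi
  have hH : Ac (φ cT) (φ (cA * cA)) (φ (cI * cI)) (φ cS) (φ cH) mH := mapAc φ acH
  have hV : Ac (φ cT) (φ (cA * cA)) (φ (cI * cI)) (φ cS) (φ cV) mV := mapAc φ acV
  have r1 := pow_five hel hj hcen (hH.mul hel hU) five1
  have r2 := pow_five hel hj hcen (hH.mul hel (hU.mul hel (hV.mul hel hUi))) five2
  intro w hw
  have hw' : w = [9, 12, 9, 12, 9, 12, 9, 12, 9, 12] ∨ w = [9, 12, 6, 9, 6, 9, 13, 9, 12, 6, 9, 6, 9, 13, 9, 12, 6,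
      9, 6, 9, 13, 9, 12, 6, 9, 6, 9, 13, 9, 12, 6, 9, 6, 9, 13] := by
    simpa [relE] using hw
  rcases hw' with rfl | rfl
  · simp only [List.map_cons, List.map_nil, List.prod_cons, List.prod_nil, letters, ← hu]
    refine Eq.trans ?_ r1
    group
  · simp only [List.map_cons, List.map_nil, List.prod_cons, List.prod_nil, letters, ← hu]
    refine Eq.trans ?_ r2
    rw [cV, map_mul, map_mul, map_mul, map_inv]
    group

end

end Cfsg.Agent.HSType.ERel
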