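import Cfsg.Agent.HSType.NormB
import Cfsg.Agent.HSType.ERel

set_option autoImplicit false

/-!
Facts on the explicit centraliser `C0`: it is the union of five cosets of `B0`, the normaliser of `A0` is `B0`,
centralisers of `⟨a², b²⟩` and of `E`, and conjugacy of the abelian subgroups of order 64.
-/

namespace Cfsg.Agent.HSType.CFacts

open Cfsg.Agent.HSType.Letters hiding cK cT cI cA cB cH
open Cfsg.Agent.HSType.Affine Cfsg.Agent.HSType.MFacts
  Cfsg.Agent.HSType.AffData Cfsg.Agent.HSType.AffLemmas Cfsg.Agent.HSType.NormA Cfsg.Agent.HSType.NormB Equiv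
open Cfsg.Agent.SporadicA.PermTab (allB allB_iff)

/-- representatives of the cosets of `B0` in `C0` -/
def cw (n : ℕ) : List ℕ := Nat.rec [] (fun n _ => Nat.rec [9] (fun n _ => Nat.rec [5,9] (fun n _ => Nat.rec [7,9] (fun n _ => Nat.rec [7,5,9] (fun n _ => []) n) n) n) n) n

theorem ev_app (u v : List ℕ) : evw (u ++ v) = evw u * evw v :=
  Cfsg.Agent.SporadicRecognition.CosetCert.ev_append gl u v

theorem pw_mem (n : ℕ) (hn : n < 24) : evw (pw n) ∈ KT := by
  have key : ∀ w : List ℕ, (∀ l ∈ w, l = 0 ∨ l = 2) → evw w ∈ KT := by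
    intro w
    induction w with
    | nil => intro _; exact KT.one_mem
    | cons l w ih =>
      intro hw
      rw [evw, Cfsg.Agent.SporadicRecognition.CosetCert.ev_cons]
      refine KT.mul_mem ?_ (ih fun y hy => hw y (List.mem_cons_of_mem _ hy))
      rcases hw l List.mem_cons_self with rfl | rfl
      · exact Subgroup.subset_closure (Or.inl rfl)
      · exact Subgroup.subset_closure (Or.inr rfl)
  exact key _ (pw_letters n hn)

theorem A0_le : A0 ≤ B0 := Subgroup.closure_mono (by rintro g (rfl | rfl | rfl) <;> simp)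

theorem e_mem_A0 (v : V) : e pi pa pb v ∈ A0 := mem_A0.2 ⟨v, rfl⟩

theorem step_of {l j' x y z n : ℕ} {w : List ℕ} (hj : j' < 5) (hn : n < 24)
    (h : chkEq (l :: w) (cw j' ++ (wv x y z ++ pw n)) = true) :
    ∃ j < 5, ∃ b ∈ B0, gl l * evw w = evw (cw j) * b := by
  refine ⟨j', hj, e pi pa pb ⟨x, y, z⟩ * evw (pw n), B0.mul_mem (A0_le (e_mem_A0 _)) (KT_le (pw_mem n hn)), ?_⟩
  have h1 := ev_eq h
  rw [ev_app, ev_app, ev_wv] at h1
  rw [← h1, evw, evw, Cfsg.Agent.SporadicRecognition.CosetCert.ev_cons]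

theorem step_k (j : ℕ) (hj : j < 5) : ∃ j' < 5, ∃ b ∈ B0, pk * evw (cw j) = evw (cw j') * b := by
  have h : ∃ j' < 5, ∃ b ∈ B0, gl 0 * evw (cw j) = evw (cw j') * b := by
    interval_cases j
    · exact step_of (j' := 0) (x := 0) (y := 0) (z := 0) (n := 1) (by norm_num) (by norm_num) (by decide +kernel)
    · exact step_of (j' := 1) (x := 0) (y := 0) (z := 0) (n := 1) (by norm_num) (by norm_num) (by decide +kernel)
    · exact step_of (j' := 3) (x := 0) (y := 0) (z := 0) (n := 1) (by norm_num) (by norm_num) (by decide +kernel)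
    · exact step_of (j' := 4) (x := 0) (y := 2) (z := 2) (n := 13) (by norm_num) (by norm_num) (by decide +kernel)
    · exact step_of (j' := 2) (x := 0) (y := 2) (z := 0) (n := 16) (by norm_num) (by norm_num) (by decide +kernel)
  exact h

theorem step_t (j : ℕ) (hj : j < 5) : ∃ j' < 5, ∃ b ∈ B0, pt * evw (cw j) = evw (cw j') * b := by
  have h : ∃ j' < 5, ∃ b ∈ B0, gl 2 * evw (cw j) = evw (cw j') * b := by
    interval_cases j
    · exact step_of (j' := 0) (x := 0) (y := 0) (z := 0) (n := 2) (by norm_num) (by norm_num) (by decide +kernel)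
    · exact step_of (j' := 1) (x := 2) (y := 0) (z := 0) (n := 2) (by norm_num) (by norm_num) (by decide +kernel)
    · exact step_of (j' := 2) (x := 0) (y := 2) (z := 0) (n := 23) (by norm_num) (by norm_num) (by decide +kernel)
    · exact step_of (j' := 4) (x := 1) (y := 2) (z := 0) (n := 23) (by norm_num) (by norm_num) (by decide +kernel)
    · exact step_of (j' := 3) (x := 1) (y := 2) (z := 0) (n := 23) (by norm_num) (by norm_num) (by decide +kernel)
  exact h

theorem step_i (j : ℕ) (hj : j < 5) : ∃ j' < 5, ∃ b ∈ B0, pi * evw (cw j) = evw (cw j') * b := by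
  have h : ∃ j' < 5, ∃ b ∈ B0, gl 3 * evw (cw j) = evw (cw j') * b := by
    interval_cases j
    · exact step_of (j' := 0) (x := 1) (y := 0) (z := 0) (n := 0) (by norm_num) (by norm_num) (by decide +kernel)
    · exact step_of (j' := 1) (x := 3) (y := 0) (z := 0) (n := 0) (by norm_num) (by norm_num) (by decide +kernel)
    · exact step_of (j' := 2) (x := 3) (y := 0) (z := 0) (n := 0) (by norm_num) (by norm_num) (by decide +kernel)
    · exact step_of (j' := 3) (x := 3) (y := 0) (z := 0) (n := 0) (by norm_num) (by norm_num) (by decide +kernel)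
    · exact step_of (j' := 4) (x := 3) (y := 0) (z := 0) (n := 0) (by norm_num) (by norm_num) (by decide +kernel)
  exact h

theorem step_a (j : ℕ) (hj : j < 5) : ∃ j' < 5, ∃ b ∈ B0, pa * evw (cw j) = evw (cw j') * b := by
  have h : ∃ j' < 5, ∃ b ∈ B0, gl 5 * evw (cw j) = evw (cw j') * b := by
    interval_cases j
    · exact step_of (j' := 0) (x := 0) (y := 1) (z := 0) (n := 0) (by norm_num) (by norm_num) (by decide +kernel)
    · exact step_of (j' := 2) (x := 0) (y := 0) (z := 0) (n := 0) (by norm_num) (by norm_num) (by decide +kernel)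
    · exact step_of (j' := 1) (x := 2) (y := 2) (z := 0) (n := 20) (by norm_num) (by norm_num) (by decide +kernel)
    · exact step_of (j' := 4) (x := 0) (y := 0) (z := 0) (n := 0) (by norm_num) (by norm_num) (by decide +kernel)
    · exact step_of (j' := 3) (x := 2) (y := 2) (z := 0) (n := 20) (by norm_num) (by norm_num) (by decide +kernel)
  exact h

theorem step_b (j : ℕ) (hj : j < 5) : ∃ j' < 5, ∃ b ∈ B0, pb * evw (cw j) = evw (cw j') * b := by
  have h : ∃ j' < 5, ∃ b ∈ B0, gl 7 * evw (cw j) = evw (cw j') * b := by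
    interval_cases j
    · exact step_of (j' := 0) (x := 0) (y := 0) (z := 1) (n := 0) (by norm_num) (by norm_num) (by decide +kernel)
    · exact step_of (j' := 3) (x := 0) (y := 0) (z := 0) (n := 0) (by norm_num) (by norm_num) (by decide +kernel)
    · exact step_of (j' := 4) (x := 0) (y := 0) (z := 0) (n := 0) (by norm_num) (by norm_num) (by decide +kernel)
    · exact step_of (j' := 1) (x := 2) (y := 0) (z := 2) (n := 14) (by norm_num) (by norm_num) (by decide +kernel)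
    · exact step_of (j' := 2) (x := 2) (y := 0) (z := 2) (n := 14) (by norm_num) (by norm_num) (by decide +kernel)
  exact h

theorem step_h (j : ℕ) (hj : j < 5) : ∃ j' < 5, ∃ b ∈ B0, ph * evw (cw j) = evw (cw j') * b := by
  have h : ∃ j' < 5, ∃ b ∈ B0, gl 9 * evw (cw j) = evw (cw j') * b := by
    interval_cases j
    · exact step_of (j' := 1) (x := 0) (y := 0) (z := 0) (n := 0) (by norm_num) (by norm_num) (by decide +kernel)
    · exact step_of (j' := 0) (x := 0) (y := 0) (z := 0) (n := 0) (by norm_num) (by norm_num) (by decide +kernel)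
    · exact step_of (j' := 2) (x := 1) (y := 3) (z := 0) (n := 2) (by norm_num) (by norm_num) (by decide +kernel)
    · exact step_of (j' := 3) (x := 1) (y := 0) (z := 3) (n := 11) (by norm_num) (by norm_num) (by decide +kernel)
    · exact step_of (j' := 4) (x := 3) (y := 3) (z := 3) (n := 10) (by norm_num) (by norm_num) (by decide +kernel)
  exact h

/-- elements of `C0` -/
def InC (c : Perm (Fin 100)) : Prop := ∃ j < 5, ∃ b ∈ B0, c = evw (cw j) * b

theorem inC_mul {g : Perm (Fin 100)} (hg : ∀ j < 5, ∃ j' < 5, ∃ b ∈ B0, g * evw (cw j) = evw (cw j') * b)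
    {c : Perm (Fin 100)} (hc : InC c) : InC (g * c) := by
  obtain ⟨j, hj, b, hb, rfl⟩ := hc
  obtain ⟨j', hj', b', hb', h⟩ := hg j hj
  exact ⟨j', hj', b' * b, B0.mul_mem hb' hb, by rw [← mul_assoc, h, mul_assoc]⟩

theorem mem_C0 {c : Perm (Fin 100)} (hc : c ∈ C0) : InC c := by
  have i3 : pi⁻¹ = pi * (pi * pi) := by
    rw [inv_eq_iff_mul_eq_one]
    simpa [gl, mul_assoc] using weq (v := [3, 3, 3, 3]) (w := []) (by decide +kernel)
  have a3 : pa⁻¹ = pa * (pa * pa) := by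
    rw [inv_eq_iff_mul_eq_one]
    simpa [gl, mul_assoc] using weq (v := [5, 5, 5, 5]) (w := []) (by decide +kernel)
  have b3 : pb⁻¹ = pb * (pb * pb) := by
    rw [inv_eq_iff_mul_eq_one]
    simpa [gl, mul_assoc] using weq (v := [7, 7, 7, 7]) (w := []) (by decide +kernel)
  refine Subgroup.closure_induction_left (p := fun c _ => InC c) ?_ ?_ ?_ hc
  · exact ⟨0, by norm_num, 1, B0.one_mem, by rw [mul_one]; rfl⟩
  · rintro x (rfl | rfl | rfl | rfl | rfl | rfl) y - h
    · exact inC_mul step_k h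
    · exact inC_mul step_t h
    · exact inC_mul step_i h
    · exact inC_mul step_a h
    · exact inC_mul step_b h
    · exact inC_mul step_h h
  · rintro x (rfl | rfl | rfl | rfl | rfl | rfl) y - h
    · rw [kkk, mul_assoc]; exact inC_mul step_k (inC_mul step_k h)
    · rw [tt]; exact inC_mul step_t h
    · rw [i3, mul_assoc, mul_assoc]; exact inC_mul step_i (inC_mul step_i (inC_mul step_i h))
    · rw [a3, mul_assoc, mul_assoc]; exact inC_mul step_a (inC_mul step_a (inC_mul step_a h))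
    · rw [b3, mul_assoc, mul_assoc]; exact inC_mul step_b (inC_mul step_b (inC_mul step_b h))
    · rw [hh]; exact inC_mul step_h h

theorem cw_lt : ∀ j < 5, ∀ l ∈ cw j, l < 10 := by decide

theorem cw_mem {j : ℕ} (hj : j < 5) : evw (cw j) ∈ C0 := ev_mem_C0 _ (cw_lt j hj)

/-- formal inverses of the representatives -/
def cwi (n : ℕ) : List ℕ := Nat.rec [] (fun n _ => Nat.rec [9] (fun n _ => Nat.rec [9,6] (fun n _ => Nat.rec [9,8] (fun n _ => Nat.rec [9,6,8] (fun n _ => []) n) n) n) n) n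

theorem cwi_ok : allB (fun j => chkOne (cw j ++ cwi j)) 5 = true := by decide +kernel

theorem ev_cwi {j : ℕ} (hj : j < 5) : evw (cwi j) = (evw (cw j))⁻¹ := by
  have h := ev_eq_one ((allB_iff _ _).1 cwi_ok j hj)
  rw [ev_app] at h
  exact (inv_eq_of_mul_eq_one_right h).symm

theorem A0_comm {x y : Perm (Fin 100)} (hx : x ∈ A0) (hy : y ∈ A0) : x * y = y * x := by
  rw [A0_eq] at hx hy
  exact sub_comm ab0 hx hy

theorem pa_mem_A0 : pa ∈ A0 := Subgroup.subset_closure (by simp)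
theorem pb_mem_A0 : pb ∈ A0 := Subgroup.subset_closure (by simp)
theorem pi_mem_A0 : pi ∈ A0 := Subgroup.subset_closure (by simp)

theorem act_pw {n : ℕ} (hn : n < 24) : Act pi pa pb (evw (pw n)) (pm n) := by
  rw [← coe_pwC hn]
  exact Act.map C0.subtype (act_pwC hn)

theorem act_B0 {v : V} {n : ℕ} (hn : n < 24) : Act pi pa pb (e pi pa pb v * evw (pw n)) (pm n) := by
  have h1 := (act_e ab0 v).mul ab0 (act_pw hn)
  have h2 : ∀ x w, evw (pw n) * x * (evw (pw n))⁻¹ = e pi pa pb w →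
      (e pi pa pb v * evw (pw n)) * x * (e pi pa pb v * evw (pw n))⁻¹ = e pi pa pb w := by
    intro x w hx
    have h3 : (e pi pa pb v * evw (pw n)) * x * (e pi pa pb v * evw (pw n))⁻¹ =
      e pi pa pb v * (evw (pw n) * x * (evw (pw n))⁻¹) * (e pi pa pb v)⁻¹ := by group
    rw [h3, hx, e_comm ab0 v w, mul_inv_cancel_right]
  have h4 := act_pw hn
  exact ⟨h2 _ _ h4.hi, h2 _ _ h4.ha, h2 _ _ h4.hb⟩

theorem B0_norm {b : Perm (Fin 100)} (hb : b ∈ B0) {x : Perm (Fin 100)} (hx : x ∈ A0) : b * x * b⁻¹ ∈ A0 := by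
  obtain ⟨v, n, hn, rfl⟩ := mem_B0 hb
  obtain ⟨w, rfl⟩ := mem_A0.1 hx
  rw [(act_B0 hn).app ab0]
  exact e_mem_A0 _

theorem B0_norm' {b : Perm (Fin 100)} (hb : b ∈ B0) {x : Perm (Fin 100)} (hx : x ∈ A0) : b⁻¹ * x * b ∈ A0 := by
  have := B0_norm (B0.inv_mem hb) hx
  rwa [inv_inv] at this

/-- conjugates of `a` by different representatives do not commute -/
theorem cc_ok : allB (fun j => allB (fun l => cond (Nat.beq j l) true
    (Bool.not (chkEq ((cw j ++ (5 :: cwi j)) ++ (cw l ++ (5 :: cwi l)))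
      ((cw l ++ (5 :: cwi l)) ++ (cw j ++ (5 :: cwi j)))))) 5) 5 = true := by decide +kernel

theorem chkEq_of_eq {v w : List ℕ} (h : evw v = evw w) : chkEq v w = true := by
  refine (allB_iff _ _).2 fun x hx => ?_
  have h1 := ev_val v ⟨x, hx⟩
  have h2 := ev_val w ⟨x, hx⟩
  rw [h, h2] at h1
  change Nat.beq (evp v x) (evp w x) = true
  have h3 : evp w x = evp v x := h1
  rw [h3]; exact Nat.beq_refl _

theorem ev_conj {j : ℕ} (hj : j < 5) (l : ℕ) : evw (cw j ++ (l :: cwi j)) = evw (cw j) * gl l * (evw (cw j))⁻¹ := by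
  rw [ev_app, mul_assoc]
  congr 1
  rw [← ev_cwi hj, evw, evw, Cfsg.Agent.SporadicRecognition.CosetCert.ev_cons]

theorem ncomm {j l : ℕ} (hj : j < 5) (hl : l < 5) (hne : j ≠ l)
    (h : (evw (cw j) * pa * (evw (cw j))⁻¹) * (evw (cw l) * pa * (evw (cw l))⁻¹) =
      (evw (cw l) * pa * (evw (cw l))⁻¹) * (evw (cw j) * pa * (evw (cw j))⁻¹)) : False := by
  have h1 := (allB_iff _ _).1 ((allB_iff _ _).1 cc_ok j hj) l hl
  have h2 : Nat.beq j l = false := by
    rw [← Bool.not_eq_true]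
    intro hb
    exact hne (Nat.eq_of_beq_eq_true hb)
  rw [h2, cond_false, Bool.not_eq_true'] at h1
  have h3 : chkEq ((cw j ++ (5 :: cwi j)) ++ (cw l ++ (5 :: cwi l)))
      ((cw l ++ (5 :: cwi l)) ++ (cw j ++ (5 :: cwi j))) = true := by
    apply chkEq_of_eq
    rw [ev_app (cw j ++ 5 :: cwi j) (cw l ++ 5 :: cwi l), ev_app (cw l ++ 5 :: cwi l) (cw j ++ 5 :: cwi j),
      ev_conj hj, ev_conj hl]
    exact h
  rw [h3] at h1
  exact absurd h1 (by decide)

theorem norm_A0 {c : Perm (Fin 100)} (hc : c ∈ C0) (h : ∀ x ∈ A0, c * x * c⁻¹ ∈ A0) : c ∈ B0 := by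
  obtain ⟨j, hj, b, hb, rfl⟩ := mem_C0 hc
  by_cases h0 : j = 0
  · subst h0
    have : evw (cw 0) = 1 := rfl
    rw [this, one_mul]; exact hb
  · exfalso
    have h1 := h _ (B0_norm' hb pa_mem_A0)
    have h2 : evw (cw j) * b * (b⁻¹ * pa * b) * (evw (cw j) * b)⁻¹ = evw (cw j) * pa * (evw (cw j))⁻¹ := by group
    rw [h2] at h1
    refine ncomm hj (by norm_num : 0 < 5) h0 ?_
    have h3 : evw (cw 0) * pa * (evw (cw 0))⁻¹ = pa := by
      have : evw (cw 0) = 1 := rfl
      rw [this]; group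
    rw [h3]
    exact A0_comm h1 pa_mem_A0

theorem ca_ok : allB (fun j => cond (Nat.beq j 0) true
    (Bool.not (chkEq ((cwi j ++ (5 :: 5 :: cw j)) ++ [5]) (5 :: (cwi j ++ (5 :: 5 :: cw j)))))) 5 = true := by
  decide +kernel

/-- the centraliser of `a²` lies in `B0` -/
theorem cen_a2 {c : Perm (Fin 100)} (hc : c ∈ C0) (h : c * (pa * pa) = (pa * pa) * c) : c ∈ B0 := by
  obtain ⟨j, hj, b, hb, rfl⟩ := mem_C0 hc
  by_cases h0 : j = 0
  · subst h0
    have : evw (cw 0) = 1 := rfl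
    rw [this, one_mul]; exact hb
  · exfalso
    have h1 := B0_norm hb (A0.mul_mem pa_mem_A0 pa_mem_A0)
    have h2 : b * (pa * pa) * b⁻¹ = (evw (cw j))⁻¹ * (pa * pa) * evw (cw j) := by
      have h3 : evw (cw j) * b * (pa * pa) * (evw (cw j) * b)⁻¹ = pa * pa := by
        rw [h]; group
      calc b * (pa * pa) * b⁻¹ = (evw (cw j))⁻¹ * (evw (cw j) * b * (pa * pa) * (evw (cw j) * b)⁻¹) * evw (cw j) := by
            group
        _ = _ := by rw [h3]
    rw [h2] at h1
    have h4 := A0_comm h1 pa_mem_A0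
    have h5 := (allB_iff _ _).1 ca_ok j hj
    have h6 : Nat.beq j 0 = false := by
      rw [← Bool.not_eq_true]
      intro hb
      exact h0 (Nat.eq_of_beq_eq_true hb)
    rw [h6, cond_false, Bool.not_eq_true'] at h5
    have h8 : evw (cwi j ++ (5 :: 5 :: cw j)) = (evw (cw j))⁻¹ * (pa * pa) * evw (cw j) := by
      rw [ev_app, ev_cwi hj, evw, evw, Cfsg.Agent.SporadicRecognition.CosetCert.ev_cons,
        Cfsg.Agent.SporadicRecognition.CosetCert.ev_cons]
      change _ * (pa * (pa * _)) = _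
      group
    have h7 : chkEq ((cwi j ++ (5 :: 5 :: cw j)) ++ [5]) (5 :: (cwi j ++ (5 :: 5 :: cw j))) = true := by
      apply chkEq_of_eq
      have h9 : evw [5] = pa := by simp [evw, Cfsg.Agent.SporadicRecognition.CosetCert.ev, gl]
      have h10 : evw (5 :: (cwi j ++ (5 :: 5 :: cw j))) = pa * evw (cwi j ++ (5 :: 5 :: cw j)) := by
        rw [evw, evw, Cfsg.Agent.SporadicRecognition.CosetCert.ev_cons]; rfl
      rw [ev_app, h10, h8, h9]
      exact h4
    rw [h7] at h5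
    exact absurd h5 (by decide)

theorem pm_fix_ok : allB (fun n => cond (Affine.band (V.beq ((pm n).app ⟨0, 2, 0⟩) ⟨0, 2, 0⟩)
    (V.beq ((pm n).app ⟨0, 0, 2⟩) ⟨0, 0, 2⟩)) (Nat.beq n 0) true) 24 = true := by decide +kernel

theorem cen_A0 {c : Perm (Fin 100)} (hc : c ∈ C0) (h2 : c * (pa * pa) = (pa * pa) * c)
    (h3 : c * (pb * pb) = (pb * pb) * c) : c ∈ A0 := by
  obtain ⟨v, n, hn, rfl⟩ := mem_B0 (cen_a2 hc h2)
  have hact := act_B0 (v := v) hn
  have ea : e pi pa pb ⟨0, 2, 0⟩ = pa * pa := by simp [e, pow_two]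
  have eb : e pi pa pb ⟨0, 0, 2⟩ = pb * pb := by simp [e, pow_two]
  have k1 : e pi pa pb ((pm n).app ⟨0, 2, 0⟩) = e pi pa pb ⟨0, 2, 0⟩ := by
    rw [← hact.app ab0, ea, h2]; group
  have k2 : e pi pa pb ((pm n).app ⟨0, 0, 2⟩) = e pi pa pb ⟨0, 0, 2⟩ := by
    rw [← hact.app ab0, eb, h3]; group
  have hj : Inj pi pa pb := fun v hv => e_inj hv
  have l1 := hj.eq_of_lt ab0 (app_lt _ _) ⟨by decide, by decide, by decide⟩ k1
  have l2 := hj.eq_of_lt ab0 (app_lt _ _) ⟨by decide, by decide, by decide⟩ k2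
  have h4 := (allB_iff _ _).1 pm_fix_ok n hn
  have h5 : Affine.band (V.beq ((pm n).app ⟨0, 2, 0⟩) ⟨0, 2, 0⟩) (V.beq ((pm n).app ⟨0, 0, 2⟩) ⟨0, 0, 2⟩) = true := by
    rw [Affine.band_iff, l1, l2]; exact ⟨V.beq_self _, V.beq_self _⟩
  rw [h5, cond_true] at h4
  have h6 : n = 0 := Nat.eq_of_beq_eq_true h4
  subst h6
  have : evw (pw 0) = 1 := rfl
  rw [this, mul_one]
  exact e_mem_A0 _

/-! ### The centraliser of `E` -/

/-- affine maps of the letters -/
def LL (n : ℕ) : Af := LA ⟨0, 0, 0⟩ ⟨0, 0, 0⟩ n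

theorem KT_triv {k : Perm (Fin 100)} (hk : k ∈ KT) (h1 : k * pi = pi * k) (h2 : k * pa = pa * k)
    (h3 : k * pb = pb * k) : k = 1 := by
  obtain ⟨n, hn, rfl⟩ := mem_KT hk
  have ha := act_pw hn
  have hj : Inj pi pa pb := fun v hv => e_inj hv
  have h4 := Act.unique ab0 hj (NormC.pm_lt hn) NormC.one_lt ha (Act.of_commute h1 h2 h3)
  have h5 := NormC.pm_zero n hn (by rw [h4]; exact M.beq_self _)
  subst h5; rfl

theorem rep_unique {g : Perm (Fin 100)} {p q : Af} (hp : Rep pi pa pb KT g p) (hq : Rep pi pa pb KT g q)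
    (hpv : AffData.V.lt p.v) (hqv : AffData.V.lt q.v) (hpm : MLt p.m) (hqm : MLt q.m) : p = q := by
  obtain ⟨k, hk, h1, ha⟩ := hp
  obtain ⟨k', hk', h2, ha'⟩ := hq
  have hj : Inj pi pa pb := fun v hv => e_inj hv
  have h3 : k * k'⁻¹ = (e pi pa pb p.v)⁻¹ * e pi pa pb q.v := by
    rw [mul_inv_eq_iff_eq_mul, mul_assoc, ← h2, h1]; group
  have h4 : k * k'⁻¹ ∈ A0 := by
    rw [h3]; exact A0.mul_mem (A0.inv_mem (e_mem_A0 _)) (e_mem_A0 _)
  have h5 : k * k'⁻¹ = 1 := KT_triv (KT.mul_mem hk (KT.inv_mem hk')) (A0_comm h4 pi_mem_A0)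
    (A0_comm h4 pa_mem_A0) (A0_comm h4 pb_mem_A0)
  have h6 : k = k' := mul_inv_eq_one.1 h5
  subst h6
  have h7 : e pi pa pb p.v = e pi pa pb q.v := mul_right_cancel (h1.symm.trans h2)
  have h8 := hj.eq_of_lt ab0 hpv hqv h7
  have h9 := Act.unique ab0 hj hpm hqm ha ha'
  obtain ⟨pv, pmm⟩ := p
  obtain ⟨qv, qm⟩ := q
  dsimp only at h8 h9
  rw [h8, h9]

theorem pi3 : pi⁻¹ = e pi pa pb ⟨3, 0, 0⟩ := by
  have := e_inv ab0 ⟨1, 0, 0⟩
  rwa [e100] at this

theorem rep_letter (l : ℕ) (hl : l < 10) (h9 : l ≠ 9) : Rep pi pa pb KT (gl l) (LL l) := by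
  have hA3 : pa⁻¹ = e pi pa pb ⟨0, 3, 0⟩ := by
    have := e_inv ab0 ⟨0, 1, 0⟩
    rwa [e010] at this
  have hB3 : pb⁻¹ = e pi pa pb ⟨0, 0, 3⟩ := by
    have := e_inv ab0 ⟨0, 0, 1⟩
    rwa [e001] at this
  have hk : Rep pi pa pb KT pk ⟨⟨0, 0, 0⟩, mK⟩ :=
    ⟨pk, Subgroup.subset_closure (by simp), by rw [e_zero, one_mul], actK⟩
  match l with
  | 0 => exact hk
  | 1 => exact Rep.inv ab0 hk NormD.chk1
  | 2 => exact ⟨pt, Subgroup.subset_closure (by simp), by
      change pt = e pi pa pb ⟨0, 0, 0⟩ * pt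
      rw [e_zero, one_mul], actT⟩
  | 3 =>
    have := NormD.rep_e ab0 KT ⟨1, 0, 0⟩
    rwa [e100] at this
  | 4 => change Rep _ _ _ _ pi⁻¹ _; rw [pi3]; exact NormD.rep_e ab0 KT _
  | 5 =>
    have := NormD.rep_e ab0 KT ⟨0, 1, 0⟩
    rwa [e010] at this
  | 6 => change Rep _ _ _ _ pa⁻¹ _; rw [hA3]; exact NormD.rep_e ab0 KT _
  | 7 =>
    have := NormD.rep_e ab0 KT ⟨0, 0, 1⟩
    rwa [e001] at this
  | 8 => change Rep _ _ _ _ pb⁻¹ _; rw [hB3]; exact NormD.rep_e ab0 KT _
  | 9 => exact absurd rfl h9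
  | n + 10 => omega

/-- the word of an element of `E` -/
def we (x y z w : ℕ) : List ℕ := List.append (Nat.rec [] (fun _ _ => [2]) x)
  (List.append (Nat.rec [] (fun _ _ => [5, 5]) y)
    (List.append (Nat.rec [] (fun _ _ => [3, 3]) z) (Nat.rec [] (fun _ _ => [0, 2, 1, 2, 0]) w)))

/-- commuting affine maps -/
def cm (p q : Af) : Bool := Af.beq (Af.mul p q) (Af.mul q p)

theorem cenE_ok : allB (fun x => allB (fun y => allB (fun z => allB (fun n =>
    cond (Affine.band (cm ⟨⟨x, y, z⟩, pm n⟩ (evA LL [5, 5])) (Affine.band (cm ⟨⟨x, y, z⟩, pm n⟩ (LL 2))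
      (Affine.band (cm ⟨⟨x, y, z⟩, pm n⟩ (evA LL [3, 3])) (cm ⟨⟨x, y, z⟩, pm n⟩ (evA LL [0, 2, 1, 2, 0])))))
      (Bool.not (allB (fun p => allB (fun q => allB (fun r => allB (fun s =>
        Bool.not (Af.beq (evA LL (we p q r s)) ⟨⟨x, y, z⟩, pm n⟩)) 2) 2) 2) 2)) true) 24) 4) 4) 4 = true := by
  decide +kernel

theorem rep_ev {w : List ℕ} (hw : ∀ l ∈ w, l < 10 ∧ l ≠ 9) : Rep pi pa pb KT (evw w) (evA LL w) :=
  Rep.ev ab0 w fun l hl => rep_letter l (hw l hl).1 (hw l hl).2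

theorem evA_lt {L : ℕ → Af} {l : ℕ} {w : List ℕ} : AffData.V.lt (evA L (l :: w)).v ∧ MLt (evA L (l :: w)).m :=
  ⟨⟨Nat.mod_lt _ (by norm_num), Nat.mod_lt _ (by norm_num), Nat.mod_lt _ (by norm_num)⟩, mul_lt _ _⟩

theorem mul_lt' (p q : Af) : AffData.V.lt (Af.mul p q).v ∧ MLt (Af.mul p q).m :=
  ⟨⟨Nat.mod_lt _ (by norm_num), Nat.mod_lt _ (by norm_num), Nat.mod_lt _ (by norm_num)⟩, mul_lt _ _⟩

theorem cm_of {c d : Perm (Fin 100)} {p q : Af} (hc : Rep pi pa pb KT c p) (hd : Rep pi pa pb KT d q)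
    (h : c * d = d * c) : cm p q = true := by
  have h1 := hc.mul ab0 hd
  have h2 := hd.mul ab0 hc
  rw [h] at h1
  rw [cm, rep_unique h1 h2 (mul_lt' _ _).1 (mul_lt' _ _).1 (mul_lt' _ _).2 (mul_lt' _ _).2]
  exact Af.beq_self _

theorem we_lt : ∀ p < 2, ∀ q < 2, ∀ r < 2, ∀ s < 2, ∀ l ∈ we p q r s, l < 10 ∧ l ≠ 9 := by
  intro p hp q hq r hr s hs
  interval_cases p <;> interval_cases q <;> interval_cases r <;> interval_cases s <;> decide

theorem ev_we {x y z w : ℕ} (hx : x < 2) (hy : y < 2) (hz : z < 2) (hw : w < 2) :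
    evw (we x y z w) = pt ^ x * (pa * pa) ^ y * (pi * pi) ^ z * (evw [0, 2, 1, 2, 0]) ^ w := by
  have h1 : ∀ u v : List ℕ, evw (List.append u v) = evw u * evw v := fun u v => ev_app u v
  rw [we, h1, h1, h1, mul_assoc, mul_assoc]
  congr 1
  · interval_cases x
    · rfl
    · rw [pow_one]; simp [evw, Cfsg.Agent.SporadicRecognition.CosetCert.ev, gl]
  congr 1
  · interval_cases y
    · rfl
    · rw [pow_one]; simp [evw, Cfsg.Agent.SporadicRecognition.CosetCert.ev, gl]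
  congr 1
  · interval_cases z
    · rfl
    · rw [pow_one]; simp [evw, Cfsg.Agent.SporadicRecognition.CosetCert.ev, gl]
  · interval_cases w
    · rfl
    · rw [pow_one]; rfl

theorem cen_E0 : ERel.CenE := by
  intro c hc h1 h2 h3 h4
  obtain ⟨v0, n, hn, hcv⟩ := mem_B0 (cen_a2 hc h2)
  have hcv' : c = e pi pa pb (red v0) * evw (pw n) := by rw [hcv, e_red ab0]
  have hrep : Rep pi pa pb KT c ⟨red v0, pm n⟩ := ⟨evw (pw n), pw_mem n hn, hcv', act_pw hn⟩
  have haa : evw [5, 5] = pa * pa := by simp [evw, Cfsg.Agent.SporadicRecognition.CosetCert.ev, gl]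
  have hii : evw [3, 3] = pi * pi := by simp [evw, Cfsg.Agent.SporadicRecognition.CosetCert.ev, gl]
  have k1 := cm_of hrep (rep_ev (w := [5, 5]) (by decide)) (by rw [haa]; exact h2)
  have k2 := cm_of hrep (rep_letter 2 (by decide) (by decide)) h1
  have k3 := cm_of hrep (rep_ev (w := [3, 3]) (by decide)) (by rw [hii]; exact h3)
  have k4 := cm_of hrep (rep_ev (w := [0, 2, 1, 2, 0]) (by decide)) h4
  have ml : ∀ n : ℕ, n % 4 < 4 := fun n => Nat.mod_lt _ (by norm_num)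
  have h9 := (allB_iff _ _).1 ((allB_iff _ _).1 ((allB_iff _ _).1 ((allB_iff _ _).1 cenE_ok _ (ml v0.x)) _
    (ml v0.y)) _ (ml v0.z)) n hn
  have h10 : (cond (Affine.band (cm ⟨red v0, pm n⟩ (evA LL [5, 5])) (Affine.band (cm ⟨red v0, pm n⟩ (LL 2))
      (Affine.band (cm ⟨red v0, pm n⟩ (evA LL [3, 3])) (cm ⟨red v0, pm n⟩ (evA LL [0, 2, 1, 2, 0])))))
      (Bool.not (allB (fun p => allB (fun q => allB (fun r => allB (fun s =>
        Bool.not (Af.beq (evA LL (we p q r s)) ⟨red v0, pm n⟩)) 2) 2) 2) 2)) true) = true := h9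
  rw [(Affine.band_iff _ _).2 ⟨k1, (Affine.band_iff _ _).2 ⟨k2, (Affine.band_iff _ _).2 ⟨k3, k4⟩⟩⟩, cond_true,
    Bool.not_eq_true'] at h10
  by_contra hcon
  have h11 : (allB (fun p => allB (fun q => allB (fun r => allB (fun s =>
        Bool.not (Af.beq (evA LL (we p q r s)) ⟨red v0, pm n⟩)) 2) 2) 2) 2) = true := by
    refine (allB_iff _ _).2 fun p hp => (allB_iff _ _).2 fun q hq => (allB_iff _ _).2 fun r hr =>
      (allB_iff _ _).2 fun s hs => ?_
    rw [Bool.not_eq_true']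
    by_contra hb
    rw [Bool.not_eq_false] at hb
    apply hcon
    refine ⟨p, q, r, s, ?_⟩
    rw [← ev_we hp hq hr hs]
    obtain ⟨k, hk, h12, h13⟩ := rep_ev (we_lt p hp q hq r hr s hs)
    rw [Af.eq_of_beq hb] at h12 h13
    have h14 : k = evw (pw n) := by
      have ha := act_pw hn
      have h15 : (evw (pw n))⁻¹ * k = 1 := by
        have key : ∀ x w, k * x * k⁻¹ = e pi pa pb w → evw (pw n) * x * (evw (pw n))⁻¹ = e pi pa pb w →
            (evw (pw n))⁻¹ * k * x = x * ((evw (pw n))⁻¹ * k) := by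
          intro x w e1 e2
          calc (evw (pw n))⁻¹ * k * x = (evw (pw n))⁻¹ * (k * x * k⁻¹) * k := by group
            _ = (evw (pw n))⁻¹ * (evw (pw n) * x * (evw (pw n))⁻¹) * k := by rw [e1, e2]
            _ = x * ((evw (pw n))⁻¹ * k) := by group
        exact KT_triv (KT.mul_mem (KT.inv_mem (pw_mem n hn)) hk) (key _ _ h13.hi ha.hi) (key _ _ h13.ha ha.ha)
          (key _ _ h13.hb ha.hb)
      exact (inv_mul_eq_one.1 h15).symm
    rw [h12, h14, hcv']
  rw [h11] at h10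
  exact absurd h10 (by decide)

end Cfsg.Agent.HSType.CFacts
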