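import Cfsg.Agent.HSType.CFacts

set_option autoImplicit false

/-!
Abelian subgroups of order 64 of the explicit centraliser `C0` are conjugate to `A0`.
-/

namespace Cfsg.Agent.HSType.CFactsB

open Cfsg.Agent.HSType.Letters hiding cK cT cI cA cB cH
open Cfsg.Agent.HSType.Affine Cfsg.Agent.HSType.MFacts
  Cfsg.Agent.HSType.AffData Cfsg.Agent.HSType.AffLemmas Cfsg.Agent.HSType.NormA Cfsg.Agent.HSType.NormB
  Cfsg.Agent.HSType.CFacts Equiv
open Cfsg.Agent.SporadicA.PermTab (allB allB_iff cntB card_of_cntB)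

/-- commuting matrices -/
def cmm (a b : ℕ) : Bool := M.beq (M.mul (pm a) (pm b)) (M.mul (pm b) (pm a))

/-- the normal four-group -/
def inV (a : ℕ) : Bool := Bool.or (Nat.beq a 0) (Bool.or (Nat.beq a 12) (Bool.or (Nat.beq a 14) (Nat.beq a 20)))

theorem inV_ok : cntB inV 24 4 = true := by decide +kernel

theorem cmm_ok : allB (fun a => Bool.or (inV a) (Bool.or (cntB (cmm a) 24 4) (cntB (cmm a) 24 3))) 24 = true := by
  decide +kernel

/-- decoding of vectors -/
def dec (t : ℕ) : V := ⟨Nat.mod t 4, Nat.mod (Nat.div t 4) 4, Nat.div t 16⟩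

/-- fixed vectors -/
def fx (a t : ℕ) : Bool := V.beq ((pm a).app (dec t)) (dec t)

theorem fx_ok : allB (fun a => Bool.or (Nat.beq a 0) (Bool.or (cntB (fx a) 64 8) (cntB (fx a) 64 4))) 24 = true := by
  decide +kernel

theorem card_cmm {a : ℕ} (ha : a < 24) (hV : inV a = false) :
    ((Finset.range 24).filter (fun b => cmm a b = true)).card ≤ 4 := by
  have h := (allB_iff _ _).1 cmm_ok a ha
  rw [hV, Bool.false_or, Bool.or_eq_true] at h
  rcases h with h | h
  · rw [card_of_cntB _ _ _ h]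
  · rw [card_of_cntB _ _ _ h]; norm_num

theorem card_fx {a : ℕ} (ha : a < 24) (h0 : a ≠ 0) :
    ((Finset.range 64).filter (fun b => fx a b = true)).card ≤ 8 := by
  have h := (allB_iff _ _).1 fx_ok a ha
  have h1 : Nat.beq a 0 = false := by
    rw [← Bool.not_eq_true]
    intro hb
    exact h0 (Nat.eq_of_beq_eq_true hb)
  rw [h1, Bool.false_or, Bool.or_eq_true] at h
  rcases h with h | h
  · rw [card_of_cntB _ _ _ h]
  · rw [card_of_cntB _ _ _ h]; norm_num

/-- abelian subgroups of order 64 of `B0` lie in `A0` -/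
theorem abelian_le (N : Subgroup (Perm (Fin 100))) (hN : N ≤ B0) (hc : Nat.card N = 64)
    (hab : ∀ x ∈ N, ∀ y ∈ N, x * y = y * x) : N ≤ A0 := by
  classical
  by_contra hcon
  obtain ⟨m0, hm0, hm0A⟩ := SetLike.not_le_iff_exists.1 hcon
  have hex : ∀ x : ↥N, ∃ v : V, ∃ n < 24, (x : Perm (Fin 100)) = e pi pa pb v * evw (pw n) :=
    fun x => mem_B0 (hN x.2)
  choose v n hn hx using hex
  have hact : ∀ x : ↥N, Act pi pa pb (x : Perm (Fin 100)) (pm (n x)) := by
    intro x
    have := act_B0 (v := v x) (hn x)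
    rwa [← hx x] at this
  have hj : Inj pi pa pb := fun v hv => e_inj hv
  have hcomm : ∀ x y : ↥N, cmm (n x) (n y) = true := by
    intro x y
    have h1 := (hact x).mul ab0 (hact y)
    have h2 := (hact y).mul ab0 (hact x)
    rw [hab x x.2 y y.2] at h1
    rw [cmm, Act.unique ab0 hj (mul_lt _ _) (mul_lt _ _) h1 h2]
    exact M.beq_self _
  let M0 : ↥N := ⟨m0, hm0⟩
  have hM0 : n M0 ≠ 0 := by
    intro h
    apply hm0A
    have h1 := hx M0
    rw [h] at h1
    have : evw (pw 0) = 1 := rfl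
    rw [this, mul_one] at h1
    change m0 = _ at h1
    rw [h1]; exact e_mem_A0 _
  haveI : Finite ↥N := Nat.finite_of_card_ne_zero (by rw [hc]; norm_num)
  haveI : Fintype ↥N := Fintype.ofFinite _
  let T : Finset ℕ := Finset.univ.image n
  have hT : T.card ≤ 4 := by
    by_cases hV : ∀ x : ↥N, inV (n x) = true
    · rw [← card_of_cntB _ _ _ inV_ok]
      apply Finset.card_le_card
      intro a ha
      obtain ⟨x, -, rfl⟩ := Finset.mem_image.1 ha
      exact Finset.mem_filter.2 ⟨Finset.mem_range.2 (hn x), hV x⟩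
    · push Not at hV
      obtain ⟨x0, hx0⟩ := hV
      replace hx0 : inV (n x0) = false := by
        cases h : inV (n x0) with
        | false => rfl
        | true => exact absurd h hx0
      refine le_trans (Finset.card_le_card ?_) (card_cmm (hn x0) hx0)
      intro a ha
      obtain ⟨x, -, rfl⟩ := Finset.mem_image.1 ha
      exact Finset.mem_filter.2 ⟨Finset.mem_range.2 (hn x), hcomm x0 x⟩
  -- representatives
  let rep : ℕ → ↥N := fun a => if h : ∃ y, n y = a then h.choose else 1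
  have hrep : ∀ x : ↥N, n (rep (n x)) = n x := by
    intro x
    have h : ∃ y, n y = n x := ⟨x, rfl⟩
    change n (if h : ∃ y, n y = n x then h.choose else 1) = n x
    rw [dif_pos h]
    exact h.choose_spec
  let w : ↥N → V := fun x => V.add (v x) ⟨3 * (v (rep (n x))).x, 3 * (v (rep (n x))).y, 3 * (v (rep (n x))).z⟩
  have hw : ∀ x : ↥N, e pi pa pb (w x) = (x : Perm (Fin 100)) * ((rep (n x) : ↥N) : Perm (Fin 100))⁻¹ := by
    intro x
    have h1 : e pi pa pb (w x) = e pi pa pb (v x) * (e pi pa pb (v (rep (n x))))⁻¹ := by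
      rw [e_inv ab0]; exact e_add ab0 _ _
    rw [h1]
    have h2 := hx (rep (n x))
    rw [hrep] at h2
    have h3 := hx x
    have h4 : e pi pa pb (v (rep (n x))) = ((rep (n x) : ↥N) : Perm (Fin 100)) * (evw (pw (n x)))⁻¹ := by
      rw [h2, mul_inv_cancel_right]
    have h5 : e pi pa pb (v x) = (x : Perm (Fin 100)) * (evw (pw (n x)))⁻¹ := by
      rw [eq_mul_inv_iff_mul_eq, ← h3]
    rw [h4, h5]; group
  have hwlt : ∀ x : ↥N, AffData.V.lt (w x) := fun x =>
    ⟨Nat.mod_lt _ (by norm_num), Nat.mod_lt _ (by norm_num), Nat.mod_lt _ (by norm_num)⟩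
  let cod : V → ℕ := fun v => v.x + 4 * v.y + 16 * v.z
  have hdec : ∀ v : V, AffData.V.lt v → dec (cod v) = v := by
    rintro ⟨x, y, z⟩ ⟨h1, h2, h3⟩
    change (⟨(x + 4 * y + 16 * z) % 4, (x + 4 * y + 16 * z) / 4 % 4, (x + 4 * y + 16 * z) / 16⟩ : V) = _
    dsimp only at h1 h2 h3
    congr 1 <;> omega
  have hcod : ∀ v : V, AffData.V.lt v → cod v < 64 := by
    rintro ⟨x, y, z⟩ ⟨h1, h2, h3⟩
    dsimp only at h1 h2 h3
    change x + 4 * y + 16 * z < 64
    omega
  have hfix : ∀ x : ↥N, fx (n M0) (cod (w x)) = true := by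
    intro x
    rw [fx, hdec _ (hwlt x)]
    have h1 := (hact M0).app ab0 (w x)
    rw [hw x] at h1
    have hmem : (x : Perm (Fin 100)) * ((rep (n x) : ↥N) : Perm (Fin 100))⁻¹ ∈ N :=
      N.mul_mem x.2 (N.inv_mem (rep (n x)).2)
    rw [hab _ M0.2 _ hmem, mul_inv_cancel_right, ← hw x] at h1
    rw [← hj.eq_of_lt ab0 (hwlt x) (app_lt _ _) h1]
    exact V.beq_self _
  let F : ↥N → ℕ × ℕ := fun x => (n x, cod (w x))
  have hF : Function.Injective F := by
    intro x y hxy
    have h1 : n x = n y := congrArg Prod.fst hxy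
    have h2 : cod (w x) = cod (w y) := congrArg Prod.snd hxy
    have h3 : w x = w y := by rw [← hdec _ (hwlt x), ← hdec _ (hwlt y), h2]
    have h4 := hw x
    rw [h3, hw y, h1] at h4
    exact Subtype.ext (mul_right_cancel h4).symm
  have hle : Fintype.card ↥N ≤ (T ×ˢ ((Finset.range 64).filter (fun b => fx (n M0) b = true))).card := by
    rw [← Finset.card_univ, ← Finset.card_image_of_injective _ hF]
    apply Finset.card_le_card
    intro p hp
    obtain ⟨x, -, rfl⟩ := Finset.mem_image.1 hp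
    refine Finset.mem_product.2 ⟨Finset.mem_image.2 ⟨x, Finset.mem_univ _, rfl⟩, ?_⟩
    exact Finset.mem_filter.2 ⟨Finset.mem_range.2 (hcod _ (hwlt x)), hfix x⟩
  rw [Finset.card_product, ← Nat.card_eq_fintype_card, hc] at hle
  have h1 := card_fx (hn M0) hM0
  have h2 : T.card * ((Finset.range 64).filter (fun b => fx (n M0) b = true)).card ≤ 4 * 8 :=
    Nat.mul_le_mul hT h1
  omega

/-- the five cosets of `B0` in `C0` -/
theorem card_quot : Nat.card (↥C0 ⧸ (B0.subgroupOf C0)) = 5 := by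
  let f : Fin 5 → ↥C0 ⧸ (B0.subgroupOf C0) := fun j => QuotientGroup.mk ⟨evw (cw j), cw_mem j.2⟩
  have hf : Function.Bijective f := by
    constructor
    · intro j l hjl
      have h1 : (evw (cw j))⁻¹ * evw (cw l) ∈ B0 := by
        have := QuotientGroup.eq.1 hjl
        exact this
      by_contra hne
      refine ncomm j.2 l.2 (fun h => hne (Fin.ext h)) ?_
      have h2 := B0_norm h1 pa_mem_A0
      have h3 := A0_comm pa_mem_A0 h2
      have h4 : evw (cw l) * pa * (evw (cw l))⁻¹ = evw (cw j) * ((evw (cw j))⁻¹ * evw (cw l) * pa *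
          ((evw (cw j))⁻¹ * evw (cw l))⁻¹) * (evw (cw j))⁻¹ := by group
      rw [h4]
      generalize (evw (cw j))⁻¹ * evw (cw l) * pa * ((evw (cw j))⁻¹ * evw (cw l))⁻¹ = y at h3 ⊢
      calc evw (cw j) * pa * (evw (cw j))⁻¹ * (evw (cw j) * y * (evw (cw j))⁻¹)
          = evw (cw j) * (pa * y) * (evw (cw j))⁻¹ := by group
        _ = evw (cw j) * (y * pa) * (evw (cw j))⁻¹ := by rw [h3]
        _ = _ := by group
    · intro x
      obtain ⟨c, rfl⟩ := QuotientGroup.mk_surjective x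
      obtain ⟨j, hj, b, hb, hc⟩ := mem_C0 c.2
      refine ⟨⟨j, hj⟩, ?_⟩
      apply QuotientGroup.eq.2
      change (evw (cw j))⁻¹ * (c : Perm (Fin 100)) ∈ B0
      rw [hc, inv_mul_cancel_left]
      exact hb
  rw [← Nat.card_congr (Equiv.ofBijective f hf), Nat.card_eq_fintype_card, Fintype.card_fin]

theorem conj_A0 (M : Subgroup (Perm (Fin 100))) (hM : M ≤ C0) (hc : Nat.card M = 64)
    (hab : ∀ x ∈ M, ∀ y ∈ M, x * y = y * x) : ∃ c ∈ C0, ∀ x ∈ M, c * x * c⁻¹ ∈ A0 := by
  have hcard : Nat.card (M.subgroupOf C0) = 64 := by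
    rw [← hc]
    exact Nat.card_congr (Subgroup.subgroupOfEquivOfLe hM).toEquiv
  haveI : Fact (Nat.Prime 2) := ⟨Nat.prime_two⟩
  have hp : IsPGroup 2 (M.subgroupOf C0) := IsPGroup.of_card (n := 6) (by rw [hcard]; norm_num)
  haveI : Finite (↥C0 ⧸ (B0.subgroupOf C0)) := Nat.finite_of_card_ne_zero (by rw [card_quot]; norm_num)
  have h1 := hp.card_modEq_card_fixedPoints (↥C0 ⧸ (B0.subgroupOf C0))
  rw [card_quot] at h1
  have h2 : Nat.card (MulAction.fixedPoints (M.subgroupOf C0) (↥C0 ⧸ (B0.subgroupOf C0))) ≠ 0 := by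
    intro h
    rw [h] at h1
    exact absurd h1 (by decide)
  have h3 : Nonempty (MulAction.fixedPoints (M.subgroupOf C0) (↥C0 ⧸ (B0.subgroupOf C0))) := by
    by_contra hne
    rw [not_nonempty_iff] at hne
    exact h2 Nat.card_of_isEmpty
  obtain ⟨x, hx⟩ := h3
  obtain ⟨c, rfl⟩ := QuotientGroup.mk_surjective x
  have h4 : ∀ m ∈ M, (c : Perm (Fin 100))⁻¹ * m * c ∈ B0 := by
    intro m hm
    have h5 := hx ⟨⟨m, hM hm⟩, hm⟩
    have h6 : (QuotientGroup.mk ((⟨m, hM hm⟩ : ↥C0) * c) : ↥C0 ⧸ (B0.subgroupOf C0)) = QuotientGroup.mk c := h5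
    have h7 := QuotientGroup.eq.1 h6.symm
    change (c : Perm (Fin 100))⁻¹ * (m * c) ∈ B0 at h7
    rwa [← mul_assoc] at h7
  let N : Subgroup (Perm (Fin 100)) := M.map (MulAut.conj (c : Perm (Fin 100))⁻¹).toMonoidHom
  have hval : ∀ m : Perm (Fin 100), (MulAut.conj (c : Perm (Fin 100))⁻¹).toMonoidHom m =
      (c : Perm (Fin 100))⁻¹ * m * c := by
    intro m
    change (c : Perm (Fin 100))⁻¹ * m * (c : Perm (Fin 100))⁻¹⁻¹ = _
    rw [inv_inv]
  have hN : N ≤ B0 := by
    rintro _ ⟨m, hm, rfl⟩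
    rw [hval]; exact h4 m hm
  have hNc : Nat.card N = 64 := by
    rw [← hc]
    exact Nat.card_congr (M.equivMapOfInjective _ (MulAut.conj (c : Perm (Fin 100))⁻¹).injective).symm.toEquiv
  have hNab : ∀ x ∈ N, ∀ y ∈ N, x * y = y * x := by
    rintro _ ⟨x, hx, rfl⟩ _ ⟨y, hy, rfl⟩
    rw [← map_mul, ← map_mul, hab x hx y hy]
  have h8 := abelian_le N hN hNc hNab
  refine ⟨(c : Perm (Fin 100))⁻¹, C0.inv_mem c.2, fun x hx => ?_⟩
  rw [inv_inv, ← hval]
  exact h8 ⟨x, hx, rfl⟩

/-- the facts used in the local analysis -/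
theorem cf : CF where
  conj := conj_A0
  norm c hc h := norm_A0 hc h
  cen _ hc _ h2 h3 := cen_A0 hc h2 h3

end Cfsg.Agent.HSType.CFactsB
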