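import Cfsg.Agent.HSType.EnumChk0
import Cfsg.Agent.HSType.EnumChk1
import Cfsg.Agent.HSType.EnumChk2
import Cfsg.Agent.HSType.EnumChk3

set_option autoImplicit false
set_option maxRecDepth 100000

namespace Cfsg.Agent.HSType.EnumAll

open Cfsg.Agent.SporadicRecognition.CosetCert Cfsg.Agent.HSType.EnumData

theorem part : Part C 0 C.N 5775 := (((Cfsg.Agent.HSType.EnumChk0.all).append C Cfsg.Agent.HSType.EnumChk1.all).append C Cfsg.Agent.HSType.EnumChk2.all).append C Cfsg.Agent.HSType.EnumChk3.all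

end Cfsg.Agent.HSType.EnumAll
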