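import Cfsg.Agent.HSType.Letters
import Cfsg.Agent.HSType.EnumAll
import Cfsg.Agent.SporadicRecognition.CosetCertHyp

/-!
`|C0| ≥ 7680`, from the coset enumeration over `C0` in the model.
-/

set_option autoImplicit false
set_option maxRecDepth 100000

namespace Cfsg.Agent.HSType.CardC0

open Cfsg.Agent.SporadicRecognition.CosetCert Cfsg.Agent.SporadicRecognition.CosetCertHyp
open Cfsg.Agent.HSType.Letters Cfsg.Agent.SporadicA.PermTab Cfsg.Agent.HN.HS100 Equiv

theorem rels_ok : chkAll EnumData.rels = true := by decide +kernel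

theorem inv_ok : ∀ x < 14, chkOne [x, EnumData.C.inv x] = true ∧ EnumData.C.inv x < 14 := by
  decide +kernel

theorem hyp : Hyp EnumData.C C0 gl := by
  refine hyp_of_checks C0 gl EnumData.C EnumData.rels EnumData.subw rfl ?_
    (ev_eq_one_of_mem rels_ok) ?_ (by decide +kernel)
  · intro x hx
    have hx' : x < 14 := hx
    refine ⟨(inv_ok x hx').2, ?_⟩
    have h := ev_eq_one (inv_ok x hx').1
    have h' : gl x * (gl (EnumData.C.inv x) * 1) = 1 := h
    rwa [mul_one] at h'
  · intro w hw
    have h : ∀ w ∈ EnumData.subw, ∀ l ∈ w, l < 10 := by decide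
    exact ev_mem_C0 w (h w hw)

theorem card_C0_ge : 7680 ≤ Nat.card C0 := by
  have h := (card_closure_le EnumData.C C0 gl hyp EnumAll.part).2
  have h1 : Q ≤ Subgroup.closure (gl '' {x | x < EnumData.C.k}) := by
    rw [← P_eq, P, Subgroup.closure_le]
    rintro g (rfl | rfl | rfl | rfl | rfl | rfl | rfl)
    · exact Subgroup.subset_closure ⟨0, by decide, rfl⟩
    · exact Subgroup.subset_closure ⟨2, by decide, rfl⟩
    · exact Subgroup.subset_closure ⟨3, by decide, rfl⟩
    · exact Subgroup.subset_closure ⟨5, by decide, rfl⟩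
    · exact Subgroup.subset_closure ⟨7, by decide, rfl⟩
    · exact Subgroup.subset_closure ⟨9, by decide, rfl⟩
    · exact Subgroup.subset_closure ⟨10, by decide, rfl⟩
  have h2 := (Subgroup.card_le_of_le h1).trans h
  rw [Cfsg.Agent.HN.AutBound.card_Q] at h2
  omega

end Cfsg.Agent.HSType.CardC0
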