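import Cfsg.Agent.HN.CloseFinal
import Cfsg.Agent.ONType.FusionB2
import Cfsg.Agent.Transfer.ThompsonTransfer

/-!
Closing step of the recognition of the Higman–Sims group, abstract form: a subgroup `G0` of a finite group `G` with two
classes of involutions (represented by `z` and `u`, not fused in `G`), containing `C_G(z)`, and with suitable data on the
2-group `T = C_G(z) ∩ C_G(u)`, is the whole group.
-/

set_option autoImplicit false

namespace Cfsg.Agent.HSType.CloseAbs

open Subgroup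

section Sign

variable {D : Type*} [Group D]

theorem card_fixed (Q : Subgroup D) (u : D) :
    Nat.card {g : D // g⁻¹ * u * g ∈ Q} = Nat.card Q * Nat.card {x : D ⧸ Q // u • x = x} := by
  have h1 := Nat.card_congr (QuotientGroup.preimageMkEquivSubgroupProdSet Q {x : D ⧸ Q | u • x = x})
  rw [Nat.card_prod] at h1
  refine Eq.trans (Nat.card_congr (Equiv.subtypeEquivRight fun g => ?_)) h1
  have h2 : (g ∈ (QuotientGroup.mk : D → D ⧸ Q) ⁻¹' {x : D ⧸ Q | u • x = x}) ↔
      ((u * g : D) : D ⧸ Q) = (g : D ⧸ Q) := Iff.rfl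
  rw [h2, QuotientGroup.eq]
  constructor
  · intro h
    have h3 := Q.inv_mem h
    have h4 : (g⁻¹ * u * g)⁻¹ = (u * g)⁻¹ * g := by group
    rwa [h4] at h3
  · intro h
    have h3 := Q.inv_mem h
    have h4 : ((u * g)⁻¹ * g)⁻¹ = g⁻¹ * u * g := by group
    rwa [h4] at h3

/-- If all conjugates of the involution `u` lying in the Sylow subgroup `P` lie in `Q`, then `u` is even on `D ⧸ Q`. -/
theorem sign_quotient_eq_one [Finite D] (P Q : Subgroup D) (hQP : Q ≤ P) (hQi : Q.relIndex P = 2)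
    (hm : Odd P.index) [Fintype (D ⧸ Q)] [DecidableEq (D ⧸ Q)] (u : D) (hu : u ^ 2 = 1)
    (h : ∀ g : D, g * u * g⁻¹ ∈ P → g * u * g⁻¹ ∈ Q) :
    Equiv.Perm.sign (MulAction.toPermHom D (D ⧸ Q) u) = 1 := by
  classical
  have h2 : (MulAction.toPermHom D (D ⧸ Q) u) ^ 2 = 1 := by
    rw [← map_pow, hu, map_one]
  have : Fintype (D ⧸ P) := Fintype.ofFinite _
  rw [Equiv.Perm.sign_of_pow_two_eq_one h2]
  -- fixed points on `D ⧸ P`
  let f : Function.End (D ⧸ P) := fun x => u • x
  have h3 : f ^ 2 ^ 1 = 1 := by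
    rw [pow_one, pow_two]
    funext x
    change u • (u • x) = x
    rw [smul_smul, ← pow_two, hu, one_smul]
  have h5 := Equiv.Perm.card_fixedPoints_modEq (p := 2) (n := 1) h3
  have h6 : Nat.card {x : D ⧸ P // u • x = x} = Fintype.card (Function.fixedPoints f) := by
    rw [← Nat.card_eq_fintype_card]
    exact Nat.card_congr (Equiv.subtypeEquivRight fun x => Iff.rfl)
  have h7 : Nat.card {x : D ⧸ Q // u • x = x} =
      Fintype.card (Function.fixedPoints (MulAction.toPermHom D (D ⧸ Q) u)) := by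
    rw [← Nat.card_eq_fintype_card]
    exact Nat.card_congr (Equiv.subtypeEquivRight fun x => Iff.rfl)
  have h8 : Fintype.card (D ⧸ P) = P.index := by
    rw [← Nat.card_eq_fintype_card, ← Subgroup.index_eq_card]
  have h9 : Fintype.card (D ⧸ Q) = 2 * P.index := by
    rw [← Nat.card_eq_fintype_card, ← Subgroup.index_eq_card, ← Subgroup.relIndex_mul_index hQP, hQi]
  have h10 : Nat.card {g : D // g⁻¹ * u * g ∈ Q} = Nat.card {g : D // g⁻¹ * u * g ∈ P} := by
    refine Nat.card_congr (Equiv.subtypeEquivRight fun g => ?_)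
    have h11 := h g⁻¹
    rw [inv_inv] at h11
    exact ⟨fun k => hQP k, h11⟩
  rw [card_fixed, card_fixed, h6, h7] at h10
  have h12 : Nat.card P = 2 * Nat.card Q := by
    rw [← hQi, Subgroup.relIndex, mul_comm,
      ← Nat.card_congr (Subgroup.subgroupOfEquivOfLe hQP).toEquiv, Subgroup.card_mul_index]
  have hpos : 0 < Nat.card Q := Nat.card_pos
  set k := Fintype.card (Function.fixedPoints f) with hk
  have h13 : Fintype.card (Function.fixedPoints (MulAction.toPermHom D (D ⧸ Q) u)) = 2 * k := by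
    rw [h12] at h10
    have : Nat.card Q * Fintype.card (Function.fixedPoints (MulAction.toPermHom D (D ⧸ Q) u)) =
        Nat.card Q * (2 * k) := by rw [h10]; ring
    exact Nat.eq_of_mul_eq_mul_left hpos this
  rw [h13, h9]
  rw [h8] at h5
  have h14 : Even (P.index - k) := by
    obtain ⟨a, ha⟩ := hm
    have h15 : P.index % 2 = k % 2 := h5
    rcases Nat.lt_or_ge P.index k with h16 | h16
    · rw [Nat.sub_eq_zero_of_le h16.le]; exact ⟨0, rfl⟩
    · exact ⟨(P.index - k) / 2, by omega⟩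
  have h16 : (2 * P.index - 2 * k) / 2 = P.index - k := by omega
  rw [h16, h14.neg_one_pow]

end Sign

variable {G : Type*} [Group G]

/-- two non-conjugate involutions commute with a common involution, a power of their product. -/
theorem exists_central [Finite G] {a b : G} (ha : orderOf a = 2) (hb : orderOf b = 2) (hab : ¬ IsConj a b) :
    ∃ k : ℕ, orderOf ((a * b) ^ k) = 2 ∧ a * (a * b) ^ k = (a * b) ^ k * a ∧ b * (a * b) ^ k = (a * b) ^ k * b := by
  have haa : a * a = 1 := (HN.CloseFinal.orderOf_eq_two_iff'.1 ha).2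
  have hbb : b * b = 1 := (HN.CloseFinal.orderOf_eq_two_iff'.1 hb).2
  have hai : a⁻¹ = a := inv_eq_of_mul_eq_one_left haa
  have hbi : b⁻¹ = b := inv_eq_of_mul_eq_one_left hbb
  have hinva : ∀ n : ℕ, a * (a * b) ^ n * a⁻¹ = ((a * b) ^ n)⁻¹ := by
    intro n
    rw [← conj_pow, ← inv_pow]
    congr 1
    rw [mul_inv_rev, hai, hbi, ← mul_assoc a a b, haa, one_mul]
  have hinvb : ∀ n : ℕ, b * (a * b) ^ n * b⁻¹ = ((a * b) ^ n)⁻¹ := by
    intro n
    rw [← conj_pow, ← inv_pow]
    congr 1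
    rw [mul_inv_rev, hai, hbi, mul_assoc, mul_assoc, hbb, mul_one]
  have hpos := orderOf_pos (a * b)
  rcases Nat.even_or_odd (orderOf (a * b)) with ⟨k, hk⟩ | ⟨k, hk⟩
  · have hk0 : k ≠ 0 := by omega
    have h1 : ((a * b) ^ k)⁻¹ = (a * b) ^ k := by
      apply inv_eq_of_mul_eq_one_left
      rw [← pow_add, ← hk, pow_orderOf_eq_one]
    refine ⟨k, ?_, ?_, ?_⟩
    · rw [HN.CloseFinal.orderOf_eq_two_iff']
      constructor
      · intro h
        have h1 := orderOf_dvd_of_pow_eq_one h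
        have h2 := Nat.le_of_dvd (by omega) h1
        omega
      · rw [← pow_add, ← hk, pow_orderOf_eq_one]
    · have h2 := hinva k
      rw [h1] at h2
      rw [mul_inv_eq_iff_eq_mul] at h2
      exact h2
    · have h2 := hinvb k
      rw [h1] at h2
      rw [mul_inv_eq_iff_eq_mul] at h2
      exact h2
  · exfalso
    apply hab
    rw [isConj_iff]
    refine ⟨(a * b) ^ k, ?_⟩
    have h1 : (a * b) ^ k * a = a * ((a * b) ^ k)⁻¹ := by
      rw [← hinva, ← mul_assoc, ← mul_assoc, haa, one_mul, hai]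
    have h2 : ((a * b) ^ k)⁻¹ * ((a * b) ^ k)⁻¹ = a * b := by
      rw [← mul_inv_rev, ← pow_add]
      apply inv_eq_of_mul_eq_one_left
      rw [← pow_succ']
      have : k + k + 1 = orderOf (a * b) := by omega
      rw [this, pow_orderOf_eq_one]
    rw [h1, mul_assoc, h2, ← mul_assoc, haa, one_mul]

/-- `x` is conjugate to `z`. -/
def Cj (z x : G) : Prop := ∃ g : G, g * z * g⁻¹ = x

theorem Cj.conj {z x : G} (h : Cj z x) (g : G) : Cj z (g * x * g⁻¹) := by
  obtain ⟨k, rfl⟩ := h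
  exact ⟨g * k, by group⟩

theorem Cj.of_conj {z x : G} (g : G) (h : Cj z (g * x * g⁻¹)) : Cj z x := by
  have h1 := h.conj g⁻¹
  have h2 : g⁻¹ * (g * x * g⁻¹) * g⁻¹⁻¹ = x := by group
  rwa [h2] at h1

/-- The data of the closing step. -/
structure Hyp (G0 : Subgroup G) (z u : G) (T M1 M2 : Subgroup G) (w y : G) : Prop where
  zG : z ∈ G0
  uG : u ∈ G0
  hz : orderOf z = 2
  hu : orderOf u = 2
  hC : ∀ g, g * z = z * g → g ∈ G0
  hcls : ∀ x ∈ G0, orderOf x = 2 → (∃ g ∈ G0, g * x * g⁻¹ = z ∨ g * x * g⁻¹ = u)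
  hzu : ¬ Cj z u
  comm : z * u = u * z
  memT : ∀ g, g ∈ T ↔ g * z = z * g ∧ g * u = u * g
  hT : IsPGroup 2 T
  hZT : ∀ x ∈ T, Cj z x → (∀ t ∈ T, t * x = x * t) → x = z
  M1T : M1 ≤ T
  M2T : M2 ≤ T
  M1i : M1.relIndex T = 2
  M2i : M2.relIndex T = 2
  hM1 : ∀ x ∈ T, Cj z x → x ∈ M1
  hM2 : ∀ x ∈ T, Cj z x → x ∈ M2
  uM1 : u ∉ M1
  hM2B : ∀ x ∈ M2, orderOf x = 2 → ¬ Cj z x → x ≠ u → Cj z (u * x)
  wT : w ∈ T
  wz : Cj z w
  hy : orderOf y = 3
  yw : y * w = w * y
  yu : y * u = u * y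

namespace Hyp

variable {G0 : Subgroup G} {z u : G} {T M1 M2 : Subgroup G} {w y : G}

theorem nconj (h : Hyp G0 z u T M1 M2 w y) : ¬ IsConj z u := fun hc => h.hzu (isConj_iff.1 hc)

theorem fix (h : Hyp G0 z u T M1 M2 w y) : ∀ g, g⁻¹ * z * g ∈ G0 → g ∈ G0 :=
  HN.CloseFinal.fix_of_two_classes G0 h.hz h.hC h.nconj h.hcls

/-- a conjugate of `z` in `G0` has its centraliser in `G0`. -/
theorem cent_of_cj (h : Hyp G0 z u T M1 M2 w y) {x : G} (hx : x ∈ G0) (hxz : Cj z x) :
    ∀ g, g * x = x * g → g ∈ G0 := by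
  intro g hg
  obtain ⟨k, hk⟩ := hxz
  have h1 : k⁻¹ ∈ G0 := by
    apply h.fix
    rw [inv_inv, hk]; exact hx
  have h2 : k⁻¹ * g * k ∈ G0 := by
    apply h.hC
    have h3 : z = k⁻¹ * x * k := by rw [← hk]; group
    rw [h3]
    calc k⁻¹ * g * k * (k⁻¹ * x * k) = k⁻¹ * (g * x) * k := by group
      _ = k⁻¹ * (x * g) * k := by rw [hg]
      _ = _ := by group
  have h3 : g = k * (k⁻¹ * g * k) * k⁻¹ := by group
  rw [h3]
  exact G0.mul_mem (G0.mul_mem (by simpa using G0.inv_mem h1) h2) h1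

/-- a conjugate of `z` lies in `G0` if it commutes with a conjugate of `z` in `G0`; and the conjugating element too. -/
theorem mem_of_conj_mem (h : Hyp G0 z u T M1 M2 w y) {g : G} (hg : g * z * g⁻¹ ∈ G0) : g ∈ G0 := by
  have h1 : g⁻¹ ∈ G0 := h.fix g⁻¹ (by rw [inv_inv]; exact hg)
  simpa using G0.inv_mem h1

variable [Finite G]

theorem exists_sylow (h : Hyp G0 z u T M1 M2 w y) :
    ∃ P : Sylow 2 (centralizer ({u} : Set G)), (P : Subgroup (centralizer ({u} : Set G))) =
      T.subgroupOf (centralizer ({u} : Set G)) := by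
  have : Fact (Nat.Prime 2) := ⟨Nat.prime_two⟩
  set D := centralizer ({u} : Set G) with hD
  have memD : ∀ g, g ∈ D ↔ g * u = u * g := fun g => mem_centralizer_singleton_iff
  have hTD : T ≤ D := fun g hg => (memD g).2 ((h.memT g).1 hg).2
  have hTp : IsPGroup 2 (T.subgroupOf D) := h.hT.comap_of_injective D.subtype D.subtype_injective
  obtain ⟨P, hP⟩ := hTp.exists_le_sylow
  refine ⟨P, ?_⟩
  by_contra hne
  obtain ⟨x, hxP, hxT, hx⟩ := ONType.FusionB2.exists_normalizing P.isPGroup' hP (Ne.symm hne)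
  have hzT : z ∈ T := (h.memT z).2 ⟨rfl, h.comm⟩
  have memX : ∀ t ∈ T, (x : G)⁻¹ * t * x ∈ T := by
    intro t ht
    have h1 := (hx ⟨t, hTD ht⟩).1 (by rw [mem_subgroupOf]; exact ht)
    rw [mem_subgroupOf] at h1
    exact h1
  have memX' : ∀ t ∈ T, (x : G) * t * (x : G)⁻¹ ∈ T := by
    intro t ht
    have h1 := (hx ⟨(x : G) * t * (x : G)⁻¹, D.mul_mem (D.mul_mem x.2 (hTD ht)) (D.inv_mem x.2)⟩).2 (by
      rw [mem_subgroupOf]
      have h2 : ((x⁻¹ * ⟨(x : G) * t * (x : G)⁻¹, D.mul_mem (D.mul_mem x.2 (hTD ht)) (D.inv_mem x.2)⟩ * x : D) : G) = t := by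
        change (x : G)⁻¹ * ((x : G) * t * (x : G)⁻¹) * x = t
        group
      rw [h2]; exact ht)
    rw [mem_subgroupOf] at h1
    exact h1
  have h1 : (x : G)⁻¹ * z * x = z := by
    apply h.hZT _ (memX z hzT) ⟨(x : G)⁻¹, by group⟩
    intro t ht
    have h2 := ((h.memT _).1 (memX' t ht)).1
    calc t * ((x : G)⁻¹ * z * x) = (x : G)⁻¹ * (((x : G) * t * (x : G)⁻¹) * z) * x := by group
      _ = (x : G)⁻¹ * (z * ((x : G) * t * (x : G)⁻¹)) * x := by rw [h2]
      _ = _ := by group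
  apply hxT
  rw [mem_subgroupOf, h.memT]
  refine ⟨?_, (memD _).1 x.2⟩
  calc (x : G) * z = x * ((x : G)⁻¹ * z * x) := by rw [h1]
    _ = z * x := by group

/-- the sign homomorphism of `C_G(u)` on the cosets of `M` -/
theorem exists_sign (h : Hyp G0 z u T M1 M2 w y) (M : Subgroup G) (hMT : M ≤ T) (hMi : M.relIndex T = 2) :
    ∃ f : centralizer ({u} : Set G) →* ℤˣ, ∀ x : centralizer ({u} : Set G), x ^ 2 = 1 →
      ((∀ g : centralizer ({u} : Set G), g * x * g⁻¹ ∈ T.subgroupOf (centralizer {u}) →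
        g * x * g⁻¹ ∈ M.subgroupOf (centralizer {u})) → f x = 1) ∧
      ((∀ g : centralizer ({u} : Set G), g * x * g⁻¹ ∉ M.subgroupOf (centralizer {u})) → f x = -1) := by
  classical
  have : Fact (Nat.Prime 2) := ⟨Nat.prime_two⟩
  have hsyl := h.exists_sylow
  set D := centralizer ({u} : Set G) with hD
  obtain ⟨P, hP⟩ := hsyl
  have hTD : T ≤ D := fun g hg => mem_centralizer_singleton_iff.2 ((h.memT g).1 hg).2
  have hMi' : (M.subgroupOf D).relIndex (P : Subgroup D) = 2 := by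
    rw [hP, ← hMi]
    exact relIndex_subgroupOf hTD
  have hle : M.subgroupOf D ≤ (P : Subgroup D) := by
    rw [hP]
    exact fun g hg => by
      rw [mem_subgroupOf] at hg ⊢
      exact hMT hg
  have : Fintype (D ⧸ M.subgroupOf D) := Fintype.ofFinite _
  obtain ⟨m, hm, hmo⟩ := Transfer.ThompsonTransfer.exists_index_eq P (M.subgroupOf D) hle hMi'
  refine ⟨(Equiv.Perm.sign).comp (MulAction.toPermHom D (D ⧸ M.subgroupOf D)), fun x hx => ⟨fun h1 => ?_, fun h1 => ?_⟩⟩
  · apply sign_quotient_eq_one (P : Subgroup D) (M.subgroupOf D) hle hMi' _ x hx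
    · rw [hP]; exact h1
    · rw [← Nat.not_even_iff_odd, even_iff_two_dvd]
      exact P.not_dvd_index
  · exact Transfer.ThompsonTransfer.sign_quotient_eq_neg_one (M.subgroupOf D) hm hmo x hx h1

/-- `C_G(u) ≤ G0`. -/
theorem cent_u (h : Hyp G0 z u T M1 M2 w y) : ∀ g, g * u = u * g → g ∈ G0 := by
  have e1 := h.exists_sign M1 h.M1T h.M1i
  have e2 := h.exists_sign M2 h.M2T h.M2i
  set D := centralizer ({u} : Set G) with hD
  obtain ⟨f1, hf1⟩ := e1
  obtain ⟨f2, hf2⟩ := e2
  have memD : ∀ g, g ∈ D ↔ g * u = u * g := fun g => mem_centralizer_singleton_iff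
  have hzz := (HN.CloseFinal.orderOf_eq_two_iff'.1 h.hz)
  have huu := (HN.CloseFinal.orderOf_eq_two_iff'.1 h.hu)
  have hzT : z ∈ T := (h.memT z).2 ⟨rfl, h.comm⟩
  have huD : u ∈ D := (memD u).2 rfl
  have sq_of_cj : ∀ {x : G}, Cj z x → x * x = 1 := by
    rintro x ⟨g, rfl⟩
    calc g * z * g⁻¹ * (g * z * g⁻¹) = g * (z * z) * g⁻¹ := by group
      _ = 1 := by rw [hzz.2]; group
  -- conjugates of `z` in `D` are even for both homomorphisms
  have even : ∀ x : D, Cj z (x : G) → f1 x = 1 ∧ f2 x = 1 := by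
    intro x hx
    have h2 : x ^ 2 = 1 := by
      rw [pow_two]; exact Subtype.ext (sq_of_cj hx)
    refine ⟨(hf1 x h2).1 fun g hg => ?_, (hf2 x h2).1 fun g hg => ?_⟩
    · rw [mem_subgroupOf] at hg ⊢
      exact h.hM1 _ hg (hx.conj _)
    · rw [mem_subgroupOf] at hg ⊢
      exact h.hM2 _ hg (hx.conj _)
  have hu1 : f1 ⟨u, huD⟩ = -1 := by
    apply (hf1 _ _).2
    · intro g hg
      rw [mem_subgroupOf] at hg
      apply h.uM1
      have h1 : ((g * ⟨u, huD⟩ * g⁻¹ : D) : G) = u := by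
        change (g : G) * u * (g : G)⁻¹ = u
        rw [(memD _).1 g.2]; group
      rwa [h1] at hg
    · rw [pow_two]; exact Subtype.ext huu.2
  -- involutions of the kernel in `G0` are conjugate to `z`
  have ker : ∀ x : D, (x : G) ∈ G0 → orderOf (x : G) = 2 → f1 x = 1 → f2 x = 1 → Cj z (x : G) := by
    intro x hx0 hx2 hx1 hx3
    by_contra hB
    have hxx := (HN.CloseFinal.orderOf_eq_two_iff'.1 hx2)
    have hxu : (x : G) ≠ u := by
      intro he
      have h1 : x = ⟨u, huD⟩ := Subtype.ext he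
      rw [h1, hu1] at hx1
      exact absurd hx1 (by decide)
    by_cases hux : Cj z (u * x)
    · -- then `u` would be even
      have h1 := (even (⟨u, huD⟩ * x) hux).1
      rw [map_mul, hu1, hx1] at h1
      exact absurd h1 (by decide)
    · -- no conjugate of `x` lies in `M2`
      have h1 : f2 x = -1 := by
        apply (hf2 x (by rw [pow_two]; exact Subtype.ext hxx.2)).2
        intro g hg
        rw [mem_subgroupOf] at hg
        have hg' : (g : G) * x * (g : G)⁻¹ ∈ M2 := hg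
        have h3 : ¬ Cj z ((g : G) * x * (g : G)⁻¹) := fun k => hB (Cj.of_conj _ k)
        have h4 : (g : G) * x * (g : G)⁻¹ ≠ u := by
          intro he
          apply hxu
          have h5 : (g : G) * u = u * g := (memD _).1 g.2
          calc (x : G) = (g : G)⁻¹ * ((g : G) * x * (g : G)⁻¹) * g := by group
            _ = (g : G)⁻¹ * (u * g) := by rw [he]; group
            _ = (g : G)⁻¹ * (g * u) := by rw [h5]
            _ = u := by group
        have h5 := h.hM2B _ hg' (by rw [← MulAut.conj_apply, MulEquiv.orderOf_eq, hx2]) h3 h4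
        apply hux
        apply Cj.of_conj (g : G)
        have h6 : (g : G) * (u * x) * (g : G)⁻¹ = u * ((g : G) * x * (g : G)⁻¹) := by
          have h7 : (g : G) * u = u * g := (memD _).1 g.2
          calc (g : G) * (u * x) * (g : G)⁻¹ = ((g : G) * u) * x * (g : G)⁻¹ := by group
            _ = (u * g) * x * (g : G)⁻¹ := by rw [h7]
            _ = _ := by group
        rw [h6]; exact h5
      rw [h1] at hx3
      exact absurd hx3 (by decide)
  intro g hg
  -- `z ^ g` and `w` are not conjugate in `D`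
  have hgD : g ∈ D := (memD g).2 hg
  have hzD : z ∈ D := (memD z).2 h.comm
  have hwu : w * u = u * w := ((h.memT w).1 h.wT).2
  have hwD : w ∈ D := (memD w).2 hwu
  have hwG : w ∈ G0 := h.hC w ((h.memT w).1 h.wT).1
  set a : D := ⟨g, hgD⟩ * ⟨z, hzD⟩ * ⟨g, hgD⟩⁻¹ with ha
  have ha' : (a : G) = g * z * g⁻¹ := rfl
  have hacj : Cj z (a : G) := ⟨g, rfl⟩
  have ordD : ∀ x : D, orderOf x = 2 ↔ orderOf (x : G) = 2 := fun x => by
    rw [Subgroup.orderOf_coe]
  have hwcj := h.wz
  have hword : orderOf w = 2 := by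
    obtain ⟨k, hk⟩ := hwcj
    rw [← hk, ← MulAut.conj_apply, MulEquiv.orderOf_eq, h.hz]
  have haord : orderOf (a : G) = 2 := by
    rw [ha', ← MulAut.conj_apply, MulEquiv.orderOf_eq, h.hz]
  have hnc : ¬ IsConj a (⟨w, hwD⟩ : D) := by
    intro hc
    obtain ⟨c, hc⟩ := isConj_iff.1 hc
    have h1 : ((c : G) * g) * z * ((c : G) * g)⁻¹ = w := by
      have h2 := congrArg (Subtype.val : D → G) hc
      have h3 : (c : G) * (g * z * g⁻¹) * (c : G)⁻¹ = w := h2
      rw [← h3]; group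
    set b := (c : G) * g with hb
    have hbu : b * u = u * b := by
      rw [hb]
      calc (c : G) * g * u = (c : G) * (g * u) := by group
        _ = ((c : G) * u) * g := by rw [hg]; group
        _ = (u * c) * g := by rw [(memD _).1 c.2]
        _ = _ := by group
    -- `b⁻¹ y b` is an element of order 3 of `T`
    have h2 : b⁻¹ * y * b ∈ T := by
      rw [h.memT]
      constructor
      · have h3 : z = b⁻¹ * w * b := by rw [← h1]; group
        calc b⁻¹ * y * b * z = b⁻¹ * y * b * (b⁻¹ * w * b) := by rw [← h3]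
          _ = b⁻¹ * (y * w) * b := by group
          _ = b⁻¹ * (w * y) * b := by rw [h.yw]
          _ = (b⁻¹ * w * b) * (b⁻¹ * y * b) := by group
          _ = z * (b⁻¹ * y * b) := by rw [← h3]
      · have h3 : u = b⁻¹ * u * b := by
          calc u = b⁻¹ * (b * u) := by group
            _ = b⁻¹ * (u * b) := by rw [hbu]
            _ = _ := by group
        calc b⁻¹ * y * b * u = b⁻¹ * y * (b * u) := by group
          _ = b⁻¹ * y * (u * b) := by rw [hbu]
          _ = b⁻¹ * (y * u) * b := by group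
          _ = b⁻¹ * (u * y) * b := by rw [h.yu]
          _ = (b⁻¹ * u * b) * (b⁻¹ * y * b) := by group
          _ = u * (b⁻¹ * y * b) := by rw [← h3]
    have h3 : orderOf (b⁻¹ * y * b) = 3 := by
      have h4 : b⁻¹ * y * b = MulAut.conj b⁻¹ y := by rw [MulAut.conj_apply, inv_inv]
      rw [h4, MulEquiv.orderOf_eq, h.hy]
    have : Fact (Nat.Prime 2) := ⟨Nat.prime_two⟩
    obtain ⟨k, hk⟩ := (IsPGroup.iff_orderOf.1 h.hT) ⟨_, h2⟩
    rw [Subgroup.orderOf_mk, h3] at hk
    rcases k with _ | k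
    · simp at hk
    · rw [pow_succ] at hk; omega
  obtain ⟨k, hv, hav, hwv⟩ := exists_central ((ordD a).2 haord)
    ((ordD ⟨w, hwD⟩).2 hword) hnc
  set v : D := (a * ⟨w, hwD⟩) ^ k with hvdef
  have ea := even a hacj
  have ew := even ⟨w, hwD⟩ h.wz
  have hv1 : f1 v = 1 := by
    rw [hvdef, map_pow, map_mul, ea.1, ew.1, one_mul, one_pow]
  have hv2 : f2 v = 1 := by
    rw [hvdef, map_pow, map_mul, ea.2, ew.2, one_mul, one_pow]
  have hvw : (v : G) * w = w * v := (congrArg (Subtype.val : D → G) hwv).symm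
  have hva : (v : G) * (a : G) = (a : G) * v := (congrArg (Subtype.val : D → G) hav).symm
  have hvG : (v : G) ∈ G0 := h.cent_of_cj hwG h.wz _ hvw
  have hvcj := ker v hvG ((ordD v).1 hv) hv1 hv2
  have haG : (a : G) ∈ G0 := h.cent_of_cj hvG hvcj _ hva.symm
  exact h.mem_of_conj_mem haG

/-- **The closing step.** -/
theorem eq_top (h : Hyp G0 z u T M1 M2 w y) : G0 = ⊤ := by
  rw [eq_top_iff]
  intro g _
  apply h.mem_of_conj_mem
  have h1 : orderOf (g * z * g⁻¹) = 2 := by
    rw [← MulAut.conj_apply, MulEquiv.orderOf_eq, h.hz]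
  have hnc : ¬ IsConj (g * z * g⁻¹) u := by
    intro hc
    obtain ⟨c, hc⟩ := isConj_iff.1 hc
    exact h.hzu ⟨c * g, by rw [← hc]; group⟩
  obtain ⟨k, hv, hav, huv⟩ := exists_central h1 h.hu hnc
  set v := (g * z * g⁻¹ * u) ^ k with hvdef
  have hvG : v ∈ G0 := h.cent_u v huv.symm
  obtain ⟨c, hc, hcz | hcu⟩ := h.hcls v hvG hv
  · exact h.cent_of_cj hvG ⟨c⁻¹, by rw [← hcz]; group⟩ _ hav
  · have h2 : c * (g * z * g⁻¹) * c⁻¹ ∈ G0 := by
      apply h.cent_u
      rw [← hcu]
      calc c * (g * z * g⁻¹) * c⁻¹ * (c * v * c⁻¹) = c * (g * z * g⁻¹ * v) * c⁻¹ := by group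
        _ = c * (v * (g * z * g⁻¹)) * c⁻¹ := by rw [hav]
        _ = _ := by group
    have h3 : g * z * g⁻¹ = c⁻¹ * (c * (g * z * g⁻¹) * c⁻¹) * c := by group
    rw [h3]
    exact G0.mul_mem (G0.mul_mem (G0.inv_mem hc) h2) hc

end Hyp

end Cfsg.Agent.HSType.CloseAbs
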