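import Cfsg.Agent.HSType.CloseInv
import Cfsg.Agent.HSType.CloseAbs

/-!
Closing step of the recognition of the Higman–Sims group: an injective homomorphism from the Higman–Sims group to a
finite group `G`, whose image contains the centraliser of the image of the central involution `z0`, is onto.
-/

set_option autoImplicit false

namespace Cfsg.Agent.HSType.Close

open Cfsg.Agent.SporadicA.PermTab Cfsg.Agent.HN.HS100 Cfsg.Agent.HSType.Letters
open Cfsg.Agent.HSType.CloseModel Cfsg.Agent.HSType.CloseInv Equiv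

noncomputable section

/-! ### Fixed points -/

/-- `g` has a fixed point -/
def Fx (g : Perm (Fin 100)) : Prop := ∃ x, g x = x

theorem Fx.conj {g : Perm (Fin 100)} (h : Fx g) (c : Perm (Fin 100)) : Fx (c * g * c⁻¹) := by
  obtain ⟨x, hx⟩ := h
  refine ⟨c x, ?_⟩
  change c (g (c⁻¹ (c x))) = c x
  rw [show c⁻¹ (c x) = x from c.symm_apply_apply x, hx]

theorem Fx.of_conj {g : Perm (Fin 100)} {c : Perm (Fin 100)} (h : Fx (c * g * c⁻¹)) : Fx g := by
  have h1 := h.conj c⁻¹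
  have h2 : c⁻¹ * (c * g * c⁻¹) * c⁻¹⁻¹ = g := by group
  rwa [h2] at h1

theorem fx_of_tab {g : Perm (Fin 100)} {T : ℕ} (h : ∀ x : Fin 100, ((g x : Fin 100) : ℕ) = lk T x) (n : ℕ)
    (hn : n < 100) (hT : Nat.beq (lk T n) n = true) : Fx g :=
  ⟨⟨n, hn⟩, Fin.ext ((h _).trans (Nat.eq_of_beq_eq_true hT))⟩

/-- the table `T` has no fixed point -/
def noFix (T : ℕ) : Bool := allB (fun x => !(Nat.beq (lk T x) x)) 100

theorem fx_iff {g : Perm (Fin 100)} {T : ℕ} (h : ∀ x : Fin 100, ((g x : Fin 100) : ℕ) = lk T x) :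
    Fx g ↔ noFix T = false := by
  constructor
  · rintro ⟨x, hx⟩
    rw [← Bool.not_eq_true]
    intro hc
    have h1 := (allB_iff _ _).1 hc x x.2
    have h2 : lk T x = x := by rw [← h x, hx]
    have h3 : Nat.beq (lk T x) x = true := by rw [h2]; exact Nat.beq_refl _
    rw [h3] at h1
    exact absurd h1 (by decide)
  · intro hT
    by_contra hc
    have : noFix T = true := by
      rw [noFix, allB_iff]
      intro x hx
      cases hb : Nat.beq (lk T x) x with
      | false => rfl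
      | true => exact absurd (fx_of_tab h x hx hb) hc
    rw [this] at hT
    exact absurd hT (by decide)

theorem fx_z0 : Fx z0 := fx_of_tab z0_val 21 (by norm_num) (by decide +kernel)

theorem not_fx_u0 : ¬ Fx u0 := by
  rw [fx_iff u0_val]
  have : noFix tU0 = true := by decide +kernel
  rw [this]; decide

theorem inv_fx {g : Perm (Fin 100)} (hg : g ∈ Q) (ho : orderOf g = 2) (hf : Fx g) : ∃ c ∈ Q, c * g * c⁻¹ = z0 := by
  obtain ⟨c, hc, h | h⟩ := inv_Q hg ho
  · exact ⟨c, hc, h⟩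
  · exact absurd (h ▸ hf.conj c) not_fx_u0

/-! ### The group `T0 = C_{C0}(u0)` -/

/-- the centraliser of `u0` in `C0` -/
def T0 : Subgroup (Perm (Fin 100)) := C0 ⊓ Subgroup.centralizer {u0}

theorem mem_T0 {g : Perm (Fin 100)} : g ∈ T0 ↔ g ∈ C0 ∧ g * u0 = u0 * g := by
  rw [T0, Subgroup.mem_inf, Subgroup.mem_centralizer_singleton_iff]

theorem T0_tab {g : Perm (Fin 100)} (h : g ∈ T0) : ∃ R ∈ CloseModel.LT, ∀ x : Fin 100, ((g x : Fin 100) : ℕ) = lk R x :=
  mem_LT (mem_T0.1 h).1 (mem_T0.1 h).2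

theorem T0_le_Q : T0 ≤ Q := fun _ h => C0_le (mem_T0.1 h).1

theorem ev_mem_T0 (w : List ℕ) (h : ∀ l ∈ w, l < 10) (hw : chkEq (w ++ uw) (uw ++ w) = true) : evw w ∈ T0 := by
  rw [mem_T0]
  refine ⟨ev_mem_C0 w h, ?_⟩
  rw [u0, ← evw_append, ← evw_append]
  exact ev_eq hw

theorem u0_T0 : u0 ∈ T0 := ev_mem_T0 uw (by decide) (by decide +kernel)

/-- the table squares to one -/
def isSq (R : ℕ) : Bool := allB (fun x => Nat.beq (lk R (lk R x)) x) 100
/-- the tables agree -/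
def sameT (R S : ℕ) : Bool := allB (fun x => Nat.beq (lk R x) (lk S x)) 100
/-- the table commutes with the word -/
def commT (R : ℕ) (w : List ℕ) : Bool := allB (fun x => Nat.beq (lk R (evp w x)) (evp w (lk R x))) 100

theorem isSq_of {g : Perm (Fin 100)} {R : ℕ} (h : ∀ x : Fin 100, ((g x : Fin 100) : ℕ) = lk R x)
    (ho : orderOf g = 2) : isSq R = true := by
  rw [isSq, allB_iff]
  intro x hx
  have h1 : (g ^ 2) ⟨x, hx⟩ = ⟨x, hx⟩ := by rw [← ho, pow_orderOf_eq_one]; rfl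
  rw [pow_two, Perm.mul_apply] at h1
  have h2 := congrArg (fun y : Fin 100 => (y : ℕ)) h1
  simp only [h] at h2
  rw [h2]; exact Nat.beq_refl _

theorem sameT_iff {g g' : Perm (Fin 100)} {R S : ℕ} (h : ∀ x : Fin 100, ((g x : Fin 100) : ℕ) = lk R x)
    (h' : ∀ x : Fin 100, ((g' x : Fin 100) : ℕ) = lk S x) : sameT R S = true ↔ g = g' := by
  rw [sameT, allB_iff]
  constructor
  · intro hs
    refine Equiv.ext fun x => Fin.ext ?_
    rw [h, h']
    exact Nat.eq_of_beq_eq_true (hs x x.2)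
  · rintro rfl x hx
    have h1 := (h ⟨x, hx⟩).symm.trans (h' ⟨x, hx⟩)
    change lk R x = lk S x at h1
    rw [h1]; exact Nat.beq_refl _

theorem commT_of {g : Perm (Fin 100)} {R : ℕ} (h : ∀ x : Fin 100, ((g x : Fin 100) : ℕ) = lk R x)
    (w : List ℕ) (hw : evw w * g = g * evw w) : commT R w = true := by
  rw [commT, allB_iff]
  intro x hx
  have h1 := congrArg (fun k : Perm (Fin 100) => ((k ⟨x, hx⟩ : Fin 100) : ℕ)) hw
  change ((evw w (g ⟨x, hx⟩) : Fin 100) : ℕ) = ((g (evw w ⟨x, hx⟩) : Fin 100) : ℕ) at h1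
  rw [ev_val, h, h, ev_val] at h1
  change evp w (lk R x) = lk R (evp w x) at h1
  rw [h1]; exact Nat.beq_refl _

/-! #### Checks over the 64 elements -/

/-- the action on `{21, 29, 60, 94}` -/
def chkV (R : ℕ) : Bool :=
  anyL (fun v : ℕ × ℕ × ℕ × ℕ => band (Nat.beq (lk R 21) v.1) (band (Nat.beq (lk R 29) v.2.1)
    (band (Nat.beq (lk R 60) v.2.2.1) (Nat.beq (lk R 94) v.2.2.2))))
    [(21, 29, 60, 94), (60, 94, 21, 29), (29, 21, 94, 60), (94, 60, 29, 21)]

theorem chkV_ok : allL chkV CloseModel.LT = true := by decide +kernel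

/-- involutions with a fixed point fix 21 -/
def chkF (R : ℕ) : Bool := cond (band (isSq R) (!(noFix R))) (cond (sameT R tOne) true (Nat.beq (lk R 21) 21)) true

theorem chkF_ok : allL chkF CloseModel.LT = true := by decide +kernel

/-- generators of `T0` -/
def GW : List (List ℕ) := [[3], [0, 2, 8], [1, 2, 0], [2, 1, 5]]

/-- central involutions with a fixed point are `z0` -/
def chkZ (R : ℕ) : Bool := cond (band (isSq R) (band (!(noFix R)) (allL (commT R) GW)))
  (cond (sameT R tOne) true (sameT R tZ0)) true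

theorem chkZ_ok : allL chkZ CloseModel.LT = true := by decide +kernel

/-- the product of `u0` and the table -/
def noFixU (R : ℕ) : Bool := allB (fun x => !(Nat.beq (lk tU0 (lk R x)) x)) 100

/-- the involutions in `M2` -/
def chkB (R : ℕ) : Bool := cond (band (isSq R) (band (noFix R) (cond (Nat.beq (lk R 21) 21) true (Nat.beq (lk R 21) 60))))
  (cond (sameT R tU0) true (!(noFixU R))) true

theorem chkB_ok : allL chkB CloseModel.LT = true := by decide +kernel

/-- the exponent is 8 -/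
def chk8 (R : ℕ) : Bool := allB (fun x => Nat.beq (it R 8 x) x) 100

theorem chk8_ok : allL chk8 CloseModel.LT = true := by decide +kernel

theorem pow8 {g : Perm (Fin 100)} (h : g ∈ T0) : g ^ 8 = 1 := by
  obtain ⟨R, hR, hv⟩ := T0_tab h
  refine Equiv.ext fun x => Fin.ext ?_
  rw [it_val hv]
  exact Nat.eq_of_beq_eq_true ((allB_iff _ _).1 (of_allL chk8_ok R hR) x x.2)

/-- the action of `T0` on four points -/
theorem act {g : Perm (Fin 100)} (h : g ∈ T0) :
    (g 21 = 21 ∧ g 29 = 29 ∧ g 60 = 60 ∧ g 94 = 94) ∨ (g 21 = 60 ∧ g 29 = 94 ∧ g 60 = 21 ∧ g 94 = 29) ∨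
    (g 21 = 29 ∧ g 29 = 21 ∧ g 60 = 94 ∧ g 94 = 60) ∨ (g 21 = 94 ∧ g 29 = 60 ∧ g 60 = 29 ∧ g 94 = 21) := by
  obtain ⟨R, hR, hv⟩ := T0_tab h
  obtain ⟨v, hvm, h1⟩ := exists_of_anyL (of_allL chkV_ok R hR)
  rw [band_eq_true, band_eq_true, band_eq_true] at h1
  obtain ⟨a, b, c, d⟩ := h1
  have e21 : ((g 21 : Fin 100) : ℕ) = v.1 := (hv 21).trans (Nat.eq_of_beq_eq_true a)
  have e29 : ((g 29 : Fin 100) : ℕ) = v.2.1 := (hv 29).trans (Nat.eq_of_beq_eq_true b)
  have e60 : ((g 60 : Fin 100) : ℕ) = v.2.2.1 := (hv 60).trans (Nat.eq_of_beq_eq_true c)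
  have e94 : ((g 94 : Fin 100) : ℕ) = v.2.2.2 := (hv 94).trans (Nat.eq_of_beq_eq_true d)
  simp only [List.mem_cons, List.not_mem_nil, or_false] at hvm
  rcases hvm with rfl | rfl | rfl | rfl
  · exact Or.inl ⟨Fin.ext e21, Fin.ext e29, Fin.ext e60, Fin.ext e94⟩
  · exact Or.inr (Or.inl ⟨Fin.ext e21, Fin.ext e29, Fin.ext e60, Fin.ext e94⟩)
  · exact Or.inr (Or.inr (Or.inl ⟨Fin.ext e21, Fin.ext e29, Fin.ext e60, Fin.ext e94⟩))
  · exact Or.inr (Or.inr (Or.inr ⟨Fin.ext e21, Fin.ext e29, Fin.ext e60, Fin.ext e94⟩))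

theorem ne_one_of_order {g : Perm (Fin 100)} (ho : orderOf g = 2) : g ≠ 1 := by
  rintro rfl
  rw [orderOf_one] at ho
  exact absurd ho (by norm_num)

theorem not_same_one {g : Perm (Fin 100)} {R : ℕ} (hv : ∀ x : Fin 100, ((g x : Fin 100) : ℕ) = lk R x)
    (ho : orderOf g = 2) : sameT R tOne = false := by
  rw [← Bool.not_eq_true, sameT_iff hv (g' := 1)
    (fun x => (Nat.eq_of_beq_eq_true ((allB_iff _ _).1 tOne_ok x x.2)).symm)]
  exact ne_one_of_order ho

theorem fix21 {g : Perm (Fin 100)} (h : g ∈ T0) (ho : orderOf g = 2) (hf : Fx g) : g 21 = 21 := by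
  obtain ⟨R, hR, hv⟩ := T0_tab h
  have h1 := of_allL chkF_ok R hR
  rw [chkF, isSq_of hv ho, (fx_iff hv).1 hf, not_same_one hv ho] at h1
  exact Fin.ext ((hv 21).trans (Nat.eq_of_beq_eq_true h1))

theorem GW_ok : ∀ w ∈ GW, (∀ l ∈ w, l < 10) ∧ chkEq (w ++ uw) (uw ++ w) = true := by decide +kernel

theorem cen_z0 {g : Perm (Fin 100)} (h : g ∈ T0) (ho : orderOf g = 2) (hf : Fx g) (hc : ∀ t ∈ T0, t * g = g * t) :
    g = z0 := by
  obtain ⟨R, hR, hv⟩ := T0_tab h
  have h1 := of_allL chkZ_ok R hR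
  have h2 : allL (commT R) GW = true := by
    have h3 : ∀ L : List (List ℕ), (∀ w ∈ L, commT R w = true) → allL (commT R) L = true := by
      intro L
      induction L with
      | nil => intro _; rfl
      | cons a L ih =>
        intro hL
        rw [allL_cons, hL a List.mem_cons_self, ih fun w hw => hL w (List.mem_cons_of_mem _ hw)]
        rfl
    exact h3 GW fun w hw => commT_of hv w (hc _ (ev_mem_T0 w (GW_ok w hw).1 (GW_ok w hw).2))
  rw [chkZ, isSq_of hv ho, (fx_iff hv).1 hf, not_same_one hv ho, h2] at h1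
  exact (sameT_iff hv z0_val).1 h1

theorem u_mul_fx {g : Perm (Fin 100)} (h : g ∈ T0) (ho : orderOf g = 2) (hf : ¬ Fx g) (h21 : g 21 = 21 ∨ g 21 = 60)
    (hne : g ≠ u0) : Fx (u0 * g) := by
  obtain ⟨R, hR, hv⟩ := T0_tab h
  have h1 := of_allL chkB_ok R hR
  have h2 : noFix R = true := by
    by_contra hc
    rw [Bool.not_eq_true] at hc
    exact hf ((fx_iff hv).2 hc)
  have h3 : cond (Nat.beq (lk R 21) 21) true (Nat.beq (lk R 21) 60) = true := by
    rcases h21 with h21 | h21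
    · have : lk R 21 = 21 := by rw [← show ((21 : Fin 100) : ℕ) = 21 from rfl, ← hv 21, h21]
      rw [this]; rfl
    · have : lk R 21 = 60 := by rw [← show ((21 : Fin 100) : ℕ) = 21 from rfl, ← hv 21, h21]; rfl
      rw [this]; rfl
  have h4 : sameT R tU0 = false := by
    rw [← Bool.not_eq_true, sameT_iff hv u0_val]
    exact hne
  rw [chkB, isSq_of hv ho, h2, h3, h4] at h1
  by_contra hc
  have h5 : noFixU R = true := by
    rw [noFixU, allB_iff]
    intro x hx
    cases hb : Nat.beq (lk tU0 (lk R x)) x with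
    | false => rfl
    | true =>
      refine absurd ⟨⟨x, hx⟩, Fin.ext ?_⟩ hc
      rw [Perm.mul_apply, u0_val, hv]
      exact Nat.eq_of_beq_eq_true hb
  rw [h5] at h1
  exact absurd h1 (by decide)

/-! ### The two subgroups of index two -/

/-- the permutations preserving `{p, q}` -/
def blk (p q : Fin 100) : Subgroup (Perm (Fin 100)) where
  carrier := {g | (g p = p ∧ g q = q) ∨ (g p = q ∧ g q = p)}
  one_mem' := Or.inl ⟨rfl, rfl⟩
  mul_mem' := by
    rintro a b (⟨h1, h2⟩ | ⟨h1, h2⟩) (⟨h3, h4⟩ | ⟨h3, h4⟩)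
    · exact Or.inl ⟨by rw [Perm.mul_apply, h3, h1], by rw [Perm.mul_apply, h4, h2]⟩
    · exact Or.inr ⟨by rw [Perm.mul_apply, h3, h2], by rw [Perm.mul_apply, h4, h1]⟩
    · exact Or.inr ⟨by rw [Perm.mul_apply, h3, h1], by rw [Perm.mul_apply, h4, h2]⟩
    · exact Or.inl ⟨by rw [Perm.mul_apply, h3, h2], by rw [Perm.mul_apply, h4, h1]⟩
  inv_mem' := by
    rintro a (⟨h1, h2⟩ | ⟨h1, h2⟩)
    · exact Or.inl ⟨by rw [Perm.inv_eq_iff_eq, h1], by rw [Perm.inv_eq_iff_eq, h2]⟩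
    · exact Or.inr ⟨by rw [Perm.inv_eq_iff_eq, h2], by rw [Perm.inv_eq_iff_eq, h1]⟩

theorem mem_blk {p q : Fin 100} {g : Perm (Fin 100)} :
    g ∈ blk p q ↔ (g p = p ∧ g q = q) ∨ (g p = q ∧ g q = p) := Iff.rfl

/-- the first subgroup of index two of `T0` -/
def N1 : Subgroup (Perm (Fin 100)) := T0 ⊓ blk 21 94
/-- the second subgroup of index two of `T0` -/
def N2 : Subgroup (Perm (Fin 100)) := T0 ⊓ blk 21 60

theorem act_of_21 {g : Perm (Fin 100)} (h : g ∈ T0) (h21 : g 21 = 21) : g 94 = 94 ∧ g 60 = 60 := by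
  rcases act h with h1 | h1 | h1 | h1
  · exact ⟨h1.2.2.2, h1.2.2.1⟩
  all_goals exact absurd (h1.1.symm.trans h21) (by decide)

theorem u0_21 : u0 21 = 60 := Fin.ext ((u0_val 21).trans (by decide +kernel))
theorem u0_60 : u0 60 = 21 := Fin.ext ((u0_val 60).trans (by decide +kernel))
theorem u0_94 : u0 94 = 29 := Fin.ext ((u0_val 94).trans (by decide +kernel))

/-- an element of `T0` moving 21 to 29 -/
def e0 : Perm (Fin 100) := evw [2, 1, 5]

theorem e0_T0 : e0 ∈ T0 := ev_mem_T0 _ (GW_ok [2, 1, 5] (by simp [GW])).1 (GW_ok [2, 1, 5] (by simp [GW])).2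

theorem e0_21 : e0 21 = 29 := Fin.ext ((ev_val _ _).trans (by decide +kernel))
theorem e0_60 : e0 60 = 94 := Fin.ext ((ev_val _ _).trans (by decide +kernel))

theorem N1_index : N1.relIndex T0 = 2 := by
  rw [Subgroup.relIndex_eq_two_iff_exists_notMem_and]
  refine ⟨u0, u0_T0, fun h => ?_, fun b hb => ?_⟩
  · rcases (Subgroup.mem_inf.1 h).2 with h1 | h1
    · exact absurd (u0_21.symm.trans h1.1) (by decide)
    · exact absurd (u0_21.symm.trans h1.1) (by decide)
  · have h0 : b * u0 ∈ T0 := T0.mul_mem hb u0_T0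
    rcases act hb with h1 | h1 | h1 | h1
    · exact Or.inr ⟨hb, Or.inl ⟨h1.1, h1.2.2.2⟩⟩
    · exact Or.inl ⟨h0, Or.inl ⟨by rw [Perm.mul_apply, u0_21, h1.2.2.1], by rw [Perm.mul_apply, u0_94, h1.2.1]⟩⟩
    · exact Or.inl ⟨h0, Or.inr ⟨by rw [Perm.mul_apply, u0_21, h1.2.2.1], by rw [Perm.mul_apply, u0_94, h1.2.1]⟩⟩
    · exact Or.inr ⟨hb, Or.inr ⟨h1.1, h1.2.2.2⟩⟩

theorem N2_index : N2.relIndex T0 = 2 := by
  rw [Subgroup.relIndex_eq_two_iff_exists_notMem_and]
  refine ⟨e0, e0_T0, fun h => ?_, fun b hb => ?_⟩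
  · rcases (Subgroup.mem_inf.1 h).2 with h1 | h1
    · exact absurd (e0_21.symm.trans h1.1) (by decide)
    · exact absurd (e0_21.symm.trans h1.1) (by decide)
  · have h0 : b * e0 ∈ T0 := T0.mul_mem hb e0_T0
    rcases act hb with h1 | h1 | h1 | h1
    · exact Or.inr ⟨hb, Or.inl ⟨h1.1, h1.2.2.1⟩⟩
    · exact Or.inr ⟨hb, Or.inr ⟨h1.1, h1.2.2.1⟩⟩
    · exact Or.inl ⟨h0, Or.inl ⟨by rw [Perm.mul_apply, e0_21, h1.2.1], by rw [Perm.mul_apply, e0_60, h1.2.2.2]⟩⟩
    · exact Or.inl ⟨h0, Or.inr ⟨by rw [Perm.mul_apply, e0_21, h1.2.1], by rw [Perm.mul_apply, e0_60, h1.2.2.2]⟩⟩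

/-! ### Further elements -/

theorem z0_u0 : z0 * u0 = u0 * z0 := by
  rw [z0_eq, u0, ← evw_append, ← evw_append]
  exact ev_eq (by decide +kernel)

theorem cC0 : ∀ l ∈ [0, 2, 3, 5, 7, 9], chkEq (l :: [3, 3]) ([3, 3] ++ [l]) = true := by decide +kernel

theorem C0_comm {g : Perm (Fin 100)} (h : g ∈ C0) : g * z0 = z0 * g := by
  have h0 : ∀ l ∈ [0, 2, 3, 5, 7, 9], gl l * z0 = z0 * gl l := by
    intro l hl
    have h1 := ev_eq (cC0 l hl)
    rwa [evw_cons, evw_append, ev1, ← z0_eq] at h1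
  have h1 : C0 ≤ Subgroup.centralizer {z0} := by
    rw [C0, Subgroup.closure_le]
    rintro x (rfl | rfl | rfl | rfl | rfl | rfl) <;> rw [SetLike.mem_coe, Subgroup.mem_centralizer_singleton_iff]
    · exact h0 0 (by simp)
    · exact h0 2 (by simp)
    · exact h0 3 (by simp)
    · exact h0 5 (by simp)
    · exact h0 7 (by simp)
    · exact h0 9 (by simp)
  exact Subgroup.mem_centralizer_singleton_iff.1 (h1 h)

theorem order_of {w : List ℕ} {p : ℕ} (hp : p.Prime) (h1 : evw w ^ p = 1) (x : Fin 100)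
    (h2 : Nat.beq (evp w x) x = false) : orderOf (evw w) = p := by
  have : Fact p.Prime := ⟨hp⟩
  refine orderOf_eq_prime h1 fun h => ?_
  have h3 : ((evw w x : Fin 100) : ℕ) = x := by rw [h]; rfl
  rw [ev_val] at h3
  rw [h3, Nat.beq_refl] at h2
  exact absurd h2 (by decide)

theorem pow_two_evw (w : List ℕ) : evw w ^ 2 = evw (w ++ w) := by rw [pow_two, evw_append]
theorem pow_three_evw (w : List ℕ) : evw w ^ 3 = evw (w ++ (w ++ w)) := by
  rw [evw_append, evw_append, pow_succ', pow_two]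

theorem order_z0 : orderOf z0 = 2 := by
  rw [z0_eq]
  exact order_of Nat.prime_two (by rw [pow_two_evw]; exact ev_eq_one (by decide +kernel)) 0 (by decide +kernel)

theorem order_u0 : orderOf u0 = 2 :=
  order_of Nat.prime_two (by rw [pow_two_evw]; exact ev_eq_one (by decide +kernel)) 0 (by decide +kernel)

theorem z0_mem : z0 ∈ C0 := z0_eq ▸ ev_mem_C0 _ (by decide)

/-- a further involution of the class of `z0` in `T0` -/
def w0 : Perm (Fin 100) := evw [2, 7, 7, 2]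

theorem w0_T0 : w0 ∈ T0 := ev_mem_T0 _ (by decide) (by decide +kernel)
theorem order_w0 : orderOf w0 = 2 :=
  order_of Nat.prime_two (by rw [pow_two_evw]; exact ev_eq_one (by decide +kernel)) 0 (by decide +kernel)
theorem fx_w0 : Fx w0 := ⟨21, Fin.ext ((ev_val _ _).trans (by decide +kernel))⟩

/-- an element of order three commuting with `u0` and `w0` -/
def y0 : Perm (Fin 100) := evw [4, 0, 11, 9, 2, 4, 10, 1]
theorem order_y0 : orderOf y0 = 3 :=
  order_of Nat.prime_three (by rw [pow_three_evw]; exact ev_eq_one (by decide +kernel)) 0 (by decide +kernel)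
theorem y0_w0 : y0 * w0 = w0 * y0 := by
  rw [y0, w0, ← evw_append, ← evw_append]
  exact ev_eq (by decide +kernel)
theorem y0_u0 : y0 * u0 = u0 * y0 := by
  rw [y0, u0, ← evw_append, ← evw_append]
  exact ev_eq (by decide +kernel)
theorem y0_mem : y0 ∈ Q := P_le (ev_mem_P _ (by decide))

/-- a second element of order three commuting with `u0` and `y0` -/
def x0 : Perm (Fin 100) := evw [0, 2, 8, 9, 6, 11, 9, 11, 9, 1, 10, 5, 9, 6, 4]
theorem order_x0 : orderOf x0 = 3 :=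
  order_of Nat.prime_three (by rw [pow_three_evw]; exact ev_eq_one (by decide +kernel)) 0 (by decide +kernel)
theorem x0_u0 : x0 * u0 = u0 * x0 := by
  rw [x0, u0, ← evw_append, ← evw_append]
  exact ev_eq (by decide +kernel)
theorem x0_y0 : x0 * y0 = y0 * x0 := by
  rw [x0, y0, ← evw_append, ← evw_append]
  exact ev_eq (by decide +kernel)
theorem x0_mem : x0 ∈ Q := P_le (ev_mem_P _ (by decide))
theorem y0_29 : y0 29 = 29 := Fin.ext ((ev_val _ _).trans (by decide +kernel))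
theorem x0_29 : x0 29 ≠ 29 := by
  intro h
  have h1 := congrArg (fun y : Fin 100 => (y : ℕ)) h
  change ((x0 29 : Fin 100) : ℕ) = 29 at h1
  rw [x0, ev_val] at h1
  have h2 : Nat.beq (evp [0, 2, 8, 9, 6, 11, 9, 11, 9, 1, 10, 5, 9, 6, 4] ((29 : Fin 100) : ℕ)) 29 = false := by
    decide +kernel
  rw [h1] at h2
  exact absurd h2 (by decide)

theorem x0_notMem : x0 ∉ Subgroup.zpowers y0 := by
  intro h
  obtain ⟨k, hk⟩ := Subgroup.mem_zpowers_iff.1 h
  apply x0_29
  rw [← hk]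
  exact Perm.zpow_apply_eq_self_of_apply_eq_self y0_29 k

theorem nine_dvd {H : Type*} [Group H] [Finite H] {x y : H} (hxy : x * y = y * x) (hx : orderOf x = 3)
    (hy : orderOf y = 3) (hd : x ∉ Subgroup.zpowers y) : 9 ∣ Nat.card H := by
  have : Fact (Nat.Prime 3) := ⟨Nat.prime_three⟩
  have comm : ∀ (m : Subgroup.zpowers x) (n : Subgroup.zpowers y),
      Commute ((Subgroup.zpowers x).subtype m) ((Subgroup.zpowers y).subtype n) := by
    rintro ⟨_, a, rfl⟩ ⟨_, b, rfl⟩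
    exact (show Commute x y from hxy).zpow_zpow a b
  have hinj : Function.Injective (MonoidHom.noncommCoprod _ _ comm) := by
    rw [MonoidHom.noncommCoprod_injective]
    refine ⟨Subgroup.subtype_injective _, Subgroup.subtype_injective _, ?_⟩
    rw [Subgroup.range_subtype, Subgroup.range_subtype, Subgroup.disjoint_def]
    intro w hw1 hw2
    by_contra hne
    have h1 : orderOf w ∣ 3 := by rw [← hx]; exact orderOf_dvd_of_mem_zpowers hw1
    have h2 : orderOf w = 3 := ((Nat.dvd_prime Nat.prime_three).1 h1).resolve_left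
      fun h => hne (orderOf_eq_one_iff.1 h)
    have h3 : Subgroup.zpowers w = Subgroup.zpowers x := by
      apply Subgroup.eq_of_le_of_card_ge
      · rw [Subgroup.zpowers_le]; exact hw1
      · rw [Nat.card_zpowers, Nat.card_zpowers, h2, hx]
    apply hd
    have h4 : x ∈ Subgroup.zpowers w := h3 ▸ Subgroup.mem_zpowers x
    exact (Subgroup.zpowers_le.2 hw2) h4
  have h := Subgroup.card_dvd_of_injective _ hinj
  rwa [Nat.card_prod, Nat.card_zpowers, Nat.card_zpowers, hx, hy] at h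

theorem five_dvd : 5 ∣ Nat.card C0 := by
  have h1 : evw [2, 8, 9] ∈ C0 := ev_mem_C0 _ (by decide)
  have h2 : orderOf (evw [2, 8, 9]) = 5 := order_of (by norm_num) (by
    have h : evw ([2, 8, 9] ++ ([2, 8, 9] ++ ([2, 8, 9] ++ ([2, 8, 9] ++ [2, 8, 9])))) = 1 :=
      ev_eq_one (by decide +kernel)
    rw [evw_append, evw_append, evw_append, evw_append] at h
    rw [pow_succ', pow_succ', pow_succ', pow_two]
    exact h) 0 (by decide +kernel)
  have h3 : orderOf (⟨_, h1⟩ : C0) = 5 := by rw [Subgroup.orderOf_mk, h2]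
  rw [← h3]
  exact orderOf_dvd_natCard _

theorem not_nine_dvd : ¬ 9 ∣ Nat.card C0 := by
  intro h9
  have h1 : 512 ∣ Nat.card C0 := card_S0 ▸ Subgroup.card_dvd_of_le S0_le
  have h2 := card_C0_le
  have h3 : 0 < Nat.card C0 := Nat.card_pos
  have h4 := five_dvd
  omega

/-! ### The closing theorem -/

section Final

variable {G : Type*} [Group G] [Finite G] {Psi : ↥Q →* G}

open Subgroup CloseAbs

/-- the image of a subgroup -/
def im (Psi : ↥Q →* G) (H : Subgroup (Perm (Fin 100))) : Subgroup G := (H.subgroupOf Q).map Psi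

omit [Finite G] in
theorem mem_im {H : Subgroup (Perm (Fin 100))} {g : G} : g ∈ im Psi H ↔ ∃ q : ↥Q, (q : Perm (Fin 100)) ∈ H ∧ Psi q = g :=
  Iff.rfl

omit [Finite G] in
theorem im_relIndex (inj : Function.Injective Psi) (H K : Subgroup (Perm (Fin 100))) (hK : K ≤ Q) :
    (im Psi H).relIndex (im Psi K) = H.relIndex K := by
  rw [im, im, relIndex_map_map_of_injective _ _ inj, relIndex_subgroupOf hK]

theorem hyp (inj : Function.Injective Psi)
    (hC : ∀ g : G, g * Psi ⟨z0, C0_le z0_mem⟩ = Psi ⟨z0, C0_le z0_mem⟩ * g →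
      ∃ (c : Perm (Fin 100)) (hc : c ∈ C0), g = Psi ⟨c, C0_le hc⟩) :
    Hyp Psi.range (Psi ⟨z0, C0_le z0_mem⟩) (Psi ⟨u0, T0_le_Q u0_T0⟩) (im Psi T0) (im Psi N1) (im Psi N2)
      (Psi ⟨w0, T0_le_Q w0_T0⟩) (Psi ⟨y0, y0_mem⟩) := by
  have ho : ∀ q : ↥Q, orderOf (Psi q) = orderOf (q : Perm (Fin 100)) := fun q => by
    rw [orderOf_injective Psi inj, ← Subgroup.orderOf_coe]
  have hcm : ∀ {p q : ↥Q}, (p : Perm (Fin 100)) * q = q * p → Psi p * Psi q = Psi q * Psi p := by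
    intro p q h
    rw [← map_mul, ← map_mul]
    congr 1
    exact Subtype.ext h
  have hcm' : ∀ {p q : ↥Q}, Psi p * Psi q = Psi q * Psi p → (p : Perm (Fin 100)) * q = q * p := by
    intro p q h
    rw [← map_mul, ← map_mul] at h
    exact congrArg Subtype.val (inj h)
  have hcj : ∀ {q : ↥Q}, orderOf (q : Perm (Fin 100)) = 2 → Fx (q : Perm (Fin 100)) →
      Cj (Psi ⟨z0, C0_le z0_mem⟩) (Psi q) := by
    intro q hq hf
    obtain ⟨c, hc, h⟩ := inv_fx q.2 hq hf
    refine ⟨Psi (⟨c, hc⟩ : ↥Q)⁻¹, ?_⟩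
    have h1 : (⟨c, hc⟩ : ↥Q) * q * (⟨c, hc⟩ : ↥Q)⁻¹ = ⟨z0, C0_le z0_mem⟩ := Subtype.ext h
    rw [← h1, ← map_inv, ← map_mul, ← map_mul]
    congr 1
    group
  have hzu : ¬ Cj (Psi ⟨z0, C0_le z0_mem⟩) (Psi ⟨u0, T0_le_Q u0_T0⟩) := by
    rintro ⟨g, hg⟩
    set z := Psi ⟨z0, C0_le z0_mem⟩ with hz
    set u := Psi ⟨u0, T0_le_Q u0_T0⟩ with hu
    have h9 : 9 ∣ Nat.card (centralizer {u}) := by
      have hx : Psi ⟨x0, x0_mem⟩ ∈ centralizer {u} := by
        rw [mem_centralizer_singleton_iff]; exact hcm x0_u0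
      have hy : Psi ⟨y0, y0_mem⟩ ∈ centralizer {u} := by
        rw [mem_centralizer_singleton_iff]; exact hcm y0_u0
      refine nine_dvd (x := (⟨_, hx⟩ : centralizer {u})) (y := ⟨_, hy⟩) (Subtype.ext (hcm x0_y0)) ?_ ?_ ?_
      · rw [Subgroup.orderOf_mk, ho]; exact order_x0
      · rw [Subgroup.orderOf_mk, ho]; exact order_y0
      · intro h
        obtain ⟨k, hk⟩ := mem_zpowers_iff.1 h
        have h1 := congrArg Subtype.val hk
        change (Psi ⟨y0, y0_mem⟩) ^ k = Psi ⟨x0, x0_mem⟩ at h1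
        rw [← map_zpow] at h1
        have h2 := congrArg Subtype.val (inj h1)
        exact x0_notMem (mem_zpowers_iff.2 ⟨k, h2⟩)
    have hcu : Nat.card (centralizer {u}) = Nat.card (centralizer {z}) := by
      refine Nat.card_congr ⟨fun c => ⟨g⁻¹ * c * g, ?_⟩, fun c => ⟨g * c * g⁻¹, ?_⟩, fun c => ?_, fun c => ?_⟩
      · have hc : (c : G) * (g * z * g⁻¹) = g * z * g⁻¹ * c := by
          rw [hg]; exact mem_centralizer_singleton_iff.1 c.2
        rw [mem_centralizer_singleton_iff]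
        calc g⁻¹ * (c : G) * g * z = g⁻¹ * ((c : G) * (g * z * g⁻¹)) * g := by group
          _ = g⁻¹ * (g * z * g⁻¹ * (c : G)) * g := by rw [hc]
          _ = _ := by group
      · have hc := mem_centralizer_singleton_iff.1 c.2
        rw [mem_centralizer_singleton_iff, ← hg]
        calc g * (c : G) * g⁻¹ * (g * z * g⁻¹) = g * ((c : G) * z) * g⁻¹ := by group
          _ = g * (z * (c : G)) * g⁻¹ := by rw [hc]
          _ = _ := by group
      · apply Subtype.ext
        change g * (g⁻¹ * (c : G) * g) * g⁻¹ = c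
        group
      · apply Subtype.ext
        change g⁻¹ * (g * (c : G) * g⁻¹) * g = c
        group
    have hcz : Nat.card (centralizer {z}) = Nat.card C0 := by
      refine (Nat.card_congr (Equiv.ofBijective
        (fun c : C0 => (⟨Psi ⟨c, C0_le c.2⟩, ?_⟩ : centralizer {z})) ⟨?_, ?_⟩)).symm
      · rw [mem_centralizer_singleton_iff]
        exact hcm (C0_comm c.2)
      · intro a b hab
        have h1 := congrArg Subtype.val hab
        exact Subtype.ext (congrArg (fun q : ↥Q => (q : Perm (Fin 100))) (inj h1))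
      · rintro ⟨c, hc⟩
        obtain ⟨d, hd, rfl⟩ := hC c (mem_centralizer_singleton_iff.1 hc)
        exact ⟨⟨d, hd⟩, rfl⟩
    rw [hcu, hcz] at h9
    exact not_nine_dvd h9
  -- conjugates of `z` have a fixed point
  have hfx : ∀ {q : ↥Q}, Cj (Psi ⟨z0, C0_le z0_mem⟩) (Psi q) → orderOf (q : Perm (Fin 100)) = 2 ∧
      Fx (q : Perm (Fin 100)) := by
    rintro q ⟨g, hg⟩
    have h1 : orderOf (q : Perm (Fin 100)) = 2 := by
      rw [← ho, ← hg, ← MulAut.conj_apply, MulEquiv.orderOf_eq, ho]; exact order_z0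
    refine ⟨h1, ?_⟩
    by_contra hf
    obtain ⟨c, hc, h | h⟩ := inv_Q q.2 h1
    · exact hf (Fx.of_conj (c := c) (h ▸ fx_z0))
    · apply hzu
      refine ⟨Psi ⟨c, hc⟩ * g, ?_⟩
      have h2 : (⟨c, hc⟩ : ↥Q) * q * (⟨c, hc⟩ : ↥Q)⁻¹ = ⟨u0, T0_le_Q u0_T0⟩ := Subtype.ext h
      rw [← h2, map_mul, map_mul, map_inv, ← hg]
      group
  refine
    { zG := ⟨_, rfl⟩
      uG := ⟨_, rfl⟩
      hz := (ho _).trans order_z0
      hu := (ho _).trans order_u0
      hC := ?_
      hcls := ?_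
      hzu := hzu
      comm := hcm z0_u0
      memT := ?_
      hT := ?_
      hZT := ?_
      M1T := map_mono fun _ h => (Subgroup.mem_inf.1 h).1
      M2T := map_mono fun _ h => (Subgroup.mem_inf.1 h).1
      M1i := (im_relIndex inj _ _ T0_le_Q).trans N1_index
      M2i := (im_relIndex inj _ _ T0_le_Q).trans N2_index
      hM1 := ?_
      hM2 := ?_
      uM1 := ?_
      hM2B := ?_
      wT := ⟨_, w0_T0, rfl⟩
      wz := hcj order_w0 fx_w0
      hy := (ho _).trans order_y0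
      yw := hcm y0_w0
      yu := hcm y0_u0 }
  · intro g hg
    obtain ⟨c, hc, rfl⟩ := hC g hg
    exact ⟨_, rfl⟩
  · rintro _ ⟨q, rfl⟩ hq
    rw [ho] at hq
    obtain ⟨c, hc, h | h⟩ := inv_Q q.2 hq
    · refine ⟨Psi ⟨c, hc⟩, ⟨_, rfl⟩, Or.inl ?_⟩
      rw [← map_inv, ← map_mul, ← map_mul]
      congr 1
      exact Subtype.ext h
    · refine ⟨Psi ⟨c, hc⟩, ⟨_, rfl⟩, Or.inr ?_⟩
      rw [← map_inv, ← map_mul, ← map_mul]
      congr 1
      exact Subtype.ext h
  · intro g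
    constructor
    · rintro ⟨q, hq, rfl⟩
      obtain ⟨h1, h2⟩ := mem_T0.1 hq
      exact ⟨hcm (C0_comm h1), hcm h2⟩
    · rintro ⟨h1, h2⟩
      obtain ⟨c, hc, rfl⟩ := hC g h1
      exact ⟨⟨c, C0_le hc⟩, mem_T0.2 ⟨hc, hcm' h2⟩, rfl⟩
  · rintro ⟨_, q, hq, rfl⟩
    refine ⟨3, ?_⟩
    apply Subtype.ext
    change (Psi q) ^ 8 = 1
    rw [← map_pow, show q ^ 8 = 1 from Subtype.ext (pow8 hq), map_one]
  · rintro _ ⟨q, hq, rfl⟩ hcz hct
    obtain ⟨h1, h2⟩ := hfx hcz
    congr 1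
    apply Subtype.ext
    exact cen_z0 hq h1 h2 fun t ht => hcm' (p := ⟨t, T0_le_Q ht⟩) (q := q) (hct _ ⟨⟨t, T0_le_Q ht⟩, ht, rfl⟩)
  · rintro _ ⟨q, hq, rfl⟩ hcz
    obtain ⟨h1, h2⟩ := hfx hcz
    have h3 := fix21 hq h1 h2
    exact ⟨q, ⟨hq, Or.inl ⟨h3, (act_of_21 hq h3).1⟩⟩, rfl⟩
  · rintro _ ⟨q, hq, rfl⟩ hcz
    obtain ⟨h1, h2⟩ := hfx hcz
    have h3 := fix21 hq h1 h2
    exact ⟨q, ⟨hq, Or.inl ⟨h3, (act_of_21 hq h3).2⟩⟩, rfl⟩
  · rintro ⟨q, hq, h⟩
    have h1 : (q : Perm (Fin 100)) = u0 := congrArg Subtype.val (inj h)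
    have h2 : (q : Perm (Fin 100)) ∈ N1 := hq
    rw [h1] at h2
    rcases (Subgroup.mem_inf.1 h2).2 with h3 | h3
    · exact absurd (u0_21.symm.trans h3.1) (by decide)
    · exact absurd (u0_21.symm.trans h3.1) (by decide)
  · rintro _ ⟨q, hq, rfl⟩ hq2 hncj hne
    have h1 : orderOf (q : Perm (Fin 100)) = 2 := (ho q).symm.trans hq2
    have h2 : ¬ Fx (q : Perm (Fin 100)) := fun hf => hncj (hcj h1 hf)
    have hqT : (q : Perm (Fin 100)) ∈ T0 := (Subgroup.mem_inf.1 (show (q : Perm (Fin 100)) ∈ N2 from hq)).1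
    have h3 : (q : Perm (Fin 100)) 21 = 21 ∨ (q : Perm (Fin 100)) 21 = 60 := by
      rcases (Subgroup.mem_inf.1 (show (q : Perm (Fin 100)) ∈ N2 from hq)).2 with h | h
      · exact Or.inl h.1
      · exact Or.inr h.1
    have h4 : (q : Perm (Fin 100)) ≠ u0 := by
      intro h
      apply hne
      congr 1
      exact Subtype.ext h
    have h5 := u_mul_fx hqT h1 h2 h3 h4
    have h6 : orderOf (u0 * (q : Perm (Fin 100))) = 2 := by
      have : Fact (Nat.Prime 2) := ⟨Nat.prime_two⟩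
      have hqq : (q : Perm (Fin 100)) * q = 1 := by rw [← pow_two, ← h1, pow_orderOf_eq_one]
      have huu : u0 * u0 = 1 := by rw [← pow_two, ← order_u0, pow_orderOf_eq_one]
      refine orderOf_eq_prime ?_ fun h => ?_
      · have hc := (mem_T0.1 hqT).2
        calc (u0 * (q : Perm (Fin 100))) ^ 2 = u0 * ((q : Perm (Fin 100)) * u0) * q := by rw [pow_two]; group
          _ = u0 * (u0 * (q : Perm (Fin 100))) * q := by rw [hc]
          _ = (u0 * u0) * ((q : Perm (Fin 100)) * q) := by group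
          _ = 1 := by rw [huu, hqq, one_mul]
      · apply h4
        have h7 : (q : Perm (Fin 100)) = u0⁻¹ := eq_inv_of_mul_eq_one_right h
        rw [h7]
        exact inv_eq_of_mul_eq_one_left huu
    have h7 := hcj (q := ⟨u0, T0_le_Q u0_T0⟩ * q) h6 h5
    rwa [map_mul] at h7

/-- **Closing step**: the image is the whole group. -/
theorem range_eq_top (Psi : ↥Q →* G) (inj : Function.Injective Psi)
    (hC : ∀ g : G, g * Psi ⟨z0, C0_le z0_mem⟩ = Psi ⟨z0, C0_le z0_mem⟩ * g →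
      ∃ (c : Perm (Fin 100)) (hc : c ∈ C0), g = Psi ⟨c, C0_le hc⟩) : Psi.range = ⊤ :=
  (hyp inj hC).eq_top

end Final

end

end Cfsg.Agent.HSType.Close
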