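import Cfsg.Agent.HSType.AffLemmas

set_option autoImplicit false

/-!
Recognition of the Higman–Sims group, local part: an element normalising `A = φ(4 × 4 × 4)` that moves `a²` to `z`,
and an element acting on `A` as the matrix of `r`.
-/

namespace Cfsg.Agent.HSType.NormA

open Cfsg.Agent.HSType.Letters Cfsg.Agent.HSType.Affine Cfsg.Agent.HSType.MFacts
  Cfsg.Agent.HSType.AffData Cfsg.Agent.HSType.AffLemmas Equiv

noncomputable section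

/-- the letters of `C0` -/
def cK : ↥C0 := ⟨pk, gl_mem_C0 0 (by norm_num)⟩
def cT : ↥C0 := ⟨pt, gl_mem_C0 2 (by norm_num)⟩
def cI : ↥C0 := ⟨pi, gl_mem_C0 3 (by norm_num)⟩
def cA : ↥C0 := ⟨pa, gl_mem_C0 5 (by norm_num)⟩
def cB : ↥C0 := ⟨pb, gl_mem_C0 7 (by norm_num)⟩
def cH : ↥C0 := ⟨ph, gl_mem_C0 9 (by norm_num)⟩

theorem abC : Ab cI cA cB where
  ia := Subtype.ext ab0.ia
  ib := Subtype.ext ab0.ib
  ab := Subtype.ext ab0.ab
  i4 := Subtype.ext ab0.i4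
  a4 := Subtype.ext ab0.a4
  b4 := Subtype.ext ab0.b4

theorem coe_e (v : V) : ((e cI cA cB v : ↥C0) : Perm (Fin 100)) = e pi pa pb v := map_e C0.subtype v

theorem injC : Inj cI cA cB := fun v hv => e_inj (v := v) (by rw [← coe_e, hv]; rfl)

theorem actKC : Act cI cA cB cK mK where
  hi := Subtype.ext (by rw [coe_e, ← actK.hi]; rfl)
  ha := Subtype.ext (by rw [coe_e, ← actK.ha]; rfl)
  hb := Subtype.ext (by rw [coe_e, ← actK.hb]; rfl)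

theorem actTC : Act cI cA cB cT mT where
  hi := Subtype.ext (by rw [coe_e, ← actT.hi]; rfl)
  ha := Subtype.ext (by rw [coe_e, ← actT.ha]; rfl)
  hb := Subtype.ext (by rw [coe_e, ← actT.hb]; rfl)

/-- letters `k` and `t` -/
def ktC (n : ℕ) : ↥C0 := if n = 0 then cK else cT

/-- the n-th element of `⟨k, t⟩` -/
def pwC (n : ℕ) : ↥C0 := ((pw n).map ktC).prod

theorem pw_letters : ∀ n < 24, ∀ l ∈ pw n, l = 0 ∨ l = 2 := by decide

theorem coe_pwC {n : ℕ} (hn : n < 24) : ((pwC n : ↥C0) : Perm (Fin 100)) = evw (pw n) := by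
  have key : ∀ w : List ℕ, (∀ l ∈ w, l = 0 ∨ l = 2) → (((w.map ktC).prod : ↥C0) : Perm (Fin 100)) = evw w := by
    intro w
    induction w with
    | nil => intro _; rfl
    | cons l w ih =>
      intro hw
      rw [List.map_cons, List.prod_cons, Subgroup.coe_mul, ih fun y hy => hw y (List.mem_cons_of_mem _ hy),
        evw, evw, Cfsg.Agent.SporadicRecognition.CosetCert.ev_cons]
      congr 1
      rcases hw l List.mem_cons_self with rfl | rfl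
      · rfl
      · rfl
  exact key _ (pw_letters n hn)

theorem act_pwC {n : ℕ} (hn : n < 24) : Act cI cA cB (pwC n) (pm n) := by
  refine act_ev abC (pw n) fun l hl => ?_
  rcases pw_letters n hn l hl with rfl | rfl
  · exact actKC
  · exact actTC

/-- `A0 = ⟨i, a, b⟩` in the model -/
def A0 : Subgroup (Perm (Fin 100)) := Subgroup.closure {pi, pa, pb}

theorem A0_eq : A0 = sub ab0 := (sub_eq_closure ab0).symm

theorem mem_A0 {x : Perm (Fin 100)} : x ∈ A0 ↔ ∃ v, x = e pi pa pb v := by rw [A0_eq]; exact Iff.rfl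

/-- the facts on `C0` used below -/
structure CF : Prop where
  conj : ∀ M : Subgroup (Perm (Fin 100)), M ≤ C0 → Nat.card M = 64 → (∀ x ∈ M, ∀ y ∈ M, x * y = y * x) →
    ∃ c ∈ C0, ∀ x ∈ M, c * x * c⁻¹ ∈ A0
  norm : ∀ c ∈ C0, (∀ x ∈ A0, c * x * c⁻¹ ∈ A0) → c ∈ B0
  cen : ∀ c ∈ C0, c * (pi * pi) = (pi * pi) * c → c * (pa * pa) = (pa * pa) * c →
    c * (pb * pb) = (pb * pb) * c → c ∈ A0

/-- `z0` is central in `C0`. -/
theorem comm_z0 {c : Perm (Fin 100)} (hc : c ∈ C0) : c * (pi * pi) = (pi * pi) * c := by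
  have h4 : pi⁻¹ * pi⁻¹ = pi * pi := by
    have h := ab0.i4
    rw [← mul_inv_rev, inv_eq_iff_mul_eq_one]
    simpa [pow_succ, mul_assoc] using h
  have h1 : c * (pi * pi) * c⁻¹ = (c * pi * c⁻¹) * (c * pi * c⁻¹) := by group
  have h2 : c * (pi * pi) * c⁻¹ = pi * pi := by
    rw [h1]
    rcases parity hc with h | h
    · rw [h]
    · rw [h, h4]
  exact mul_inv_eq_iff_eq_mul.1 h2

section card

variable {G : Type*} [Group G] {i a b : G}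

theorem card_sub (h : Ab i a b) (hj : Inj i a b) : Nat.card (sub h) = 64 := by
  let f : Fin 4 × Fin 4 × Fin 4 → G := fun p => e i a b ⟨p.1, p.2.1, p.2.2⟩
  have hf : Function.Injective f := by
    rintro ⟨x, y, z⟩ ⟨x', y', z'⟩ hxy
    have h1 := hj.eq_of_lt h (v := ⟨x, y, z⟩) (w := ⟨x', y', z'⟩) ⟨x.2, y.2, z.2⟩ ⟨x'.2, y'.2, z'.2⟩ hxy
    have h2 : (x : ℕ) = x' := congrArg V.x h1
    have h3 : (y : ℕ) = y' := congrArg V.y h1
    have h4 : (z : ℕ) = z' := congrArg V.z h1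
    rw [Fin.ext h2, Fin.ext h3, Fin.ext h4]
  have h1 : Nat.card (sub h) = Nat.card (Set.range f) := by
    refine Nat.card_congr (Equiv.setCongr ?_)
    ext x
    constructor
    · rintro ⟨v, rfl⟩
      refine ⟨(⟨v.x % 4, Nat.mod_lt _ (by norm_num)⟩, ⟨v.y % 4, Nat.mod_lt _ (by norm_num)⟩,
        ⟨v.z % 4, Nat.mod_lt _ (by norm_num)⟩), ?_⟩
      exact e_red h v
    · rintro ⟨p, rfl⟩
      exact ⟨_, rfl⟩
  rw [h1, Nat.card_congr (Equiv.ofInjective f hf).symm]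
  simp

end card

variable {G : Type*} [Group G]

/-- `φ` is an embedding of `C0` onto the centraliser of `z` -/
structure Ctx (z : G) (φ : ↥C0 →* G) : Prop where
  inj : Function.Injective φ
  hz : φ (cI * cI) = z
  cen : ∀ g : G, g * z = z * g → ∃ c, φ c = g

variable {z : G} {φ : ↥C0 →* G}

theorem abφ (φ : ↥C0 →* G) : Ab (φ cI) (φ cA) (φ cB) := Ab.map φ abC

theorem Ctx.injφ (h : Ctx z φ) : Inj (φ cI) (φ cA) (φ cB) := Inj.map φ h.inj injC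

theorem Ctx.z_eq (h : Ctx z φ) : z = e (φ cI) (φ cA) (φ cB) ⟨2, 0, 0⟩ := by
  rw [← h.hz, map_mul]; simp [e, pow_two]

theorem mem_sub_of_A0 {c : ↥C0} (hc : (c : Perm (Fin 100)) ∈ A0) : φ c ∈ sub (abφ φ) := by
  obtain ⟨v, hv⟩ := mem_A0.1 hc
  have h1 : c = e cI cA cB v := Subtype.ext (by rw [coe_e, hv])
  exact ⟨v, by rw [h1, map_e]⟩

theorem Ctx.comm_z (h : Ctx z φ) (c : ↥C0) : φ c * z = z * φ c := by
  rw [← h.hz, ← map_mul, ← map_mul]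
  congr 1
  exact Subtype.ext (comm_z0 c.2)

theorem exists_m [Finite G] (CFh : CF) (h : Ctx z φ) (hx : IsConj (φ (cA * cA)) z) :
    ∃ m : G, (∀ x ∈ sub (abφ φ), m * x * m⁻¹ ∈ sub (abφ φ)) ∧ m * φ (cA * cA) * m⁻¹ = z := by
  obtain ⟨g, hg⟩ := isConj_iff.1 hx
  have haa : φ (cA * cA) ∈ sub (abφ φ) := by
    rw [map_mul]; exact Subgroup.mul_mem _ (a_mem _) (a_mem _)
  have h1 : ∀ x ∈ sub (abφ φ), ∃ c, φ c = g * x * g⁻¹ := by
    intro x hx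
    refine h.cen _ ?_
    rw [← hg]
    have := sub_comm (abφ φ) hx haa
    calc g * x * g⁻¹ * (g * φ (cA * cA) * g⁻¹) = g * (x * φ (cA * cA)) * g⁻¹ := by group
      _ = g * (φ (cA * cA) * x) * g⁻¹ := by rw [this]
      _ = g * φ (cA * cA) * g⁻¹ * (g * x * g⁻¹) := by group
  let H : Subgroup G := (sub (abφ φ)).map (MulAut.conj g).toMonoidHom
  have hH : Nat.card H = 64 := by
    rw [← card_sub (abφ φ) h.injφ]
    exact Nat.card_congr ((sub (abφ φ)).equivMapOfInjective _ (MulAut.conj g).injective).symm.toEquiv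
  have hHr : H ≤ φ.range := by
    rintro _ ⟨x, hx, rfl⟩
    obtain ⟨c, hc⟩ := h1 x hx
    exact ⟨c, hc⟩
  let M : Subgroup (Perm (Fin 100)) := (H.comap φ).map C0.subtype
  have hM1 : M ≤ C0 := by
    rintro _ ⟨c, -, rfl⟩
    exact c.2
  have hM2 : Nat.card M = 64 := by
    rw [← hH, ← Nat.card_congr ((H.comap φ).equivMapOfInjective _ C0.subtype_injective).toEquiv]
    have h2 : (H.comap φ).map φ = H := Subgroup.map_comap_eq_self hHr
    rw [← Nat.card_congr ((H.comap φ).equivMapOfInjective φ h.inj).symm.toEquiv, h2]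
  have hM3 : ∀ x ∈ M, ∀ y ∈ M, x * y = y * x := by
    rintro _ ⟨c, ⟨x, hx, hcx⟩, rfl⟩ _ ⟨d, ⟨y, hy, hdy⟩, rfl⟩
    have h3 : c * d = d * c := by
      apply h.inj
      rw [map_mul, map_mul, ← hcx, ← hdy, ← map_mul, ← map_mul, sub_comm (abφ φ) hx hy]
    exact congrArg C0.subtype h3
  obtain ⟨c, hc, hcM⟩ := CFh.conj M hM1 hM2 hM3
  refine ⟨φ ⟨c, hc⟩ * g, ?_, ?_⟩
  · intro x hx
    obtain ⟨d, hd⟩ := h1 x hx
    have h4 : (d : Perm (Fin 100)) ∈ M := ⟨d, ⟨x, hx, hd.symm⟩, rfl⟩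
    have h5 := hcM _ h4
    have h6 : φ ⟨c, hc⟩ * g * x * (φ ⟨c, hc⟩ * g)⁻¹ = φ (⟨c, hc⟩ * d * ⟨c, hc⟩⁻¹) := by
      rw [map_mul, map_mul, map_inv, hd]; group
    rw [h6]
    exact mem_sub_of_A0 h5
  · have h6 : φ ⟨c, hc⟩ * g * φ (cA * cA) * (φ ⟨c, hc⟩ * g)⁻¹ =
        φ ⟨c, hc⟩ * (g * φ (cA * cA) * g⁻¹) * (φ ⟨c, hc⟩)⁻¹ := by group
    rw [h6, hg, h.comm_z, mul_inv_cancel_right]

theorem exists_bx (n : ℕ) : ∃ d, bx d 1 = n % 2 := by
  rcases Nat.mod_two_eq_zero_or_one n with h | h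
  · exact ⟨false, h.symm⟩
  · exact ⟨true, h.symm⟩

/-- the entries of a matrix modulo 2 determine its action on even vectors -/
theorem app_even {m n : M} (h1 : m.a.x % 2 = n.a.x % 2) (h2 : m.a.y % 2 = n.a.y % 2) (h3 : m.a.z % 2 = n.a.z % 2)
    (h4 : m.b.x % 2 = n.b.x % 2) (h5 : m.b.y % 2 = n.b.y % 2) (h6 : m.b.z % 2 = n.b.z % 2)
    (h7 : m.c.x % 2 = n.c.x % 2) (h8 : m.c.y % 2 = n.c.y % 2) (h9 : m.c.z % 2 = n.c.z % 2) (α β γ : Bool) :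
    m.app ⟨bx α 2, bx β 2, bx γ 2⟩ = n.app ⟨bx α 2, bx β 2, bx γ 2⟩ := by
  have key : ∀ (p q r p' q' r' : ℕ), p % 2 = p' % 2 → q % 2 = q' % 2 → r % 2 = r' % 2 →
      (bx α 2 * p + bx β 2 * q + bx γ 2 * r) % 4 = (bx α 2 * p' + bx β 2 * q' + bx γ 2 * r') % 4 := by
    intro p q r p' q' r' hp hq hr
    cases α <;> cases β <;> cases γ <;> simp only [bx, cond_true, cond_false] <;> omega
  obtain ⟨⟨a1, a2, a3⟩, ⟨b1, b2, b3⟩, ⟨c1, c2, c3⟩⟩ := m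
  obtain ⟨⟨a1', a2', a3'⟩, ⟨b1', b2', b3'⟩, ⟨c1', c2', c3'⟩⟩ := n
  have e1 := key a1 b1 c1 a1' b1' c1' h1 h4 h7
  have e2 := key a2 b2 c2 a2' b2' c2' h2 h5 h8
  have e3 := key a3 b3 c3 a3' b3' c3' h3 h6 h9
  exact congrArg₂ (fun x (p : ℕ × ℕ) => (⟨x, p.1, p.2⟩ : V)) e1 (congrArg₂ Prod.mk e2 e3)

/-- an element acting on involutions like `r` -/
theorem exists_rho [Finite G] (CFh : CF) (h : Ctx z φ) (hx : IsConj (φ (cA * cA)) z) :
    ∃ g : G, (∀ x ∈ sub (abφ φ), g * x * g⁻¹ ∈ sub (abφ φ)) ∧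
      g * e (φ cI) (φ cA) (φ cB) ⟨2, 0, 0⟩ * g⁻¹ = e (φ cI) (φ cA) (φ cB) ⟨0, 2, 0⟩ ∧
      g * e (φ cI) (φ cA) (φ cB) ⟨0, 2, 0⟩ * g⁻¹ = e (φ cI) (φ cA) (φ cB) ⟨0, 0, 2⟩ ∧
      g * e (φ cI) (φ cA) (φ cB) ⟨0, 0, 2⟩ * g⁻¹ = e (φ cI) (φ cA) (φ cB) ⟨2, 2, 0⟩ := by
  obtain ⟨m, hm, hmz⟩ := exists_m CFh h hx
  obtain ⟨mm, hlt, hact⟩ := exists_act (abφ φ) hm
  have hj := h.injφ
  have hab := abφ φ
  -- the second column
  have hb1 : e (φ cI) (φ cA) (φ cB) (mm.app ⟨0, 2, 0⟩) = e (φ cI) (φ cA) (φ cB) ⟨2, 0, 0⟩ := by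
    rw [← hact.app hab, ← h.z_eq, ← hmz, map_mul]
    simp [e, pow_two]
  obtain ⟨hbx, hby, hbz⟩ := hj.eq hab hb1
  change (0 * mm.a.x + 2 * mm.b.x + 0 * mm.c.x) % 4 % 4 = 2 % 4 at hbx
  change (0 * mm.a.y + 2 * mm.b.y + 0 * mm.c.y) % 4 % 4 = 0 % 4 at hby
  change (0 * mm.a.z + 2 * mm.b.z + 0 * mm.c.z) % 4 % 4 = 0 % 4 at hbz
  obtain ⟨d1, hd1⟩ := exists_bx mm.a.x
  obtain ⟨d2, hd2⟩ := exists_bx mm.a.y
  obtain ⟨d3, hd3⟩ := exists_bx mm.a.z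
  obtain ⟨d4, hd4⟩ := exists_bx mm.c.x
  obtain ⟨d5, hd5⟩ := exists_bx mm.c.y
  obtain ⟨d6, hd6⟩ := exists_bx mm.c.z
  have hev : ∀ α β γ : Bool, mm.app ⟨bx α 2, bx β 2, bx γ 2⟩ =
      (m2 d1 d2 d3 d4 d5 d6).app ⟨bx α 2, bx β 2, bx γ 2⟩ := by
    intro α β γ
    have hh : ∀ n : ℕ, n % 2 % 2 = n % 2 := fun n => Nat.mod_mod _ _
    refine app_even ?_ ?_ ?_ ?_ ?_ ?_ ?_ ?_ ?_ α β γ
    · change _ = bx d1 1 % 2; rw [hd1, hh]
    · change _ = bx d2 1 % 2; rw [hd2, hh]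
    · change _ = bx d3 1 % 2; rw [hd3, hh]
    · change _ = 1 % 2; omega
    · change _ = 0 % 2; omega
    · change _ = 0 % 2; omega
    · change _ = bx d4 1 % 2; rw [hd4, hh]
    · change _ = bx d5 1 % 2; rw [hd5, hh]
    · change _ = bx d6 1 % 2; rw [hd6, hh]
  have hsing : sing (m2 d1 d2 d3 d4 d5 d6) = false := by
    rw [sing, Bool.not_eq_false']
    have key : ∀ α β γ : Bool, (cond (V.beq ((m2 d1 d2 d3 d4 d5 d6).app ⟨bx α 2, bx β 2, bx γ 2⟩) ⟨0, 0, 0⟩)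
        (Bool.not (Bool.or α (Bool.or β γ))) true) = true := by
      intro α β γ
      by_cases hb : V.beq ((m2 d1 d2 d3 d4 d5 d6).app ⟨bx α 2, bx β 2, bx γ 2⟩) ⟨0, 0, 0⟩ = true
      · rw [hb, cond_true]
        have h1 := V.eq_of_beq hb
        rw [← hev] at h1
        have h2 := hact.app hab ⟨bx α 2, bx β 2, bx γ 2⟩
        rw [h1, e_zero, mul_inv_eq_one, mul_eq_left] at h2
        have h3 := hj _ h2
        cases α <;> cases β <;> cases γ <;> first | rfl | (exfalso; simp [bx] at h3)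
      · rw [Bool.not_eq_true] at hb
        rw [hb, cond_false]
    have mk : ∀ p : Bool → Bool, (∀ b, p b = true) → allBool p = true := by
      intro p hp
      rw [allBool, Affine.band_iff]; exact ⟨hp _, hp _⟩
    exact mk _ fun α => mk _ fun β => mk _ fun γ => key α β γ
  obtain ⟨n, hn, hgood⟩ := exists_good d1 d2 d3 d4 d5 d6 hsing
  rw [good, Affine.band_iff] at hgood
  have hg1 := V.eq_of_beq hgood.1
  have hg2 := V.eq_of_beq hgood.2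
  have hv1 := hev false false true
  have hv2 := hev true true false
  simp only [bx, cond_true, cond_false] at hv1 hv2
  rw [← hv1] at hg1
  rw [← hv2] at hg2
  have hpact : Act (φ cI) (φ cA) (φ cB) (φ (pwC n)) (pm n) := Act.map φ (act_pwC hn)
  refine ⟨m⁻¹ * φ (pwC n), ?_, ?_, ?_, ?_⟩
  · intro x hx
    have h1 : φ (pwC n) * x * (φ (pwC n))⁻¹ ∈ sub (abφ φ) := Act.norm hab hpact x hx
    have h2 : ∀ y ∈ sub (abφ φ), m⁻¹ * y * m ∈ sub (abφ φ) := by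
      have h3 : m ∈ Subgroup.normalizer (sub (abφ φ) : Set G) :=
        Subgroup.mem_normalizer_fintype (fun y hy => hm y hy)
      intro y hy
      exact (Subgroup.mem_normalizer_iff''.1 h3 y).1 hy
    have h4 : m⁻¹ * φ (pwC n) * x * (m⁻¹ * φ (pwC n))⁻¹ = m⁻¹ * (φ (pwC n) * x * (φ (pwC n))⁻¹) * m := by group
    rw [h4]
    exact h2 _ h1
  · have h4 : m⁻¹ * φ (pwC n) * e (φ cI) (φ cA) (φ cB) ⟨2, 0, 0⟩ * (m⁻¹ * φ (pwC n))⁻¹ =
        m⁻¹ * (φ (pwC n) * z * (φ (pwC n))⁻¹) * m := by rw [h.z_eq]; group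
    rw [h4, h.comm_z, mul_inv_cancel_right]
    have h5 : z = m * e (φ cI) (φ cA) (φ cB) ⟨0, 2, 0⟩ * m⁻¹ := by
      rw [hact.app hab, hb1, h.z_eq]
    nth_rewrite 1 [h5]; group
  · have h4 : m⁻¹ * φ (pwC n) * e (φ cI) (φ cA) (φ cB) ⟨0, 2, 0⟩ * (m⁻¹ * φ (pwC n))⁻¹ =
        m⁻¹ * (φ (pwC n) * e (φ cI) (φ cA) (φ cB) ⟨0, 2, 0⟩ * (φ (pwC n))⁻¹) * m := by group
    rw [h4, hpact.app hab, hg1, ← hact.app hab]; group
  · have h4 : m⁻¹ * φ (pwC n) * e (φ cI) (φ cA) (φ cB) ⟨0, 0, 2⟩ * (m⁻¹ * φ (pwC n))⁻¹ =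
        m⁻¹ * (φ (pwC n) * e (φ cI) (φ cA) (φ cB) ⟨0, 0, 2⟩ * (φ (pwC n))⁻¹) * m := by group
    rw [h4, hpact.app hab, hg2, ← hact.app hab]; group

end

end Cfsg.Agent.HSType.NormA
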