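import Cfsg.Agent.HSType.UniqB
import Cfsg.Agent.HSType.CardC0
import Cfsg.Agent.HSType.NormA

/-!
A group of order `7680` generated by letters `q₀, …, q₄, z, b, f, r` satisfying the relations of the centraliser of
a `2`-central involution of the Higman–Sims group is isomorphic to `C0`.
-/

set_option autoImplicit false
set_option maxRecDepth 100000

namespace Cfsg.Agent.HSType.UniqC

open Cfsg.Agent.SporadicRecognition.CosetCert
open Cfsg.Agent.HSType.Letters Cfsg.Agent.HSType.UniqB Cfsg.Agent.HN.HS100 Equiv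

/-- the letters of the relations as words in the letters of `C0` -/
def mw (n : ℕ) : List ℕ :=
  match n with
  | 0 => [0, 2, 0, 2] | 1 => [0, 2, 5, 0, 2, 7] | 2 => [1, 2, 1, 2] | 3 => [2, 7, 7, 2] | 4 => [9, 7, 7, 9]
  | 5 => [3, 3] | 6 => [2, 5, 7, 9] | 7 => [9, 8, 6, 2] | 8 => [9, 6, 0, 7] | 9 => [8, 1, 5, 9] | 10 => [0, 6, 8]
  | 11 => [7, 5, 1] | _ => []

theorem mw_lt (n : ℕ) : ∀ l ∈ mw n, l < 10 := by
  match n with
  | 0 | 1 | 2 | 3 | 4 | 5 | 6 | 7 | 8 | 9 | 10 | 11 => decide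
  | n + 12 => intro l hl; exact absurd hl List.not_mem_nil

/-- the letters in `C0` -/
noncomputable def m (n : ℕ) : ↥C0 := ⟨evw (mw n), ev_mem_C0 _ (mw_lt n)⟩

theorem ev_m (w : List ℕ) : ((ev m w : ↥C0) : Perm (Fin 100)) = evw (w.flatMap mw) := by
  induction w with
  | nil => rfl
  | cons x w ih =>
    rw [ev_cons, Subgroup.coe_mul, ih, List.flatMap_cons]
    exact (ev_append gl _ _).symm

theorem rels_ok : chkAll (UniqEData.rels.map fun w => w.flatMap mw) = true := by decide +kernel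

theorem rels_m : ∀ w ∈ UniqEData.rels, ev m w = 1 := by
  intro w hw
  apply Subtype.ext
  rw [ev_m]
  exact ev_eq_one_of_mem rels_ok _ (List.mem_map_of_mem hw)

theorem inv_ok : ∀ x < 12, chkOne (mw x ++ mw (invc x)) = true := by decide +kernel

theorem inv_m : ∀ x, x < 12 → m x * m (invc x) = 1 := by
  intro x hx
  apply Subtype.ext
  rw [Subgroup.coe_mul]
  have h := ev_eq_one (inv_ok x hx)
  rw [evw, ev_append] at h
  exact h

/-- membership from a word -/
theorem word_mem {w v : List ℕ} (hw : ∀ x ∈ w, x < 12) (h : chkEq (w.flatMap mw) v = true) (hv : evw v ∈ C0) :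
    (⟨evw v, hv⟩ : ↥C0) ∈ Subgroup.closure (m '' {x | x < 12}) := by
  have h1 : (⟨evw v, hv⟩ : ↥C0) = ev m w := Subtype.ext (by rw [ev_m]; exact (ev_eq h).symm)
  rw [h1]
  clear h h1
  induction w with
  | nil => exact Subgroup.one_mem _
  | cons x w ih =>
    rw [ev_cons]
    exact Subgroup.mul_mem _ (Subgroup.subset_closure ⟨x, hw x List.mem_cons_self, rfl⟩)
      (ih fun y hy => hw y (List.mem_cons_of_mem _ hy))

theorem closure_m : Subgroup.closure (m '' {x | x < 12}) = ⊤ := by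
  rw [eq_top_iff]
  rintro ⟨x, hx⟩ -
  have hx' : x ∈ Subgroup.closure {pk, pt, pi, pa, pb, ph} := hx
  have key : ∀ y (hy : y ∈ C0), y ∈ Subgroup.closure {pk, pt, pi, pa, pb, ph} →
      (⟨y, hy⟩ : ↥C0) ∈ Subgroup.closure (m '' {x | x < 12}) := by
    intro y hy hy'
    induction hy' using Subgroup.closure_induction with
    | mem y h =>
      rcases h with rfl | rfl | rfl | rfl | rfl | rfl
      · exact word_mem (w := [4, 0, 7, 11, 6]) (v := [0]) (by decide) (by decide +kernel) hy
      · exact word_mem (w := [5, 6, 8, 3, 11]) (v := [2]) (by decide) (by decide +kernel) hy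
      · exact word_mem (w := [0, 1, 2, 3, 4]) (v := [3]) (by decide) (by decide +kernel) hy
      · exact word_mem (w := [2, 9, 11, 9, 1]) (v := [5]) (by decide) (by decide +kernel) hy
      · exact word_mem (w := [3, 7, 8, 0, 8]) (v := [7]) (by decide) (by decide +kernel) hy
      · exact word_mem (w := [0, 9, 6, 11]) (v := [9]) (by decide) (by decide +kernel) hy
    | one => exact Subgroup.one_mem _
    | mul y w hy1 hw1 ih1 ih2 =>
      have h1 : y ∈ C0 := hy1
      have h2 : w ∈ C0 := hw1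
      exact Subgroup.mul_mem _ (ih1 h1) (ih2 h2)
    | inv y hy1 ih1 =>
      have h1 : y ∈ C0 := hy1
      exact Subgroup.inv_mem _ (ih1 h1)
  exact key x hx hx'

/-- **Uniqueness.** -/
theorem exists_equiv {C : Type*} [Group C] [Finite C] (hcard : Nat.card C = 7680) (g : ℕ → C) (h12 : g 12 = 1)
    (hinv : ∀ x, x < 12 → g x * g (invc x) = 1) (hrel : ∀ w ∈ UniqEData.rels, ev g w = 1)
    (hgen : Subgroup.closure (g '' {x | x < 12}) = ⊤) : ∃ φ : ↥C0 ≃* C, ∀ x, x < 12 → φ (m x) = g x := by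
  have hm12 : m 12 = 1 := rfl
  refine UniqB.exists_equiv {x | x < 12} m g closure_m hgen CardC0.card_C0_ge hcard.ge ?_
  refine (card_le (fun x => (m x, g x)) ?_ ?_ ?_).2
  · rw [hm12, h12]; rfl
  · intro x hx
    rw [Prod.mk_mul_mk, inv_m x hx, hinv x hx]; rfl
  · intro w hw
    have h : ∀ w : List ℕ, ev (fun x => (m x, g x)) w = (ev m w, ev g w) := by
      intro w
      induction w with
      | nil => rfl
      | cons x w ih => rw [ev_cons, ih, ev_cons, ev_cons]; rfl
    rw [h, rels_m w hw, hrel w hw]; rfl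

theorem card_C0 : Nat.card C0 = 7680 := by
  refine le_antisymm ?_ CardC0.card_C0_ge
  have h := (card_le m rfl inv_m rels_m).2
  rwa [closure_m, Subgroup.card_top] at h

/-- `i = q₀q₁q₂q₃q₄` -/
theorem i_eq : NormA.cI = m 0 * m 1 * m 2 * m 3 * m 4 := by
  have h : chkEq [3] ([0, 1, 2, 3, 4].flatMap mw) = true := by decide +kernel
  have h1 : evw [3] = ev m [0, 1, 2, 3, 4] := by rw [ev_m]; exact ev_eq h
  apply Subtype.ext
  refine Eq.trans ?_ (h1.trans ?_)
  · rfl
  · simp only [ev_cons, ev_nil, mul_one, mul_assoc]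

/-- `i² = z` -/
theorem i2_eq : NormA.cI * NormA.cI = m 5 := rfl

/-- `a² = q₂q₄q₃` -/
theorem a2_eq : NormA.cA * NormA.cA = m 2 * m 4 * m 3 := by
  have h : chkEq [5, 5] ([2, 4, 3].flatMap mw) = true := by decide +kernel
  have h1 : evw [5, 5] = ev m [2, 4, 3] := by rw [ev_m]; exact ev_eq h
  apply Subtype.ext
  refine Eq.trans ?_ (h1.trans ?_)
  · rfl
  · simp only [ev_cons, ev_nil, mul_one, mul_assoc]

end Cfsg.Agent.HSType.UniqC
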