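import Cfsg.Agent.HSType.EnumAll
import Cfsg.Agent.HSType.UniqC
import Cfsg.Agent.HN.AutHS

/-!
Existence step of the recognition of the Higman–Sims group: an embedding `φ` of the involution centraliser `C0` into a
group `G`, together with an element of `G` satisfying the relations of the presentation, extends to an embedding of the
whole Higman–Sims group (graph subgroup of `Q × G` and the certified coset enumeration of index `5775`).
-/

set_option autoImplicit false
set_option maxRecDepth 100000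

namespace Cfsg.Agent.HSType.ExistB

open Cfsg.Agent.SporadicRecognition.CosetCert Cfsg.Agent.SporadicRecognition.CosetCertHyp
open Cfsg.Agent.HSType.Letters Cfsg.Agent.HN.HS100 Equiv

/-- inverses of the letters -/
def invc (x : ℕ) : ℕ :=
  match x with
  | 0 => 1 | 1 => 0 | 3 => 4 | 4 => 3 | 5 => 6 | 6 => 5 | 7 => 8 | 8 => 7 | 10 => 11 | 11 => 10 | 12 => 13 | 13 => 12
  | x => x

theorem hyp {G : Type*} [Group G] (H : Subgroup G) (g : ℕ → G) (h14 : g 14 = 1)
    (hinv : ∀ x, x < 14 → g x * g (invc x) = 1)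
    (hrel : ∀ w ∈ EnumData.rels, ev g w = 1) (hsub : ∀ w ∈ EnumData.subw, ev g w ∈ H) :
    Hyp EnumData.C H g := by
  refine hyp_of_checks H g EnumData.C EnumData.rels EnumData.subw h14 ?_ hrel hsub (by decide +kernel)
  intro x hx
  have h : ∀ x < 14, EnumData.C.inv x < 14 ∧ EnumData.C.inv x = invc x := by decide
  have hx' : x < 14 := hx
  refine ⟨(h x hx').1, ?_⟩
  rw [(h x hx').2]
  exact hinv x hx'

theorem rels_mem : ∀ w ∈ EnumData.rels, (w ∈ relC ∧ ∀ x ∈ w, x < 10) ∨ w ∈ relN ∨ w ∈ relE := by decide +kernel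

theorem subw_mem : ∀ w ∈ EnumData.subw, ∃ x < 10, w = [x] := by decide

theorem gl_inv (x : ℕ) (hx : x < 14) : gl x * gl (invc x) = 1 := by
  have h : ∀ x < 14, chkEq [x, invc x] [] = true := by decide +kernel
  have h1 := ev_eq (h x hx)
  simpa [evw, ev] using h1

variable {G : Type*} [Group G]

section

variable (φ : ↥C0 →* G) (g : ℕ → G) (hg : ∀ n (hn : n < 10), g n = φ ⟨gl n, gl_mem_C0 n hn⟩)

include hg in
theorem ev_C (w : List ℕ) (hw : ∀ x ∈ w, x < 10) : ev g w = φ ⟨evw w, ev_mem_C0 w hw⟩ := by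
  induction w with
  | nil => exact (map_one φ).symm
  | cons x w ih =>
    rw [ev_cons, ih fun y hy => hw y (List.mem_cons_of_mem _ hy), hg x (hw x List.mem_cons_self), ← map_mul]
    rfl

theorem ev_pair (w : List ℕ) : ev (fun x => (gl x, g x)) w = (evw w, ev g w) := by
  induction w with
  | nil => rfl
  | cons x w ih =>
    rw [ev_cons, ih]
    exact Prod.ext (ev_cons gl x w).symm (ev_cons g x w).symm

end

/-- **Existence of the embedding.** -/
theorem exists_hom (φ : ↥C0 →* G) (hinj : Function.Injective φ) (g : ℕ → G)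
    (hg : ∀ n (hn : n < 10), g n = φ ⟨gl n, gl_mem_C0 n hn⟩) (h11 : g 11 = (g 10)⁻¹) (_h12 : g 12 = g 10 * g 0)
    (h13 : g 13 = (g 12)⁻¹) (h14 : g 14 = 1)
    (hN : ∀ w ∈ relN, ev g w = 1) (hE : ∀ w ∈ relE, ev g w = 1) :
    ∃ Ψ : ↥Q →* G, Function.Injective Ψ ∧ ∀ c (hc : c ∈ C0), Ψ ⟨c, C0_le hc⟩ = φ ⟨c, hc⟩ := by
  have : Finite ↥C0 := inferInstance
  -- the relations
  have hrel : ∀ w ∈ EnumData.rels, ev (fun x => (gl x, g x)) w = 1 := by
    intro w hw
    rw [ev_pair, Prod.mk_eq_one]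
    rcases rels_mem w hw with ⟨h, hlt⟩ | h | h
    · have h1 : evw w = 1 := ev_eq_one_of_mem relC_ok w h
      refine ⟨h1, ?_⟩
      rw [ev_C φ g hg w hlt]
      have : (⟨evw w, ev_mem_C0 w hlt⟩ : ↥C0) = 1 := Subtype.ext h1
      rw [this, map_one]
    · exact ⟨ev_eq_one_of_mem relN_ok w h, hN w h⟩
    · exact ⟨ev_eq_one_of_mem relE_ok w h, hE w h⟩
  have hinvG : ∀ x, x < 14 → g x * g (invc x) = 1 := by
    have hC : ∀ x (hx : x < 10) (hy : invc x < 10), g x * g (invc x) = 1 := by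
      intro x hx hy
      rw [hg x hx, hg _ hy, ← map_mul]
      have : (⟨gl x, gl_mem_C0 x hx⟩ : ↥C0) * ⟨gl (invc x), gl_mem_C0 _ hy⟩ = 1 :=
        Subtype.ext (gl_inv x (by omega))
      rw [this, map_one]
    intro x hx
    by_cases h10 : x < 10
    · have : ∀ x < 10, invc x < 10 := by decide
      exact hC x h10 (this x h10)
    · obtain rfl | rfl | rfl | rfl : x = 10 ∨ x = 11 ∨ x = 12 ∨ x = 13 := by omega
      · change g 10 * g 11 = 1; rw [h11, mul_inv_cancel]
      · change g 11 * g 10 = 1; rw [h11, inv_mul_cancel]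
      · change g 12 * g 13 = 1; rw [h13, mul_inv_cancel]
      · change g 13 * g 12 = 1; rw [h13, inv_mul_cancel]
  -- the graph of `φ`
  set DC : Subgroup (Perm (Fin 100) × G) := (C0.subtype.prod φ).range with hDC
  set S : Set ℕ := {x | x < 14} with hS
  set D : Subgroup (Perm (Fin 100) × G) := Subgroup.closure ((fun x => (gl x, g x)) '' S) with hD
  have hmem : ∀ x, x < 14 → (gl x, g x) ∈ D := fun x hx => Subgroup.subset_closure ⟨x, hx, rfl⟩
  have hDCcard : Nat.card DC = 7680 := by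
    have h1 : Function.Injective (C0.subtype.prod φ) := fun a b hab => Subtype.ext (congrArg Prod.fst hab)
    rw [hDC, ← UniqC.card_C0]
    exact (Nat.card_congr (MonoidHom.ofInjective h1).toEquiv).symm
  have hDCfin : Finite DC := Nat.finite_of_card_ne_zero (by rw [hDCcard]; norm_num)
  obtain ⟨hfin, hcard⟩ := card_closure_le EnumData.C DC (fun x => (gl x, g x))
    (hyp DC _ (by rw [h14]; rfl) (fun x hx => by
      rw [Prod.mk_mul_mk, gl_inv x hx, hinvG x hx]; rfl) hrel (by
      intro w hw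
      obtain ⟨x, hx, rfl⟩ := subw_mem w hw
      rw [ev_cons, ev_nil, mul_one]
      exact ⟨⟨gl x, gl_mem_C0 x hx⟩, Prod.ext rfl (hg x hx).symm⟩)) EnumAll.part
  have hDk : Subgroup.closure ((fun x => (gl x, g x)) '' {x | x < EnumData.C.k}) = D := rfl
  rw [hDk] at hfin hcard
  rw [hDCcard] at hcard
  have hcard' : Nat.card D ≤ Nat.card Q := by
    rw [Cfsg.Agent.HN.AutBound.card_Q]; exact hcard
  -- the first projection
  have hfst : ∀ d : ↥D, (d : Perm (Fin 100) × G).1 ∈ Q := by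
    have : D ≤ Q.comap (MonoidHom.fst (Perm (Fin 100)) G) := by
      rw [hD, Subgroup.closure_le]
      rintro _ ⟨x, hx, rfl⟩
      exact gl_mem x
    exact fun d => this d.2
  let pQ : ↥D →* ↥Q := ((MonoidHom.fst (Perm (Fin 100)) G).comp D.subtype).codRestrict Q hfst
  have hsurj : Function.Surjective pQ := by
    have h1 : Q ≤ D.map (MonoidHom.fst (Perm (Fin 100)) G) := by
      rw [← P_eq, P, Subgroup.closure_le]
      have h2 : ∀ x, x < 14 → gl x ∈ D.map (MonoidHom.fst (Perm (Fin 100)) G) := fun x hx =>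
        ⟨(gl x, g x), hmem x hx, rfl⟩
      rintro y (rfl | rfl | rfl | rfl | rfl | rfl | rfl)
      · exact h2 0 (by norm_num)
      · exact h2 2 (by norm_num)
      · exact h2 3 (by norm_num)
      · exact h2 5 (by norm_num)
      · exact h2 7 (by norm_num)
      · exact h2 9 (by norm_num)
      · exact h2 10 (by norm_num)
    rintro ⟨q, hq⟩
    obtain ⟨d, hd, hdq⟩ := h1 hq
    exact ⟨⟨d, hd⟩, Subtype.ext hdq⟩
  have hbij : Function.Bijective pQ := hsurj.bijective_of_nat_card_le hcard'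
  let e : ↥D ≃* ↥Q := MulEquiv.ofBijective pQ hbij
  let Ψ : ↥Q →* G := ((MonoidHom.snd (Perm (Fin 100)) G).comp D.subtype).comp e.symm.toMonoidHom
  have hgraph : ∀ c (hc : c ∈ C0), (c, φ ⟨c, hc⟩) ∈ D := by
    have h1 : DC ≤ D := by
      have h3 : (⊤ : Subgroup ↥C0) ≤ D.comap (C0.subtype.prod φ) := by
        have h4 : Subgroup.closure (((↑) : ↥C0 → Perm (Fin 100)) ⁻¹' {pk, pt, pi, pa, pb, ph}) = (⊤ : Subgroup ↥C0) :=
          Subgroup.closure_closure_coe_preimage
        rw [← h4, Subgroup.closure_le]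
        have h2 : ∀ x (hx : x < 10) (y : ↥C0), (y : Perm (Fin 100)) = gl x → (C0.subtype.prod φ) y ∈ D := by
          intro x hx y hy
          have : y = ⟨gl x, gl_mem_C0 x hx⟩ := Subtype.ext hy
          rw [this]
          have h5 := hmem x (by omega)
          rw [hg x hx] at h5
          exact h5
        rintro y (hy | hy | hy | hy | hy | hy)
        · exact h2 0 (by norm_num) y hy
        · exact h2 2 (by norm_num) y hy
        · exact h2 3 (by norm_num) y hy
        · exact h2 5 (by norm_num) y hy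
        · exact h2 7 (by norm_num) y hy
        · exact h2 9 (by norm_num) y hy
      rintro _ ⟨y, rfl⟩
      exact h3 (Subgroup.mem_top y)
    intro c hc
    exact h1 ⟨⟨c, hc⟩, rfl⟩
  have hΨ : ∀ c (hc : c ∈ C0), Ψ ⟨c, C0_le hc⟩ = φ ⟨c, hc⟩ := by
    intro c hc
    have h1 : e.symm ⟨c, C0_le hc⟩ = ⟨(c, φ ⟨c, hc⟩), hgraph c hc⟩ := by
      rw [MulEquiv.symm_apply_eq]; rfl
    change ((e.symm ⟨c, C0_le hc⟩ : ↥D) : Perm (Fin 100) × G).2 = _
    rw [h1]
  refine ⟨Ψ, ?_, hΨ⟩
  have : IsSimpleGroup ↥Q := Cfsg.Agent.HN.AutHS.nonempty_Q.2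
  rw [← MonoidHom.ker_eq_bot_iff]
  rcases Ψ.normal_ker.eq_bot_or_eq_top with h | h
  · exact h
  · exfalso
    have h1 : ∀ c : ↥C0, c = 1 := by
      intro c
      apply hinj
      have h2 : (⟨c, C0_le c.2⟩ : ↥Q) ∈ Ψ.ker := by rw [h]; trivial
      rw [MonoidHom.mem_ker, hΨ c c.2] at h2
      rw [map_one]; exact h2
    have h2 : Subsingleton ↥C0 := ⟨fun a b => by rw [h1 a, h1 b]⟩
    have h3 := UniqC.card_C0
    rw [Nat.card_of_subsingleton (1 : ↥C0)] at h3
    norm_num at h3

end Cfsg.Agent.HSType.ExistB
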