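import Cfsg.Agent.HSType.NormC

set_option autoImplicit false

/-!
Recognition of the Higman–Sims group, local part: after a twist of the embedding there is an element `r` such that
all relations `relNN` of the normaliser `4³:L₃(2)` hold.
-/

namespace Cfsg.Agent.HSType.NormD

open Cfsg.Agent.HSType.Letters hiding cK cT cI cA cB cH
open Cfsg.Agent.HSType.Affine Cfsg.Agent.HSType.MFacts
  Cfsg.Agent.HSType.AffData Cfsg.Agent.HSType.AffLemmas Cfsg.Agent.HSType.NormA Cfsg.Agent.HSType.NormB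
  Cfsg.Agent.HSType.NormC Equiv
open Cfsg.Agent.SporadicA.PermTab (allB allB_iff)

variable {G : Type*} [Group G]

/-- the letters in `G` -/
def letters (φ : ↥C0 →* G) (r : G) (n : ℕ) : G :=
  match n with
  | 0 => φ cK | 1 => (φ cK)⁻¹ | 2 => φ cT | 3 => φ cI | 4 => (φ cI)⁻¹ | 5 => φ cA | 6 => (φ cA)⁻¹
  | 7 => φ cB | 8 => (φ cB)⁻¹ | 9 => φ cH | 10 => r | 11 => r⁻¹ | 12 => r * φ cK | 13 => (r * φ cK)⁻¹ | _ => 1

variable {z : G} {φ : ↥C0 →* G}

theorem Rep.triv (h : Ctx z φ) {K : Subgroup G} (hK : Compl φ K) {p : Af}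
    (hp : Rep (φ cI) (φ cA) (φ cB) K 1 p) (hv : AffData.V.lt p.v) (hm : MLt p.m) : p = Af.one := by
  have hab := abφ φ
  obtain ⟨k, hk, h1, hact⟩ := hp
  have h2 : k = 1 := by
    refine hK.disj k hk ?_
    have : k = (e (φ cI) (φ cA) (φ cB) p.v)⁻¹ := eq_inv_of_mul_eq_one_right h1.symm
    rw [this]
    exact Subgroup.inv_mem _ (e_mem _ _)
  subst h2
  rw [mul_one] at h1
  have h3 := h.injφ.eq_of_lt hab (v := p.v) (w := ⟨0, 0, 0⟩) hv ⟨by decide, by decide, by decide⟩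
    (by rw [← h1, e_zero])
  have h4 := Act.unique hab h.injφ hm one_lt hact Act.one
  obtain ⟨v, m⟩ := p
  dsimp only at h3 h4
  rw [h3, h4]; rfl

theorem act_right {i a b : G} (hab : Ab i a b) {v : V} {k : G} {m : M} (h : Act i a b (e i a b v * k) m) :
    Act i a b k m := by
  have key : ∀ x w, (e i a b v * k) * x * (e i a b v * k)⁻¹ = e i a b w → k * x * k⁻¹ = e i a b w := by
    intro x w hx
    have h1 : k * x * k⁻¹ = (e i a b v)⁻¹ * ((e i a b v * k) * x * (e i a b v * k)⁻¹) * e i a b v := by group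
    rw [h1, hx, mul_assoc, e_comm hab w v, ← mul_assoc, inv_mul_cancel, one_mul]
  exact ⟨key _ _ h.hi, key _ _ h.ha, key _ _ h.hb⟩

/-- vectors killed by `1 + k + k²` are of the form `w - k w` -/
theorem h1_ok : (allB (fun x => allB (fun y => allB (fun z =>
    cond (Af.beq (Af.mul ⟨⟨x, y, z⟩, mK⟩ (Af.mul ⟨⟨x, y, z⟩, mK⟩ (Af.mul ⟨⟨x, y, z⟩, mK⟩ Af.one))) Af.one)
      (Bool.not (allB (fun p => allB (fun q => allB (fun r =>
        Bool.not (V.beq (V.add ⟨x, y, z⟩ (mK.app ⟨p, q, r⟩)) ⟨p, q, r⟩)) 4) 4) 4)) true) 4) 4) 4) = true := by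
  decide +kernel

theorem exists_w {v : V} (hlt : AffData.V.lt v)
    (h : Af.mul ⟨v, mK⟩ (Af.mul ⟨v, mK⟩ (Af.mul ⟨v, mK⟩ Af.one)) = Af.one) :
    ∃ w, V.add v (mK.app w) = w := by
  obtain ⟨x, y, z⟩ := v
  obtain ⟨hx, hy, hz⟩ := hlt
  have h1 := (allB_iff _ _).1 ((allB_iff _ _).1 ((allB_iff _ _).1 h1_ok x hx) y hy) z hz
  rw [h, Af.beq_self, cond_true, Bool.not_eq_true'] at h1
  by_contra hc
  push Not at hc
  have h2 : (allB (fun p => allB (fun q => allB (fun r =>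
        Bool.not (V.beq (V.add ⟨x, y, z⟩ (mK.app ⟨p, q, r⟩)) ⟨p, q, r⟩)) 4) 4) 4) = true := by
    refine (allB_iff _ _).2 fun p _ => (allB_iff _ _).2 fun q _ => (allB_iff _ _).2 fun r _ => ?_
    rw [Bool.not_eq_true']
    by_contra hb
    rw [Bool.not_eq_false] at hb
    exact hc _ (V.eq_of_beq hb)
  rw [h2] at h1
  exact absurd h1 (by decide)

theorem exists_compl_k [Finite G] (h : Ctx z φ) {K : Subgroup G} (hK : Compl φ K) :
    ∃ K', Compl φ K' ∧ φ cK ∈ K' := by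
  have hab := abφ φ
  have hkact : Act (φ cI) (φ cA) (φ cB) (φ cK) mK := Act.map φ actKC
  have hkN : φ cK ∈ NG φ := mem_NG fun y hy => Act.norm hab hkact y hy
  obtain ⟨v0, k, hk, hkv0⟩ := hK.cover _ hkN
  have hkv : φ cK = e (φ cI) (φ cA) (φ cB) (red v0) * k := by rw [e_red hab, ← hkv0]
  set v := red v0 with hvdef
  have hk' : Act (φ cI) (φ cA) (φ cB) k mK := by
    rw [hkv] at hkact
    exact act_right hab hkact
  have hrep : Rep (φ cI) (φ cA) (φ cB) K (φ cK) ⟨v, mK⟩ := ⟨k, hk, hkv, hk'⟩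
  have h3 : φ cK * (φ cK * (φ cK * 1)) = 1 := by
    rw [mul_one, ← map_mul, ← map_mul]
    have : cK * (cK * cK) = 1 := by
      apply Subtype.ext
      change pk * (pk * pk) = 1
      rw [← kkk, mul_inv_cancel]
    rw [this, map_one]
  have hrep3 := hrep.mul hab (hrep.mul hab (hrep.mul hab (Rep.one (i := φ cI) (a := φ cA) (b := φ cB) (K := K))))
  rw [h3] at hrep3
  have h4 := Rep.triv h hK hrep3 ⟨Nat.mod_lt _ (by norm_num), Nat.mod_lt _ (by norm_num),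
    Nat.mod_lt _ (by norm_num)⟩ (mul_lt _ _)
  obtain ⟨w, hw⟩ := exists_w (red_lt v0) h4
  refine ⟨K.map (MulAut.conj (e (φ cI) (φ cA) (φ cB) w)).toMonoidHom, ⟨?_, ?_, ?_⟩, ?_⟩
  · rintro _ ⟨x, hx, rfl⟩
    have hwN : e (φ cI) (φ cA) (φ cB) w ∈ NG φ := sub_le_NG (e_mem _ _)
    exact Subgroup.mul_mem _ (Subgroup.mul_mem _ hwN (hK.le hx)) (Subgroup.inv_mem _ hwN)
  · rintro _ ⟨x, hx, rfl⟩ hxA
    change e (φ cI) (φ cA) (φ cB) w * x * (e (φ cI) (φ cA) (φ cB) w)⁻¹ ∈ _ at hxA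
    change e (φ cI) (φ cA) (φ cB) w * x * (e (φ cI) (φ cA) (φ cB) w)⁻¹ = 1
    have hwA : e (φ cI) (φ cA) (φ cB) w ∈ sub hab := e_mem _ _
    have h5 : x ∈ sub hab := by
      have := Subgroup.mul_mem _ (Subgroup.mul_mem _ (Subgroup.inv_mem _ hwA) hxA) hwA
      have h6 : (e (φ cI) (φ cA) (φ cB) w)⁻¹ * (e (φ cI) (φ cA) (φ cB) w * x * (e (φ cI) (φ cA) (φ cB) w)⁻¹) *
        e (φ cI) (φ cA) (φ cB) w = x := by group
      rwa [h6] at this
    rw [hK.disj x hx h5]; group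
  · intro n hn
    have hwN : e (φ cI) (φ cA) (φ cB) w ∈ NG φ := sub_le_NG (e_mem _ _)
    obtain ⟨u, y, hy, hyu⟩ := hK.cover ((e (φ cI) (φ cA) (φ cB) w)⁻¹ * n * e (φ cI) (φ cA) (φ cB) w)
      (Subgroup.mul_mem _ (Subgroup.mul_mem _ (Subgroup.inv_mem _ hwN) hn) hwN)
    refine ⟨u, _, ⟨y, hy, rfl⟩, ?_⟩
    change n = e (φ cI) (φ cA) (φ cB) u * (e (φ cI) (φ cA) (φ cB) w * y * (e (φ cI) (φ cA) (φ cB) w)⁻¹)
    have h6 : n = e (φ cI) (φ cA) (φ cB) w * ((e (φ cI) (φ cA) (φ cB) w)⁻¹ * n * e (φ cI) (φ cA) (φ cB) w) *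
        (e (φ cI) (φ cA) (φ cB) w)⁻¹ := by group
    rw [h6, hyu, ← mul_assoc, e_comm hab w u]
    group
  · refine ⟨k, hk, ?_⟩
    change e (φ cI) (φ cA) (φ cB) w * k * (e (φ cI) (φ cA) (φ cB) w)⁻¹ = φ cK
    have h7 : k * e (φ cI) (φ cA) (φ cB) w = e (φ cI) (φ cA) (φ cB) (mK.app w) * k := by
      rw [← hk'.app hab]; group
    have h8 : e (φ cI) (φ cA) (φ cB) v * e (φ cI) (φ cA) (φ cB) (mK.app w) = e (φ cI) (φ cA) (φ cB) w := by
      rw [← e_add hab, hw]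
    rw [mul_inv_eq_iff_eq_mul, hkv, mul_assoc, h7, ← mul_assoc, h8]

theorem chk1 : Af.mul ⟨⟨0, 0, 0⟩, mK⟩ ⟨⟨0, 0, 0⟩, M.mul mK mK⟩ = Af.one := Af.eq_of_beq (by decide +kernel)
theorem chk2 : Af.mul ⟨⟨0, 0, 0⟩, mR⟩ ⟨⟨0, 0, 0⟩, mRi⟩ = Af.one := Af.eq_of_beq (by decide +kernel)
theorem chk3 : M.mul mT M.one = mT := M.eq_of_beq (by decide +kernel)
theorem chk4 : mR = M.mul mR M.one := M.eq_of_beq (by decide +kernel)

theorem rep_e {i a b : G} (hab : Ab i a b) (K : Subgroup G) (v : V) : Rep i a b K (e i a b v) ⟨v, M.one⟩ :=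
  ⟨1, K.one_mem, (mul_one _).symm, Act.one⟩

/-- The main theorem of this file. -/
theorem exists_r [Finite G] (CFh : CF) (h : Ctx z φ) (hx : IsConj (φ (cA * cA)) z) :
    ∃ (φ' : ↥C0 →* G) (r : G), Ctx z φ' ∧ ∀ w ∈ relNN, (w.map (letters φ' r)).prod = 1 := by
  have hab := abφ φ
  have hj := h.injφ
  obtain ⟨g, hg, hgact⟩ := exists_rho_act CFh h hx
  have hgN : g ∈ NG φ := mem_NG hg
  obtain ⟨K0, hK0⟩ := exists_compl CFh h hgN hgact
  obtain ⟨K, hK, hkK⟩ := exists_compl_k h hK0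
  have hkact : Act (φ cI) (φ cA) (φ cB) (φ cK) mK := Act.map φ actKC
  have htact : Act (φ cI) (φ cA) (φ cB) (φ cT) mT := Act.map φ actTC
  have htN : φ cT ∈ NG φ := mem_NG fun y hy => Act.norm hab htact y hy
  -- the letter t
  obtain ⟨τ0, kt, hkt, htv0⟩ := hK.cover _ htN
  have htv : φ cT = e (φ cI) (φ cA) (φ cB) (red τ0) * kt := by rw [e_red hab, ← htv0]
  set τ := red τ0 with hτ
  have hktact : Act (φ cI) (φ cA) (φ cB) kt mT := by
    have h1 := htact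
    rw [htv] at h1
    exact act_right hab h1
  have hrt : Rep (φ cI) (φ cA) (φ cB) K (φ cT) ⟨τ, mT⟩ := ⟨kt, hkt, htv, hktact⟩
  have hrk : Rep (φ cI) (φ cA) (φ cB) K (φ cK) ⟨⟨0, 0, 0⟩, mK⟩ :=
    ⟨φ cK, hkK, by rw [e_zero, one_mul], hkact⟩
  -- the letter r
  obtain ⟨ξ, kr, hkr, hgv⟩ := hK.cover _ hgN
  have hkract : Act (φ cI) (φ cA) (φ cB) kr mR := by
    have h1 := hgact
    rw [hgv] at h1
    exact act_right hab h1
  have hrr : Rep (φ cI) (φ cA) (φ cB) K kr ⟨⟨0, 0, 0⟩, mR⟩ := ⟨kr, hkr, by rw [e_zero, one_mul], hkract⟩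
  -- the element τ
  have hLA2 : ∀ w : List ℕ, w ≠ [] → (∀ l ∈ w, l = 0 ∨ l = 2) → (w.map (letters φ kr)).prod = 1 →
      evA (LA τ ⟨0, 0, 0⟩) w = Af.one := by
    intro w hne hw h1
    have h2 : Rep (φ cI) (φ cA) (φ cB) K (w.map (letters φ kr)).prod (evA (LA τ ⟨0, 0, 0⟩) w) := by
      refine Rep.ev hab w fun l hl => ?_
      rcases hw l hl with rfl | rfl
      · exact hrk
      · exact hrt
    rw [h1] at h2
    cases w with
    | nil => exact absurd rfl hne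
    | cons l w =>
      exact Rep.triv h hK h2 ⟨Nat.mod_lt _ (by norm_num), Nat.mod_lt _ (by norm_num),
        Nat.mod_lt _ (by norm_num)⟩ (mul_lt _ _)
  have hrelC : ∀ w : List ℕ, (∀ l ∈ w, l = 0 ∨ l = 2) → chkOne w = true →
      (w.map (letters φ kr)).prod = 1 := by
    intro w hw h1
    have h2 : (w.map (letters φ kr)).prod = φ (w.map ktC).prod := by
      clear h1
      induction w with
      | nil => simp
      | cons l w ih =>
        rw [List.map_cons, List.prod_cons, List.map_cons, List.prod_cons, map_mul,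
          ih fun y hy => hw y (List.mem_cons_of_mem _ hy)]
        congr 1
        rcases hw l List.mem_cons_self with rfl | rfl
        · rfl
        · rfl
    have h3 : (w.map ktC).prod = 1 := by
      apply Subtype.ext
      have key : ∀ w : List ℕ, (∀ l ∈ w, l = 0 ∨ l = 2) → (((w.map ktC).prod : ↥C0) : Perm (Fin 100)) = evw w := by
        intro w
        induction w with
        | nil => intro _; rfl
        | cons l w ih =>
          intro hw
          rw [List.map_cons, List.prod_cons, Subgroup.coe_mul, ih fun y hy => hw y (List.mem_cons_of_mem _ hy),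
            evw, evw, Cfsg.Agent.SporadicRecognition.CosetCert.ev_cons]
          congr 1
          rcases hw l List.mem_cons_self with rfl | rfl
          · rfl
          · rfl
      rw [key w hw, ev_eq_one h1]; rfl
    rw [h2, h3, map_one]
  have hτok : tauOk τ = true := by
    rw [tauOk, Affine.band_iff]
    constructor
    · rw [hLA2 [2, 2] (by simp) (by decide) (hrelC _ (by decide) (by decide +kernel))]
      exact Af.beq_self _
    · rw [hLA2 [0, 2, 0, 2, 0, 2, 0, 2] (by simp) (by decide) (hrelC _ (by decide) (by decide +kernel))]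
      exact Af.beq_self _
  have hKtriv : ∀ k ∈ K, k * φ cI = φ cI * k → k * φ cA = φ cA * k → k * φ cB = φ cB * k → k = 1 := by
    intro k hk h1 h2 h3
    refine hK.disj k hk (mem_A0_of_comm CFh h ?_ ?_ ?_)
    · rw [← h.hz, map_mul, ← mul_assoc, h1, mul_assoc, h1, mul_assoc]
    · rw [← mul_assoc, h2, mul_assoc, h2, mul_assoc]
    · rw [← mul_assoc, h3, mul_assoc, h3, mul_assoc]
  -- the general argument
  have main : ∀ (φ' : ↥C0 →* G) (τ' y : V), φ' cK = φ cK → φ' cI = φ cI → φ' cA = φ cA → φ' cB = φ cB →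
      Rep (φ cI) (φ cA) (φ cB) K (φ' cT) ⟨τ', mT⟩ → allOne (LA τ' y) relNN = true →
      ∀ w ∈ relNN, (w.map (letters φ' (e (φ cI) (φ cA) (φ cB) y * kr))).prod = 1 := by
    intro φ' τ' y eK eI eA eB hT hall
    have hK1 : Rep (φ cI) (φ cA) (φ cB) K (φ cK)⁻¹ ⟨⟨0, 0, 0⟩, M.mul mK mK⟩ := Rep.inv hab hrk chk1
    have hI3 : (φ cI)⁻¹ = e (φ cI) (φ cA) (φ cB) ⟨3, 0, 0⟩ := by
      have := e_inv hab ⟨1, 0, 0⟩
      rwa [e100] at this
    have hA3 : (φ cA)⁻¹ = e (φ cI) (φ cA) (φ cB) ⟨0, 3, 0⟩ := by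
      have := e_inv hab ⟨0, 1, 0⟩
      rwa [e010] at this
    have hB3 : (φ cB)⁻¹ = e (φ cI) (φ cA) (φ cB) ⟨0, 0, 3⟩ := by
      have := e_inv hab ⟨0, 0, 1⟩
      rwa [e001] at this
    have hR : Rep (φ cI) (φ cA) (φ cB) K (e (φ cI) (φ cA) (φ cB) y * kr) ⟨y, mR⟩ := ⟨kr, hkr, rfl, hkract⟩
    have hR1 : Rep (φ cI) (φ cA) (φ cB) K (e (φ cI) (φ cA) (φ cB) y * kr)⁻¹
        (Af.mul ⟨⟨0, 0, 0⟩, mRi⟩ ⟨⟨Nat.mul 3 y.x, Nat.mul 3 y.y, Nat.mul 3 y.z⟩, M.one⟩) := by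
      rw [mul_inv_rev, e_inv hab]
      exact (Rep.inv hab hrr chk2).mul hab (rep_e hab K _)
    refine relations hab hKtriv (L := LA τ' y) ?_ hall relNN_lt
    intro l hl hl9
    match l with
    | 0 => change Rep _ _ _ _ (φ' cK) _; rw [eK]; exact hrk
    | 1 => change Rep _ _ _ _ (φ' cK)⁻¹ _; rw [eK]; exact hK1
    | 2 => exact hT
    | 3 =>
      change Rep _ _ _ _ (φ' cI) _; rw [eI]
      have := rep_e hab K ⟨1, 0, 0⟩
      rwa [e100] at this
    | 4 => change Rep _ _ _ _ (φ' cI)⁻¹ _; rw [eI, hI3]; exact rep_e hab K _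
    | 5 =>
      change Rep _ _ _ _ (φ' cA) _; rw [eA]
      have := rep_e hab K ⟨0, 1, 0⟩
      rwa [e010] at this
    | 6 => change Rep _ _ _ _ (φ' cA)⁻¹ _; rw [eA, hA3]; exact rep_e hab K _
    | 7 =>
      change Rep _ _ _ _ (φ' cB) _; rw [eB]
      have := rep_e hab K ⟨0, 0, 1⟩
      rwa [e001] at this
    | 8 => change Rep _ _ _ _ (φ' cB)⁻¹ _; rw [eB, hB3]; exact rep_e hab K _
    | 9 => exact absurd rfl hl9
    | 10 => exact hR
    | 11 => exact hR1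
    | 12 => change Rep _ _ _ _ (_ * φ' cK) _; rw [eK]; exact hR.mul hab hrk
    | 13 =>
      change Rep _ _ _ _ (_ * φ' cK)⁻¹ _
      rw [eK, mul_inv_rev]; exact hK1.mul hab hR1
    | n + 14 => omega
  rcases exists_y (red_lt τ0) hτok with ⟨y, hy⟩ | ⟨y, hy⟩
  · exact ⟨φ, _, h, main φ τ y rfl rfl rfl rfl hrt hy⟩
  · have evK : NormB.Even cK := by
      have : cK * cI * cK⁻¹ = e cI cA cB mK.a := actKC.hi
      rw [NormB.Even, this]; simp [e, mK]
    have evA' : NormB.Even cA := by rw [NormB.Even, ← abC.ia]; group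
    have evB : NormB.Even cB := by rw [NormB.Even, ← abC.ib]; group
    have odT : ¬ NormB.Even cT := by
      have : cT * cI * cT⁻¹ = e cI cA cB mT.a := actTC.hi
      intro h1
      rw [NormB.Even, this] at h1
      have h2 : e cI cA cB mT.a = e cI cA cB ⟨1, 0, 0⟩ := by rw [h1, e100]
      exact absurd (injC.eq abC h2).1 (by decide)
    refine ⟨twist φ, _, NormB.Ctx.twist h, main (twist φ) (V.add τ (mT.app ⟨1, 0, 0⟩)) y (twist_even evK)
      (twist_even even_cI) (twist_even evA') (twist_even evB) ?_ hy⟩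
    rw [twist_odd odT]
    have h1 := hrt.mul hab (rep_e hab K ⟨1, 0, 0⟩)
    rw [e100] at h1
    have h2 : Af.mul ⟨τ, mT⟩ ⟨⟨1, 0, 0⟩, M.one⟩ = ⟨V.add τ (mT.app ⟨1, 0, 0⟩), mT⟩ := by
      change (⟨V.add τ (mT.app ⟨1, 0, 0⟩), M.mul mT M.one⟩ : Af) = _
      rw [chk3]
    rwa [h2] at h1

end Cfsg.Agent.HSType.NormD
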