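import Cfsg.Agent.HSType.CFactsB
import Cfsg.Agent.HSType.Close
import Cfsg.Agent.HSType.ExistB
import Cfsg.Agent.HSType.ERel
import Cfsg.Agent.HSType.NormD

set_option autoImplicit false

/-!
**Recognition of the Higman–Sims group from the centraliser of an involution.**
-/

namespace Cfsg.Agent.HSType.Final

open Cfsg.Agent.HSType.Letters hiding cK cT cI cA cB cH
open Cfsg.Agent.HSType.NormA Cfsg.Agent.HSType.NormD Cfsg.Agent.HSType.AffData
open Equiv Cfsg.Agent.HN.HS100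

variable {G : Type*} [Group G]

/-- **Recognition of the Higman–Sims group**: `φ` embeds the model centraliser onto `C_G(z)`, and `φ (a²)` is
conjugate to `z`. -/
theorem isoHS_of_ctx [Finite G] {z : G} {φ : ↥C0 →* G} (h : NormA.Ctx z φ) (hx : IsConj (φ (cA * cA)) z) :
    Cfsg.Spor.IsoHS G := by
  obtain ⟨φ', r, h', hr⟩ := exists_r CFactsB.cf h hx
  have hE := ERel.relE_of CFacts.cen_E0 h' hr
  obtain ⟨Ψ, hΨ, hΨφ⟩ := ExistB.exists_hom φ' h'.inj (letters φ' r)
    (by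
      intro n hn
      interval_cases n
      all_goals first | rfl | (change (φ' _)⁻¹ = _; rw [← map_inv]; rfl))
    rfl rfl rfl rfl (fun w hw => hr w (List.mem_append_left _ hw)) hE
  have hzC : z0 ∈ C0 := Subgroup.mul_mem _ (gl_mem_C0 3 (by norm_num)) (gl_mem_C0 3 (by norm_num))
  have hz0 : Ψ ⟨z0, C0_le hzC⟩ = z := (hΨφ z0 hzC).trans h'.hz
  have htop : Ψ.range = ⊤ := by
    refine Close.range_eq_top Ψ hΨ fun g hg => ?_
    rw [hz0] at hg
    obtain ⟨c, rfl⟩ := h'.cen g hg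
    exact ⟨c, c.2, (hΨφ _ _).symm⟩
  obtain ⟨e⟩ := Cfsg.Agent.HN.AutHS.nonempty_Q.1
  exact ⟨(MulEquiv.ofBijective Ψ ⟨hΨ, MonoidHom.range_eq_top.1 htop⟩).symm.trans e⟩

end Cfsg.Agent.HSType.Final
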