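import Cfsg.Agent.HN.AutBound
import Cfsg.Agent.SporadicRecognition.CosetCert

set_option autoImplicit false

/-!
Recognition of the Higman–Sims group, model side.  `Cfsg.Agent.HN.HS100.Q` is the Higman–Sims group as a
permutation group on 100 points (order 44352000).  The letters `k t i a b h r` (and `u = r k`):

* `i, a, b` generate an abelian group `4 × 4 × 4`, `k, t, r` generate a complement `L3(2)` to it in its normaliser;
* `k, t, i, a, b, h` generate the centraliser `C0` of the involution `i ^ 2`, of order 7680 = `(4 ∘ 2^{1+4}).S5`.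

Letter codes (also used by the coset enumeration `EnumData`): `k=0 k⁻¹=1 t=2 i=3 i⁻¹=4 a=5 a⁻¹=6 b=7 b⁻¹=8 h=9
r=10 r⁻¹=11 u=12 u⁻¹=13`, and `14` is the identity.
-/

namespace Cfsg.Agent.HSType.Letters

open Cfsg.Agent.SporadicA.PermTab Cfsg.Agent.HN.HS100 Equiv 

noncomputable section

def tK : ℕ := 0xa60f8010060aa1643103b06a1080d84c0ae1700481805c058220050600ac1180b0900c81e0280681240c80706c07430037002174250460ac0e81c84f0260540e0170a80f40203800018c178310200841484b0140981f8610400a81104d03e0202d05b0bc1480783308e068218140800780884e08a09c2800c0b00382f8120a21040682c0060901282d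
def tKi : ℕ := 0x5c1741204101206c1f0560380742f00b0ae0ec2f8330c60680380d070040100580500f42304b02e0f00785102a1680301304a188190490b80e81c83008010c2d8470301281604f05a14c0000409c0881484801c0980080209a0841502303e048210350b2058228540681481b01406e0200882b0320280280c09809c2a81e088180280310061841f82f
def tT : ℕ := 0x981601106002406c280410401682c86208a0c40803b01a0702705d0681440986304c0e80a84808e1182b8080860742e01a03e0141e8360a81281c81706e0f01a84f0660c82b03005e02c1680601200c1482802812c1282102c1841205b07e01c210520bc1000500407008c2482709a17c0105501c03c2980005c0641584403c0b01f0180540440080c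
def tTi : ℕ := 0x981601106002406c280410401682c86208a0c40803b01a0702705d0681440986304c0e80a84808e1182b8080860742e01a03e0141e8360a81281c81706e0f01a84f0660c82b03005e02c1680601200c1482802812c1282102c1841205b07e01c210520bc1000500407008c2482709a17c0105501c03c2980005c0641584403c0b01f0180540440080c
def tI : ℕ := 0x20048178160b0074040130761642d05303e0dc2602009c0600683e02e17c2082e04e0081b00a06010c2585008c06c2902c08a0783081508000c148340621242b0380460901a8470440ac1085b0aa1281c80e07e15c0782d0c00f4190060281102f05c0841502404d09e0cc1e0260081441d009050094310110c60040580700a0682e81c0180000c82a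
def tIi : ℕ := 0x160341e82309c0740281c0581642d05f04c0d41581a0b01040904402e14c0c05508a0a81b01906010c1f81e08c06c2683b04e140110150b6044148340ac1241883802c0841b8470c21301204005c0001c80f096050070320660bc168540ae0f82f0040840180085209e1801e01f0b81880606304a0a0288030121200805d0100800381307412805002
def tA : ℕ := 0xaa0b40682a0c20540d01003c1642d02f0280e820840044170190080700f40205207e0c40d81905210c1385d08c1240e05009601c2885e08808c1804f00610808817004138060390c40602c03e09a0dc2380e08a07c0785f0000482982c04c0141e06306c0ec008130681280e8570120841984c050094120160561201705404016c0300b0c00d405056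
def tAi : ℕ := 0x380bc2f8030480f02205200c1642d02d028000318080421301e8400700c81581007e0582100a05210c1383b08c0d82a8540960b02701d0341581804f05406c01017022144250390b0024310200161802380f08a07c0700d07414c0900704c16c0a8410921742402e0680302f0570300881a85c04a0a0308310080040985007c0140f04d06e0cc0c823
def tB : ℕ := 0x661482a85b0c60542883a0a61182181002801c010240121582686106002c1880004e1101b00102e1642583d0b406c1a85f08a0bc1585e09c0801c03900a124040290800102e84f0980a82e0580940781a00f07e07c0701c0580b80982d04c0881e0110840c80503708e0ec0e8570060602a02304a0a02081a02c0643000d0c40840900c00c1402403e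
def tBi : ℕ := 0xbe01c280090800f01882d0c010c2302c028148308110b61882e8020600ec2882f08a0ac1b00102e1681f84a0b206c0683304e0002201d02c1701c039030124208290c60682684f07c0881002307a0b81a00e09607c078540200780303a04c0a80a8240840300501208e02c2f0570420140e0580500940400409c064298350ac00c1b8320261542404c
def tH : ℕ := 0x12144128560a6178038060a41682c858018180170040be16c3105002a1382004c0541141a02108c11c2503e0601081d84d004110078170820501c8360460e00b0490620641984301c1540501805612c148220000443080106e0a0240130060780e81a0360701902c0780d42783a0400481301007a0bc068570160b4318080ba1700285403e0fc12027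
def tHi : ℕ := 0x12144128560a6178038060a41682c858018180170040be16c3105002a1382004c0541141a02108c11c2503e0601081d84d004110078170820501c8360460e00b0490620641984301c1540501805612c148220000443080106e0a0240130060780e81a0360701902c0780d42783a0400481301007a0bc068570160b4318080ba1700285403e0fc12027
def tR : ℕ := 0xa418c120060a812c0d02d09a07c130400320602b04e0a0080208160700201f03a03614c2302806815c2480c0281680380b084128068450080dc2383902610c1703003c0d4048170be08c1982b0000841485e06c1200e81100a1840103d0020c41f8620b20c80782c09e16c1380a0b01541505c0780540e0600980380803b0881442e82f00608812812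
def tRi : ℕ := 0xc40701100c05e0a00281002c1080d81308c1540905f09418c0305302e1502d80b0bc0f8228260721241e00706c0fc2885803a1341000f0101301c04f07409c1904705a0680f0340080d42e0180580441484802a1640086105c008150520b40cc1280d0961742b8560601400704306e000120090320281e8440800501884e0821801183b0060840f82b
def tU : ℕ := 0xa0128110510ac0983180405c1682c83a0320b40802c04616c0605d02e0000284c0500d42285e060118078440860fc0301304a068298570300dc238380b009c3104f09c034178390241482f8090b80081481b01c1202102407a0843083e0020ec0f84d0960801e01e0680c80a00a0160c4150080920d80b0600800542a05508201c0e02b0060440e833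
def tUi : ℕ := 0xba0d41080c05a1202802b0a41682c83707817c0400907a0b8300630680cc0e04c03618807826072118248440860940380b0840801181903c16018038074038250170000580904706216c2b0540080441484b06c1781f8240a61841101a03a060008050500f82b83b09e034050150800bc0105508a09c190510260501601000c1042685c0060a80f84e

theorem cK : chkInv 100 tK tKi = true := by decide +kernel
theorem cT : chkInv 100 tT tTi = true := by decide +kernel
theorem cI : chkInv 100 tI tIi = true := by decide +kernel
theorem cA : chkInv 100 tA tAi = true := by decide +kernel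
theorem cB : chkInv 100 tB tBi = true := by decide +kernel
theorem cH : chkInv 100 tH tHi = true := by decide +kernel
theorem cR : chkInv 100 tR tRi = true := by decide +kernel
theorem cU : chkInv 100 tU tUi = true := by decide +kernel

/-- the letter `k` -/
def pk : Perm (Fin 100) := mkPerm tK tKi cK
/-- the letter `t` -/
def pt : Perm (Fin 100) := mkPerm tT tTi cT
/-- the letter `i` -/
def pi : Perm (Fin 100) := mkPerm tI tIi cI
/-- the letter `a` -/
def pa : Perm (Fin 100) := mkPerm tA tAi cA
/-- the letter `b` -/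
def pb : Perm (Fin 100) := mkPerm tB tBi cB
/-- the letter `h` -/
def ph : Perm (Fin 100) := mkPerm tH tHi cH
/-- the letter `r` -/
def pr : Perm (Fin 100) := mkPerm tR tRi cR
/-- the letter `u` -/
def pu : Perm (Fin 100) := mkPerm tU tUi cU

/-- the letters -/
def gl (n : ℕ) : Perm (Fin 100) :=
  match n with
  | 0 => pk | 1 => pk⁻¹ | 2 => pt | 3 => pi | 4 => pi⁻¹ | 5 => pa | 6 => pa⁻¹ | 7 => pb | 8 => pb⁻¹
  | 9 => ph | 10 => pr | 11 => pr⁻¹ | 12 => pu | 13 => pu⁻¹ | _ => 1

/-- the value of a word -/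
abbrev evw (w : List ℕ) : Perm (Fin 100) := Cfsg.Agent.SporadicRecognition.CosetCert.ev gl w

/-- the table of the identity -/
def tOne : ℕ := 0xc6188308600be1782e85c0b61682c8580ae1582a8540a61482885009e1382684c0961282484808e118228440861082084007e0f81e83c0760e81c83806e0d81a8340660c81883005e0b81682c0560a81482804e098128240460881082003e0780e81c0360680c81802e0580a8140260480881001e0380680c0160280480800e0180280400600800800

/-- the tables of the letters -/
def tabs (n : ℕ) : ℕ :=
  Nat.rec tK (fun n _ => Nat.rec tKi (fun n _ => Nat.rec tT (fun n _ => Nat.rec tI (fun n _ =>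
  Nat.rec tIi (fun n _ => Nat.rec tA (fun n _ => Nat.rec tAi (fun n _ => Nat.rec tB (fun n _ =>
  Nat.rec tBi (fun n _ => Nat.rec tH (fun n _ => Nat.rec tR (fun n _ => Nat.rec tRi (fun n _ =>
  Nat.rec tU (fun n _ => Nat.rec tUi (fun _ _ => tOne) n) n) n) n) n) n) n) n) n) n) n) n) n) n

theorem tOne_ok : allB (fun i => Nat.beq (lk tOne i) i) 100 = true := by decide +kernel

theorem gl_val (n : ℕ) (x : Fin 100) : ((gl n x : Fin 100) : ℕ) = lk (tabs n) x := by
  match n with
  | 0 | 1 | 2 | 3 | 4 | 5 | 6 | 7 | 8 | 9 | 10 | 11 | 12 | 13 => rfl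
  | n + 14 =>
    change (x : ℕ) = lk tOne x
    exact (Nat.eq_of_beq_eq_true ((allB_iff _ _).1 tOne_ok x x.2)).symm

/-- evaluation of a word at a point (the last letter is applied first) -/
def evp (w : List ℕ) (x : ℕ) : ℕ := List.rec x (fun l _ y => lk (tabs l) y) w

theorem ev_val (w : List ℕ) (x : Fin 100) : ((evw w x : Fin 100) : ℕ) = evp w x := by
  induction w with
  | nil => rfl
  | cons l w ih =>
    rw [evw, Cfsg.Agent.SporadicRecognition.CosetCert.ev_cons, Perm.mul_apply, gl_val, ih]
    rfl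

/-- the word `w` is trivial in the model -/
def chkOne (w : List ℕ) : Bool := allB (fun x => Nat.beq (evp w x) x) 100

theorem ev_eq_one {w : List ℕ} (h : chkOne w = true) : evw w = 1 := by
  refine Equiv.ext fun x => Fin.ext ?_
  rw [ev_val]
  exact Nat.eq_of_beq_eq_true ((allB_iff _ _).1 h x x.2)

/-- the words `v` and `w` agree in the model -/
def chkEq (v w : List ℕ) : Bool := allB (fun x => Nat.beq (evp v x) (evp w x)) 100

theorem ev_eq {v w : List ℕ} (h : chkEq v w = true) : evw v = evw w := by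
  refine Equiv.ext fun x => Fin.ext ?_
  rw [ev_val, ev_val]
  exact Nat.eq_of_beq_eq_true ((allB_iff _ _).1 h x x.2)

/-- all words of a list are trivial in the model -/
def chkAll (L : List (List ℕ)) : Bool := List.rec true (fun w _ ih => band (chkOne w) ih) L

theorem ev_eq_one_of_mem {L : List (List ℕ)} (h : chkAll L = true) : ∀ w ∈ L, evw w = 1 := by
  induction L with
  | nil => intro w hw; exact absurd hw List.not_mem_nil
  | cons v L ih =>
    have h' : band (chkOne v) (chkAll L) = true := h
    rw [band_eq_true] at h'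
    intro w hw
    rcases List.mem_cons.1 hw with rfl | hw
    · exact ev_eq_one h'.1
    · exact ih h'.2 w hw

/-- relations of `C0` (letters `k t i a b h`): tt hh k^3 i^4 a^4 b^4 KtKtKtKt BKhIhkbI AhbtBhah ABtBtBBI AAbKaakb AtIBhthb AhKhbikI AIkIBKB AKabKBK AiKIbKK AAKbbKK AIaktItK AKbAkkbK ABikiBK ABab AIai AKbk AtAt BIbi IKik IhIh ItIt Khkh -/
def relC : List (List ℕ) := [[2,2], [9,9], [0,0,0], [3,3,3,3], [5,5,5,5], [7,7,7,7], [1,2,1,2,1,2,1,2], [8,1,9,4,9,0,7,4], [6,9,7,2,8,9,5,9], [6,8,2,8,2,8,8,4], [6,6,7,1,5,5,0,7], [6,2,4,8,9,2,9,7], [6,9,1,9,7,3,0,4], [6,4,0,4,8,1,8], [6,1,5,7,1,8,1], [6,3,1,4,7,1,1], [6,6,1,7,7,1,1], [6,4,5,0,2,4,2,1], [6,1,7,6,0,0,7,1], [6,8,3,0,3,8,1], [6,8,5,7], [6,4,5,3], [6,1,7,0], [6,2,6,2], [8,4,7,3], [4,1,3,0], [4,9,4,9], [4,2,4,2], [1,9,0,9]]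

/-- relations of the normaliser of `⟨i, a, b⟩` (letters `k t i a b r u`): r^7 rir^-1a^-1 rar^-1b^-1 AKRArkai ARKIakrB AiRtbItr KRtRtRRt ArktItKR AKbrkrrr rkU u^3 AuiU KKUr KRUU KruR -/
def relN : List (List ℕ) := [[10,10,10,10,10,10,10], [10,3,11,6], [10,5,11,8], [6,1,11,6,10,0,5,3], [6,11,1,4,5,0,10,8], [6,3,11,2,7,4,2,10], [1,11,2,11,2,11,11,2], [6,10,0,2,4,2,1,11], [6,1,7,10,0,10,10,10], [10,0,13], [12,12,12], [6,12,3,13], [1,1,13,10], [1,11,13,13], [1,10,12,11]]

/-- the two further relations: (hu)^5 (huAhAhU)^5 -/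
def relE : List (List ℕ) := [[9,12,9,12,9,12,9,12,9,12], [9,12,6,9,6,9,13,9,12,6,9,6,9,13,9,12,6,9,6,9,13,9,12,6,9,6,9,13,9,12,6,9,6,9,13]]

theorem relC_ok : chkAll relC = true := by decide +kernel
theorem relN_ok : chkAll relN = true := by decide +kernel
theorem relE_ok : chkAll relE = true := by decide +kernel

/-! ### The letters generate `Q` -/

theorem inYi : InG Q tYi := word_of (L := [tY, tY, tY, tY, tY]) (mem3 inX inY inW) (by simp) (by decide +kernel)
/-- the table of `W⁻¹` -/
def tWi : ℕ := 0xc01383083a05e0fc128450b81002e8580920582804f0200ec2905505c18c2d0590181201a03502a088068320be0702204b0bc1881e05b0a20f80000403a01c1205708e158148420861502982d0100801884d0720841b84606c1280d80106007c2600304c0380581a04e0481c0230661040782b0540601e8280280080882c0320140b81303c02804806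
theorem inWi : InG Q tWi := word_of (L := [tW, tW, tW, tW, tW]) (mem3 inX inY inW) (by simp) (by decide +kernel)

theorem mem5 {G : Subgroup (Perm (Fin 100))} {a b c d e : ℕ} (ha : InG G a) (hb : InG G b)
    (hc : InG G c) (hd : InG G d) (he : InG G e) : ∀ P ∈ [a, b, c, d, e], InG G P := by
  intro P hP
  rcases List.mem_cons.1 hP with rfl | hP
  · exact ha
  rcases List.mem_cons.1 hP with rfl | hP
  · exact hb
  exact mem3 hc hd he P hP

theorem mem_of_inG {G : Subgroup (Perm (Fin 100))} {P Pi : ℕ} (h : InG G P) (hc : chkInv 100 P Pi = true) :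
    mkPerm P Pi hc ∈ G := by
  obtain ⟨g, hg, hgi⟩ := h
  have : mkPerm P Pi hc = g := Equiv.ext fun x => Fin.ext (hgi x).symm
  rw [this]; exact hg

theorem inG_of_mem {G : Subgroup (Perm (Fin 100))} {P Pi : ℕ} (hc : chkInv 100 P Pi = true)
    (h : mkPerm P Pi hc ∈ G) : InG G P := ⟨_, h, fun _ => rfl⟩

theorem inK : InG Q tK := word_of (L := [tWi, tYi, tW, tY, tX, tYi, tWi, tX, tWi, tX, tYi, tX, tY, tX])
  (mem5 inX inY inYi inW inWi) (by simp) (by decide +kernel)
theorem inT : InG Q tT := word_of (L := [tWi, tY, tY, tW, tY, tWi, tYi, tX, tYi, tYi, tW])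
  (mem5 inX inY inYi inW inWi) (by simp) (by decide +kernel)
theorem inI : InG Q tI := word_of (L := [tY, tX, tW, tW, tYi, tWi, tX, tYi, tX, tYi, tYi, tX, tYi, tX, tYi])
  (mem5 inX inY inYi inW inWi) (by simp) (by decide +kernel)
theorem inA : InG Q tA := word_of (L := [tX, tWi, tWi, tYi, tX, tY, tX, tY, tX, tY, tY, tY, tW, tW, tX])
  (mem5 inX inY inYi inW inWi) (by simp) (by decide +kernel)
theorem inB : InG Q tB := word_of (L := [tX, tWi, tYi, tYi, tWi, tY, tW, tY, tY, tY, tX, tW, tW, tY, tY, tX])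
  (mem5 inX inY inYi inW inWi) (by simp) (by decide +kernel)
theorem inH : InG Q tH := word_of (L := [tWi, tWi, tX, tY, tW, tW, tYi, tYi, tWi, tX, tY, tY, tX])
  (mem5 inX inY inYi inW inWi) (by simp) (by decide +kernel)
theorem inR : InG Q tR := word_of (L := [tWi, tYi, tW, tY, tWi, tYi, tX, tYi, tWi, tWi])
  (mem5 inX inY inYi inW inWi) (by simp) (by decide +kernel)

theorem pk_mem : pk ∈ Q := mem_of_inG inK cK
theorem pt_mem : pt ∈ Q := mem_of_inG inT cT
theorem pi_mem : pi ∈ Q := mem_of_inG inI cI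
theorem pa_mem : pa ∈ Q := mem_of_inG inA cA
theorem pb_mem : pb ∈ Q := mem_of_inG inB cB
theorem ph_mem : ph ∈ Q := mem_of_inG inH cH
theorem pr_mem : pr ∈ Q := mem_of_inG inR cR

theorem pu_eq : pu = pr * pk := by
  have h : evw [12] = evw [10, 0] := ev_eq (by decide +kernel)
  simpa [evw, Cfsg.Agent.SporadicRecognition.CosetCert.ev, gl] using h

theorem pu_mem : pu ∈ Q := by rw [pu_eq]; exact Q.mul_mem pr_mem pk_mem

theorem gl_mem (n : ℕ) : gl n ∈ Q := by
  match n with
  | 0 => exact pk_mem
  | 1 => exact Q.inv_mem pk_mem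
  | 2 => exact pt_mem
  | 3 => exact pi_mem
  | 4 => exact Q.inv_mem pi_mem
  | 5 => exact pa_mem
  | 6 => exact Q.inv_mem pa_mem
  | 7 => exact pb_mem
  | 8 => exact Q.inv_mem pb_mem
  | 9 => exact ph_mem
  | 10 => exact pr_mem
  | 11 => exact Q.inv_mem pr_mem
  | 12 => exact pu_mem
  | 13 => exact Q.inv_mem pu_mem
  | n + 14 => exact Q.one_mem

/-- the group generated by all letters -/
def P : Subgroup (Perm (Fin 100)) := Subgroup.closure {pk, pt, pi, pa, pb, ph, pr}

theorem P_le : P ≤ Q := by
  rw [P, Subgroup.closure_le]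
  rintro g (rfl | rfl | rfl | rfl | rfl | rfl | rfl)
  · exact pk_mem
  · exact pt_mem
  · exact pi_mem
  · exact pa_mem
  · exact pb_mem
  · exact ph_mem
  · exact pr_mem

theorem mem_P {g : Perm (Fin 100)} (h : g ∈ ({pk, pt, pi, pa, pb, ph, pr} : Set (Perm (Fin 100)))) : g ∈ P :=
  Subgroup.subset_closure h

theorem gl_mem_P (n : ℕ) (hn : n < 12) : gl n ∈ P := by
  have hk : pk ∈ P := mem_P (by simp)
  have ht : pt ∈ P := mem_P (by simp)
  have hi : pi ∈ P := mem_P (by simp)
  have ha : pa ∈ P := mem_P (by simp)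
  have hb : pb ∈ P := mem_P (by simp)
  have hh : ph ∈ P := mem_P (by simp)
  have hr : pr ∈ P := mem_P (by simp)
  match n with
  | 0 => exact hk
  | 1 => exact P.inv_mem hk
  | 2 => exact ht
  | 3 => exact hi
  | 4 => exact P.inv_mem hi
  | 5 => exact ha
  | 6 => exact P.inv_mem ha
  | 7 => exact hb
  | 8 => exact P.inv_mem hb
  | 9 => exact hh
  | 10 => exact hr
  | 11 => exact P.inv_mem hr
  | n + 12 => omega

theorem ev_mem_P (w : List ℕ) (h : ∀ l ∈ w, l < 12) : evw w ∈ P := by
  induction w with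
  | nil => exact P.one_mem
  | cons l w ih =>
    rw [evw, Cfsg.Agent.SporadicRecognition.CosetCert.ev_cons]
    exact P.mul_mem (gl_mem_P l (h l List.mem_cons_self)) (ih fun y hy => h y (List.mem_cons_of_mem _ hy))

/-- the table `S` is the word `w` -/
def chkTab (S : ℕ) (w : List ℕ) : Bool := allB (fun x => Nat.beq (lk S x) (evp w x)) 100

theorem inG_word {S : ℕ} {w : List ℕ} (hw : ∀ l ∈ w, l < 12) (h : chkTab S w = true) : InG P S := by
  refine ⟨evw w, ev_mem_P w hw, fun x => ?_⟩
  rw [ev_val]
  exact (Nat.eq_of_beq_eq_true ((allB_iff _ _).1 h x x.2)).symm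

theorem inXP : InG P tX := inG_word (w := [1,9,11,9,8,11,3,9,8,11]) (by decide) (by decide +kernel)
theorem inYP : InG P tY := inG_word (w := [5,0,10,9,10,1,9,6,9,11,9,11,9]) (by decide) (by decide +kernel)
theorem inWP : InG P tW := inG_word (w := [1,3,9,11,9,11,2,8,9,8,10,9]) (by decide) (by decide +kernel)

def P1 : Subgroup (Perm (Fin 100)) := ps P 0
def P2 : Subgroup (Perm (Fin 100)) := ps P1 1
def P3 : Subgroup (Perm (Fin 100)) := ps P2 3
def P4 : Subgroup (Perm (Fin 100)) := ps P3 8

theorem jn3 : InG P1 s3 := InG.ps (word_of (L := [tX, tW, tX, tW, tX, tY]) (mem3 inXP inYP inWP)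
  (by simp) (by decide +kernel)) (by decide +kernel)
theorem jn4 : InG P1 s4 := InG.ps (word_of (L := [tW, tY, tW, tY, tY, tY, tX]) (mem3 inXP inYP inWP)
  (by simp) (by decide +kernel)) (by decide +kernel)
theorem jn5 : InG P2 s5 := InG.ps (word_of (L := [s3, s3, s4, s3, s4, s4, s3, s3, s3]) (mem2 jn3 jn4)
  (by simp) (by decide +kernel)) (by decide +kernel)
theorem jn6 : InG P2 s6 := InG.ps (word_of (L := [s3, s4, s3, s4, s4]) (mem2 jn3 jn4)
  (by simp) (by decide +kernel)) (by decide +kernel)
theorem jn7 : InG P3 s7 := InG.ps (word_of (L := [s6, s5, s5, s5, s5, s6]) (mem2 jn5 jn6)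
  (by simp) (by decide +kernel)) (by decide +kernel)
theorem jn8 : InG P3 s8 := InG.ps (word_of (L := [s5, s5, s5, s6, s6, s5, s6]) (mem2 jn5 jn6)
  (by simp) (by decide +kernel)) (by decide +kernel)
theorem jn9 : InG P3 s9 := InG.ps (word_of (L := [s5, s5, s6, s5, s5, s6, s5, s6, s5, s6])
  (mem2 jn5 jn6) (by simp) (by decide +kernel)) (by decide +kernel)
theorem jn10 : InG P4 s10 := InG.ps (word_of (L := [s9, s8, s9, s9]) (mem3 jn7 jn8 jn9)
  (by simp) (by decide +kernel)) (by decide +kernel)

theorem card_P_ge : 44352000 ≤ Nat.card P := by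
  have h5 : 1 ≤ Nat.card (ps P4 2) := Nat.card_pos
  have h4 : 3 * 1 ≤ Nat.card P4 :=
    card_ge_of_chk (x := 2) (L := [s10]) jn10 (by intro P hP; rw [List.mem_singleton.1 hP]; exact jn10)
      (C := oc4) (by decide +kernel) (by decide +kernel) h5
  have h3 : 32 * (3 * 1) ≤ Nat.card P3 :=
    card_ge_of_chk (x := 8) (L := [s7, s8, s9]) jn7 (mem3 jn7 jn8 jn9) (C := oc3) (by decide +kernel)
      (by decide +kernel) h4
  have h2 : 60 * (32 * (3 * 1)) ≤ Nat.card P2 :=
    card_ge_of_chk (x := 3) (L := [s5, s6]) jn5 (mem2 jn5 jn6) (C := oc2) (by decide +kernel)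
      (by decide +kernel) h3
  have h1 : 77 * (60 * (32 * (3 * 1))) ≤ Nat.card P1 :=
    card_ge_of_chk (x := 1) (L := [s3, s4]) jn3 (mem2 jn3 jn4) (C := oc1) (by decide +kernel)
      (by decide +kernel) h2
  have h0 : 100 * (77 * (60 * (32 * (3 * 1)))) ≤ Nat.card P :=
    card_ge_of_chk (x := 0) (L := [tX, tY, tW]) inXP (mem3 inXP inYP inWP) (C := oc0) (by decide +kernel)
      (by decide +kernel) h1
  exact h0

/-- The letters generate the Higman–Sims group. -/
theorem P_eq : P = Q := by
  apply Subgroup.eq_of_le_of_card_ge P_le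
  rw [Cfsg.Agent.HN.AutBound.card_Q]
  exact card_P_ge

/-- The explicit centraliser `(4 ∘ 2^{1+4}).S5` of order 7680. -/
def C0 : Subgroup (Perm (Fin 100)) := Subgroup.closure {pk, pt, pi, pa, pb, ph}

theorem C0_le_P : C0 ≤ P := Subgroup.closure_mono (by
  rintro g (rfl | rfl | rfl | rfl | rfl | rfl) <;> simp)

theorem C0_le : C0 ≤ Q := C0_le_P.trans P_le

theorem gl_mem_C0 (n : ℕ) (hn : n < 10) : gl n ∈ C0 := by
  have hm : ∀ g ∈ ({pk, pt, pi, pa, pb, ph} : Set (Perm (Fin 100))), g ∈ C0 := fun g hg =>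
    Subgroup.subset_closure hg
  have hk : pk ∈ C0 := hm _ (by simp)
  have ht : pt ∈ C0 := hm _ (by simp)
  have hi : pi ∈ C0 := hm _ (by simp)
  have ha : pa ∈ C0 := hm _ (by simp)
  have hb : pb ∈ C0 := hm _ (by simp)
  have hh : ph ∈ C0 := hm _ (by simp)
  match n with
  | 0 => exact hk
  | 1 => exact C0.inv_mem hk
  | 2 => exact ht
  | 3 => exact hi
  | 4 => exact C0.inv_mem hi
  | 5 => exact ha
  | 6 => exact C0.inv_mem ha
  | 7 => exact hb
  | 8 => exact C0.inv_mem hb
  | 9 => exact hh
  | n + 10 => omega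

theorem ev_mem_C0 (w : List ℕ) (h : ∀ l ∈ w, l < 10) : evw w ∈ C0 := by
  induction w with
  | nil => exact C0.one_mem
  | cons l w ih =>
    rw [evw, Cfsg.Agent.SporadicRecognition.CosetCert.ev_cons]
    exact C0.mul_mem (gl_mem_C0 l (h l List.mem_cons_self)) (ih fun y hy => h y (List.mem_cons_of_mem _ hy))

/-- the central involution `i ^ 2` of `C0` -/
def z0 : Perm (Fin 100) := pi * pi

end

end Cfsg.Agent.HSType.Letters
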