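import Cfsg.Agent.HSType.Letters
import Cfsg.Agent.HSType.Affine

set_option autoImplicit false

/-!
Model facts: the abelian group `⟨i, a, b⟩`, the matrices of `k, t, r`, the 24 elements of `⟨k, t⟩`.
-/

namespace Cfsg.Agent.HSType.MFacts

open Cfsg.Agent.HSType.Letters Cfsg.Agent.HSType.Affine Equiv

noncomputable section

/-- the matrix of `k` -/
def mK : M := ⟨⟨1, 0, 0⟩, ⟨0, 0, 1⟩, ⟨2, 3, 3⟩⟩
/-- the matrix of `t` -/
def mT : M := ⟨⟨3, 0, 0⟩, ⟨0, 3, 0⟩, ⟨3, 3, 1⟩⟩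
/-- the matrix of `r` -/
def mR : M := ⟨⟨0, 1, 0⟩, ⟨0, 0, 1⟩, ⟨1, 3, 2⟩⟩
/-- the matrix of `r⁻¹` -/
def mRi : M := ⟨⟨1, 2, 1⟩, ⟨1, 0, 0⟩, ⟨0, 1, 0⟩⟩

/-- the word `i^x a^y b^z` -/
def wv (x y z : ℕ) : List ℕ :=
  Nat.rec (Nat.rec (Nat.rec [] (fun _ w => 7 :: w) z) (fun _ w => 5 :: w) y) (fun _ w => 3 :: w) x

theorem ev_wv (x y z : ℕ) : evw (wv x y z) = e pi pa pb ⟨x, y, z⟩ := by
  have h3 : ∀ z : ℕ, evw (Nat.rec [] (fun _ w => 7 :: w) z) = pb ^ z := by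
    intro z
    induction z with
    | zero => rfl
    | succ z ih =>
      change evw (7 :: Nat.rec [] (fun _ w => 7 :: w) z) = _
      rw [evw, Cfsg.Agent.SporadicRecognition.CosetCert.ev_cons]
      change pb * evw _ = _
      rw [ih, pow_succ']
  have h2 : ∀ y : ℕ, evw (Nat.rec (Nat.rec [] (fun _ w => 7 :: w) z) (fun _ w => 5 :: w) y) =
      pa ^ y * pb ^ z := by
    intro y
    induction y with
    | zero => rw [pow_zero, one_mul]; exact h3 z
    | succ y ih =>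
      change evw (5 :: Nat.rec (Nat.rec [] (fun _ w => 7 :: w) z) (fun _ w => 5 :: w) y) = _
      rw [evw, Cfsg.Agent.SporadicRecognition.CosetCert.ev_cons]
      change pa * evw _ = _
      rw [ih, pow_succ', mul_assoc]
  induction x with
  | zero =>
    rw [e, pow_zero, one_mul]; exact h2 y
  | succ x ih =>
    change evw (3 :: wv x y z) = _
    rw [evw, Cfsg.Agent.SporadicRecognition.CosetCert.ev_cons]
    change pi * evw _ = _
    rw [ih, e, e, pow_succ', mul_assoc, mul_assoc, mul_assoc]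

/-- word equalities of the model -/
theorem weq {v w : List ℕ} (h : chkEq v w = true) : (v.map gl).prod = (w.map gl).prod := ev_eq h

theorem ab0 : Ab pi pa pb where
  ia := by simpa [gl] using weq (v := [3, 5]) (w := [5, 3]) (by decide +kernel)
  ib := by simpa [gl] using weq (v := [3, 7]) (w := [7, 3]) (by decide +kernel)
  ab := by simpa [gl] using weq (v := [5, 7]) (w := [7, 5]) (by decide +kernel)
  i4 := by simpa [gl, pow_succ, mul_assoc] using weq (v := [3, 3, 3, 3]) (w := []) (by decide +kernel)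
  a4 := by simpa [gl, pow_succ, mul_assoc] using weq (v := [5, 5, 5, 5]) (w := []) (by decide +kernel)
  b4 := by simpa [gl, pow_succ, mul_assoc] using weq (v := [7, 7, 7, 7]) (w := []) (by decide +kernel)

theorem act_of_words {l li : ℕ} (hl : gl li = (gl l)⁻¹) {x1 y1 z1 x2 y2 z2 x3 y3 z3 : ℕ}
    (h1 : chkEq [l, 3, li] (wv x1 y1 z1) = true) (h2 : chkEq [l, 5, li] (wv x2 y2 z2) = true)
    (h3 : chkEq [l, 7, li] (wv x3 y3 z3) = true) :
    Act pi pa pb (gl l) ⟨⟨x1, y1, z1⟩, ⟨x2, y2, z2⟩, ⟨x3, y3, z3⟩⟩ := by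
  have e1 := ev_eq h1
  have e2 := ev_eq h2
  have e3 := ev_eq h3
  rw [ev_wv] at e1 e2 e3
  refine ⟨?_, ?_, ?_⟩
  · rw [← e1, ← hl]; simp [evw, Cfsg.Agent.SporadicRecognition.CosetCert.ev, mul_assoc]; rfl
  · rw [← e2, ← hl]; simp [evw, Cfsg.Agent.SporadicRecognition.CosetCert.ev, mul_assoc]; rfl
  · rw [← e3, ← hl]; simp [evw, Cfsg.Agent.SporadicRecognition.CosetCert.ev, mul_assoc]; rfl

theorem tt : pt⁻¹ = pt := by
  rw [inv_eq_iff_mul_eq_one]
  simpa [gl] using weq (v := [2, 2]) (w := []) (by decide +kernel)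

theorem hh : ph⁻¹ = ph := by
  rw [inv_eq_iff_mul_eq_one]
  simpa [gl] using weq (v := [9, 9]) (w := []) (by decide +kernel)

theorem actK : Act pi pa pb pk mK :=
  act_of_words (l := 0) (li := 1) rfl (by decide +kernel) (by decide +kernel) (by decide +kernel)
theorem actT : Act pi pa pb pt mT :=
  act_of_words (l := 2) (li := 2) tt.symm (by decide +kernel) (by decide +kernel) (by decide +kernel)
theorem actR : Act pi pa pb pr mR :=
  act_of_words (l := 10) (li := 11) rfl (by decide +kernel) (by decide +kernel) (by decide +kernel)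

/-! ### The 64 elements -/

theorem chkOne_of_eq {w : List ℕ} (h : evw w = 1) : chkOne w = true := by
  refine (Cfsg.Agent.SporadicA.PermTab.allB_iff _ _).2 fun x hx => ?_
  have h1 := ev_val w ⟨x, hx⟩
  rw [h] at h1
  change x = evp w x at h1
  change Nat.beq (evp w x) x = true
  rw [← h1]
  exact Nat.beq_refl _

/-- only the exponents 0, 0, 0 give the identity -/
def chkInj : Bool :=
  Cfsg.Agent.SporadicA.PermTab.allB (fun x => Cfsg.Agent.SporadicA.PermTab.allB (fun y =>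
    Cfsg.Agent.SporadicA.PermTab.allB (fun z =>
      cond (chkOne (wv x y z)) (Nat.beq (Nat.add (Nat.add x y) z) 0) true) 4) 4) 4

theorem chkInj_ok : chkInj = true := by decide +kernel

theorem e_inj {v : V} (h : e pi pa pb v = 1) : v.x % 4 = 0 ∧ v.y % 4 = 0 ∧ v.z % 4 = 0 := by
  obtain ⟨x, y, z⟩ := v
  rw [← e_mod ab0, ← ev_wv] at h
  have h1 := chkOne_of_eq h
  have h2 := (Cfsg.Agent.SporadicA.PermTab.allB_iff _ _).1 chkInj_ok (x % 4) (Nat.mod_lt _ (by norm_num))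
  have h3 := (Cfsg.Agent.SporadicA.PermTab.allB_iff _ _).1 h2 (y % 4) (Nat.mod_lt _ (by norm_num))
  have h4 := (Cfsg.Agent.SporadicA.PermTab.allB_iff _ _).1 h3 (z % 4) (Nat.mod_lt _ (by norm_num))
  rw [h1] at h4
  have h5 : x % 4 + y % 4 + z % 4 = 0 := Nat.eq_of_beq_eq_true h4
  dsimp only
  omega

/-! ### The 24 elements of `⟨k, t⟩` -/

/-- words for the 24 elements of `⟨k, t⟩` -/
def pw (n : ℕ) : List ℕ := Nat.rec [] (fun n _ => Nat.rec [0] (fun n _ => Nat.rec [2] (fun n _ => Nat.rec [0,0] (fun n _ => Nat.rec [0,2] (fun n _ => Nat.rec [2,0] (fun n _ => Nat.rec [0,0,2] (fun n _ => Nat.rec [0,2,0] (fun n _ => Nat.rec [2,0,0] (fun n _ => Nat.rec [2,0,2] (fun n _ => Nat.rec [0,0,2,0] (fun n _ => Nat.rec [0,2,0,0] (fun n _ => Nat.rec [0,2,0,2] (fun n _ => Nat.rec [2,0,0,2] (fun n _ => Nat.rec [2,0,2,0] (fun n _ => Nat.rec [0,0,2,0,0] (fun n _ => Nat.rec [0,0,2,0,2] (fun n _ => Nat.rec [0,2,0,0,2] (fun n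 _ => Nat.rec [2,0,0,2,0] (fun n _ => Nat.rec [2,0,2,0,0] (fun n _ => Nat.rec [0,2,0,0,2,0] (fun n _ => Nat.rec [2,0,0,2,0,2] (fun n _ => Nat.rec [2,0,2,0,0,2] (fun n _ => Nat.rec [2,0,2,0,0,2,0] (fun n _ => []) n) n) n) n) n) n) n) n) n) n) n) n) n) n) n) n) n) n) n) n) n) n) n) n

/-- `k` times the n-th element -/
def kn (n : ℕ) : ℕ := Nat.rec 1 (fun n _ => Nat.rec 3 (fun n _ => Nat.rec 4 (fun n _ => Nat.rec 0 (fun n _ => Nat.rec 6 (fun n _ => Nat.rec 7 (fun n _ => Nat.rec 2 (fun n _ => Nat.rec 10 (fun n _ => Nat.rec 11 (fun n _ => Nat.rec 12 (fun n _ => Nat.rec 5 (fun n _ => Nat.rec 15 (fun n _ => Nat.rec 16 (fun n _ => Nat.rec 17 (fun n _ => Nat.rec 13 (fun n _ => Nat.rec 8 (fun n _ => Nat.rec 9 (fun n _ => Nat.rec 14 (fun n _ => Nat.rec 20 (fun n _ => Nat.rec 18 (fun n _ => Nat.rec 19 (fun n _ => Nat.rec 23 (fun n _ => Nat.rec 21 (fun n _ => Nat.rec 22 (fun n _ => 0) n) n) n) n) n) n) n) n) n) n) n)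 n) n) n) n) n) n) n) n) n) n) n) n) n

/-- `t` times the n-th element -/
def tn (n : ℕ) : ℕ := Nat.rec 2 (fun n _ => Nat.rec 5 (fun n _ => Nat.rec 0 (fun n _ => Nat.rec 8 (fun n _ => Nat.rec 9 (fun n _ => Nat.rec 1 (fun n _ => Nat.rec 13 (fun n _ => Nat.rec 14 (fun n _ => Nat.rec 3 (fun n _ => Nat.rec 4 (fun n _ => Nat.rec 18 (fun n _ => Nat.rec 19 (fun n _ => Nat.rec 15 (fun n _ => Nat.rec 6 (fun n _ => Nat.rec 7 (fun n _ => Nat.rec 12 (fun n _ => Nat.rec 21 (fun n _ => Nat.rec 22 (fun n _ => Nat.rec 10 (fun n _ => Nat.rec 11 (fun n _ => Nat.rec 23 (fun n _ => Nat.rec 16 (fun n _ => Nat.rec 17 (fun n _ => Nat.rec 20 (fun n _ => 0) n) n) n) n) n) n) n) n) n) n) n) n) n) n) n) n) n) n) n) n) n) n) n) n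

theorem kn_ok : Cfsg.Agent.SporadicA.PermTab.allB (fun n => Affine.band (Nat.blt (kn n) 24)
    (chkEq (0 :: pw n) (pw (kn n)))) 24 = true := by decide +kernel
theorem tn_ok : Cfsg.Agent.SporadicA.PermTab.allB (fun n => Affine.band (Nat.blt (tn n) 24)
    (chkEq (2 :: pw n) (pw (tn n)))) 24 = true := by decide +kernel

theorem k_mul_pw {n : ℕ} (hn : n < 24) : kn n < 24 ∧ pk * evw (pw n) = evw (pw (kn n)) := by
  have h := (Cfsg.Agent.SporadicA.PermTab.allB_iff _ _).1 kn_ok n hn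
  rw [Affine.band_iff] at h
  refine ⟨Nat.blt_eq ▸ h.1, ?_⟩
  rw [← ev_eq h.2, evw, evw, Cfsg.Agent.SporadicRecognition.CosetCert.ev_cons]
  rfl

theorem t_mul_pw {n : ℕ} (hn : n < 24) : tn n < 24 ∧ pt * evw (pw n) = evw (pw (tn n)) := by
  have h := (Cfsg.Agent.SporadicA.PermTab.allB_iff _ _).1 tn_ok n hn
  rw [Affine.band_iff] at h
  refine ⟨Nat.blt_eq ▸ h.1, ?_⟩
  rw [← ev_eq h.2, evw, evw, Cfsg.Agent.SporadicRecognition.CosetCert.ev_cons]
  rfl

theorem kkk : pk⁻¹ = pk * pk := by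
  rw [inv_eq_iff_mul_eq_one]
  simpa [gl, mul_assoc] using weq (v := [0, 0, 0]) (w := []) (by decide +kernel)

/-- the group `⟨k, t⟩` -/
def KT : Subgroup (Perm (Fin 100)) := Subgroup.closure {pk, pt}

theorem mem_KT {c : Perm (Fin 100)} (hc : c ∈ KT) : ∃ n < 24, c = evw (pw n) := by
  refine Subgroup.closure_induction_left (p := fun c _ => ∃ n < 24, c = evw (pw n)) ?_ ?_ ?_ hc
  · exact ⟨0, by norm_num, rfl⟩
  · rintro x (rfl | rfl) y - ⟨n, hn, rfl⟩
    · exact ⟨kn n, (k_mul_pw hn).1, (k_mul_pw hn).2⟩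
    · exact ⟨tn n, (t_mul_pw hn).1, (t_mul_pw hn).2⟩
  · rintro x (rfl | rfl) y - ⟨n, hn, rfl⟩
    · obtain ⟨h1, h2⟩ := k_mul_pw hn
      obtain ⟨h3, h4⟩ := k_mul_pw h1
      exact ⟨_, h3, by rw [kkk, mul_assoc, h2, h4]⟩
    · rw [tt]
      exact ⟨tn n, (t_mul_pw hn).1, (t_mul_pw hn).2⟩

/-- the group `⟨k, t, i, a, b⟩` -/
def B0 : Subgroup (Perm (Fin 100)) := Subgroup.closure {pk, pt, pi, pa, pb}

theorem B0_le : B0 ≤ C0 := Subgroup.closure_mono (by
  rintro g (rfl | rfl | rfl | rfl | rfl) <;> simp)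

theorem KT_le : KT ≤ B0 := Subgroup.closure_mono (by
  rintro g (rfl | rfl) <;> simp)

theorem act_mul_e {n : Perm (Fin 100)} {m : M} (h : Act pi pa pb n m) (v : V) :
    n * e pi pa pb v = e pi pa pb (m.app v) * n := by
  rw [← h.app ab0]; group

theorem mem_B0 {c : Perm (Fin 100)} (hc : c ∈ B0) : ∃ v : V, ∃ n < 24, c = e pi pa pb v * evw (pw n) := by
  have hk : ∀ y : Perm (Fin 100), (∃ v : V, ∃ n < 24, y = e pi pa pb v * evw (pw n)) →
      ∃ v : V, ∃ n < 24, pk * y = e pi pa pb v * evw (pw n) := by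
    rintro y ⟨v, n, hn, rfl⟩
    refine ⟨mK.app v, kn n, (k_mul_pw hn).1, ?_⟩
    rw [← (k_mul_pw hn).2, ← mul_assoc, ← mul_assoc, act_mul_e actK]
  have ht : ∀ y : Perm (Fin 100), (∃ v : V, ∃ n < 24, y = e pi pa pb v * evw (pw n)) →
      ∃ v : V, ∃ n < 24, pt * y = e pi pa pb v * evw (pw n) := by
    rintro y ⟨v, n, hn, rfl⟩
    refine ⟨mT.app v, tn n, (t_mul_pw hn).1, ?_⟩
    rw [← (t_mul_pw hn).2, ← mul_assoc, ← mul_assoc, act_mul_e actT]
  have he : ∀ (w : V) (y : Perm (Fin 100)), (∃ v : V, ∃ n < 24, y = e pi pa pb v * evw (pw n)) →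
      ∃ v : V, ∃ n < 24, e pi pa pb w * y = e pi pa pb v * evw (pw n) := by
    rintro w y ⟨v, n, hn, rfl⟩
    exact ⟨V.add w v, n, hn, by rw [e_add ab0, mul_assoc]⟩
  have hi : e pi pa pb ⟨1, 0, 0⟩ = pi := by simp [e]
  have ha : e pi pa pb ⟨0, 1, 0⟩ = pa := by simp [e]
  have hb : e pi pa pb ⟨0, 0, 1⟩ = pb := by simp [e]
  have hi' : e pi pa pb ⟨3, 0, 0⟩ = pi⁻¹ := by
    rw [eq_inv_iff_mul_eq_one]
    simp only [e, pow_zero, mul_one]; rw [← pow_succ]; exact ab0.i4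
  have ha' : e pi pa pb ⟨0, 3, 0⟩ = pa⁻¹ := by
    rw [eq_inv_iff_mul_eq_one]
    simp only [e, pow_zero, mul_one, one_mul]; rw [← pow_succ]; exact ab0.a4
  have hb' : e pi pa pb ⟨0, 0, 3⟩ = pb⁻¹ := by
    rw [eq_inv_iff_mul_eq_one]
    simp only [e, pow_zero, one_mul]; rw [← pow_succ]; exact ab0.b4
  refine Subgroup.closure_induction_left (p := fun c _ => ∃ v : V, ∃ n < 24, c = e pi pa pb v * evw (pw n))
    ?_ ?_ ?_ hc
  · exact ⟨⟨0, 0, 0⟩, 0, by norm_num, by rw [e_zero, one_mul]; rfl⟩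
  · rintro x (rfl | rfl | rfl | rfl | rfl) y - h
    · exact hk y h
    · exact ht y h
    · rw [← hi]; rw [← hi] at h; exact he _ y (by simpa only [hi] using h)
    · rw [← ha]; exact he _ y (by simpa only [ha] using h)
    · rw [← hb]; exact he _ y (by simpa only [hb] using h)
  · rintro x (rfl | rfl | rfl | rfl | rfl) y - h
    · rw [kkk, mul_assoc]; exact hk _ (hk y h)
    · rw [tt]; exact ht y h
    · rw [← hi']; exact he _ y h
    · rw [← ha']; exact he _ y h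
    · rw [← hb']; exact he _ y h

/-! ### Parity -/

/-- generators of `C0` centralise or invert `i` -/
theorem parity {c : Perm (Fin 100)} (hc : c ∈ C0) : c * pi * c⁻¹ = pi ∨ c * pi * c⁻¹ = pi⁻¹ := by
  have key : ∀ x : Perm (Fin 100), (x * pi * x⁻¹ = pi ∨ x * pi * x⁻¹ = pi⁻¹) → ∀ y : Perm (Fin 100),
      (y * pi * y⁻¹ = pi ∨ y * pi * y⁻¹ = pi⁻¹) → ((x * y) * pi * (x * y)⁻¹ = pi ∨ (x * y) * pi * (x * y)⁻¹ = pi⁻¹) := by
    intro x hx y hy
    have h1 : (x * y) * pi * (x * y)⁻¹ = x * (y * pi * y⁻¹) * x⁻¹ := by group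
    have h2 : x * pi⁻¹ * x⁻¹ = (x * pi * x⁻¹)⁻¹ := by group
    rw [h1]
    rcases hx with hx | hx <;> rcases hy with hy | hy <;> rw [hy]
    · exact Or.inl hx
    · rw [h2, hx]; exact Or.inr rfl
    · exact Or.inr hx
    · rw [h2, hx, inv_inv]; exact Or.inl rfl
  refine Subgroup.closure_induction (p := fun c _ => c * pi * c⁻¹ = pi ∨ c * pi * c⁻¹ = pi⁻¹) ?_ ?_ ?_ ?_ hc
  · rintro x (rfl | rfl | rfl | rfl | rfl | rfl)
    · left; rw [actK.hi]; simp [e, mK]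
    · right
      rw [actT.hi, eq_inv_iff_mul_eq_one]
      simp only [e, mT, pow_zero, mul_one]; rw [← pow_succ]; exact ab0.i4
    · left; group
    · left; rw [← ab0.ia]; group
    · left; rw [← ab0.ib]; group
    · right
      rw [hh, eq_inv_iff_mul_eq_one]
      simpa [gl, mul_assoc] using weq (v := [9, 3, 9, 3]) (w := []) (by decide +kernel)
  · left; simp
  · intro x y _ _ hx hy
    exact key x hx y hy
  · intro x _ hx
    have h2 : x⁻¹ * pi * x⁻¹⁻¹ = x⁻¹ * pi * x := by group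
    rcases hx with hx | hx
    · left; rw [h2]; nth_rewrite 1 [← hx]; group
    · right
      rw [h2]
      have h3 : pi = x * pi⁻¹ * x⁻¹ := by
        have : x * pi⁻¹ * x⁻¹ = (x * pi * x⁻¹)⁻¹ := by group
        rw [this, hx, inv_inv]
      nth_rewrite 1 [h3]; group

end

end Cfsg.Agent.HSType.MFacts
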