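import Cfsg.Agent.HSType.NormA

set_option autoImplicit false

/-!
Recognition of the Higman–Sims group, local part: an element acting on `A` exactly as `r`, and the twist of the
embedding of `C0` by the central automorphism `c ↦ c i` (`c` odd).
-/

namespace Cfsg.Agent.HSType.NormB

open Cfsg.Agent.HSType.Letters hiding cK cT cI cA cB cH
open Cfsg.Agent.HSType.Affine Cfsg.Agent.HSType.MFacts
  Cfsg.Agent.HSType.AffData Cfsg.Agent.HSType.AffLemmas Cfsg.Agent.HSType.NormA Equiv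

theorem V.beq_self (v : V) : V.beq v v = true := by
  rw [V.beq, Affine.band_iff, Affine.band_iff]
  exact ⟨Nat.beq_refl _, Nat.beq_refl _, Nat.beq_refl _⟩

theorem M.beq_self (m : M) : M.beq m m = true := by
  rw [M.beq, Affine.band_iff, Affine.band_iff]
  exact ⟨V.beq_self _, V.beq_self _, V.beq_self _⟩

theorem Af.beq_self (p : Af) : Af.beq p p = true := by
  rw [Af.beq, Affine.band_iff]
  exact ⟨V.beq_self _, M.beq_self _⟩

variable {G : Type*} [Group G] {z : G} {φ : ↥C0 →* G}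

theorem mem_A0_of_comm (CFh : CF) (h : Ctx z φ) {q : G} (h1 : q * z = z * q)
    (h2 : q * (φ cA * φ cA) = (φ cA * φ cA) * q) (h3 : q * (φ cB * φ cB) = (φ cB * φ cB) * q) :
    q ∈ sub (abφ φ) := by
  obtain ⟨c, rfl⟩ := h.cen q h1
  apply mem_sub_of_A0
  apply CFh.cen _ c.2
  · exact comm_z0 c.2
  · rw [← map_mul, ← map_mul, ← map_mul] at h2
    exact congrArg Subtype.val (h.inj h2)
  · rw [← map_mul, ← map_mul, ← map_mul] at h3
    exact congrArg Subtype.val (h.inj h3)

theorem exists_rho_act [Finite G] (CFh : CF) (h : Ctx z φ) (hx : IsConj (φ (cA * cA)) z) :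
    ∃ g : G, (∀ x ∈ sub (abφ φ), g * x * g⁻¹ ∈ sub (abφ φ)) ∧ Act (φ cI) (φ cA) (φ cB) g mR := by
  obtain ⟨g, hg, g1, g2, g3⟩ := exists_rho CFh h hx
  obtain ⟨m, hlt, hact⟩ := exists_act (abφ φ) hg
  refine ⟨g, hg, ?_⟩
  have hj := h.injφ
  have hab := abφ φ
  rw [hact.app hab] at g1 g2 g3
  obtain ⟨p1, p2, p3⟩ := hj.eq hab g1
  obtain ⟨q1, q2, q3⟩ := hj.eq hab g2
  obtain ⟨r1, r2, r3⟩ := hj.eq hab g3
  change (2 * m.a.x + 0 * m.b.x + 0 * m.c.x) % 4 % 4 = 0 % 4 at p1
  change (2 * m.a.y + 0 * m.b.y + 0 * m.c.y) % 4 % 4 = 2 % 4 at p2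
  change (2 * m.a.z + 0 * m.b.z + 0 * m.c.z) % 4 % 4 = 0 % 4 at p3
  change (0 * m.a.x + 2 * m.b.x + 0 * m.c.x) % 4 % 4 = 0 % 4 at q1
  change (0 * m.a.y + 2 * m.b.y + 0 * m.c.y) % 4 % 4 = 0 % 4 at q2
  change (0 * m.a.z + 2 * m.b.z + 0 * m.c.z) % 4 % 4 = 2 % 4 at q3
  change (0 * m.a.x + 0 * m.b.x + 2 * m.c.x) % 4 % 4 = 2 % 4 at r1
  change (0 * m.a.y + 0 * m.b.y + 2 * m.c.y) % 4 % 4 = 2 % 4 at r2
  change (0 * m.a.z + 0 * m.b.z + 2 * m.c.z) % 4 % 4 = 0 % 4 at r3
  obtain ⟨d1, d2, d3, d4, d5, d6, d7, d8, d9, hm⟩ := exists_lift hlt.a hlt.b hlt.c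
    ⟨by omega, by omega, by omega⟩ ⟨by omega, by omega, by omega⟩ ⟨by omega, by omega, by omega⟩
  have ht := lift_spec d1 d2 d3 d4 d5 d6 d7 d8 d9
  rw [← hm, liftTest, Affine.band_iff, same2, Affine.band_iff, Affine.band_iff] at ht
  obtain ⟨⟨t1, t2, t3⟩, t4⟩ := ht
  have t1 := V.eq_of_beq t1
  have t2 := V.eq_of_beq t2
  have t3 := V.eq_of_beq t3
  have hK : Act (φ cI) (φ cA) (φ cB) (φ cK) mK := Act.map φ actKC
  have hT : Act (φ cI) (φ cA) (φ cB) (φ cT) mT := Act.map φ actTC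
  have hX : Act (φ cI) (φ cA) (φ cB) (φ cK * (φ cT * (g * φ cK))) (lhs m) :=
    hK.mul hab (hT.mul hab (hact.mul hab hK))
  have hY : Act (φ cI) (φ cA) (φ cB) (g * (φ cT * g)) (rhs m) := hact.mul hab (hT.mul hab hact)
  set X := φ cK * (φ cT * (g * φ cK)) with hXdef
  set Y := g * (φ cT * g) with hYdef
  have key : ∀ v : V, (lhs m).app v = (rhs m).app v →
      Y⁻¹ * X * e (φ cI) (φ cA) (φ cB) v = e (φ cI) (φ cA) (φ cB) v * (Y⁻¹ * X) := by
    intro v hv
    have h1 := hX.app hab v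
    have h2 := hY.app hab v
    rw [hv, ← h2] at h1
    calc Y⁻¹ * X * e (φ cI) (φ cA) (φ cB) v = Y⁻¹ * (X * e (φ cI) (φ cA) (φ cB) v * X⁻¹) * X := by group
      _ = Y⁻¹ * (Y * e (φ cI) (φ cA) (φ cB) v * Y⁻¹) * X := by rw [h1]
      _ = e (φ cI) (φ cA) (φ cB) v * (Y⁻¹ * X) := by group
  have hq : Y⁻¹ * X ∈ sub (abφ φ) := by
    refine mem_A0_of_comm CFh h ?_ ?_ ?_
    · rw [h.z_eq]; exact key _ t1
    · have := key _ t2
      simpa [e, pow_two] using this
    · have := key _ t3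
      simpa [e, pow_two] using this
  have hX' : Act (φ cI) (φ cA) (φ cB) X (rhs m) := by
    have h1 : ∀ x ∈ sub (abφ φ), X * x * X⁻¹ = Y * x * Y⁻¹ := by
      intro x hx
      have h2 := sub_comm (abφ φ) hq hx
      calc X * x * X⁻¹ = Y * (Y⁻¹ * X * x) * X⁻¹ := by group
        _ = Y * (x * (Y⁻¹ * X)) * X⁻¹ := by rw [h2]
        _ = Y * x * Y⁻¹ := by group
    refine ⟨?_, ?_, ?_⟩
    · rw [h1 _ (i_mem _)]; exact hY.hi
    · rw [h1 _ (a_mem _)]; exact hY.ha
    · rw [h1 _ (b_mem _)]; exact hY.hb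
  have heq : lhs m = rhs m := Act.unique hab hj (mul_lt _ _) (mul_lt _ _) hX hX'
  rw [heq, M.beq_self, cond_true] at t4
  rw [M.eq_of_beq t4] at hact
  exact hact

/-! ### The twist -/

theorem parityC (c : ↥C0) : c * cI * c⁻¹ = cI ∨ c * cI * c⁻¹ = cI⁻¹ := by
  rcases parity c.2 with h | h
  · exact Or.inl (Subtype.ext h)
  · exact Or.inr (Subtype.ext h)

theorem cI_ne : cI ≠ cI⁻¹ := by
  intro h
  have h1 : e cI cA cB ⟨2, 0, 0⟩ = 1 := by
    simp only [e, pow_zero, mul_one, pow_two]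
    nth_rewrite 1 [h]; exact inv_mul_cancel _
  exact absurd (injC _ h1).1 (by norm_num)

/-- even elements of `C0` -/
def Even (c : ↥C0) : Prop := c * cI * c⁻¹ = cI

theorem odd_iff (c : ↥C0) : ¬ Even c ↔ c * cI * c⁻¹ = cI⁻¹ := by
  constructor
  · intro h
    exact (parityC c).resolve_left h
  · intro h h'
    rw [Even, h] at h'
    exact cI_ne h'.symm

theorem even_mul_iff (c d : ↥C0) : Even (c * d) ↔ (Even c ↔ Even d) := by
  have h1 : c * d * cI * (c * d)⁻¹ = c * (d * cI * d⁻¹) * c⁻¹ := by group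
  have h2 : c * cI⁻¹ * c⁻¹ = (c * cI * c⁻¹)⁻¹ := by group
  by_cases hd : Even d
  · have : Even (c * d) ↔ Even c := by
      rw [Even, h1, show d * cI * d⁻¹ = cI from hd]; exact Iff.rfl
    rw [this]; tauto
  · have hd' := (odd_iff d).1 hd
    by_cases hc : Even c
    · have : ¬ Even (c * d) := by
        rw [odd_iff, h1, hd', h2, show c * cI * c⁻¹ = cI from hc]
      tauto
    · have hc' := (odd_iff c).1 hc
      have : Even (c * d) := by rw [Even, h1, hd', h2, hc', inv_inv]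
      tauto

open scoped Classical in
/-- the twisted embedding: `c ↦ φ(c) φ(i)` for odd `c` -/
noncomputable def twist (φ : ↥C0 →* G) : ↥C0 →* G where
  toFun c := if Even c then φ c else φ c * φ cI
  map_one' := by
    have : Even (1 : ↥C0) := by simp [Even]
    rw [if_pos this, map_one]
  map_mul' c d := by
    have hcd := even_mul_iff c d
    by_cases hc : Even c
    · by_cases hd : Even d
      · rw [if_pos hc, if_pos hd, if_pos (hcd.2 ⟨fun _ => hd, fun _ => hc⟩), map_mul]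
      · rw [if_pos hc, if_neg hd, if_neg (fun h => hd ((hcd.1 h).1 hc)), map_mul, mul_assoc]
    · by_cases hd : Even d
      · rw [if_neg hc, if_pos hd, if_neg (fun h => hc ((hcd.1 h).2 hd)), map_mul]
        have : φ d * φ cI = φ cI * φ d := by
          rw [← map_mul, ← map_mul]
          congr 1
          exact mul_inv_eq_iff_eq_mul.1 hd
        rw [mul_assoc, this, ← mul_assoc]
      · rw [if_neg hc, if_neg hd, if_pos (hcd.2 ⟨fun h => absurd h hc, fun h => absurd h hd⟩)]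
        have h1 := (odd_iff d).1 hd
        have h2 : φ cI * φ d * φ cI = φ d := by
          rw [← map_mul, ← map_mul]
          congr 1
          have h3 : d * cI = cI⁻¹ * d := mul_inv_eq_iff_eq_mul.1 h1
          rw [mul_assoc, h3, ← mul_assoc, mul_inv_cancel, one_mul]
        calc φ (c * d) = φ c * φ d := map_mul _ _ _
          _ = φ c * (φ cI * φ d * φ cI) := by rw [h2]
          _ = φ c * φ cI * (φ d * φ cI) := by group

theorem twist_even {c : ↥C0} (h : Even c) : twist φ c = φ c := if_pos h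
theorem twist_odd {c : ↥C0} (h : ¬ Even c) : twist φ c = φ c * φ cI := if_neg h

theorem even_cI : Even cI := by simp [Even]

theorem Ctx.twist (h : Ctx z φ) : Ctx z (twist φ) where
  inj := by
    rw [injective_iff_map_eq_one]
    intro c hc
    by_cases he : Even c
    · rw [twist_even he] at hc
      exact h.inj (by rw [hc, map_one])
    · exfalso
      rw [twist_odd he, ← map_mul] at hc
      have h1 : c * cI = 1 := h.inj (by rw [hc, map_one])
      have h2 : c = cI⁻¹ := eq_inv_of_mul_eq_one_left h1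
      apply he
      rw [h2]; simp [Even]
  hz := by
    rw [twist_even ((even_mul_iff _ _).2 Iff.rfl), h.hz]
  cen g hg := by
    obtain ⟨c, rfl⟩ := h.cen g hg
    by_cases he : Even c
    · exact ⟨c, twist_even he⟩
    · have h1 : ¬ Even (c * cI⁻¹) := by
        intro h2
        have h3 : Even cI⁻¹ := by simp [Even]
        exact he (((even_mul_iff _ _).1 h2).2 h3)
      refine ⟨c * cI⁻¹, ?_⟩
      rw [twist_odd h1, ← map_mul]
      congr 1
      group

end Cfsg.Agent.HSType.NormB
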