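import Cfsg.Agent.HSType.NormB
import Cfsg.Agent.Solvable.Gaschutz

set_option autoImplicit false

/-!
Recognition of the Higman–Sims group, local part: a complement to `A` in its normaliser that contains `φ(k)`.
-/

namespace Cfsg.Agent.HSType.NormC

open Cfsg.Agent.HSType.Letters hiding cK cT cI cA cB cH
open Cfsg.Agent.HSType.Affine Cfsg.Agent.HSType.MFacts
  Cfsg.Agent.HSType.AffData Cfsg.Agent.HSType.AffLemmas Cfsg.Agent.HSType.NormA Cfsg.Agent.HSType.NormB Equiv
open Cfsg.Agent.SporadicA.PermTab (allB allB_iff)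

variable {G : Type*} [Group G]

/-- the seven involutions, in the cyclic order given by `r` -/
def w7 (n : Fin 7) : V :=
  match n with
  | 0 => ⟨2, 0, 0⟩ | 1 => ⟨0, 2, 0⟩ | 2 => ⟨0, 0, 2⟩ | 3 => ⟨2, 2, 0⟩ | 4 => ⟨0, 2, 2⟩ | 5 => ⟨2, 2, 2⟩ | 6 => ⟨2, 0, 2⟩

theorem w7_app (n : Fin 7) : mR.app (w7 n) = w7 (n + 1) := by
  match n with
  | 0 | 1 | 2 | 3 | 4 | 5 | 6 => rfl

theorem w7_lt (n : Fin 7) : AffData.V.lt (w7 n) := by
  match n with
  | 0 | 1 | 2 | 3 | 4 | 5 | 6 => exact ⟨by decide, by decide, by decide⟩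

theorem w7_inj (m n : Fin 7) (h : w7 m = w7 n) : m = n := by
  have hx := congrArg V.x h
  have hy := congrArg V.y h
  have hz := congrArg V.z h
  clear h
  revert m n
  decide

theorem w7_surj (α β γ : Bool) (h : ¬ (α = false ∧ β = false ∧ γ = false)) :
    ∃ n, w7 n = ⟨bx α 2, bx β 2, bx γ 2⟩ := by
  cases α <;> cases β <;> cases γ
  · exact absurd ⟨rfl, rfl, rfl⟩ h
  · exact ⟨2, rfl⟩
  · exact ⟨1, rfl⟩
  · exact ⟨4, rfl⟩
  · exact ⟨0, rfl⟩
  · exact ⟨6, rfl⟩
  · exact ⟨3, rfl⟩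
  · exact ⟨5, rfl⟩

variable {z : G} {φ : ↥C0 →* G}

/-- the normaliser of `A` -/
def NG (φ : ↥C0 →* G) : Subgroup G := Subgroup.normalizer (sub (abφ φ) : Set G)

theorem conj_mem {n : G} (hn : n ∈ NG φ) {x : G} (hx : x ∈ sub (abφ φ)) : n * x * n⁻¹ ∈ sub (abφ φ) :=
  (Subgroup.mem_normalizer_iff.1 hn x).1 hx

theorem mem_NG [Finite G] {n : G} (hn : ∀ x ∈ sub (abφ φ), n * x * n⁻¹ ∈ sub (abφ φ)) : n ∈ NG φ :=
  Subgroup.mem_normalizer_fintype (fun y hy => hn y hy)

theorem sub_le_NG : sub (abφ φ) ≤ NG φ := Subgroup.le_normalizer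

theorem index_cent [Finite G] (h : Ctx z φ) {g : G} (hg : g ∈ NG φ) (hact : Act (φ cI) (φ cA) (φ cB) g mR) :
    ((Subgroup.centralizer ({z} : Set G)).subgroupOf (NG φ)).index = 7 := by
  have hab := abφ φ
  have hj := h.injφ
  letI : MulAction ↥(NG φ) G := MulAction.compHom G (MulAut.conj.comp (NG φ).subtype : ↥(NG φ) →* MulAut G)
  have hsm : ∀ (n : ↥(NG φ)) (x : G), n • x = (n : G) * x * (n : G)⁻¹ := fun n x => rfl
  have h1 : (Subgroup.centralizer ({z} : Set G)).subgroupOf (NG φ) = MulAction.stabilizer ↥(NG φ) z := by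
    ext n
    rw [MulAction.mem_stabilizer_iff, hsm, Subgroup.mem_subgroupOf, Subgroup.mem_centralizer_singleton_iff,
      mul_inv_eq_iff_eq_mul]
  rw [h1, MulAction.index_stabilizer]
  have h2 : MulAction.orbit ↥(NG φ) z = Set.range fun n : Fin 7 => e (φ cI) (φ cA) (φ cB) (w7 n) := by
    ext x
    constructor
    · rintro ⟨n, rfl⟩
      change (n : G) * z * (n : G)⁻¹ ∈ _
      obtain ⟨m, hm, hma⟩ := exists_act hab (n := (n : G)) (fun y hy => conj_mem n.2 hy)
      obtain ⟨α, hα⟩ := exists_bx m.a.x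
      obtain ⟨β, hβ⟩ := exists_bx m.a.y
      obtain ⟨γ, hγ⟩ := exists_bx m.a.z
      have h3 : (n : G) * z * (n : G)⁻¹ = e (φ cI) (φ cA) (φ cB) ⟨bx α 2, bx β 2, bx γ 2⟩ := by
        rw [h.z_eq, hma.app hab]
        apply e_congr hab
        · change (2 * m.a.x + 0 * m.b.x + 0 * m.c.x) % 4 % 4 = bx α 2 % 4
          have : bx α 2 = 2 * bx α 1 := by cases α <;> rfl
          omega
        · change (2 * m.a.y + 0 * m.b.y + 0 * m.c.y) % 4 % 4 = bx β 2 % 4
          have : bx β 2 = 2 * bx β 1 := by cases β <;> rfl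
          omega
        · change (2 * m.a.z + 0 * m.b.z + 0 * m.c.z) % 4 % 4 = bx γ 2 % 4
          have : bx γ 2 = 2 * bx γ 1 := by cases γ <;> rfl
          omega
      rw [h3]
      have h4 : ¬ (α = false ∧ β = false ∧ γ = false) := by
        rintro ⟨rfl, rfl, rfl⟩
        have h5 : (n : G) * z * (n : G)⁻¹ = 1 := by rw [h3]; exact e_zero
        rw [mul_inv_eq_one, mul_eq_left, h.z_eq] at h5
        exact absurd (hj _ h5).1 (by norm_num)
      obtain ⟨k, hk⟩ := w7_surj α β γ h4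
      exact ⟨k, by rw [← hk]⟩
    · have key : ∀ k : ℕ, e (φ cI) (φ cA) (φ cB) (w7 (Fin.ofNat 7 k)) ∈ MulAction.orbit ↥(NG φ) z := by
        intro k
        induction k with
        | zero =>
          have : e (φ cI) (φ cA) (φ cB) (w7 (Fin.ofNat 7 0)) = z := h.z_eq.symm
          rw [this]
          exact MulAction.mem_orbit_self z
        | succ k ih =>
          have h3 : Fin.ofNat 7 (k + 1) = Fin.ofNat 7 k + 1 := by
            apply Fin.ext
            simp [Fin.ofNat, Fin.val_add]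
          rw [h3, ← w7_app, ← hact.app hab]
          have h4 : g * e (φ cI) (φ cA) (φ cB) (w7 (Fin.ofNat 7 k)) * g⁻¹ =
              (⟨g, hg⟩ : ↥(NG φ)) • e (φ cI) (φ cA) (φ cB) (w7 (Fin.ofNat 7 k)) := rfl
          rw [h4]
          exact MulAction.mem_orbit_of_mem_orbit _ ih
      rintro ⟨n, rfl⟩
      have := key n
      rwa [show Fin.ofNat 7 (n : ℕ) = n from Fin.ext (Nat.mod_eq_of_lt n.2)] at this
  have h3 : Function.Injective fun n : Fin 7 => e (φ cI) (φ cA) (φ cB) (w7 n) := by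
    intro m n hmn
    exact w7_inj m n (hj.eq_of_lt hab (w7_lt m) (w7_lt n) hmn)
  rw [h2, ← Set.image_univ, Set.ncard_image_of_injective _ h3, Set.ncard_univ, Nat.card_eq_fintype_card,
    Fintype.card_fin]

theorem pm_zero : ∀ n < 24, M.beq (pm n) M.one = true → n = 0 := by decide

theorem pm_lt {n : ℕ} (_ : n < 24) : MLt (pm n) := by
  have key : ∀ w : List ℕ, MLt (evA LP w).m := by
    intro w
    cases w with
    | nil => exact ⟨⟨by decide, by decide, by decide⟩, ⟨by decide, by decide, by decide⟩,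
        ⟨by decide, by decide, by decide⟩⟩
    | cons l w => exact mul_lt _ _
  exact key _

theorem one_lt : MLt M.one := ⟨⟨by decide, by decide, by decide⟩, ⟨by decide, by decide, by decide⟩,
  ⟨by decide, by decide, by decide⟩⟩

/-- elements of the complement act faithfully -/
structure Compl (φ : ↥C0 →* G) (K : Subgroup G) : Prop where
  le : K ≤ NG φ
  disj : ∀ x ∈ K, x ∈ sub (abφ φ) → x = 1
  cover : ∀ n ∈ NG φ, ∃ v, ∃ k ∈ K, n = e (φ cI) (φ cA) (φ cB) v * k

theorem pwC_mem (n : ℕ) : ∀ (w : List ℕ), (w.map ktC).prod ∈ Subgroup.closure ({cK, cT} : Set ↥C0) := by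
  intro w
  induction w with
  | nil => exact Subgroup.one_mem _
  | cons l w ih =>
    rw [List.map_cons, List.prod_cons]
    refine Subgroup.mul_mem _ (Subgroup.subset_closure ?_) ih
    rw [ktC]; split_ifs <;> simp

theorem exists_compl [Finite G] (CFh : CF) (h : Ctx z φ) {g : G} (hg : g ∈ NG φ)
    (hact : Act (φ cI) (φ cA) (φ cB) g mR) : ∃ K, Compl φ K := by
  have hab := abφ φ
  have hj := h.injφ
  have hidx := index_cent h hg hact
  set N := NG φ with hN
  let A' : Subgroup ↥N := (sub hab).subgroupOf N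
  let U : Subgroup ↥N := (Subgroup.centralizer ({z} : Set G)).subgroupOf N
  have hA'n : A'.Normal := by
    constructor
    rintro ⟨x, hx⟩ hx' ⟨n, hn⟩
    exact conj_mem hn hx'
  have hA'c : IsMulCommutative A' := by
    constructor
    constructor
    rintro ⟨⟨x, hx⟩, hx'⟩ ⟨⟨y, hy⟩, hy'⟩
    exact Subtype.ext (Subtype.ext (sub_comm hab hx' hy'))
  let KC : Subgroup ↥C0 := Subgroup.closure {cK, cT}
  have hKC : ∀ c ∈ KC, ∃ n < 24, c = pwC n := by
    intro c hc
    have h1 : (c : Perm (Fin 100)) ∈ KT := by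
      have h2 : KC.map C0.subtype = KT := by
        rw [MonoidHom.map_closure, KT]
        congr 1
        ext x
        simp only [Set.mem_image, Set.mem_insert_iff, Set.mem_singleton_iff]
        constructor
        · rintro ⟨y, rfl | rfl, rfl⟩
          · exact Or.inl rfl
          · exact Or.inr rfl
        · rintro (rfl | rfl)
          · exact ⟨cK, Or.inl rfl, rfl⟩
          · exact ⟨cT, Or.inr rfl, rfl⟩
      rw [← h2]
      exact ⟨c, hc, rfl⟩
    obtain ⟨n, hn, hcn⟩ := mem_KT h1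
    exact ⟨n, hn, Subtype.ext (by rw [hcn, coe_pwC hn])⟩
  let P : Subgroup ↥N := (KC.map φ).subgroupOf N
  have hPact : ∀ n < 24, Act (φ cI) (φ cA) (φ cB) (φ (pwC n)) (pm n) := fun n hn => Act.map φ (act_pwC hn)
  have hPA : P ⊓ A' = ⊥ := by
    rw [eq_bot_iff]
    rintro ⟨x, hx⟩ ⟨⟨c, hc, hcx⟩, hxA⟩
    obtain ⟨n, hn, rfl⟩ := hKC c hc
    have hxA' : x ∈ sub hab := hxA
    change φ (pwC n) = x at hcx
    subst hcx
    obtain ⟨v, hv⟩ := hxA'
    have h1 := hPact n hn
    rw [hv] at h1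
    have h2 := Act.unique hab hj (pm_lt hn) one_lt h1 (act_e hab v)
    have h3 := pm_zero n hn (by rw [h2]; exact M.beq_self _)
    subst h3
    rw [Subgroup.mem_bot]
    exact Subtype.ext (by change φ (pwC 0) = 1; exact map_one φ)
  have hzA : z ∈ sub hab := by rw [h.z_eq]; exact e_mem _ _
  have hKA : A' ⊔ P = U := by
    apply le_antisymm
    · rw [sup_le_iff]
      constructor
      · rintro ⟨x, hx⟩ hxA
        have hxA' : x ∈ sub hab := hxA
        exact Subgroup.mem_centralizer_singleton_iff.2 (sub_comm hab hxA' hzA)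
      · rintro ⟨x, hx⟩ ⟨c, hc, hcx⟩
        change φ c = x at hcx
        subst hcx
        exact Subgroup.mem_centralizer_singleton_iff.2 (h.comm_z c)
    · rintro ⟨x, hx⟩ hxU
      have hxz : x * z = z * x := Subgroup.mem_centralizer_singleton_iff.1 hxU
      obtain ⟨c, rfl⟩ := h.cen x hxz
      have hcB : (c : Perm (Fin 100)) ∈ B0 := by
        apply CFh.norm _ c.2
        intro y hy
        obtain ⟨v, hv⟩ := mem_A0.1 hy
        have h1 : φ c * φ (e cI cA cB v) * (φ c)⁻¹ ∈ sub hab := conj_mem hx ⟨v, map_e φ v⟩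
        obtain ⟨w, hw⟩ := h1
        rw [← map_e, ← map_inv, ← map_mul, ← map_mul] at hw
        have h2 := congrArg Subtype.val (h.inj hw)
        rw [mem_A0]
        refine ⟨w, ?_⟩
        rw [← coe_e, ← h2, hv, ← coe_e]
        rfl
      obtain ⟨v, n, hn, hc⟩ := mem_B0 hcB
      have h2 : c = e cI cA cB v * pwC n := Subtype.ext (by
        rw [Subgroup.coe_mul, coe_e, coe_pwC hn, hc])
      have h3 : (φ (e cI cA cB v)) ∈ N := sub_le_NG ⟨v, map_e φ v⟩
      have h4 : (φ (pwC n)) ∈ N := mem_NG fun y hy => Act.norm hab (hPact n hn) y hy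
      have h5 : (⟨φ c, hx⟩ : ↥N) = ⟨_, h3⟩ * ⟨_, h4⟩ := Subtype.ext (by
        change φ c = φ (e cI cA cB v) * φ (pwC n)
        rw [← map_mul, ← h2])
      rw [h5]
      refine Subgroup.mul_mem _ (Subgroup.mem_sup_left ?_) (Subgroup.mem_sup_right ?_)
      · exact ⟨v, map_e φ v⟩
      · exact ⟨pwC n, pwC_mem n _, rfl⟩
  have hpow : Function.Bijective fun k : A' => k ^ U.index := by
    rw [hidx]
    have h1 : ∀ k : A', k ^ 8 = 1 := by
      rintro ⟨⟨x, hx⟩, hxA⟩
      obtain ⟨v, hv⟩ : x ∈ sub hab := hxA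
      have h2 : x ^ 8 = 1 := by
        obtain ⟨a1, a2, a3⟩ := v
        rw [hv, e_mk_pow hab, ← e_mod hab]
        have h3 : ∀ n : ℕ, (8 * n) % 4 = 0 := by intro n; omega
        rw [h3, h3, h3, e_zero]
      exact Subtype.ext (Subtype.ext h2)
    have h2 : ∀ k : A', (k ^ 7) ^ 7 = k := by
      intro k
      rw [← pow_mul]
      calc k ^ (7 * 7) = (k ^ 8) ^ 6 * k := by rw [← pow_mul, ← pow_succ]
        _ = k := by rw [h1, one_pow, one_mul]
    exact ⟨Function.LeftInverse.injective (g := fun k : A' => k ^ 7) h2,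
      Function.RightInverse.surjective (g := fun k : A' => k ^ 7) h2⟩
  obtain ⟨H, hH⟩ := Cfsg.Agent.Solvable.Gaschutz.exists_complement A' U hpow P hPA hKA
  refine ⟨H.map N.subtype, ?_, ?_, ?_⟩
  · rintro _ ⟨x, -, rfl⟩
    exact x.2
  · rintro _ ⟨x, hx, rfl⟩ hxA
    have h1 : x ∈ A' ⊓ H := ⟨hxA, hx⟩
    rw [hH.disjoint.eq_bot, Subgroup.mem_bot] at h1
    rw [h1]; rfl
  · intro n hn
    have h1 : (⟨n, hn⟩ : ↥N) ∈ A' ⊔ H := by rw [hH.sup_eq_top]; exact Subgroup.mem_top _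
    obtain ⟨y, hy, w, hw, hyw⟩ := Subgroup.mem_sup_of_normal_left.1 h1
    obtain ⟨v, hv⟩ : (y : G) ∈ sub hab := hy
    refine ⟨v, w, ⟨w, hw, rfl⟩, ?_⟩
    rw [← hv]
    exact (congrArg Subtype.val hyw).symm

end Cfsg.Agent.HSType.NormC
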