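import Cfsg.Agent.HSType.Model

/-!
# Homomorphisms out of the model `SM` (S1777, helper577)

`lift`: five elements of a group satisfying the relations of `SM` define a homomorphism from `SM`.
-/

set_option autoImplicit false

namespace Cfsg.Agent.HSType.SylLift

open Cfsg.Agent.HSType.Model

/-- the relations of `SM` -/
structure Rel {H : Type*} [Group H] (b1 b2 b3 r s : H) : Prop where
  c12 : b1 * b2 = b2 * b1
  c13 : b1 * b3 = b3 * b1
  c23 : b2 * b3 = b3 * b2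
  o1 : b1 ^ 4 = 1
  o2 : b2 ^ 4 = 1
  o3 : b3 ^ 4 = 1
  r1 : r * b1 = b2 ^ 3 * r
  r2 : r * b2 = b1 * r
  r3 : r * b3 = b1 ^ 3 * b3 * r
  s1 : s * b1 = b2 * s
  s2 : s * b2 = b1 * s
  s3 : s * b3 = b3 ^ 3 * s
  r4 : r ^ 4 = 1
  ss : s ^ 2 = 1
  sr : s * r = r ^ 3 * s

variable {H : Type*} [Group H] {b1 b2 b3 r s : H}

/-- the element of the abelian part with code `v` -/
def B (b1 b2 b3 : H) (v : ℕ) : H := b1 ^ (v % 4) * b2 ^ (v / 4 % 4) * b3 ^ (v / 16 % 4)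

/-- the element of the dihedral part with code `d` -/
def D (r s : H) (d : ℕ) : H := r ^ (d % 4) * s ^ (d / 4 % 2)

theorem beq_iff {a b : ℕ} (h : Nat.beq a b = true) : a = b := Nat.eq_of_beq_eq_true h

theorem addV_digits : ∀ v < 64, ∀ w < 64, addV v w % 4 = (v % 4 + w % 4) % 4 ∧
    addV v w / 4 % 4 = (v / 4 % 4 + w / 4 % 4) % 4 ∧ addV v w / 16 % 4 = (v / 16 % 4 + w / 16 % 4) % 4 := by
  have h : allLT 64 (fun v => allLT 64 (fun w => (Nat.beq (addV v w % 4) ((v % 4 + w % 4) % 4) &&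
      Nat.beq (addV v w / 4 % 4) ((v / 4 % 4 + w / 4 % 4) % 4) &&
      Nat.beq (addV v w / 16 % 4) ((v / 16 % 4 + w / 16 % 4) % 4)))) = true := by decide +kernel
  intro v hv w hw
  have h1 := allLT_spec (allLT_spec h v hv) w hw
  simp only [Bool.and_eq_true] at h1
  exact ⟨eq_of_beq h1.1.1, eq_of_beq h1.1.2, eq_of_beq h1.2⟩

theorem act_r_digits : ∀ w < 64, act 1 w % 4 = (w / 4 % 4 + 3 * (w / 16 % 4)) % 4 ∧
    act 1 w / 4 % 4 = (3 * (w % 4)) % 4 ∧ act 1 w / 16 % 4 = w / 16 % 4 := by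
  have h : allLT 64 (fun w => (Nat.beq (act 1 w % 4) ((w / 4 % 4 + 3 * (w / 16 % 4)) % 4) &&
      Nat.beq (act 1 w / 4 % 4) ((3 * (w % 4)) % 4) &&
      Nat.beq (act 1 w / 16 % 4) (w / 16 % 4))) = true := by decide +kernel
  intro w hw
  have h1 := allLT_spec h w hw
  simp only [Bool.and_eq_true] at h1
  exact ⟨eq_of_beq h1.1.1, eq_of_beq h1.1.2, eq_of_beq h1.2⟩

theorem act_s_digits : ∀ w < 64, act 4 w % 4 = w / 4 % 4 ∧
    act 4 w / 4 % 4 = w % 4 ∧ act 4 w / 16 % 4 = (3 * (w / 16 % 4)) % 4 := by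
  have h : allLT 64 (fun w => (Nat.beq (act 4 w % 4) (w / 4 % 4) &&
      Nat.beq (act 4 w / 4 % 4) (w % 4) &&
      Nat.beq (act 4 w / 16 % 4) ((3 * (w / 16 % 4)) % 4))) = true := by decide +kernel
  intro w hw
  have h1 := allLT_spec h w hw
  simp only [Bool.and_eq_true] at h1
  exact ⟨eq_of_beq h1.1.1, eq_of_beq h1.1.2, eq_of_beq h1.2⟩

namespace Rel

theorem B_add (h : Rel b1 b2 b3 r s) {v w : ℕ} (hv : v < 64) (hw : w < 64) :
    B b1 b2 b3 (addV v w) = B b1 b2 b3 v * B b1 b2 b3 w := by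
  obtain ⟨h1, h2, h3⟩ := addV_digits v hv w hw
  have k12 : ∀ i j : ℕ, b2 ^ i * b1 ^ j = b1 ^ j * b2 ^ i := fun i j =>
    (((show Commute b1 b2 from h.c12).pow_pow j i).eq).symm
  have k13 : ∀ i j : ℕ, b3 ^ i * b1 ^ j = b1 ^ j * b3 ^ i := fun i j =>
    (((show Commute b1 b3 from h.c13).pow_pow j i).eq).symm
  have k23 : ∀ i j : ℕ, b3 ^ i * b2 ^ j = b2 ^ j * b3 ^ i := fun i j =>
    (((show Commute b2 b3 from h.c23).pow_pow j i).eq).symm
  unfold B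
  rw [h1, h2, h3, ← pow_eq_pow_mod _ h.o1, ← pow_eq_pow_mod _ h.o2, ← pow_eq_pow_mod _ h.o3, pow_add, pow_add,
    pow_add]
  generalize v % 4 = i1
  generalize v / 4 % 4 = i2
  generalize v / 16 % 4 = i3
  generalize w % 4 = j1
  generalize w / 4 % 4 = j2
  generalize w / 16 % 4 = j3
  calc b1 ^ i1 * b1 ^ j1 * (b2 ^ i2 * b2 ^ j2) * (b3 ^ i3 * b3 ^ j3)
      = b1 ^ i1 * (b1 ^ j1 * b2 ^ i2) * (b2 ^ j2 * b3 ^ i3) * b3 ^ j3 := by group
    _ = b1 ^ i1 * (b2 ^ i2 * b1 ^ j1) * (b3 ^ i3 * b2 ^ j2) * b3 ^ j3 := by rw [k12, k23]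
    _ = b1 ^ i1 * b2 ^ i2 * (b1 ^ j1 * b3 ^ i3) * b2 ^ j2 * b3 ^ j3 := by group
    _ = b1 ^ i1 * b2 ^ i2 * (b3 ^ i3 * b1 ^ j1) * b2 ^ j2 * b3 ^ j3 := by rw [k13]
    _ = b1 ^ i1 * b2 ^ i2 * b3 ^ i3 * (b1 ^ j1 * b2 ^ j2 * b3 ^ j3) := by group

theorem r_B (h : Rel b1 b2 b3 r s) {w : ℕ} (hw : w < 64) :
    r * B b1 b2 b3 w = B b1 b2 b3 (act 1 w) * r := by
  obtain ⟨h1, h2, h3⟩ := act_r_digits w hw
  have k12 : ∀ i j : ℕ, b2 ^ i * b1 ^ j = b1 ^ j * b2 ^ i := fun i j =>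
    (((show Commute b1 b2 from h.c12).pow_pow j i).eq).symm
  unfold B
  rw [h1, h2, h3]
  generalize w % 4 = j1
  generalize w / 4 % 4 = j2
  generalize w / 16 % 4 = j3
  rw [← pow_eq_pow_mod _ h.o1, ← pow_eq_pow_mod _ h.o2]
  have e1 : ∀ j : ℕ, r * b1 ^ j = b2 ^ (3 * j) * r := by
    intro j
    have := (show SemiconjBy r b1 (b2 ^ 3) from h.r1).pow_right j
    rw [pow_mul]; exact this.eq
  have e2 : ∀ j : ℕ, r * b2 ^ j = b1 ^ j * r := fun j => ((show SemiconjBy r b2 b1 from h.r2).pow_right j).eq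
  have e3 : ∀ j : ℕ, r * b3 ^ j = b1 ^ (3 * j) * b3 ^ j * r := by
    intro j
    have := (show SemiconjBy r b3 (b1 ^ 3 * b3) from h.r3).pow_right j
    rw [(((show Commute b1 b3 from h.c13).pow_left 3).mul_pow j)] at this
    rw [pow_mul]; exact this.eq
  calc r * (b1 ^ j1 * b2 ^ j2 * b3 ^ j3) = (r * b1 ^ j1) * b2 ^ j2 * b3 ^ j3 := by group
    _ = b2 ^ (3 * j1) * (r * b2 ^ j2) * b3 ^ j3 := by rw [e1]; group
    _ = b2 ^ (3 * j1) * b1 ^ j2 * (r * b3 ^ j3) := by rw [e2]; group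
    _ = (b2 ^ (3 * j1) * b1 ^ (j2 + 3 * j3)) * b3 ^ j3 * r := by rw [e3, pow_add]; group
    _ = b1 ^ (j2 + 3 * j3) * b2 ^ (3 * j1) * b3 ^ j3 * r := by rw [k12]

theorem s_B (h : Rel b1 b2 b3 r s) {w : ℕ} (hw : w < 64) :
    s * B b1 b2 b3 w = B b1 b2 b3 (act 4 w) * s := by
  obtain ⟨h1, h2, h3⟩ := act_s_digits w hw
  have k12 : ∀ i j : ℕ, b2 ^ i * b1 ^ j = b1 ^ j * b2 ^ i := fun i j =>
    (((show Commute b1 b2 from h.c12).pow_pow j i).eq).symm
  unfold B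
  rw [h1, h2, h3]
  generalize w % 4 = j1
  generalize w / 4 % 4 = j2
  generalize w / 16 % 4 = j3
  rw [← pow_eq_pow_mod _ h.o3]
  have e1 : ∀ j : ℕ, s * b1 ^ j = b2 ^ j * s := fun j => ((show SemiconjBy s b1 b2 from h.s1).pow_right j).eq
  have e2 : ∀ j : ℕ, s * b2 ^ j = b1 ^ j * s := fun j => ((show SemiconjBy s b2 b1 from h.s2).pow_right j).eq
  have e3 : ∀ j : ℕ, s * b3 ^ j = b3 ^ (3 * j) * s := by
    intro j
    have := (show SemiconjBy s b3 (b3 ^ 3) from h.s3).pow_right j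
    rw [pow_mul]; exact this.eq
  calc s * (b1 ^ j1 * b2 ^ j2 * b3 ^ j3) = (s * b1 ^ j1) * b2 ^ j2 * b3 ^ j3 := by group
    _ = b2 ^ j1 * (s * b2 ^ j2) * b3 ^ j3 := by rw [e1]; group
    _ = (b2 ^ j1 * b1 ^ j2) * (s * b3 ^ j3) := by rw [e2]; group
    _ = b1 ^ j2 * b2 ^ j1 * b3 ^ (3 * j3) * s := by rw [e3, k12]; group

theorem s_r (h : Rel b1 b2 b3 r s) (k : ℕ) : s * r ^ k = r ^ (3 * k) * s := by
  have := (show SemiconjBy s r (r ^ 3) from h.sr).pow_right k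
  rw [pow_mul]; exact this.eq

theorem D_mul (h : Rel b1 b2 b3 r s) {d e : ℕ} (hd : d < 8) (he : e < 8) :
    D r s (dmul d e) = D r s d * D r s e := by
  have key : ∀ d < 8, ∀ e < 8, (d / 4 % 2 = 0 → dmul d e % 4 = (d % 4 + e % 4) % 4) ∧
      (d / 4 % 2 = 1 → dmul d e % 4 = (d % 4 + 3 * (e % 4)) % 4) ∧
      dmul d e / 4 % 2 = (d / 4 % 2 + e / 4 % 2) % 2 := by
    decide +kernel
  obtain ⟨h1, h2, h3⟩ := key d hd e he
  unfold D
  rw [h3, ← pow_eq_pow_mod _ h.ss]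
  rcases Nat.mod_two_eq_zero_or_one (d / 4) with h4 | h4
  · rw [h1 h4, ← pow_eq_pow_mod _ h.r4, h4]
    generalize d % 4 = i
    generalize e % 4 = k
    generalize e / 4 % 2 = l
    rw [pow_zero, mul_one, pow_add, zero_add, mul_assoc]
  · rw [h2 h4, ← pow_eq_pow_mod _ h.r4, h4]
    generalize d % 4 = i
    generalize e % 4 = k
    generalize e / 4 % 2 = l
    calc r ^ (i + 3 * k) * s ^ (1 + l) = r ^ i * (r ^ (3 * k) * s) * s ^ l := by
          rw [pow_add, pow_add, pow_one]; group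
      _ = r ^ i * (s * r ^ k) * s ^ l := by rw [h.s_r]
      _ = r ^ i * s ^ 1 * (r ^ k * s ^ l) := by rw [pow_one]; group

theorem rpow_B (h : Rel b1 b2 b3 r s) : ∀ i < 4, ∀ w < 64, r ^ i * B b1 b2 b3 w = B b1 b2 b3 (act i w) * r ^ i := by
  have a0 : ∀ w < 64, act 0 w = w := by
    have h : allLT 64 (fun w => Nat.beq (act 0 w) w) = true := by decide +kernel
    exact fun w hw => eq_of_beq (allLT_spec h w hw)
  have aS : ∀ i < 3, ∀ w < 64, act (i + 1) w = act 1 (act i w) := by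
    have h : allLT 3 (fun i => allLT 64 (fun w => Nat.beq (act (i + 1) w) (act 1 (act i w)))) = true := by
      decide +kernel
    exact fun i hi w hw => eq_of_beq (allLT_spec (allLT_spec h i hi) w hw)
  intro i
  induction i with
  | zero => intro _ w hw; rw [a0 w hw, pow_zero, one_mul, mul_one]
  | succ i ih =>
    intro hi w hw
    rw [aS i (by omega) w hw, pow_succ', mul_assoc, ih (by omega) w hw, ← mul_assoc, h.r_B (act_lt i w), mul_assoc]

theorem D_B (h : Rel b1 b2 b3 r s) {d w : ℕ} (hd : d < 8) (hw : w < 64) :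
    D r s d * B b1 b2 b3 w = B b1 b2 b3 (act d w) * D r s d := by
  have a1 : ∀ d < 8, ∀ w < 64, d / 4 % 2 = 0 → act d w = act (d % 4) w := by
    have h : allLT 8 (fun d => allLT 64 (fun w => (!(Nat.beq (d / 4 % 2) 0)) || Nat.beq (act d w) (act (d % 4) w)))
      = true := by decide +kernel
    intro d hd w hw h0
    have h1 := allLT_spec (allLT_spec h d hd) w hw
    rw [h0] at h1
    exact Model.eq_of_beq (by simpa using h1)
  have a2 : ∀ d < 8, ∀ w < 64, d / 4 % 2 = 1 → act d w = act (d % 4) (act 4 w) := by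
    have h : allLT 8 (fun d => allLT 64 (fun w => (!(Nat.beq (d / 4 % 2) 1)) ||
      Nat.beq (act d w) (act (d % 4) (act 4 w)))) = true := by decide +kernel
    intro d hd w hw h0
    have h1 := allLT_spec (allLT_spec h d hd) w hw
    rw [h0] at h1
    exact Model.eq_of_beq (by simpa using h1)
  unfold D
  rcases Nat.mod_two_eq_zero_or_one (d / 4) with h4 | h4
  · rw [a1 d hd w hw h4, h4, pow_zero, mul_one]
    exact h.rpow_B _ (Nat.mod_lt _ (by norm_num)) w hw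
  · rw [a2 d hd w hw h4, h4, pow_one, mul_assoc, h.s_B hw, ← mul_assoc,
      h.rpow_B _ (Nat.mod_lt _ (by norm_num)) _ (act_lt 4 w), mul_assoc]

/-- the homomorphism `SM → H` -/
def lift (h : Rel b1 b2 b3 r s) : SM →* H :=
  MonoidHom.mk' (fun a => B b1 b2 b3 (Nat.land a.1 63) * D r s (Nat.shiftRight a.1 6)) (by
    intro a b
    have e1 := split_lt (y := dmul (Nat.shiftRight a.1 6) (Nat.shiftRight b.1 6))
      (addV_lt (Nat.land a.1 63) (and63_lt a.1) (act (Nat.shiftRight a.1 6) (Nat.land b.1 63)) (act_lt _ _))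
    have e1a : Nat.land (a * b).1 63 = addV (Nat.land a.1 63) (act (Nat.shiftRight a.1 6) (Nat.land b.1 63)) := e1.1
    have e1b : Nat.shiftRight (a * b).1 6 = dmul (Nat.shiftRight a.1 6) (Nat.shiftRight b.1 6) := e1.2
    show B b1 b2 b3 (Nat.land (a * b).1 63) * D r s (Nat.shiftRight (a * b).1 6) = _
    rw [e1a, e1b, h.B_add (and63_lt _) (act_lt _ _), h.D_mul (shift_lt a.2) (shift_lt b.2), mul_assoc,
      ← mul_assoc (B b1 b2 b3 (act _ _)), ← h.D_B (shift_lt a.2) (and63_lt _)]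
    simp only [mul_assoc])

theorem lift_apply (h : Rel b1 b2 b3 r s) (a : SM) :
    h.lift a = B b1 b2 b3 (Nat.land a.1 63) * D r s (Nat.shiftRight a.1 6) := rfl

end Rel

end Cfsg.Agent.HSType.SylLift
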