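import Cfsg.Agent.HSType.UniqC

/-!
From letters `q₀, …, q₄, b, f, r` of the centraliser of `z` to the embedding `C0 → G`.
-/

set_option autoImplicit false
set_option maxRecDepth 100000
set_option linter.unusedSimpArgs false

namespace Cfsg.Agent.HSType.Uniq

open Cfsg.Agent.SporadicRecognition.CosetCert
open Cfsg.Agent.HSType.Letters Cfsg.Agent.HSType.UniqB Cfsg.Agent.HSType.UniqC Equiv

/-- The relations of the centraliser `(4 ∘ 2^{1+4}).S₅`. -/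
structure Rels {G : Type*} [Group G] (q0 q1 q2 q3 q4 z b f r : G) : Prop where
  z2 : z * z = 1
  s0 : q0 * q0 = 1
  s1 : q1 * q1 = 1
  s2 : q2 * q2 = 1
  s3 : q3 * q3 = 1
  s4 : q4 * q4 = 1
  z0 : z * q0 = q0 * z
  z1 : z * q1 = q1 * z
  z2' : z * q2 = q2 * z
  z3 : z * q3 = q3 * z
  z4 : z * q4 = q4 * z
  zb : z * b = b * z
  zf : z * f = f * z
  zr : z * r = r * z
  c02 : q0 * q2 = q2 * q0
  c13 : q1 * q3 = q3 * q1
  c24 : q2 * q4 = q4 * q2
  c30 : q3 * q0 = q0 * q3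
  c41 : q4 * q1 = q1 * q4
  a01 : q0 * q1 = q1 * q0 * z
  a12 : q1 * q2 = q2 * q1 * z
  a23 : q2 * q3 = q3 * q2 * z
  a34 : q3 * q4 = q4 * q3 * z
  a40 : q4 * q0 = q0 * q4 * z
  b0 : b⁻¹ * q0 * b = q1
  b1 : b⁻¹ * q1 * b = q2
  b2 : b⁻¹ * q2 * b = q3
  b3 : b⁻¹ * q3 * b = q4
  b4 : b⁻¹ * q4 * b = q0
  f0 : f⁻¹ * q0 * f = q2 * q3 * (q0 * q1 * q2 * q3 * q4)
  r0 : r⁻¹ * q0 * r = q0 * q1 * q2
  r1 : r⁻¹ * q1 * r = q4 * z
  r2 : r⁻¹ * q2 * r = q1 * q2 * q3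
  r3 : r⁻¹ * q3 * r = q2 * q4
  r4 : r⁻¹ * q4 * r = q1 * q4 * z
  b5 : b * b * b * b * b = 1
  f4 : f * f * f * f = z
  rr : r * r * r = 1
  bf : f⁻¹ * b * f = b * b
  rf2 : f⁻¹ * f⁻¹ * r * f * f = r⁻¹
  bbr : b * b * r * (b * b * r) = z
  br3 : b⁻¹ * r * (b⁻¹ * r) * (b⁻¹ * r) = z
  rf : f⁻¹ * r * f = r * b * r * z
  bfr : b⁻¹ * f * r * (b⁻¹ * f * r) = 1

variable {G : Type*} [Group G] {q0 q1 q2 q3 q4 z b f r : G}

/-- the letters as a function -/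
def lt (q0 q1 q2 q3 q4 z b f r : G) (n : ℕ) : G :=
  match n with
  | 0 => q0 | 1 => q1 | 2 => q2 | 3 => q3 | 4 => q4 | 5 => z | 6 => b | 7 => b⁻¹ | 8 => f | 9 => f⁻¹ | 10 => r
  | 11 => r⁻¹ | _ => 1

theorem lt_inv (R : Rels q0 q1 q2 q3 q4 z b f r) (x : ℕ) (hx : x < 12) :
    lt q0 q1 q2 q3 q4 z b f r x * lt q0 q1 q2 q3 q4 z b f r (invc x) = 1 := by
  match x with
  | 0 => exact R.s0
  | 1 => exact R.s1
  | 2 => exact R.s2
  | 3 => exact R.s3
  | 4 => exact R.s4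
  | 5 => exact R.z2
  | 6 => exact mul_inv_cancel b
  | 7 => exact inv_mul_cancel b
  | 8 => exact mul_inv_cancel f
  | 9 => exact inv_mul_cancel f
  | 10 => exact mul_inv_cancel r
  | 11 => exact inv_mul_cancel r
  | n + 12 => omega

theorem two {x : G} (h : x * x = 1) (y : G) : x * (x * y) = y := by rw [← mul_assoc, h, one_mul]

theorem com {x y : G} (h : x * y = y * x) (t : G) : x * (y * t) = y * (x * t) := by
  rw [← mul_assoc, h, mul_assoc]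

theorem acom {x y z : G} (h : x * y = y * x * z) (hz : z * x = x * z) (hz' : z * y = y * z) (hzz : z * z = 1) :
    y * x = z * (x * y) := by
  rw [h, ← mul_assoc z (y * x) z]
  have h1 : z * (y * x) = y * x * z := by rw [← mul_assoc, hz', mul_assoc, hz, ← mul_assoc]
  rw [h1, mul_assoc, hzz, mul_one]

theorem acom' {x y z : G} (h : x * y = y * x * z) (hz : z * x = x * z) (hz' : z * y = y * z) (hzz : z * z = 1)
    (t : G) : y * (x * t) = z * (x * (y * t)) := by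
  rw [← mul_assoc, acom h hz hz' hzz, mul_assoc, mul_assoc]

/-- relator of a conjugation -/
theorem cj {c x y w : G} (h : c⁻¹ * x * c = y) (hy : y * w = 1) : c⁻¹ * (x * (c * w)) = 1 := by
  rw [← hy, ← h]; simp only [mul_assoc]

/-- relator of a commutation with an inverse -/
theorem ci {x c : G} (h : x * c = c * x) (hx : x * x = 1) : x * (c * (x * c⁻¹)) = 1 := by
  rw [← mul_assoc c, ← h, mul_assoc, mul_inv_cancel, mul_one, hx]

theorem a40' (R : Rels q0 q1 q2 q3 q4 z b f r) : q4 * q0 = z * (q0 * q4) := by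
  rw [R.a40, ← mul_assoc z, R.z0, mul_assoc q0 z, R.z4, mul_assoc]

theorem a40'' (R : Rels q0 q1 q2 q3 q4 z b f r) (t : G) : q4 * (q0 * t) = z * (q0 * (q4 * t)) := by
  rw [← mul_assoc, a40' R, mul_assoc, mul_assoc]

/-- normal forms in `Q` -/
theorem nf (R : Rels q0 q1 q2 q3 q4 z b f r) :
    (z * z = 1) ∧
    (∀ t, z * (z * t) = t) ∧
    (q0 * q0 = 1) ∧
    (∀ t, q0 * (q0 * t) = t) ∧
    (q1 * q1 = 1) ∧
    (∀ t, q1 * (q1 * t) = t) ∧
    (q2 * q2 = 1) ∧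
    (∀ t, q2 * (q2 * t) = t) ∧
    (q3 * q3 = 1) ∧
    (∀ t, q3 * (q3 * t) = t) ∧
    (q4 * q4 = 1) ∧
    (∀ t, q4 * (q4 * t) = t) ∧
    (q0 * z = z * q0) ∧
    (∀ t, q0 * (z * t) = z * (q0 * t)) ∧
    (q1 * z = z * q1) ∧
    (∀ t, q1 * (z * t) = z * (q1 * t)) ∧
    (q2 * z = z * q2) ∧
    (∀ t, q2 * (z * t) = z * (q2 * t)) ∧
    (q3 * z = z * q3) ∧
    (∀ t, q3 * (z * t) = z * (q3 * t)) ∧
    (q4 * z = z * q4) ∧
    (∀ t, q4 * (z * t) = z * (q4 * t)) ∧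
    (q2 * q0 = q0 * q2) ∧
    (∀ t, q2 * (q0 * t) = q0 * (q2 * t)) ∧
    (q3 * q1 = q1 * q3) ∧
    (∀ t, q3 * (q1 * t) = q1 * (q3 * t)) ∧
    (q4 * q2 = q2 * q4) ∧
    (∀ t, q4 * (q2 * t) = q2 * (q4 * t)) ∧
    (q3 * q0 = q0 * q3) ∧
    (∀ t, q3 * (q0 * t) = q0 * (q3 * t)) ∧
    (q4 * q1 = q1 * q4) ∧
    (∀ t, q4 * (q1 * t) = q1 * (q4 * t)) ∧
    (q1 * q0 = z * (q0 * q1)) ∧
    (∀ t, q1 * (q0 * t) = z * (q0 * (q1 * t))) ∧
    (q2 * q1 = z * (q1 * q2)) ∧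
    (∀ t, q2 * (q1 * t) = z * (q1 * (q2 * t))) ∧
    (q3 * q2 = z * (q2 * q3)) ∧
    (∀ t, q3 * (q2 * t) = z * (q2 * (q3 * t))) ∧
    (q4 * q3 = z * (q3 * q4)) ∧
    (∀ t, q4 * (q3 * t) = z * (q3 * (q4 * t))) ∧
    (q4 * q0 = z * (q0 * q4)) ∧
    (∀ t, q4 * (q0 * t) = z * (q0 * (q4 * t))) :=
  ⟨R.z2, two R.z2, R.s0, two R.s0, R.s1, two R.s1, R.s2, two R.s2, R.s3, two R.s3, R.s4, two R.s4, R.z0.symm, com R.z0.symm, R.z1.symm, com R.z1.symm, R.z2'.symm, com R.z2'.symm, R.z3.symm, com R.z3.symm, R.z4.symm, com R.z4.symm, R.c02.symm, com R.c02.symm, R.c13.symm, com R.c13.symm, R.c24.symm, com R.c24.symm, R.c30, com R.c30, R.c41, com R.c41, acom R.a01 R.z0 R.z1 R.z2, acom' R.a01 R.z0 R.z1 R.z2, acom R.a12 R.z1 R.z2' R.z2, acom' R.a12 R.z1 R.z2' R.z2, acom R.a23 R.z2' R.z3 R.z2, acom' R.a23 R.z2' R.z3 R.z2, acom R.a34 R.z3 R.z4 R.z2, acom' R.a34 R.z3 R.z4 R.z2, a40' R, a40'' R⟩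

theorem qn (R : Rels q0 q1 q2 q3 q4 z b f r) :
    q0 * q1 * q2 * q3 * q4 * (q0 * q1 * q2 * q3 * q4) = z := by
  simp only [nf R, mul_assoc, mul_one, one_mul]

theorem u_inv (R : Rels q0 q1 q2 q3 q4 z b f r) :
    (q0 * q1 * q2 * q3 * q4)⁻¹ = q0 * q1 * q2 * q3 * q4 * z := by
  apply inv_eq_of_mul_eq_one_right
  rw [← mul_assoc, qn R, R.z2]

theorem zi (R : Rels q0 q1 q2 q3 q4 z b f r) : z⁻¹ = z := inv_eq_of_mul_eq_one_right R.z2

theorem lt_rels (R : Rels q0 q1 q2 q3 q4 z b f r) : ∀ w ∈ UniqEData.rels, ev (lt q0 q1 q2 q3 q4 z b f r) w = 1 := by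
  intro w hw
  simp only [UniqEData.rels, List.mem_cons, List.not_mem_nil, or_false] at hw
  rcases hw with h | h | h | h | h | h | h | h | h | h | h | h | h | h | h | h | h | h | h | h | h | h | h | h | h |
    h | h | h | h | h | h | h | h | h | h | h | h | h
  all_goals rw [h]; clear h; simp only [ev_cons, ev_nil, lt, mul_one]
  all_goals first
    | (simp only [nf R, mul_assoc, mul_one, one_mul]; done)
    | exact ci R.zb R.z2
    | exact ci R.zf R.z2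
    | exact ci R.zr R.z2
    | exact cj R.b0 R.s1
    | exact cj R.b1 R.s2
    | exact cj R.b2 R.s3
    | exact cj R.b3 R.s4
    | exact cj R.b4 R.s0
    | exact cj R.f0 (by simp only [nf R, mul_assoc, mul_one, one_mul])
    | exact cj R.r0 (by simp only [nf R, mul_assoc, mul_one, one_mul])
    | exact cj R.r1 (by simp only [nf R, mul_assoc, mul_one, one_mul])
    | exact cj R.r2 (by simp only [nf R, mul_assoc, mul_one, one_mul])
    | exact cj R.r3 (by simp only [nf R, mul_assoc, mul_one, one_mul])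
    | exact cj R.r4 (by simp only [nf R, mul_assoc, mul_one, one_mul])
    | exact (mul_assoc _ _ _).symm.trans R.rr
    | skip
  · have h := R.b5; simpa only [mul_assoc] using h
  · have h : f * f * f * f * z = 1 := by rw [R.f4, R.z2]
    simpa only [mul_assoc] using h
  · have h : f⁻¹ * b * f * (b * (b * b)) = 1 := by
      rw [R.bf]; have h := R.b5; simpa only [mul_assoc] using h
    simpa only [mul_assoc] using h
  · have h : f⁻¹ * f⁻¹ * r * f * f * r = 1 := by rw [R.rf2, inv_mul_cancel]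
    simpa only [mul_assoc] using h
  · have h := R.bfr; simpa only [mul_assoc] using h
  · have h : b * b * r * (b * b * r) * z = 1 := by rw [R.bbr, R.z2]
    simpa only [mul_assoc] using h
  · have h : b⁻¹ * r * (b⁻¹ * r) * (b⁻¹ * r) * z = 1 := by rw [R.br3, R.z2]
    simpa only [mul_assoc] using h
  · have h : f⁻¹ * r * f * (r * b * r * z)⁻¹ = 1 := by rw [R.rf, mul_inv_cancel]
    rw [mul_inv_rev, zi R, mul_inv_rev, mul_inv_rev] at h
    have hz : ∀ x, z * x = x * z → z * x⁻¹ = x⁻¹ * z := fun x hx => by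
      rw [eq_comm, inv_mul_eq_iff_eq_mul, ← mul_assoc, ← hx, mul_assoc, mul_inv_cancel, mul_one]
    rw [← mul_assoc z, hz r R.zr, mul_assoc r⁻¹ z, ← mul_assoc z, hz b R.zb, mul_assoc b⁻¹ z, hz r R.zr] at h
    simpa only [mul_assoc] using h

/-- restriction of the relations to a subgroup -/
theorem Rels.sub (R : Rels q0 q1 q2 q3 q4 z b f r) {C : Subgroup G} (h0 : q0 ∈ C) (h1 : q1 ∈ C) (h2 : q2 ∈ C)
    (h3 : q3 ∈ C) (h4 : q4 ∈ C) (hz : z ∈ C) (hb : b ∈ C) (hf : f ∈ C) (hr : r ∈ C) :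
    Rels (⟨q0, h0⟩ : ↥C) ⟨q1, h1⟩ ⟨q2, h2⟩ ⟨q3, h3⟩ ⟨q4, h4⟩ ⟨z, hz⟩ ⟨b, hb⟩ ⟨f, hf⟩ ⟨r, hr⟩ where
  z2 := Subtype.ext R.z2
  s0 := Subtype.ext R.s0
  s1 := Subtype.ext R.s1
  s2 := Subtype.ext R.s2
  s3 := Subtype.ext R.s3
  s4 := Subtype.ext R.s4
  z0 := Subtype.ext R.z0
  z1 := Subtype.ext R.z1
  z2' := Subtype.ext R.z2'
  z3 := Subtype.ext R.z3
  z4 := Subtype.ext R.z4
  zb := Subtype.ext R.zb
  zf := Subtype.ext R.zf
  zr := Subtype.ext R.zr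
  c02 := Subtype.ext R.c02
  c13 := Subtype.ext R.c13
  c24 := Subtype.ext R.c24
  c30 := Subtype.ext R.c30
  c41 := Subtype.ext R.c41
  a01 := Subtype.ext R.a01
  a12 := Subtype.ext R.a12
  a23 := Subtype.ext R.a23
  a34 := Subtype.ext R.a34
  a40 := Subtype.ext R.a40
  b0 := Subtype.ext R.b0
  b1 := Subtype.ext R.b1
  b2 := Subtype.ext R.b2
  b3 := Subtype.ext R.b3
  b4 := Subtype.ext R.b4
  f0 := Subtype.ext R.f0
  r0 := Subtype.ext R.r0
  r1 := Subtype.ext R.r1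
  r2 := Subtype.ext R.r2
  r3 := Subtype.ext R.r3
  r4 := Subtype.ext R.r4
  b5 := Subtype.ext R.b5
  f4 := Subtype.ext R.f4
  rr := Subtype.ext R.rr
  bf := Subtype.ext R.bf
  rf2 := Subtype.ext R.rf2
  bbr := Subtype.ext R.bbr
  br3 := Subtype.ext R.br3
  rf := Subtype.ext R.rf
  bfr := Subtype.ext R.bfr

theorem a2_ne : NormA.cA * NormA.cA ≠ 1 := by
  intro h
  have h1 : evw [5, 5] = 1 := congrArg Subtype.val h
  have h2 : evp [5, 5] 0 = 0 := by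
    have h3 := ev_val [5, 5] (0 : Fin 100)
    rw [h1] at h3
    exact h3.symm
  exact absurd h2 (by decide +kernel)

/-- **From the letters to the embedding of `C0`.** -/
theorem exists_ctx [Finite G] (R : Rels q0 q1 q2 q3 q4 z b f r)
    (hcard : Nat.card (Subgroup.centralizer ({z} : Set G)) = 7680)
    (hgen : ∀ c, c * z = z * c → c ∈ Subgroup.closure ({q0, q1, q2, q3, q4, b, f, r} : Set G))
    (hconj : ∃ g, g * z * g⁻¹ = q2 * q4 * q3) :
    ∃ φ : ↥C0 →* G, NormA.Ctx z φ ∧ IsConj (φ (NormA.cA * NormA.cA)) z := by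
  set C : Subgroup G := Subgroup.centralizer ({z} : Set G) with hC
  have mC : ∀ {x : G}, z * x = x * z → x ∈ C := fun h => Subgroup.mem_centralizer_singleton_iff.2 h.symm
  have RC := R.sub (mC R.z0) (mC R.z1) (mC R.z2') (mC R.z3) (mC R.z4) (mC rfl) (mC R.zb) (mC R.zf) (mC R.zr)
  set g : ℕ → ↥C := lt (⟨q0, mC R.z0⟩ : ↥C) ⟨q1, mC R.z1⟩ ⟨q2, mC R.z2'⟩ ⟨q3, mC R.z3⟩ ⟨q4, mC R.z4⟩ ⟨z, mC rfl⟩
    ⟨b, mC R.zb⟩ ⟨f, mC R.zf⟩ ⟨r, mC R.zr⟩ with hg
  have hgen' : Subgroup.closure (g '' {x | x < 12}) = ⊤ := by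
    rw [eq_top_iff]
    rintro ⟨c, hc⟩ -
    have h1 : c ∈ Subgroup.closure ({q0, q1, q2, q3, q4, b, f, r} : Set G) :=
      hgen c (Subgroup.mem_centralizer_singleton_iff.1 hc)
    have h2 : Subgroup.closure ({q0, q1, q2, q3, q4, b, f, r} : Set G) ≤
        (Subgroup.closure (g '' {x | x < 12})).map C.subtype := by
      rw [Subgroup.closure_le]
      have hm : ∀ n, n < 12 → ((g n : ↥C) : G) ∈ (Subgroup.closure (g '' {x | x < 12})).map C.subtype :=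
        fun n hn => Subgroup.mem_map_of_mem C.subtype (Subgroup.subset_closure ⟨n, hn, rfl⟩)
      rintro x (rfl | rfl | rfl | rfl | rfl | rfl | rfl | rfl)
      · exact hm 0 (by omega)
      · exact hm 1 (by omega)
      · exact hm 2 (by omega)
      · exact hm 3 (by omega)
      · exact hm 4 (by omega)
      · exact hm 6 (by omega)
      · exact hm 8 (by omega)
      · exact hm 10 (by omega)
    obtain ⟨c', hc', he⟩ := h2 h1
    have : c' = ⟨c, hc⟩ := Subtype.ext he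
    rwa [this] at hc'
  obtain ⟨e, he⟩ := UniqC.exists_equiv hcard g rfl (lt_inv RC) (lt_rels RC) hgen'
  refine ⟨C.subtype.comp e.toMonoidHom, ⟨?_, ?_, ?_⟩, ?_⟩
  · exact C.subtype_injective.comp e.injective
  · rw [i2_eq]
    change ((e (m 5) : ↥C) : G) = z
    rw [he 5 (by omega)]; rfl
  · intro x hx
    refine ⟨e.symm ⟨x, Subgroup.mem_centralizer_singleton_iff.2 hx⟩, ?_⟩
    change ((e (e.symm _) : ↥C) : G) = x
    rw [MulEquiv.apply_symm_apply]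
  · rw [a2_eq]
    change IsConj ((e (m 2 * m 4 * m 3) : ↥C) : G) z
    rw [map_mul, map_mul, he 2 (by omega), he 3 (by omega), he 4 (by omega)]
    obtain ⟨x, hx⟩ := hconj
    exact (isConj_iff.2 ⟨x, hx⟩).symm

end Cfsg.Agent.HSType.Uniq
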