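import Cfsg.Agent.HSType.UniqEAll
import Cfsg.Agent.HSType.UniqNAll
import Cfsg.Agent.SporadicRecognition.CosetCertHyp

/-!
The order of a group generated by `q₀, …, q₄, z, b, f, r` satisfying the relations of the centraliser of a
`2`-central involution of the Higman–Sims group is at most `7680` (two small coset enumerations).
-/

set_option autoImplicit false
set_option maxRecDepth 100000

namespace Cfsg.Agent.HSType.UniqB

open Cfsg.Agent.SporadicRecognition.CosetCert Cfsg.Agent.SporadicRecognition.CosetCertHyp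

/-- letters with inverses: `q₀ … q₄ = 0 … 4`, `z = 5`, `b = 6`, `b⁻¹ = 7`, `f = 8`, `f⁻¹ = 9`, `r = 10`, `r⁻¹ = 11`. -/
def invc (x : ℕ) : ℕ :=
  match x with
  | 6 => 7 | 7 => 6 | 8 => 9 | 9 => 8 | 10 => 11 | 11 => 10 | x => x

theorem hypE {G : Type*} [Group G] (H : Subgroup G) (g : ℕ → G) (h12 : g 12 = 1)
    (hinv : ∀ x, x < 12 → g x * g (invc x) = 1)
    (hrel : ∀ w ∈ UniqEData.rels, ev g w = 1) (hsub : ∀ w ∈ UniqEData.subw, ev g w ∈ H) :
    Hyp UniqEData.C H g := by
  refine hyp_of_checks H g UniqEData.C UniqEData.rels UniqEData.subw h12 ?_ hrel hsub (by decide +kernel)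
  intro x hx
  have h : ∀ x < 12, UniqEData.C.inv x < 12 ∧ UniqEData.C.inv x = invc x := by decide
  have hx' : x < 12 := hx
  refine ⟨(h x hx').1, ?_⟩
  rw [(h x hx').2]
  exact hinv x hx'

theorem hypN {G : Type*} [Group G] (H : Subgroup G) (g : ℕ → G) (h6 : g 6 = 1)
    (hinv : ∀ x, x < 6 → g x * g x = 1)
    (hrel : ∀ w ∈ UniqNData.rels, ev g w = 1) (hsub : ∀ w ∈ UniqNData.subw, ev g w ∈ H) :
    Hyp UniqNData.C H g := by
  refine hyp_of_checks H g UniqNData.C UniqNData.rels UniqNData.subw h6 ?_ hrel hsub (by decide +kernel)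
  intro x hx
  have h : ∀ x < 6, UniqNData.C.inv x < 6 ∧ UniqNData.C.inv x = x := by decide
  have hx' : x < 6 := hx
  refine ⟨(h x hx').1, ?_⟩
  rw [(h x hx').2]
  exact hinv x hx'

/-- the letters of `Q` -/
def cutN {G : Type*} [Group G] (g : ℕ → G) (n : ℕ) : G := if n < 6 then g n else 1

theorem ev_cutN {G : Type*} [Group G] (g : ℕ → G) {w : List ℕ} (h : ∀ x ∈ w, x < 6) : ev (cutN g) w = ev g w := by
  induction w with
  | nil => rfl
  | cons x w ih =>
    rw [ev_cons, ev_cons, ih fun y hy => h y (List.mem_cons_of_mem _ hy)]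
    rw [cutN, if_pos (h x List.mem_cons_self)]

theorem relsN_mem : ∀ w ∈ UniqNData.rels, w ∈ UniqEData.rels ∧ ∀ x ∈ w, x < 6 := by decide

/-- **The bound.** -/
theorem card_le {G : Type*} [Group G] (g : ℕ → G) (h12 : g 12 = 1)
    (hinv : ∀ x, x < 12 → g x * g (invc x) = 1) (hrel : ∀ w ∈ UniqEData.rels, ev g w = 1) :
    Finite (Subgroup.closure (g '' {x | x < 12})) ∧
      Nat.card (Subgroup.closure (g '' {x | x < 12})) ≤ 7680 := by
  set N : Subgroup G := Subgroup.closure (cutN g '' {x | x < 6}) with hN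
  have h1 := card_closure_le UniqNData.C (⊥ : Subgroup G) (cutN g)
    (hypN ⊥ (cutN g) (if_neg (by omega)) ?_ ?_ ?_) UniqNAll.part
  · obtain ⟨hfin, hcard⟩ := h1
    have hN' : Subgroup.closure (cutN g '' {x | x < UniqNData.C.k}) = N := rfl
    rw [hN'] at hfin hcard
    rw [Subgroup.card_bot, mul_one] at hcard
    haveI := hfin
    have h2 := card_closure_le UniqEData.C N g (hypE N g h12 hinv hrel ?_) UniqEAll.part
    · refine ⟨h2.1, h2.2.trans ?_⟩
      calc 120 * Nat.card N ≤ 120 * 64 := Nat.mul_le_mul_left _ hcard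
        _ = 7680 := rfl
    · intro w hw
      have h3 : ∀ w ∈ UniqEData.subw, ∃ x < 6, w = [x] := by decide
      obtain ⟨x, hx, rfl⟩ := h3 w hw
      rw [ev_cons, ev_nil, mul_one]
      apply Subgroup.subset_closure
      exact ⟨x, hx, if_pos hx⟩
  · intro x hx
    rw [cutN, if_pos hx]
    have h := hinv x (by omega)
    have h' : ∀ x < 6, invc x = x := by decide
    rwa [h' x hx] at h
  · intro w hw
    rw [ev_cutN g (relsN_mem w hw).2]
    exact hrel w (relsN_mem w hw).1
  · intro w hw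
    have h3 : ∀ w ∈ UniqNData.subw, w = [] := by decide
    rw [h3 w hw, ev_nil]
    exact Subgroup.one_mem _

/-- Two finite groups generated by letters such that the diagonal letters generate a group which is not larger. -/
theorem exists_equiv {A B : Type*} [Group A] [Group B] [Finite A] [Finite B] (S : Set ℕ) (a : ℕ → A) (b : ℕ → B)
    (hA : Subgroup.closure (a '' S) = ⊤) (hB : Subgroup.closure (b '' S) = ⊤) {n : ℕ} (hcA : n ≤ Nat.card A)
    (hcB : n ≤ Nat.card B) (hc : Nat.card (Subgroup.closure ((fun x => (a x, b x)) '' S)) ≤ n) :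
    ∃ φ : A ≃* B, ∀ x ∈ S, φ (a x) = b x := by
  set Γ : Subgroup (A × B) := Subgroup.closure ((fun x => (a x, b x)) '' S) with hΓ
  let p : Γ →* A := (MonoidHom.fst A B).comp Γ.subtype
  let q : Γ →* B := (MonoidHom.snd A B).comp Γ.subtype
  have hmem : ∀ x ∈ S, (a x, b x) ∈ Γ := fun x hx => Subgroup.subset_closure ⟨x, hx, rfl⟩
  have hp : Function.Surjective p := by
    rw [← MonoidHom.range_eq_top, eq_top_iff, ← hA, Subgroup.closure_le]
    rintro _ ⟨x, hx, rfl⟩
    exact ⟨⟨_, hmem x hx⟩, rfl⟩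
  have hq : Function.Surjective q := by
    rw [← MonoidHom.range_eq_top, eq_top_iff, ← hB, Subgroup.closure_le]
    rintro _ ⟨x, hx, rfl⟩
    exact ⟨⟨_, hmem x hx⟩, rfl⟩
  have hpb : Function.Bijective p := by
    refine (Nat.bijective_iff_surjective_and_card p).2 ⟨hp, ?_⟩
    exact le_antisymm (hc.trans hcA) (Nat.card_le_card_of_surjective p hp)
  have hqb : Function.Bijective q := by
    refine (Nat.bijective_iff_surjective_and_card q).2 ⟨hq, ?_⟩
    exact le_antisymm (hc.trans hcB) (Nat.card_le_card_of_surjective q hq)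
  let e1 : Γ ≃* A := MulEquiv.ofBijective p hpb
  let e2 : Γ ≃* B := MulEquiv.ofBijective q hqb
  refine ⟨e1.symm.trans e2, fun x hx => ?_⟩
  have h1 : e1 ⟨_, hmem x hx⟩ = a x := rfl
  have h2 : e2 ⟨_, hmem x hx⟩ = b x := rfl
  rw [MulEquiv.trans_apply, ← h1, MulEquiv.symm_apply_apply, h2]

end Cfsg.Agent.HSType.UniqB
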