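import Cfsg.Agent.HSType.UniqNData

set_option autoImplicit false
set_option maxRecDepth 100000

namespace Cfsg.Agent.HSType.UniqNChk0

open Cfsg.Agent.SporadicRecognition.CosetCert Cfsg.Agent.HSType.UniqNData

theorem c0 : Part C 0 64 64 := runChunk_sound C 64 (by decide +kernel : runChunk C 10 1023 0x802004020080264c01008020080200802004020081364c010080200973008020040218c0264c010080214c020080160c020080200802004a30080264c01009f30080200923008010080268c01008020080280c020040200802004020080200802008020040218d730080260c0218c0178c0138c0214c130080160c020097300402008a30080200802004a30081300523008020080244c0138df30097300923008010081368c01008021cd736cc02004b3008030080160ca30082300923005f30080200802004a314c02005230080214c0264c01009f318c02009230080114c020050334c02008023cc010080218c2330c02004b370c020080234c020040268c01008a30080264c02004020082354c02008011cc0200402008b31cc0200802004a314d730080260dd318c0100523008021cc2344c0138df318c13009230080114c030053334c0200823008010080218c0230c02004b370c130080234c02004030053338c930080200801008a30094300802004020081320c02008011cd630080200893008010050338cb310c023cc01008a318c23008020040214c020080200801008020cc0200802004230053338cb31cc2300801008a318c02008020040214c13008020080100803008020080200402008020080200801008020080200802 1 1 0 0 64 = 65)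

theorem all : Part C 0 64 64 := c0

end Cfsg.Agent.HSType.UniqNChk0
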