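import Cfsg.Agent.SporadicRecognition.CosetCert

set_option autoImplicit false
set_option maxRecDepth 100000

namespace Cfsg.Agent.HSType.UniqNData

open Cfsg.Agent.SporadicRecognition.CosetCert

noncomputable def tree : Tr := (.N 32 (.N 16 (.L 0xffff702f14836c2e5faa1606399e4ffff672d652c1283612b140556a73ffff1a925f2a5d29118320953c9f2ffff10085a2856273d9f110c0e830ffff0c822b9950a545a2108d0e075ffff2a990b82522641a1389e309b4ffff4e254b2409824723369d0b053ffff432241213f2007823b1f09042ffff0f8d381e361d341c068217911ffff0581329b2898219518910d8c5ffff301b04812d1a1e9415902a194ffff2718261703812316138f0a8a3ffff20151e141d1302811a1208892ffff17111510130f120e01810f0d1ffff0d0c0c0b0a0a0809070800810ffff060705060405030402030102f) (.L 0xffff48a3a43b3e894fa593b740133ffff3c1c9f3a94b73e0d3a893d0e1ffff5ba837889a398eb6390b3a104ffff58a7963835889137370a67ad3ffff3b9f8d368935338844a235122ffff2f863307321785b471af310b5ffff2e172f182c8679b16cae4ba43ffff2b0b2c0c4ca47bb25aa829860ffff26852e9a2907281368ad4ea55ffff2d9a2585319b80b365ac52a64ffff241381b3251522855da947a32ffff1f8487b424962207210e43a25ffff83341d847f331f0675b07b324ffff239679311c84279862ab3fa03ffff1b0e753063ab1c111984349c1ffff168373af6aad1b92190718085))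 (.N 48 (.L 0xffff782a7492afbd772f7614a2ba4ffff6f907411732c76b0721b71285ffff6e2c6f2d6b90aebd6d1a9ab93ffff668f6eae6b116a296918681d5ffff6dae648f72afb3be661797b84ffff6229b4be6412608f631389b52ffff77b05e8eb13e601084b48fb64ffff61abad3d5c8e69ad5e1691b73ffff5c1e598d98b8a0ba5b1970af4ffff591d9db9558d8bb55825570f3ffff54245525518ba4bb9bb953173ffff4d8a54a6510c502057a74f185ffff53a64a8a4d19aabc96b84c1a4ffff4920abbc4a22468a8ab548162ffff42897db249a3460c451c44155ffff7cb24089a83c420b9fba83b44) (.L 0xffffbe3fc037bab6bf38bd3bbc3e3ffffbdc0b5b5ba3ab839b73cb93d4ffffb33db52bb0aab42cb231bbc03ffffb2beaca9b030af2eae33b8bf4ffffaa3bac23a7a1ab24b6bfa9313ffffa9bca3a0a732a526bcc0a6334ffffa2369e9fb9bfa128a021a3304ffff9d389e27999eb7bf9c269b2e3ffff9cb9959d9928bec09724982c4ffff9335bfc0951f909d942092292ffffa1ba8c9cbb408f1e8e32902a4ffff92b7b63f889c8c278b238a2b3ffff829488158731861b852a84215ffff803182167e948117adbda5bb3ffff7d217e22a6bb7c198db67a940ffff7fb3789386b47a1ab1bea8bc4)))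

noncomputable def wtree : WT := (.N 16 (.N 8 (.N 4 (.N 2 (.N 1 (.L 0 [2,0,2]) (.L 0 [3,0,3])) (.N 3 (.L 0 [5,0,5]) (.L 5 [1,0,1,0]))) (.N 6 (.N 5 (.L 1 [5,0,1,0]) (.L 1 [3,1,3])) (.N 7 (.L 1 [4,1,4]) (.L 1 [5,1,5])))) (.N 12 (.N 10 (.N 9 (.L 5 [2,1,2,1]) (.L 2 [5,1,2,1])) (.N 11 (.L 2 [4,2,4]) (.L 2 [5,2,5]))) (.N 14 (.N 13 (.L 5 [3,2,3,2]) (.L 3 [5,2,3,2])) (.N 15 (.L 3 [5,3,5]) (.L 5 [4,0,4,0]))))) (.N 24 (.N 20 (.N 18 (.N 17 (.L 4 [5,0,4,0]) (.L 5 [4,3,4,3])) (.N 19 (.L 4 [5,3,4,3]) (.L 4 [5,4,5]))) (.N 22 (.N 21 (.L 0 [4,5,0,4]) (.L 5 [0,1,0,1])) (.N 23 (.L 0 [5,1,0,1]) (.L 0 [5,4,0,4])))) (.N 28 (.N 26 (.N 25 (.L 3 [5,4,3,4]) (.L 5 [3,5,3])) (.N 27 (.L 5 [4,5,4]) (.L 5 [1,2,1,2]))) (.N 30 (.N 29 (.L 1 [5,2,1,2]) (.L 2 [0,2,0])) (.N 31 (.L 5 [2,3,2,3]) (.N 32 (.L 2 [5,3,2,3]) (.L 5 [2,5,2])))))))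

noncomputable def stree : ST := (.L 6 [] [])

noncomputable def C : Cert where
  data := tree
  lm := 15
  rb := 116
  fb := 16
  mask := 65535
  B := 128
  k := 6
  N := 64
  inv := fun x => x
  words := wtree
  subs := stree

def rels : List (List Nat) := [[5,0,5,0], [5,1,5,1], [5,2,5,2], [5,3,5,3], [5,4,5,4], [0,2,0,2], [1,3,1,3], [2,4,2,4], [3,0,3,0], [4,1,4,1], [0,1,0,1,5], [1,2,1,2,5], [2,3,2,3,5], [3,4,3,4,5], [4,0,4,0,5]]

def subw : List (List Nat) := []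

end Cfsg.Agent.HSType.UniqNData
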